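import Mathlib

/-!
# Basic structure of finite p-groups
Maximal subgroups, the Frattini subgroup, normal subgroups of each order.
-/

set_option linter.unusedSectionVars false
set_option linter.style.haveILetI false

namespace CfsgLib.PGroups

open Subgroup
open scoped commutatorElement

variable {G : Type*} [Group G] {p : ℕ} [Fact p.Prime]

/-- The order of a subgroup of a finite p-group is a power of p. -/
theorem card_subgroup_eq_pow [Finite G] (hG : IsPGroup p G) (H : Subgroup G) :
    ∃ n, Nat.card H = p ^ n :=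
  IsPGroup.iff_card.mp (hG.to_subgroup H)

theorem index_eq_pow [Finite G] (hG : IsPGroup p G) (H : Subgroup G) :
    ∃ n, H.index = p ^ n := hG.index H

theorem dvd_index_of_ne_top [Finite G] (hG : IsPGroup p G) {H : Subgroup G} (hH : H ≠ ⊤) :
    p ∣ H.index := by
  obtain ⟨n, hn⟩ := hG.index H
  rcases n with _ | n
  · exact absurd (Subgroup.index_eq_one.mp (by simpa using hn)) hH
  · exact hn ▸ dvd_pow_self p (Nat.succ_ne_zero n)

theorem dvd_card_of_ne_bot [Finite G] (hG : IsPGroup p G) {H : Subgroup G} (hH : H ≠ ⊥) :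
    p ∣ Nat.card H := by
  rcases (hG.to_subgroup H).card_eq_or_dvd with h | h
  · exact absurd (Subgroup.card_eq_one.mp h) hH
  · exact h

theorem lt_normalizer [Finite G] (hG : IsPGroup p G) {H : Subgroup G} (hH : H < ⊤) :
    H < normalizer (H : Set G) :=
  (Group.normalizerCondition_of_isNilpotent (h := hG.isNilpotent)) H hH

theorem normal_of_isCoatom [Finite G] (hG : IsPGroup p G) {M : Subgroup G} (hM : IsCoatom M) :
    M.Normal :=
  NormalizerCondition.normal_of_coatom M
    (Group.normalizerCondition_of_isNilpotent (h := hG.isNilpotent)) hM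

/-- A normal subgroup of index p is maximal. -/
theorem isCoatom_of_index_eq_prime [Finite G] {M : Subgroup G} (hM : M.index = p) : IsCoatom M := by
  have hp : p.Prime := Fact.out
  refine ⟨fun h => hp.ne_one (hM ▸ Subgroup.index_eq_one.mpr h), fun K hK => ?_⟩
  by_contra hK'
  have h1 : M.relIndex K * K.index = M.index := Subgroup.relIndex_mul_index hK.le
  rw [hM] at h1
  rcases Nat.prime_mul_iff.mp (h1 ▸ hp) with ⟨_, h⟩ | ⟨_, h⟩
  · exact hK' (Subgroup.index_eq_one.mp h)
  · exact hK.not_ge (Subgroup.relIndex_eq_one.mp h)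

/-- A maximal subgroup of a finite p-group has index p. -/
theorem index_eq_of_isCoatom [Finite G] (hG : IsPGroup p G) {M : Subgroup G} (hM : IsCoatom M) :
    M.index = p := by
  have hp : p.Prime := Fact.out
  haveI := normal_of_isCoatom hG hM
  have hne : p ∣ Nat.card (G ⧸ M) := dvd_index_of_ne_top hG hM.1
  obtain ⟨x, hx⟩ := exists_prime_orderOf_dvd_card' p hne
  have hlt : M < (zpowers x).comap (QuotientGroup.mk' M) := by
    refine lt_of_le_of_ne ?_ ?_
    · intro m hm
      rw [mem_comap, QuotientGroup.mk'_apply, (QuotientGroup.eq_one_iff m).mpr hm]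
      exact one_mem _
    · intro h
      have : zpowers x = ⊥ := by
        rw [← map_comap_eq_self_of_surjective (QuotientGroup.mk'_surjective M) (zpowers x), ← h]
        exact QuotientGroup.map_mk'_self M
      rw [zpowers_eq_bot] at this
      rw [this, orderOf_one] at hx
      exact hp.ne_one hx.symm
  have htop : zpowers x = ⊤ := by
    rw [← map_comap_eq_self_of_surjective (QuotientGroup.mk'_surjective M) (zpowers x),
      hM.2 _ hlt, map_top_of_surjective _ (QuotientGroup.mk'_surjective M)]
  rw [Subgroup.index, ← Subgroup.card_top, ← htop, Nat.card_zpowers, hx]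

/-- The quotient of a finite p-group by a maximal subgroup is killed by p. -/
theorem pow_mem_of_isCoatom [Finite G] (hG : IsPGroup p G) {M : Subgroup G} (hM : IsCoatom M)
    (g : G) : g ^ p ∈ M := by
  haveI := normal_of_isCoatom hG hM
  have := Subgroup.pow_index_mem M g
  rwa [index_eq_of_isCoatom hG hM] at this

theorem commutator_le_of_isCoatom [Finite G] (hG : IsPGroup p G) {M : Subgroup G}
    (hM : IsCoatom M) : commutator G ≤ M := by
  haveI := normal_of_isCoatom hG hM
  haveI : IsCyclic (G ⧸ M) := isCyclic_of_prime_card (p := p) (index_eq_of_isCoatom hG hM)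
  exact Subgroup.Normal.quotient_commutative_iff_commutator_le.mp inferInstance

theorem mem_frattini_iff {g : G} : g ∈ frattini G ↔ ∀ M : Subgroup G, IsCoatom M → g ∈ M := by
  simp only [frattini, Order.radical, Subgroup.mem_iInf, Set.mem_ofPred_eq]

theorem commutator_le_frattini [Finite G] (hG : IsPGroup p G) : commutator G ≤ frattini G :=
  fun _ hg => mem_frattini_iff.mpr fun _ hM => commutator_le_of_isCoatom hG hM hg

theorem pow_mem_frattini [Finite G] (hG : IsPGroup p G) (g : G) : g ^ p ∈ frattini G :=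
  mem_frattini_iff.mpr fun _ hM => pow_mem_of_isCoatom hG hM g

/-- The subgroup generated by commutators and p-th powers. -/
def derivedPow (p : ℕ) (G : Type*) [Group G] : Subgroup G :=
  commutator G ⊔ Subgroup.closure {x | ∃ g : G, g ^ p = x}

theorem pow_mem_derivedPow (g : G) : g ^ p ∈ derivedPow p G :=
  le_sup_right (a := commutator G) (Subgroup.subset_closure ⟨g, rfl⟩)

instance derivedPow_normal : (derivedPow p G).Normal :=
  Subgroup.Normal.of_commutator_le G le_sup_left

theorem frattini_le_of_elementary_quotient {N : Subgroup G} [N.Normal]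
    [Finite G] (hc : commutator G ≤ N) (hpow : ∀ g : G, g ^ p ∈ N) :
    frattini G ≤ N := by
  intro x hx
  by_contra hxN
  -- the maximal N-containing subgroups avoiding x
  obtain ⟨M, hM⟩ := Set.Finite.exists_maximal (s := {M : Subgroup G | N ≤ M ∧ x ∉ M})
    (Set.toFinite _) ⟨N, le_rfl, hxN⟩
  have hNM : N ≤ M := hM.1.1
  have hxM : x ∉ M := hM.1.2
  haveI : M.Normal := Subgroup.Normal.of_commutator_le G (hc.trans hNM)
  have key : ∀ y : G, y ∉ M → x ∈ M ⊔ zpowers y := by
    intro y hy
    by_contra hxy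
    have : M ⊔ zpowers y ≤ M := hM.2 ⟨hNM.trans le_sup_left, hxy⟩ le_sup_left
    exact hy (this (le_sup_right (a := M) (mem_zpowers y)))
  have hmod : ∀ y : G, x ∈ M ⊔ zpowers y → ∃ k : ℕ, y ^ k * x⁻¹ ∈ M := by
    intro y hy
    have hy' : (x : G ⧸ M) ∈ zpowers (y : G ⧸ M) := by
      have h2 : (M ⊔ zpowers y).map (QuotientGroup.mk' M) = zpowers (y : G ⧸ M) := by
        rw [Subgroup.map_sup, QuotientGroup.map_mk'_self, bot_sup_eq, MonoidHom.map_zpowers]; rfl
      exact h2 ▸ Subgroup.mem_map_of_mem (QuotientGroup.mk' M) hy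
    classical
    obtain ⟨k, hk⟩ := mem_zpowers_iff_mem_range_orderOf.mp hy' |> Finset.mem_image.mp
    refine ⟨k, (QuotientGroup.eq_one_iff _).mp ?_⟩
    rw [QuotientGroup.mk_mul, QuotientGroup.mk_pow, QuotientGroup.mk_inv, hk.2, mul_inv_cancel]
  -- G/M is generated by the image of x, so M is maximal
  have htop : M ⊔ zpowers x = ⊤ := by
    rw [eq_top_iff]
    intro y _
    by_cases hy : y ∈ M
    · exact le_sup_left (b := zpowers x) hy
    obtain ⟨k, hk⟩ := hmod y (key y hy)
    have hxk : x ∈ M ⊔ zpowers x := le_sup_right (a := M) (mem_zpowers x)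
    have hyk : y ^ k ∈ M ⊔ zpowers x := by
      have := mul_mem (le_sup_left (b := zpowers x) hk) hxk
      rwa [inv_mul_cancel_right] at this
    have hkp : ¬ p ∣ k := by
      rintro ⟨m, rfl⟩
      refine hxM ?_
      have h1 : y ^ (p * m) ∈ M := by rw [pow_mul]; exact hNM (pow_mem (hpow y) m)
      have := mul_mem (inv_mem hk) h1
      rwa [mul_inv_rev, inv_inv, inv_mul_cancel_right] at this
    have hyp : y ^ p ∈ M ⊔ zpowers x := le_sup_left (b := zpowers x) (hNM (hpow y))
    have hcop : Nat.gcd p k = 1 := ((Fact.out : p.Prime).coprime_iff_not_dvd).mpr hkp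
    have : y ^ (1 : ℤ) ∈ M ⊔ zpowers x := by
      rw [show (1 : ℤ) = ((Nat.gcd p k : ℕ) : ℤ) by rw [hcop]; rfl, Nat.gcd_eq_gcd_ab p k, zpow_add,
        zpow_mul, zpow_mul, zpow_natCast, zpow_natCast]
      exact mul_mem (zpow_mem hyp _) (zpow_mem hyk _)
    simpa using this
  have hco : IsCoatom M := by
    refine ⟨fun h => hxM (h ▸ mem_top x), fun K hK => ?_⟩
    by_contra hKtop
    have hxK : x ∉ K := fun h => hKtop (top_le_iff.mp (htop ▸ sup_le hK.le (zpowers_le.mpr h)))
    exact hK.not_ge (hM.2 ⟨hNM.trans hK.le, hxK⟩ hK.le)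
  exact hxM (frattini_le_coatom hco hx)

/-- In a finite p-group the Frattini subgroup is generated by commutators and p-th powers. -/
theorem frattini_eq_derivedPow [Finite G] (hG : IsPGroup p G) :
    frattini G = derivedPow p G := by
  refine le_antisymm (frattini_le_of_elementary_quotient (p := p) le_sup_left pow_mem_derivedPow) ?_
  refine sup_le (commutator_le_frattini hG) ((Subgroup.closure_le _).mpr ?_)
  rintro _ ⟨g, rfl⟩
  exact pow_mem_frattini hG g

theorem frattini_ne_top [Finite G] [Nontrivial G] : frattini G ≠ ⊤ := by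
  intro h
  exact bot_ne_top (α := Subgroup G) (frattini_nongenerating (K := (⊥ : Subgroup G)) (by simp [h]))

/-- A nontrivial normal subgroup of a finite p-group meets the centre. -/
theorem inf_center_ne_bot [Finite G] (hG : IsPGroup p G) {N : Subgroup G} [N.Normal] (hN : N ≠ ⊥) :
    N ⊓ center G ≠ ⊥ := by
  have hG' : IsPGroup p (ConjAct G) := hG.of_equiv ConjAct.toConjAct
  have hdvd : p ∣ Nat.card N := dvd_card_of_ne_bot hG hN
  have h1 : (1 : N) ∈ MulAction.fixedPoints (ConjAct G) N := fun g => smul_one g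
  obtain ⟨b, hb, hb1⟩ := hG'.exists_fixed_point_of_prime_dvd_card_of_fixed_point N hdvd h1
  intro hbot
  have hmem : (b : G) ∈ N ⊓ center G := by
    refine ⟨b.2, Subgroup.mem_center_iff.mpr fun g => ?_⟩
    have h2 : ConjAct.toConjAct g • (b : G) = (b : G) :=
      congrArg Subtype.val (hb (ConjAct.toConjAct g))
    rw [ConjAct.toConjAct_smul] at h2
    conv_rhs => rw [← h2]
    group
  rw [hbot, mem_bot] at hmem
  exact hb1 (Subtype.ext hmem.symm)

theorem normal_of_le_center {H : Subgroup G} (hH : H ≤ center G) : H.Normal := by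
  refine ⟨fun n hn g => ?_⟩
  rw [Subgroup.mem_center_iff.mp (hH hn) g, mul_inv_cancel_right]
  exact hn

/-- Between two normal subgroups `N < M` of a finite p-group there is a normal subgroup in which
`N` has index p and which is centralised by G modulo N. -/
theorem exists_normal_index_prime [Finite G] (hG : IsPGroup p G) {N M : Subgroup G} [N.Normal]
    [M.Normal] (h : N < M) :
    ∃ K : Subgroup G, K.Normal ∧ N ≤ K ∧ K ≤ M ∧ N.relIndex K = p ∧
      ∀ k ∈ K, ∀ g : G, ⁅g, k⁆ ∈ N := by
  have hp : p.Prime := Fact.out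
  let f := QuotientGroup.mk' N
  haveI : (M.map f).Normal := Subgroup.Normal.map inferInstance f (QuotientGroup.mk'_surjective N)
  have hMne : M.map f ≠ ⊥ := by
    intro hb
    rw [Subgroup.map_eq_bot_iff, QuotientGroup.ker_mk'] at hb
    exact h.not_ge hb
  have hne := inf_center_ne_bot (hG.to_quotient N) hMne
  obtain ⟨z, hz⟩ := exists_prime_orderOf_dvd_card' p (dvd_card_of_ne_bot (hG.to_quotient N) hne)
  have hzc : (z : G ⧸ N) ∈ center (G ⧸ N) := z.2.2
  haveI : (zpowers (z : G ⧸ N)).Normal := normal_of_le_center (zpowers_le.mpr hzc)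
  refine ⟨(zpowers (z : G ⧸ N)).comap f, inferInstance, ?_, ?_, ?_, ?_⟩
  · intro n hn
    rw [mem_comap, QuotientGroup.mk'_apply, (QuotientGroup.eq_one_iff n).mpr hn]
    exact one_mem _
  · have : zpowers (z : G ⧸ N) ≤ M.map f := zpowers_le.mpr z.2.1
    refine (Subgroup.comap_mono this).trans ?_
    rw [Subgroup.comap_map_eq, QuotientGroup.ker_mk', sup_of_le_left h.le]
  · have hNc : (⊥ : Subgroup (G ⧸ N)).comap f = N := by
      rw [MonoidHom.comap_bot, QuotientGroup.ker_mk']
    have h2 := Subgroup.relIndex_comap (⊥ : Subgroup (G ⧸ N)) f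
      ((zpowers (z : G ⧸ N)).comap f)
    rw [hNc] at h2
    rw [h2, Subgroup.map_comap_eq_self_of_surjective
      (QuotientGroup.mk'_surjective N), Subgroup.relIndex_bot_left, Nat.card_zpowers,
      Subgroup.orderOf_coe, hz]
  · intro k hk g
    rw [← QuotientGroup.eq_one_iff, ← QuotientGroup.mk'_apply N, map_commutatorElement,
      commutatorElement_eq_one_iff_mul_comm]
    obtain ⟨j, hj⟩ := Subgroup.mem_zpowers_iff.mp hk
    have : f k ∈ center (G ⧸ N) := hj ▸ zpow_mem hzc j
    exact Subgroup.mem_center_iff.mp this _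

/-- Normal subgroups of every intermediate order exist. -/
theorem exists_normal_card_eq [Finite G] (hG : IsPGroup p G) {N M : Subgroup G} [N.Normal]
    [M.Normal] (h : N ≤ M) {k : ℕ} (h1 : Nat.card N ≤ p ^ k) (h2 : p ^ k ≤ Nat.card M) :
    ∃ K : Subgroup G, K.Normal ∧ N ≤ K ∧ K ≤ M ∧ Nat.card K = p ^ k := by
  have hp : p.Prime := Fact.out
  obtain ⟨a, ha⟩ := card_subgroup_eq_pow hG N
  have hak : a ≤ k := (Nat.pow_le_pow_iff_right hp.one_lt).mp (ha ▸ h1)
  have aux : ∀ d, a + d ≤ k → ∃ K : Subgroup G, K.Normal ∧ N ≤ K ∧ K ≤ M ∧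
      Nat.card K = p ^ (a + d) := by
    intro d
    induction d with
    | zero => exact fun _ => ⟨N, inferInstance, le_rfl, h, by simpa using ha⟩
    | succ d ih =>
      intro hd
      obtain ⟨K, hK, hNK, hKM, hcard⟩ := ih (by omega)
      haveI := hK
      have hlt : K < M := by
        refine lt_of_le_of_ne hKM fun he => ?_
        rw [← he, hcard] at h2
        have := (Nat.pow_le_pow_iff_right hp.one_lt).mp h2
        omega
      obtain ⟨L, hL, hKL, hLM, hrel, -⟩ := exists_normal_index_prime hG hlt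
      refine ⟨L, hL, hNK.trans hKL, hLM, ?_⟩
      rw [← Subgroup.relIndex_bot_left, ← Subgroup.relIndex_mul_relIndex ⊥ K L bot_le hKL,
        Subgroup.relIndex_bot_left, hrel, hcard, ← add_assoc, pow_succ]
  have := aux (k - a) (by omega)
  rwa [Nat.add_sub_cancel' hak] at this

/-- For a nontrivial normal subgroup N of a finite p-group, `[N, G] < N`. -/
theorem commutator_top_lt [Finite G] (hG : IsPGroup p G) {N : Subgroup G} [N.Normal] (hN : N ≠ ⊥) :
    ⁅N, (⊤ : Subgroup G)⁆ < N := by
  haveI := hG.isNilpotent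
  refine lt_of_le_of_ne (commutator_le_left N ⊤) fun he => hN ?_
  obtain ⟨n, hn⟩ := Subgroup.nilpotent_iff_lowerCentralSeries.mp ‹Group.IsNilpotent G›
  have : ∀ k, N ≤ (⊤ : Subgroup G).lowerCentralSeries k := by
    intro k
    induction k with
    | zero => simp
    | succ k ih =>
      calc N = ⁅N, (⊤ : Subgroup G)⁆ := he.symm
        _ ≤ _ := commutator_mono ih le_rfl
  exact le_bot_iff.mp (hn ▸ this n)

end CfsgLib.PGroups
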