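import Cfsg.Agent.Lib.PGroups.Omega

/-!
# p-groups with a unique subgroup of order p; cyclic subgroups of index p
-/

set_option linter.unusedSectionVars false
set_option linter.style.haveILetI false

namespace CfsgLib.PGroups

open Subgroup
open scoped commutatorElement

variable {G : Type*} [Group G] {p : ℕ} [Fact p.Prime]

/-- Odd p: `r^p ≡ 1 (mod p^(j+1))` implies `r ≡ 1 (mod p^j)`. -/
theorem dvd_sub_one_of_pow_prime (hp : p ≠ 2) {r : ℤ} {j : ℕ}
    (h : (p : ℤ) ^ (j + 1) ∣ r ^ p - 1) : (p : ℤ) ^ j ∣ r - 1 := by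
  have hpp : p.Prime := Fact.out
  have h1 : (p : ℤ) ∣ r ^ p - 1 := (dvd_pow_self _ (Nat.succ_ne_zero j)).trans h
  have hr : (p : ℤ) ∣ r - 1 := by
    rw [← ZMod.intCast_zmod_eq_zero_iff_dvd] at h1 ⊢
    push_cast at h1 ⊢
    rwa [ZMod.pow_card] at h1
  have hx : ¬ (p : ℤ) ∣ r := fun hd => by
    have : (p : ℤ) ∣ 1 := by simpa using dvd_sub hd hr
    exact hpp.ne_one (by exact_mod_cast Int.eq_one_of_dvd_one (Int.natCast_nonneg p) this)
  have hm := Int.emultiplicity_pow_sub_pow hpp (hpp.odd_of_ne_two hp) hr hx p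
  rw [one_pow, Nat.Prime.emultiplicity_self hpp] at hm
  have hle : ((j + 1 : ℕ) : ℕ∞) ≤ emultiplicity (p : ℤ) (r - 1) + 1 :=
    hm ▸ le_emultiplicity_of_pow_dvd h
  refine pow_dvd_of_le_emultiplicity ?_
  rw [Nat.cast_add, Nat.cast_one] at hle
  exact (ENat.add_le_add_iff_right ENat.one_ne_top).mp hle

theorem conj_zpow_iterate {g x : G} {r : ℤ} (h : g * x * g⁻¹ = x ^ r) (j : ℕ) :
    g ^ j * x * (g ^ j)⁻¹ = x ^ (r ^ j) := by
  induction j with
  | zero => simp
  | succ j ih =>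
    calc g ^ (j + 1) * x * (g ^ (j + 1))⁻¹ = g * (g ^ j * x * (g ^ j)⁻¹) * g⁻¹ := by
          rw [pow_succ', mul_inv_rev]; simp [mul_assoc]
      _ = (g * x * g⁻¹) ^ (r ^ j) := by rw [ih, conj_zpow]
      _ = _ := by rw [h, ← zpow_mul, pow_succ']

/-- Odd p: if the p-th power of `g` centralises the cyclic group `⟨x⟩` that g normalizes, then the
commutator has order dividing p. -/
theorem commutator_pow_eq_one_of_normalizes (hp : p ≠ 2) {g x : G} {k : ℕ}
    (hx : orderOf x = p ^ k) {r : ℤ} (h : g * x * g⁻¹ = x ^ r) (hg : Commute (g ^ p) x) :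
    ⁅g, x⁆ ^ p = 1 := by
  have hc : ⁅g, x⁆ = x ^ (r - 1) := by
    rw [commutatorElement_def, h, zpow_sub_one]
  have hd : (p : ℤ) ^ k ∣ r ^ p - 1 := by
    have h2 := conj_zpow_iterate h p
    rw [hg.eq, mul_inv_cancel_right] at h2
    have h3 : x ^ (r ^ p - 1) = 1 := by rw [zpow_sub_one, ← h2, mul_inv_cancel]
    rw [← Nat.cast_pow, ← hx]
    exact orderOf_dvd_iff_zpow_eq_one.mpr h3
  rw [hc, ← zpow_natCast, ← zpow_mul, ← orderOf_dvd_iff_zpow_eq_one, hx, Nat.cast_pow]
  rcases k with _ | j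
  · simp
  · rw [pow_succ]
    exact mul_dvd_mul (dvd_sub_one_of_pow_prime hp hd) dvd_rfl

/-- An abelian finite p-group in which the solutions of `z^p = 1` lie in a cyclic group is cyclic. -/
theorem isCyclic_of_abelian_of_unique [Finite G] (hG : IsPGroup p G) [IsMulCommutative G]
    {z : G} (huniq : ∀ y : G, y ^ p = 1 → y ∈ zpowers z) (hz : z ^ p = 1) : IsCyclic G := by
  have hp : p.Prime := Fact.out
  obtain ⟨x, hx⟩ := Finite.exists_max (fun g : G => orderOf g)
  refine ⟨x, fun y => ?_⟩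
  show y ∈ zpowers x
  obtain ⟨e, he⟩ := IsPGroup.iff_orderOf.mp hG y
  induction e using Nat.strong_induction_on generalizing y with
  | _ e ih =>
  rcases e with _ | e
  · rw [pow_zero, orderOf_eq_one_iff] at he
    exact he ▸ one_mem _
  have hyp : orderOf (y ^ p) = p ^ e := by
    rw [orderOf_pow' y hp.ne_zero, he, Nat.gcd_eq_right (dvd_pow_self p (Nat.succ_ne_zero e)),
      pow_succ, Nat.mul_div_cancel _ hp.pos]
  obtain ⟨i, hi⟩ := Subgroup.mem_zpowers_iff.mp (ih e (Nat.lt_succ_self e) (y ^ p) hyp)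
  obtain ⟨f, hf⟩ := IsPGroup.iff_orderOf.mp hG x
  have hle : e + 1 ≤ f := (Nat.pow_le_pow_iff_right hp.one_lt).mp (he ▸ hf ▸ hx y)
  have hpi : (p : ℤ) ∣ i := by
    by_contra hndvd
    have h1 : x ^ (i * (p ^ e : ℕ)) = 1 := by
      rw [zpow_mul, zpow_natCast, hi, ← hyp, pow_orderOf_eq_one]
    have h2 := orderOf_dvd_iff_zpow_eq_one.mpr h1
    rw [hf, Nat.cast_pow] at h2
    push_cast at h2
    have h3 : (p : ℤ) ^ f ∣ (p : ℤ) ^ e :=
      (Int.dvd_of_dvd_mul_right_of_gcd_one h2 (by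
        rw [← Int.isCoprime_iff_gcd_eq_one]
        exact ((Nat.prime_iff_prime_int.mp hp).coprime_iff_not_dvd.mpr hndvd).pow_left))
    have := Nat.le_of_dvd (pow_pos hp.pos e) (Int.natCast_dvd_natCast.mp (by exact_mod_cast h3))
    have := (Nat.pow_le_pow_iff_right hp.one_lt).mp this
    omega
  obtain ⟨m, rfl⟩ := hpi
  have h1 : (y * x ^ (-m)) ^ p = 1 := by
    have hcm : Commute y (x ^ (-m)) := mul_comm' y (x ^ (-m))
    rw [hcm.mul_pow, ← zpow_natCast (x ^ (-m)), ← zpow_mul, ← hi, ← zpow_add]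
    simp [mul_comm m]
  have hzx : zpowers z ≤ zpowers x := by
    rcases eq_or_ne z 1 with rfl | hz1
    · simp
    have hoz : orderOf z = p := orderOf_eq_prime hz hz1
    have hxo : orderOf (x ^ (p ^ (f - 1))) = p := by
      rw [orderOf_pow' x (pow_ne_zero _ hp.ne_zero), hf,
        Nat.gcd_eq_right (pow_dvd_pow p (Nat.sub_le f 1)), Nat.pow_div (Nat.sub_le f 1) hp.pos,
        show f - (f - 1) = 1 by omega, pow_one]
    have hmem := huniq (x ^ (p ^ (f - 1))) (orderOf_dvd_iff_pow_eq_one.mp (dvd_of_eq hxo))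
    have heq : zpowers (x ^ (p ^ (f - 1))) = zpowers z :=
      Subgroup.eq_of_le_of_card_ge (zpowers_le.mpr hmem)
        (by rw [Nat.card_zpowers, Nat.card_zpowers, hoz, hxo])
    rw [← heq]
    exact zpowers_le.mpr (pow_mem (mem_zpowers x) _)
  have := mul_mem (hzx (huniq _ h1)) (zpow_mem (mem_zpowers x) m)
  simpa [mul_assoc] using this

/-- The subgroup generated by an element of order p with a central generator: elements of order p
of a normal cyclic subgroup are central. -/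
theorem mem_center_of_pow_eq_one [Finite G] (hG : IsPGroup p G) {C : Subgroup G} [C.Normal]
    [IsCyclic C] {c : G} (hc : c ∈ C) (hcp : c ^ p = 1) : c ∈ center G := by
  have hp : p.Prime := Fact.out
  rcases eq_or_ne c 1 with rfl | hc1
  · exact one_mem _
  have hoc : orderOf c = p := orderOf_eq_prime hcp hc1
  obtain ⟨K, hK, -, hKC, hKcard⟩ := exists_normal_card_eq hG (bot_le : ⊥ ≤ C) (k := 1)
    (by rw [Subgroup.card_bot, pow_one]; exact hp.one_le)
    (by rw [pow_one, ← hoc, ← Nat.card_zpowers]; exact Subgroup.card_le_of_le (zpowers_le.mpr hc))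
  haveI := hK
  rw [pow_one] at hKcard
  have hKeq : zpowers c = K := by
    letI := (inferInstance : IsCyclic C).commGroup
    let T : Subgroup G := ((powMonoidHom p : C →* C).ker).map C.subtype
    haveI : IsCyclic T := isCyclic_of_injective (Subgroup.inclusion (map_subtype_le (H := C)
      (powMonoidHom p : C →* C).ker)) (Subgroup.inclusion_injective _)
    have hTp : Nat.card T ≤ p := by
      obtain ⟨⟨t, ⟨w, hw, rfl⟩⟩, ht⟩ := IsCyclic.exists_generator (α := T)
      rw [← Subgroup.card_top, ← (eq_top_iff' _).mpr ht, Nat.card_zpowers]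
      refine Nat.le_of_dvd hp.pos (orderOf_dvd_iff_pow_eq_one.mpr (Subtype.ext ?_))
      have := congrArg Subtype.val (MonoidHom.mem_ker.mp hw : w ^ p = 1)
      simpa using this
    have h1 : zpowers c = T := by
      refine Subgroup.eq_of_le_of_card_ge (zpowers_le.mpr ⟨⟨c, hc⟩, Subtype.ext (by simpa using hcp), rfl⟩) ?_
      rw [Nat.card_zpowers, hoc]; exact hTp
    rw [h1]
    refine (Subgroup.eq_of_le_of_card_ge (fun w hw => ?_) (hKcard ▸ hTp)).symm
    refine ⟨⟨w, hKC hw⟩, Subtype.ext ?_, rfl⟩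
    have := pow_card_eq_one' (G := K) (x := ⟨w, hw⟩)
    rw [hKcard] at this
    simpa using congrArg Subtype.val this
  have hKne : K ≠ ⊥ := fun hb => hp.ne_one (by rw [← hKcard, hb, Subgroup.card_bot])
  have hlt := commutator_top_lt hG hKne
  have hbot : ⁅K, (⊤ : Subgroup G)⁆ = ⊥ := by
    rw [← Subgroup.card_eq_one]
    rcases (Nat.dvd_prime hp).mp (hKcard ▸ Subgroup.card_dvd_of_le hlt.le) with h1 | h1
    · exact h1
    · exact absurd (Subgroup.eq_of_le_of_card_ge hlt.le (by rw [hKcard, h1])) hlt.ne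
  exact Subgroup.commutator_top_right_eq_bot_iff_le_center.mp hbot (hKeq ▸ mem_zpowers c)

/-- The generalized quaternion group is determined by its relations. -/
theorem nonempty_mulEquiv_quaternionGroup [Finite G] {x g : G} {m : ℕ} [NeZero m]
    (hx : orderOf x = 2 * m) (hconj : g * x * g⁻¹ = x⁻¹) (hg : g ^ 2 = x ^ m)
    (hgen : ∀ y : G, y ∈ zpowers x ∨ g⁻¹ * y ∈ zpowers x) (hgx : g ∉ zpowers x) :
    Nonempty (G ≃* QuaternionGroup m) := by
  have hx2 : x ^ ((2 * m : ℕ) : ℤ) = 1 := by rw [zpow_natCast, ← hx, pow_orderOf_eq_one]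
  let e : ZMod (2 * m) → G := fun i => x ^ (i.val : ℤ)
  have ecast : ∀ a : ℤ, e (a : ZMod (2 * m)) = x ^ a := by
    intro a
    show x ^ (((a : ZMod (2 * m)).val : ℕ) : ℤ) = x ^ a
    rw [ZMod.val_intCast, zpow_eq_zpow_iff_modEq, hx]
    exact Int.mod_modEq a _
  have eadd : ∀ i j, e (i + j) = e i * e j := by
    intro i j
    obtain ⟨a, rfl⟩ := ZMod.intCast_surjective i
    obtain ⟨b, rfl⟩ := ZMod.intCast_surjective j
    rw [← Int.cast_add, ecast, ecast, ecast, zpow_add]
  have esub : ∀ i j, e (i - j) = (e j)⁻¹ * e i := by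
    intro i j
    obtain ⟨a, rfl⟩ := ZMod.intCast_surjective i
    obtain ⟨b, rfl⟩ := ZMod.intCast_surjective j
    rw [← Int.cast_sub, ecast, ecast, ecast, ← zpow_neg, ← zpow_add, neg_add_eq_sub]
  have em : e (m : ZMod (2 * m)) = g * g := by
    rw [← Int.cast_natCast, ecast, zpow_natCast, ← hg, sq]
  have eg : ∀ i, e i * g = g * (e i)⁻¹ := by
    intro i
    show x ^ (i.val : ℤ) * g = g * (x ^ (i.val : ℤ))⁻¹
    have h1 : g * (x ^ (i.val : ℤ))⁻¹ * g⁻¹ = x ^ (i.val : ℤ) := by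
      rw [← zpow_neg, ← conj_zpow, hconj, inv_zpow', neg_neg]
    calc x ^ (i.val : ℤ) * g = g * (x ^ (i.val : ℤ))⁻¹ * g⁻¹ * g := by rw [h1]
      _ = _ := inv_mul_cancel_right _ _
  let f : QuaternionGroup m → G := fun q => match q with
    | .a i => e i
    | .xa i => g * e i
  have fmul : ∀ u v, f (u * v) = f u * f v := by
    rintro (i | i) (j | j)
    · rw [QuaternionGroup.a_mul_a]; exact eadd i j
    · rw [QuaternionGroup.a_mul_xa]
      show g * e (j - i) = e i * (g * e j)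
      rw [esub, ← mul_assoc (e i), eg, mul_assoc]
    · rw [QuaternionGroup.xa_mul_a]
      show g * e (i + j) = g * e i * e j
      rw [eadd, mul_assoc]
    · rw [QuaternionGroup.xa_mul_xa]
      show e ((m : ZMod (2 * m)) + j - i) = g * e i * (g * e j)
      rw [add_sub_assoc, eadd, em, esub, ← mul_assoc (g * e i), mul_assoc g (e i), eg]
      simp [mul_assoc]
  have emem : ∀ i, e i ∈ zpowers x := fun i => zpow_mem (mem_zpowers x) _
  have finj : Function.Injective f := by
    have einj : Function.Injective e := by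
      intro i j hij
      obtain ⟨a, rfl⟩ := ZMod.intCast_surjective i
      obtain ⟨b, rfl⟩ := ZMod.intCast_surjective j
      rw [ecast, ecast, zpow_eq_zpow_iff_modEq, hx] at hij
      exact (ZMod.intCast_eq_intCast_iff _ _ _).mpr hij
    rintro (i | i) (j | j) hij
    · exact congrArg _ (einj hij)
    · refine absurd ?_ hgx
      have hij' : e i = g * e j := hij
      have : g = e i * (e j)⁻¹ := by rw [hij', mul_inv_cancel_right]
      exact this ▸ mul_mem (emem i) (inv_mem (emem j))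
    · refine absurd ?_ hgx
      have hij' : g * e i = e j := hij
      have : g = e j * (e i)⁻¹ := by rw [← hij', mul_inv_cancel_right]
      exact this ▸ mul_mem (emem j) (inv_mem (emem i))
    · exact congrArg _ (einj (mul_left_cancel (a := g) hij))
  have fsurj : Function.Surjective f := by
    intro y
    rcases hgen y with h | h
    · obtain ⟨a, ha⟩ := Subgroup.mem_zpowers_iff.mp h
      exact ⟨.a a, (ecast a).trans ha⟩
    · obtain ⟨a, ha⟩ := Subgroup.mem_zpowers_iff.mp h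
      exact ⟨.xa a, by show g * e a = y; rw [ecast, ha, mul_inv_cancel_left]⟩
  exact ⟨(MulEquiv.ofBijective (MonoidHom.mk' f fmul) ⟨finj, fsurj⟩).symm⟩

/-- A finite p-group with a unique subgroup of order p is cyclic or generalized quaternion. -/
theorem isCyclic_or_quaternion_of_unique [Finite G] (hG : IsPGroup p G) {z : G} (hz : z ^ p = 1)
    (huniq : ∀ y : G, y ^ p = 1 → y ∈ zpowers z) :
    IsCyclic G ∨ (p = 2 ∧ ∃ n : ℕ, 1 ≤ n ∧ Nonempty (G ≃* QuaternionGroup (2 ^ n))) := by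
  have hp : p.Prime := Fact.out
  obtain ⟨A, hAn, hAab, -, hAC⟩ := exists_selfCentralizing_normal hG ⊥ inferInstance
  haveI := hAn
  by_cases hAtop : A = ⊤
  · subst hAtop
    haveI : IsMulCommutative G :=
      ⟨⟨fun a b => congrArg Subtype.val (hAab.is_comm.comm ⟨a, mem_top a⟩ ⟨b, mem_top b⟩)⟩⟩
    exact Or.inl (isCyclic_of_abelian_of_unique hG huniq hz)
  obtain ⟨K, hK, hAK, -, hrel, hcentral⟩ := exists_normal_index_prime hG (lt_top_iff_ne_top.mpr hAtop)
  haveI := hK
  obtain ⟨g, hgK, hgA⟩ : ∃ g ∈ K, g ∉ A := by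
    refine SetLike.not_le_iff_exists.mp fun hle => ?_
    rw [Subgroup.relIndex_eq_one.mpr hle] at hrel
    exact hp.ne_one hrel.symm
  have hzA : z ∈ A := by
    rcases eq_or_ne z 1 with rfl | hz1
    · exact one_mem A
    rcases eq_or_ne A ⊥ with hb | hne
    · exfalso
      rw [hb] at hAC
      have hc : centralizer ((⊥ : Subgroup G) : Set G) = ⊤ := by
        rw [eq_top_iff]; intro w _ b hb'; rw [SetLike.mem_coe, mem_bot] at hb'; simp [hb']
      exact hz1 (mem_bot.mp (hAC ▸ hc.symm ▸ mem_top z : z ∈ (⊥ : Subgroup G)))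
    obtain ⟨w, hw⟩ := exists_prime_orderOf_dvd_card' p (dvd_card_of_ne_bot hG hne)
    have hwm : (w : G) ∈ zpowers z := huniq w (by
      rw [← hw, ← Subgroup.orderOf_coe, pow_orderOf_eq_one])
    have heq : zpowers (w : G) = zpowers z := Subgroup.eq_of_le_of_card_ge (zpowers_le.mpr hwm)
      (by rw [Nat.card_zpowers, Nat.card_zpowers, Subgroup.orderOf_coe, hw, orderOf_eq_prime hz hz1])
    exact zpowers_le.mp (heq ▸ zpowers_le.mpr w.2)
  haveI := hAab
  haveI hAcyc : IsCyclic A := isCyclic_of_abelian_of_unique (hG.to_subgroup A)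
    (z := ⟨z, hzA⟩) (fun y hy => by
      obtain ⟨i, hi⟩ := Subgroup.mem_zpowers_iff.mp (huniq y (by
        simpa using congrArg Subtype.val hy))
      exact Subgroup.mem_zpowers_iff.mpr ⟨i, Subtype.ext (by simpa using hi)⟩)
    (Subtype.ext (by simpa using hz))
  obtain ⟨⟨x, hxA⟩, hxgen⟩ := IsCyclic.exists_generator (α := A)
  have hAeq : A = zpowers x := by
    refine le_antisymm (fun a ha => ?_) (zpowers_le.mpr hxA)
    obtain ⟨i, hi⟩ := Subgroup.mem_zpowers_iff.mp (hxgen ⟨a, ha⟩)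
    exact Subgroup.mem_zpowers_iff.mpr ⟨i, by simpa using congrArg Subtype.val hi⟩
  obtain ⟨k, hk⟩ := IsPGroup.iff_orderOf.mp hG x
  have hcen : ∀ y : G, Commute y x → y ∈ A := by
    intro y hy
    rw [← hAC]
    intro a ha
    rw [SetLike.mem_coe, hAeq, Subgroup.mem_zpowers_iff] at ha
    obtain ⟨i, rfl⟩ := ha
    exact (hy.symm.zpow_left i).eq
  have hnocomp : ∀ y : G, y ∉ A → y ^ p ≠ 1 := fun y hy h =>
    hy (zpowers_le.mpr hzA (huniq y h))
  have hconjx : ∀ y : G, ∃ r : ℤ, y * x * y⁻¹ = x ^ r := fun y => by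
    have := hAn.conj_mem x hxA y
    rw [hAeq, Subgroup.mem_zpowers_iff] at this
    exact this.imp fun r hr => hr.symm
  have hgp : g ^ p ∈ A := by
    have h1 := Subgroup.pow_index_mem (A.subgroupOf K) ⟨g, hgK⟩
    rw [show (A.subgroupOf K).index = p from hrel] at h1
    exact h1
  have hfix : ∀ y : G, y ^ p ∈ A → Commute (y ^ p) x := fun y hy => by
    rw [hAeq, Subgroup.mem_zpowers_iff] at hy
    obtain ⟨i, hi⟩ := hy
    exact hi ▸ (Commute.refl x).zpow_left i
  -- the powers of x fixed by an element outside A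
  have hgpow : ∀ y : G, y ∉ A → ∀ i : ℤ, Commute y (x ^ i) → (p : ℤ) ∣ i := by
    intro y hy i hcm
    by_contra hndvd
    have hcop : IsCoprime ((p : ℤ) ^ k) i :=
      ((Nat.prime_iff_prime_int.mp hp).coprime_iff_not_dvd.mpr hndvd).pow_left
    obtain ⟨u, v, huv⟩ := hcop
    refine hy (hcen y ?_)
    have : x = (x ^ i) ^ v := by
      rw [← zpow_mul]
      conv_lhs => rw [← zpow_one x, ← huv]
      rw [zpow_add, zpow_mul', mul_comm i, ← Nat.cast_pow, zpow_natCast x, ← hk, pow_orderOf_eq_one,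
        one_zpow, one_mul]
    exact this ▸ hcm.zpow_right v
  have hk1 : 1 ≤ k := by
    by_contra h0
    have : x = 1 := orderOf_eq_one_iff.mp (by rw [hk, show k = 0 by omega, pow_zero])
    exact hgA (hcen g (this ▸ Commute.one_right g))
  rcases hp.eq_two_or_odd' with hp2 | hodd
  swap
  · exfalso
    obtain ⟨r, hr⟩ := hconjx g
    have hc : ⁅g, x⁆ ^ p = 1 :=
      commutator_pow_eq_one_of_normalizes (fun h => absurd (h ▸ hodd : Odd 2) (by decide)) hk hr (hfix g hgp)
    have hcA : ⁅g, x⁆ ∈ A := by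
      rw [commutatorElement_def]; exact mul_mem (hAn.conj_mem x hxA g) (inv_mem hxA)
    have hcc : ⁅g, x⁆ ∈ center G := mem_center_of_pow_eq_one hG hcA hc
    rw [hAeq, Subgroup.mem_zpowers_iff] at hgp
    obtain ⟨i, hi⟩ := hgp
    obtain ⟨j, rfl⟩ := hgpow g hgA i (hi ▸ (Commute.refl g).pow_right p)
    have hgj : g * x ^ (-j) ∉ A := fun h => hgA ((mul_mem_cancel_right (zpow_mem hxA _)).mp h)
    refine hnocomp _ hgj ?_
    have hb : ⁅x ^ (-j), g⁆ ∈ center G ∧ ⁅x ^ (-j), g⁆ ^ p = 1 := by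
      have hmem : ⁅x ^ (-j), g⁆ ∈ zpowers ⁅g, x⁆ := by
        haveI : (zpowers ⁅g, x⁆).Normal := normal_of_le_center (zpowers_le.mpr hcc)
        rw [← QuotientGroup.eq_one_iff, ← QuotientGroup.mk'_apply (zpowers ⁅g, x⁆),
          map_commutatorElement, commutatorElement_eq_one_iff_commute, map_zpow]
        refine Commute.zpow_left ?_ _
        rw [← commutatorElement_eq_one_iff_commute, ← map_commutatorElement, QuotientGroup.mk'_apply,
          QuotientGroup.eq_one_iff]
        exact commutatorElement_inv g x ▸ inv_mem (mem_zpowers ⁅g, x⁆)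
      obtain ⟨t, ht⟩ := Subgroup.mem_zpowers_iff.mp hmem
      rw [← ht]
      exact ⟨zpow_mem hcc t, by rw [← zpow_natCast, ← zpow_mul, mul_comm, zpow_mul, zpow_natCast, hc,
        one_zpow]⟩
    rw [mul_pow_of_central hb.1, ← hi, ← zpow_natCast (x ^ (-j)), ← zpow_mul, ← zpow_add]
    obtain ⟨t, ht⟩ : p ∣ p.choose 2 :=
      hp.dvd_choose_self two_ne_zero (lt_of_le_of_ne hp.two_le (Ne.symm fun h => absurd (h ▸ hodd : Odd 2) (by decide)))
    rw [ht, pow_mul, hb.2, one_pow, mul_one]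
    simp [mul_comm j]
  subst hp2
  -- analysis for p = 2
  have hxk : x ^ ((2 : ℤ) ^ k) = 1 := by
    rw [← Nat.cast_ofNat, ← Nat.cast_pow, zpow_natCast, ← hk, pow_orderOf_eq_one]
  have hdvd_iff : ∀ a : ℤ, x ^ a = 1 ↔ (2 : ℤ) ^ k ∣ a := fun a => by
    rw [← orderOf_dvd_iff_zpow_eq_one, hk]; norm_num
  have hinv : ∀ y : G, y ∉ A → y ^ 2 ∈ A → y * x * y⁻¹ = x⁻¹ ∧ y ^ 2 = x ^ ((2 : ℤ) ^ (k - 1)) := by
    intro y hy hy2
    obtain ⟨r, hr⟩ := hconjx y
    have hr2 : (2 : ℤ) ^ k ∣ r ^ 2 - 1 := by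
      have h2 := conj_zpow_iterate hr 2
      rw [(hfix y hy2).eq, mul_inv_cancel_right] at h2
      rw [← hdvd_iff, zpow_sub_one, ← h2, mul_inv_cancel]
    rw [hAeq, Subgroup.mem_zpowers_iff] at hy2
    obtain ⟨i, hi⟩ := hy2
    obtain ⟨i', rfl⟩ : (2 : ℤ) ∣ i := by exact_mod_cast hgpow y hy i (hi ▸ (Commute.refl y).pow_right 2)
    -- squares in the coset
    have hsq : ∀ j : ℤ, (y * x ^ j) ^ 2 = x ^ (r * j + 2 * i' + j) := by
      intro j
      have h1 : y * x ^ j * y⁻¹ = x ^ (r * j) := by rw [← conj_zpow, hr, zpow_mul]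
      calc (y * x ^ j) ^ 2 = (y * x ^ j * y⁻¹) * y ^ 2 * x ^ j := by simp [sq, mul_assoc]
        _ = _ := by rw [h1, ← hi, ← zpow_add, ← zpow_add]
    have hno : ∀ j : ℤ, ¬ (2 : ℤ) ^ k ∣ r * j + 2 * i' + j := fun j hj =>
      hnocomp (y * x ^ j) (fun h => hy ((mul_mem_cancel_right (zpow_mem hxA j)).mp h))
        (by rw [hsq, hdvd_iff]; exact hj)
    have hr1 : ¬ (2 : ℤ) ^ k ∣ r - 1 := fun h => hy (hcen y (by
      have : x ^ r = x := by
        have := (hdvd_iff _).mpr h
        rw [zpow_sub_one, mul_inv_eq_one] at this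
        exact this
      rw [this] at hr
      exact mul_inv_eq_iff_eq_mul.mp hr))
    -- `r` is congruent to `-1`
    have hrneg : (2 : ℤ) ^ k ∣ r + 1 := by
      obtain ⟨k', rfl⟩ : ∃ k', k = k' + 1 := ⟨k - 1, by omega⟩
      rcases k' with _ | k'
      · rw [zero_add, pow_one] at hr1 hr2 ⊢
        exfalso; apply hr1
        have : Even (r ^ 2 - 1) := even_iff_two_dvd.mpr hr2
        rw [← even_iff_two_dvd]; simpa [parity_simps] using this
      have hrodd : Odd r := by
        have : Even (r ^ 2 - 1) := even_iff_two_dvd.mpr ((dvd_pow_self 2 (Nat.succ_ne_zero _)).trans hr2)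
        simpa [parity_simps] using this
      obtain ⟨a, rfl⟩ := hrodd
      have h4 : (2 : ℤ) ^ k' ∣ a * (a + 1) := by
        have : (2 : ℤ) ^ k' * 4 ∣ a * (a + 1) * 4 := by
          rw [show (2 : ℤ) ^ k' * 4 = 2 ^ (k' + 1 + 1) by ring,
            show a * (a + 1) * 4 = (2 * a + 1) ^ 2 - 1 by ring]
          exact hr2
        exact (mul_dvd_mul_iff_right (by norm_num : (4 : ℤ) ≠ 0)).mp this
      by_cases hae : (2 : ℤ) ∣ a
      · -- r is congruent to 1 modulo half the order: contradiction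
        exfalso
        have hcop : IsCoprime ((2 : ℤ) ^ k') (a + 1) := by
          refine (Int.prime_two.coprime_iff_not_dvd.mpr ?_).pow_left
          omega
        obtain ⟨b, rfl⟩ := hcop.dvd_of_dvd_mul_right h4
        have hk' : 1 ≤ k' := by
          by_contra h0
          obtain rfl : k' = 0 := by omega
          obtain ⟨c, hc⟩ := hae
          exact hr1 ⟨c, by rw [hc]; ring⟩
        obtain ⟨k'', rfl⟩ : ∃ k'', k' = k'' + 1 := ⟨k' - 1, by omega⟩
        -- choose j with `(1 + 2^k' b) * j = -i'` modulo a power of 2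
        have hu : IsCoprime ((2 : ℤ) ^ (k'' + 1 + 1)) (1 + 2 ^ (k'' + 1) * b) := by
          refine (Int.prime_two.coprime_iff_not_dvd.mpr ?_).pow_left
          rw [pow_succ]
          intro hd
          have := dvd_sub hd (Dvd.intro_left ((2 : ℤ) ^ k'' * b) (by ring) : (2 : ℤ) ∣ 2 ^ k'' * 2 * b)
          norm_num at this
        obtain ⟨u, v, huv⟩ := hu
        refine hno (v * -i') ?_
        exact ⟨u * i', by linear_combination (-2 * i') * huv⟩
      · -- here half the order divides `r + 1`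
        have hcop : IsCoprime ((2 : ℤ) ^ k') a :=
          (Int.prime_two.coprime_iff_not_dvd.mpr hae).pow_left
        obtain ⟨b, hb⟩ := hcop.dvd_of_dvd_mul_left h4
        by_contra hne
        have hbodd : ¬ (2 : ℤ) ∣ b := by
          rintro ⟨c, rfl⟩
          exact hne ⟨c, by linear_combination 2 * hb⟩
        have hia : (2 : ℤ) ^ (k' + 1 + 1) ∣ (2 * a + 1 - 1) * (2 * i') := by
          rw [← hdvd_iff]
          have hcm : Commute y (x ^ (2 * i')) := hi ▸ (Commute.refl y).pow_right 2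
          have h1 : x ^ ((2 * a + 1) * (2 * i')) = x ^ (2 * i') := by
            rw [zpow_mul, ← hr, conj_zpow, hcm.eq, mul_inv_cancel_right]
          rw [sub_mul, one_mul, zpow_sub, h1, mul_inv_cancel]
        have hi2 : (2 : ℤ) ^ k' ∣ i' := by
          have h5 : (2 : ℤ) ^ k' * 4 ∣ a * i' * 4 := by
            rw [show (2 : ℤ) ^ k' * 4 = 2 ^ (k' + 1 + 1) by ring]
            exact hia.trans (dvd_of_eq (by ring))
          exact hcop.dvd_of_dvd_mul_left ((mul_dvd_mul_iff_right (by norm_num : (4:ℤ) ≠ 0)).mp h5)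
        obtain ⟨c, rfl⟩ := hi2
        rcases Int.even_or_odd c with ⟨d, rfl⟩ | ⟨d, rfl⟩
        · exact hno 0 ⟨d, by ring⟩
        · obtain ⟨e, rfl⟩ : Odd b := Int.not_even_iff_odd.mp (fun h => hbodd (even_iff_two_dvd.mp h))
          exact hno 1 ⟨e + d + 1, by linear_combination 2 * hb⟩
    obtain ⟨t, ht⟩ := hrneg
    refine ⟨?_, ?_⟩
    · rw [hr, ← zpow_neg_one, zpow_eq_zpow_iff_modEq, hk, Int.modEq_iff_dvd]
      exact ⟨-t, by push_cast; linear_combination -ht⟩
    · have hcm : Commute y (x ^ (2 * i')) := hi ▸ (Commute.refl y).pow_right 2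
      have h1 : x ^ (r * (2 * i')) = x ^ (2 * i') := by
        rw [zpow_mul, ← hr, conj_zpow, hcm.eq, mul_inv_cancel_right]
      have h4 : (2 : ℤ) ^ k ∣ 4 * i' := by
        have := (hdvd_iff ((r - 1) * (2 * i'))).mp (by
          rw [sub_mul, one_mul, zpow_sub, h1, mul_inv_cancel])
        have h2 : (2 : ℤ) ^ k ∣ (r + 1) * (2 * i') := ⟨t * (2 * i'), by rw [ht]; ring⟩
        have := dvd_sub h2 this
        exact this.trans (dvd_of_eq (by ring))
      rw [← hi]
      obtain ⟨k', rfl⟩ : ∃ k', k = k' + 1 := ⟨k - 1, by omega⟩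
      rw [Nat.add_sub_cancel]
      have h5 : (2 : ℤ) ^ k' ∣ 2 * i' := by
        rw [pow_succ, show (4 : ℤ) * i' = (2 * i') * 2 by ring] at h4
        exact (mul_dvd_mul_iff_right (by norm_num : (2:ℤ) ≠ 0)).mp h4
      obtain ⟨c, hc⟩ := h5
      rcases Int.even_or_odd c with ⟨d, rfl⟩ | ⟨d, rfl⟩
      · exact absurd ⟨d, by rw [mul_zero, zero_add, add_zero, hc]; ring⟩ (hno 0)
      · rw [zpow_eq_zpow_iff_modEq, hk, Int.modEq_iff_dvd]
        exact ⟨-d, by push_cast; rw [hc]; ring⟩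
  obtain ⟨hgconj, hg2⟩ := hinv g hgA hgp
  have hcoset : ∀ y : G, y ∉ A → y ^ 2 ∈ A → g⁻¹ * y ∈ A := by
    intro y hy hy2
    refine hcen _ ?_
    have h1 := (hinv y hy hy2).1
    have : g⁻¹ * y * x * (g⁻¹ * y)⁻¹ = x := by
      calc g⁻¹ * y * x * (g⁻¹ * y)⁻¹ = g⁻¹ * (y * x * y⁻¹) * g := by simp [mul_assoc]
        _ = g⁻¹ * (g * x * g⁻¹) * g := by rw [h1, hgconj]
        _ = x := by simp [mul_assoc]
    exact mul_inv_eq_iff_eq_mul.mp this
  have hgen : ∀ y : G, y ∈ A ∨ g⁻¹ * y ∈ A := by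
    intro y
    by_cases hyA : y ∈ A
    · exact Or.inl hyA
    by_cases hy2 : y ^ 2 ∈ A
    · exact Or.inr (hcoset y hyA hy2)
    exfalso
    obtain ⟨e, he⟩ := IsPGroup.iff_orderOf.mp hG y
    classical
    have hex : ∃ j, y ^ (2 ^ j) ∈ A := ⟨e, by rw [← he, pow_orderOf_eq_one]; exact one_mem A⟩
    have hspec := Nat.find_spec hex
    obtain ⟨j, hj⟩ : ∃ j, Nat.find hex = j + 1 + 1 := by
      refine ⟨Nat.find hex - 2, ?_⟩
      have h0 : Nat.find hex ≠ 0 := fun h => hyA (by simpa [h] using hspec)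
      have h1 : Nat.find hex ≠ 1 := fun h => hy2 (by simpa [h] using hspec)
      omega
    have hn : y ^ (2 ^ (j + 1)) ∉ A := Nat.find_min hex (by omega)
    rw [hj, pow_succ (2 : ℕ) (j + 1), pow_mul] at hspec
    have hinv' := (hinv _ hn hspec).1
    obtain ⟨s, hs⟩ := hconjx (y ^ (2 ^ j))
    have h2 := conj_zpow_iterate hs 2
    rw [← pow_mul, ← pow_succ, hinv', ← zpow_neg_one, zpow_eq_zpow_iff_modEq, hk, Int.modEq_iff_dvd] at h2
    push_cast at h2
    rcases k with _ | _ | k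
    · omega
    · -- the order of x is two, so x would be central
      refine hn (hcen _ ?_)
      have hx2 : x⁻¹ = x := by
        rw [inv_eq_iff_mul_eq_one, ← sq]
        exact (pow_orderOf_eq_one x ▸ (by rw [hk]; rfl) : x ^ 2 = 1)
      rw [hx2] at hinv'
      exact mul_inv_eq_iff_eq_mul.mp hinv'
    · have h4 : (4 : ℤ) ∣ s ^ 2 + 1 :=
        (Dvd.intro_left ((2 : ℤ) ^ k) (show (2 : ℤ) ^ k * 4 = 2 ^ (k + 1 + 1) by ring)).trans (by simpa using h2)
      rcases Int.even_or_odd s with ⟨d, rfl⟩ | ⟨d, rfl⟩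
      · ring_nf at h4; omega
      · ring_nf at h4; omega
  have hm : NeZero (2 ^ (k - 1)) := ⟨pow_ne_zero _ two_ne_zero⟩
  have hk2 : 2 ≤ k := by
    by_contra hlt
    obtain rfl : k = 1 := by omega
    refine hgA (hcen g ?_)
    have hx2 : x⁻¹ = x := by
      rw [inv_eq_iff_mul_eq_one, ← sq]
      exact (pow_orderOf_eq_one x ▸ (by rw [hk]; rfl) : x ^ 2 = 1)
    rw [hx2] at hgconj
    exact mul_inv_eq_iff_eq_mul.mp hgconj
  refine Or.inr ⟨rfl, k - 1, by omega, nonempty_mulEquiv_quaternionGroup (g := g) (x := x) ?_ hgconj ?_ ?_ ?_⟩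
  · rw [hk, ← pow_succ']; congr 1; omega
  · rw [hg2, ← zpow_natCast x]; push_cast; rfl
  · simpa [← hAeq] using hgen
  · rwa [← hAeq]

end CfsgLib.PGroups
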