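import Mathlib

/-!
# Commutator identities for central commutators, powers in class two
-/

set_option linter.unusedSectionVars false
set_option linter.style.haveILetI false

namespace CfsgLib.PGroups

open Subgroup
open scoped commutatorElement

variable {G : Type*} [Group G]

/-- If `⁅a, c⁆` is central, the commutator is multiplicative in the right variable. -/
theorem commutator_mul_right_of_central {a b c : G} (h : ⁅a, c⁆ ∈ center G) :
    ⁅a, b * c⁆ = ⁅a, b⁆ * ⁅a, c⁆ := by
  have hc := Subgroup.mem_center_iff.mp h b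
  calc ⁅a, b * c⁆ = ⁅a, b⁆ * (b * ⁅a, c⁆ * b⁻¹) := by simp [commutatorElement_def, mul_assoc]
    _ = ⁅a, b⁆ * ⁅a, c⁆ := by rw [hc, mul_inv_cancel_right]

/-- If `⁅b, c⁆` is central, the commutator is multiplicative in the left variable. -/
theorem commutator_mul_left_of_central {a b c : G} (h : ⁅b, c⁆ ∈ center G) :
    ⁅a * b, c⁆ = ⁅a, c⁆ * ⁅b, c⁆ := by
  have hc := Subgroup.mem_center_iff.mp h a
  calc ⁅a * b, c⁆ = (a * ⁅b, c⁆ * a⁻¹) * ⁅a, c⁆ := by simp [commutatorElement_def, mul_assoc]
    _ = ⁅b, c⁆ * ⁅a, c⁆ := by rw [hc, mul_inv_cancel_right]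
    _ = ⁅a, c⁆ * ⁅b, c⁆ := (Subgroup.mem_center_iff.mp h _).symm

theorem commutator_pow_right_of_central {a b : G} (h : ⁅a, b⁆ ∈ center G) (n : ℕ) :
    ⁅a, b ^ n⁆ = ⁅a, b⁆ ^ n := by
  induction n with
  | zero => simp
  | succ n ih => rw [pow_succ, commutator_mul_right_of_central h, ih, pow_succ]

theorem commutator_pow_left_of_central {a b : G} (h : ⁅a, b⁆ ∈ center G) (n : ℕ) :
    ⁅a ^ n, b⁆ = ⁅a, b⁆ ^ n := by
  induction n with
  | zero => simp
  | succ n ih => rw [pow_succ, commutator_mul_left_of_central h, ih, pow_succ]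

theorem commutator_swap_inv (a b : G) : ⁅b, a⁆ = ⁅a, b⁆⁻¹ := (commutatorElement_inv a b).symm

/-- Class two power formula. -/
theorem mul_pow_of_central {a b : G} (h : ⁅b, a⁆ ∈ center G) (n : ℕ) :
    (a * b) ^ n = a ^ n * b ^ n * ⁅b, a⁆ ^ n.choose 2 := by
  induction n with
  | zero => simp
  | succ n ih =>
    have hcent : ∀ (k : ℕ) (x : G), ⁅b, a⁆ ^ k * x = x * ⁅b, a⁆ ^ k := fun k x =>
      (Subgroup.mem_center_iff.mp (pow_mem h k) x).symm
    have hswap : b ^ n * a = a * b ^ n * ⁅b, a⁆ ^ n := by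
      have h1 : b ^ n * a = ⁅b ^ n, a⁆ * (a * b ^ n) := by simp [commutatorElement_def, mul_assoc]
      rw [h1, commutator_pow_left_of_central h, hcent]
    rw [pow_succ, ih, mul_assoc _ (⁅b, a⁆ ^ n.choose 2), hcent, ← mul_assoc (a ^ n * b ^ n),
      ← mul_assoc (a ^ n * b ^ n) a b, mul_assoc (a ^ n) (b ^ n) a, hswap,
      Nat.choose_succ_succ', Nat.choose_one_right, pow_succ a n, pow_succ b n, pow_add]
    simp only [mul_assoc]
    rw [← mul_assoc (⁅b, a⁆ ^ n) b, hcent n b]
    simp only [mul_assoc]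

/-- In a group of class at most two the elements killed by an odd n, when commutators are killed by n,
are closed under products. -/
theorem mul_pow_eq_one_of_odd {a b : G} (h : ⁅b, a⁆ ∈ center G) {n : ℕ} (hn : Odd n)
    (ha : a ^ n = 1) (hb : b ^ n = 1) : (a * b) ^ n = 1 := by
  rw [mul_pow_of_central h, ha, hb, one_mul, one_mul]
  obtain ⟨k, rfl⟩ := hn
  have hc : ⁅b, a⁆ ^ (2 * k + 1) = 1 := by
    rw [← commutator_pow_left_of_central h, hb, commutatorElement_one_left]
  have : (2 * k + 1).choose 2 = (2 * k + 1) * k := by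
    rw [Nat.choose_two_right, Nat.add_sub_cancel, show (2*k+1) * (2*k) = (2*k+1) * k * 2 by ring,
      Nat.mul_div_cancel _ (by norm_num : 0 < 2)]
  rw [this, pow_mul, hc, one_pow]

/-- `⁅g, ·⁆` as a homomorphism on a subgroup H all of whose commutators with g are central. -/
def commutatorRightHom (g : G) (H : Subgroup G) (h : ∀ x ∈ H, ⁅g, x⁆ ∈ center G) : H →* center G where
  toFun x := ⟨⁅g, (x : G)⁆, h x x.2⟩
  map_one' := Subtype.ext (by simp)
  map_mul' x y := Subtype.ext (commutator_mul_right_of_central (h y y.2))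

theorem ker_commutatorRightHom (g : G) (H : Subgroup G) (h : ∀ x ∈ H, ⁅g, x⁆ ∈ center G) :
    (commutatorRightHom g H h).ker = (centralizer ({g} : Set G)).subgroupOf H := by
  ext x
  rw [MonoidHom.mem_ker, Subgroup.mem_subgroupOf, Subgroup.mem_centralizer_singleton_iff]
  constructor
  · intro hx
    exact (commutatorElement_eq_one_iff_mul_comm.mp (congrArg Subtype.val hx)).symm
  · intro hx
    exact Subtype.ext (commutatorElement_eq_one_iff_mul_comm.mpr hx.symm)

end CfsgLib.PGroups
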