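import Cfsg.Prelude.Def_Transfer
import Cfsg.Agent.Lib.PGroups.Basic
import Cfsg.Agent.Lib.PGroups.Commutator

/-!
# Special and extraspecial p-groups
-/

set_option linter.unusedSectionVars false
set_option linter.style.haveILetI false

namespace CfsgLib.PGroups

open Subgroup
open scoped commutatorElement

variable {G : Type*} [Group G] {p : ℕ} [Fact p.Prime]

/-- If all commutators with x lie in a central subgroup Z then `|G : C(x)| ≤ |Z|`. -/
theorem index_centralizer_singleton_le [Finite G] {Z : Subgroup G} (hZ : Z ≤ center G) {x : G}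
    (hx : ∀ g : G, ⁅g, x⁆ ∈ Z) : (centralizer ({x} : Set G)).index ≤ Nat.card Z := by
  let f : G →* Z :=
    { toFun := fun g => ⟨⁅g, x⁆, hx g⟩
      map_one' := Subtype.ext (by simp)
      map_mul' := fun a b => Subtype.ext (commutator_mul_left_of_central (hZ (hx b))) }
  have hker : f.ker = centralizer ({x} : Set G) := by
    ext g
    rw [MonoidHom.mem_ker, mem_centralizer_singleton_iff, ← commutatorElement_eq_one_iff_mul_comm]
    exact ⟨fun h => congrArg Subtype.val h, fun h => Subtype.ext h⟩
  rw [← hker, Subgroup.index_ker]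
  exact Subgroup.card_le_card_group _

theorem centralizer_sup_zpowers (K : Subgroup G) (x : G) :
    centralizer ((K ⊔ zpowers x : Subgroup G) : Set G) =
      centralizer (K : Set G) ⊓ centralizer ({x} : Set G) := by
  refine le_antisymm (le_inf (centralizer_le (le_sup_left : K ≤ K ⊔ zpowers x)) ?_) ?_
  · exact centralizer_le (by
      intro y hy; rw [Set.mem_singleton_iff] at hy; subst hy
      exact le_sup_right (a := K) (mem_zpowers _))
  · rw [Subgroup.le_centralizer_iff]
    refine sup_le (fun k hk c hc => (hc.1 k hk).symm) (zpowers_le.mpr fun c hc => ?_)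
    exact mem_centralizer_singleton_iff.mp hc.2

/-- If `[G, L] ≤ Z` with Z central of order p, then `|C(K) : C(L)| ≤ |L : K|`. -/
theorem relIndex_centralizer_le [Finite G] {Z : Subgroup G} (hZ : Z ≤ center G)
    (hZp : Nat.card Z ≤ p) {L : Subgroup G} (hL : IsPGroup p L)
    (hLG : ∀ g : G, ∀ x ∈ L, ⁅g, x⁆ ∈ Z) {K : Subgroup G} (hKL : K ≤ L) :
    (centralizer (L : Set G)).relIndex (centralizer (K : Set G)) ≤ K.relIndex L := by
  have hp : p.Prime := Fact.out
  induction hd : K.relIndex L using Nat.strong_induction_on generalizing K with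
  | _ d ih =>
  subst hd
  by_cases h : L ≤ K
  · rw [le_antisymm hKL h]; simp
  obtain ⟨x, hxL, hxK⟩ := SetLike.not_le_iff_exists.mp h
  let K' := K ⊔ zpowers x
  have hKK' : K ≤ K' := le_sup_left
  have hK'L : K' ≤ L := sup_le hKL (zpowers_le.mpr hxL)
  have hmul := Subgroup.relIndex_mul_relIndex K K' L hKK' hK'L
  have hge : p ≤ K.relIndex K' := by
    obtain ⟨e, he⟩ := (hL.to_le hK'L).index (K.subgroupOf K')
    have he' : K.relIndex K' = p ^ e := he
    rcases e with _ | e
    · exact absurd (Subgroup.relIndex_eq_one.mp (he'.trans (pow_zero p))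
        (le_sup_right (a := K) (mem_zpowers x))) hxK
    · rw [he']; exact Nat.le_self_pow (Nat.succ_ne_zero e) p
  have hpos : 0 < K'.relIndex L := Nat.pos_of_ne_zero Subgroup.FiniteIndex.index_ne_zero
  have hlt : K'.relIndex L < K.relIndex L := by
    rw [← hmul]
    exact lt_mul_left hpos (lt_of_lt_of_le hp.one_lt hge)
  have h1 := ih _ hlt hK'L rfl
  have h2 : (centralizer (K' : Set G)).relIndex (centralizer (K : Set G)) ≤ p := by
    rw [centralizer_sup_zpowers, Subgroup.inf_relIndex_left]
    exact ((Subgroup.relIndex_le_of_le_right le_top (by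
        rw [Subgroup.relIndex_top_right]; exact Subgroup.FiniteIndex.index_ne_zero)).trans_eq
      (Subgroup.relIndex_top_right _)).trans
      ((index_centralizer_singleton_le hZ (fun g => hLG g x hxL)).trans hZp)
  rw [← Subgroup.relIndex_mul_relIndex (centralizer (L : Set G)) (centralizer (K' : Set G))
    (centralizer (K : Set G)) (centralizer_le hK'L) (centralizer_le hKK'), ← hmul,
    mul_comm (K.relIndex K')]
  exact Nat.mul_le_mul h1 (h2.trans hge)

/-- The centre of a special p-group has exponent p. -/
theorem pow_eq_one_of_mem_center_of_special (h : Cfsg.IsSpecial p G) [Finite G] {z : G}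
    (hz : z ∈ center G) : z ^ p = 1 := by
  obtain ⟨hG, hΦ, hcomm⟩ := h
  rw [← hcomm, commutator_eq_closure] at hz
  induction hz using Subgroup.closure_induction with
  | mem y hy =>
    obtain ⟨a, b, rfl⟩ := hy
    have h1 : ⁅a, b⁆ ∈ center G :=
      hcomm ▸ commutator_mem_commutator (mem_top a) (mem_top b)
    rw [← commutator_pow_left_of_central h1, commutatorElement_eq_one_iff_mul_comm]
    exact (Subgroup.mem_center_iff.mp (hΦ ▸ pow_mem_frattini hG a) b).symm
  | one => simp
  | mul a b ha hb iha ihb =>
    have hac : a ∈ center G := by rw [← hcomm, commutator_eq_closure]; exact ha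
    have : Commute a b := (Subgroup.mem_center_iff.mp hac b).symm
    rw [this.mul_pow, iha, ihb, one_mul]
  | inv a ha iha => rw [inv_pow, iha, inv_one]

namespace Extraspecial

variable (h : Cfsg.IsExtraspecial p G)
include h

theorem isPGroup : IsPGroup p G := h.1.1

theorem commutator_mem_center (a b : G) : ⁅a, b⁆ ∈ center G :=
  h.1.2.2 ▸ Subgroup.commutator_mem_commutator (mem_top a) (mem_top b)

theorem pow_mem_center [Finite G] (a : G) : a ^ p ∈ center G :=
  h.1.2.1 ▸ pow_mem_frattini h.1.1 a

theorem normal_of_center_le {K : Subgroup G} (hK : center G ≤ K) : K.Normal :=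
  Subgroup.Normal.of_commutator_le G (h.1.2.2.trans_le hK)

theorem not_isMulCommutative [Finite G] : ¬ IsMulCommutative G := by
  intro hc
  have h1 : commutator G = ⊥ := (_root_.commutator_eq_bot_iff (G := G)).mpr hc
  have h2 := h.2
  rw [← h.1.2.2, h1, Subgroup.card_bot] at h2
  exact (Fact.out : p.Prime).ne_one h2.symm

/-- `|K| |C(K)| = |G| |Z|` for subgroups containing the centre. -/
theorem card_mul_card_centralizer [Finite G] {K : Subgroup G} (hK : center G ≤ K) :
    Nat.card K * Nat.card (centralizer (K : Set G)) = Nat.card G * p := by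
  have hrel := fun (A B : Subgroup G) (hAB : A ≤ B) => relIndex_centralizer_le (p := p)
    (le_refl (center G)) h.2.le (h.1.1.to_subgroup B) (fun g x _ => commutator_mem_center h g x) hAB
  have h1 := hrel (center G) K hK
  have h2 := hrel K ⊤ le_top
  have hZ : centralizer ((center G : Subgroup G) : Set G) = ⊤ := by
    rw [eq_top_iff]
    intro g _ z hz
    exact (Subgroup.mem_center_iff.mp hz g).symm
  rw [hZ, Subgroup.relIndex_top_right] at h1
  rw [Subgroup.coe_top, Subgroup.centralizer_univ, Subgroup.relIndex_top_right] at h2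
  have hZle : center G ≤ centralizer (K : Set G) := center_le_centralizer _
  have e1 := Subgroup.relIndex_mul_index hK
  have e2 := Subgroup.relIndex_mul_index hZle
  have hpos : 0 < (center G).relIndex (centralizer (K : Set G)) :=
    Nat.pos_of_ne_zero Subgroup.FiniteIndex.index_ne_zero
  have hge : (centralizer (K : Set G)).index = (center G).relIndex K := by
    refine le_antisymm h1 ?_
    have : (center G).relIndex K * K.index ≤ (centralizer (K : Set G)).index * K.index :=
      calc (center G).relIndex K * K.index = (center G).relIndex (centralizer (K : Set G)) *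
            (centralizer (K : Set G)).index := e1.trans e2.symm
        _ ≤ K.index * (centralizer (K : Set G)).index := Nat.mul_le_mul_right _ h2
        _ = _ := mul_comm _ _
    exact Nat.le_of_mul_le_mul_right this (Nat.pos_of_ne_zero Subgroup.FiniteIndex.index_ne_zero)
  calc Nat.card K * Nat.card (centralizer (K : Set G))
      = p * (centralizer (K : Set G)).index * Nat.card (centralizer (K : Set G)) := by
        rw [hge, ← h.2, ← Subgroup.relIndex_bot_left (center G),
          Subgroup.relIndex_mul_relIndex ⊥ _ _ bot_le hK, Subgroup.relIndex_bot_left]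
    _ = p * Nat.card G := by rw [mul_assoc, Subgroup.index_mul_card]
    _ = _ := mul_comm _ _

theorem centralizer_centralizer [Finite G] {K : Subgroup G} (hK : center G ≤ K) :
    centralizer (centralizer (K : Set G) : Set G) = K := by
  have e1 := card_mul_card_centralizer h hK
  have e2 := card_mul_card_centralizer h (center_le_centralizer (K : Set G))
  have hle : K ≤ centralizer (centralizer (K : Set G) : Set G) :=
    fun k hk c hc => (hc k hk).symm
  refine (Subgroup.eq_of_le_of_card_ge hle ?_).symm
  rw [← e1, mul_comm (Nat.card K)] at e2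
  exact (Nat.eq_of_mul_eq_mul_left Nat.card_pos e2).le

/-- The order of an extraspecial group is `p^(2n+1)` with `n ≥ 1`. -/
theorem exists_card_eq [Finite G] : ∃ n : ℕ, 1 ≤ n ∧ Nat.card G = p ^ (2 * n + 1) := by
  -- take a maximal abelian subgroup
  obtain ⟨A, hA⟩ := Set.Finite.exists_maximal
    (s := {A : Subgroup G | center G ≤ A ∧ A ≤ centralizer (A : Set G)}) (Set.toFinite _)
    ⟨center G, le_rfl, center_le_centralizer _⟩
  have heq : centralizer (A : Set G) = A := by
    refine le_antisymm (fun x hx => ?_) hA.1.2
    have hsup : A ⊔ zpowers x ≤ centralizer ((A ⊔ zpowers x : Subgroup G) : Set G) := by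
      rw [centralizer_sup_zpowers]
      refine le_inf (sup_le hA.1.2 (zpowers_le.mpr hx)) (sup_le ?_ (zpowers_le.mpr ?_))
      · intro a ha
        exact mem_centralizer_singleton_iff.mpr (hx a ha)
      · exact mem_centralizer_singleton_iff.mpr rfl
    exact hA.2 ⟨hA.1.1.trans le_sup_left, hsup⟩ le_sup_left
      (le_sup_right (a := A) (mem_zpowers x))
  have hcard := card_mul_card_centralizer h hA.1.1
  rw [heq] at hcard
  obtain ⟨a, ha⟩ := card_subgroup_eq_pow h.1.1 A
  obtain ⟨m, hm⟩ := IsPGroup.iff_card.mp h.1.1
  rw [ha, hm, ← pow_add, ← pow_succ] at hcard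
  have := Nat.pow_right_injective (Fact.out : p.Prime).two_le hcard
  refine ⟨a - 1, ?_, by rw [hm]; congr 1; omega⟩
  by_contra hlt
  have ha1 : a ≤ 1 := by omega
  have hm1 : m ≤ 1 := by omega
  refine not_isMulCommutative h ?_
  interval_cases m
  · haveI : Subsingleton G := (Nat.card_eq_one_iff_unique.mp (by simpa using hm)).1
    exact ⟨⟨fun a b => Subsingleton.elim _ _⟩⟩
  · haveI : IsCyclic G := isCyclic_of_prime_card (p := p) (by simpa using hm)
    infer_instance

/-- An abelian subgroup has order at most `p^(n+1)`. -/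
theorem card_le_of_abelian [Finite G] {A : Subgroup G} (hA : A ≤ centralizer (A : Set G)) {n : ℕ}
    (hn : Nat.card G = p ^ (2 * n + 1)) : Nat.card A ≤ p ^ (n + 1) := by
  let B := A ⊔ center G
  have hB : B ≤ centralizer (B : Set G) := by
    refine sup_le ?_ (center_le_centralizer _)
    rw [Subgroup.le_centralizer_iff]
    exact sup_le hA (center_le_centralizer _)
  have e := card_mul_card_centralizer h (le_sup_right : center G ≤ B)
  have h1 : Nat.card B ≤ Nat.card (centralizer (B : Set G)) := Subgroup.card_le_of_le hB
  have h2 : Nat.card A ≤ Nat.card B := Subgroup.card_le_of_le le_sup_left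
  refine Nat.mul_self_le_mul_self_iff.mp ?_
  calc Nat.card A * Nat.card A ≤ Nat.card B * Nat.card (centralizer (B : Set G)) :=
        Nat.mul_le_mul h2 (h2.trans h1)
    _ = p ^ (n + 1) * p ^ (n + 1) := by rw [e, hn, ← pow_succ, ← pow_add]; congr 1; omega

end Extraspecial

/-- An extraspecial subgroup E with `[G, E] ≤ Z(E)` is a central factor. -/
theorem sup_centralizer_eq_top_of_extraspecial [Finite G] {E : Subgroup G}
    (hE : Cfsg.IsExtraspecial p E) (hZc : (center E).map E.subtype ≤ center G)
    (hGE : ∀ g : G, ∀ x ∈ E, ⁅g, x⁆ ∈ (center E).map E.subtype) :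
    E ⊔ centralizer (E : Set G) = ⊤ := by
  set Z := (center E).map E.subtype with hZdef
  have hZp : Nat.card Z = p := by
    rw [← hE.2]; exact Subgroup.card_map_of_injective E.subtype_injective
  have hZE : Z ≤ E := map_subtype_le _
  have hr := relIndex_centralizer_le hZc hZp.le hE.1.1 hGE hZE
  have hZtop : centralizer (Z : Set G) = ⊤ := by
    rw [eq_top_iff]
    intro g _ z hz
    exact (Subgroup.mem_center_iff.mp (hZc hz) g).symm
  rw [hZtop, Subgroup.relIndex_top_right] at hr
  have hinf : E ⊓ centralizer (E : Set G) = Z := by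
    refine le_antisymm ?_ (le_inf hZE (hZc.trans (center_le_centralizer _)))
    rintro x ⟨hx, hxc⟩
    exact ⟨⟨x, hx⟩, Subgroup.mem_center_iff.mpr fun y => Subtype.ext (hxc y y.2), rfl⟩
  haveI : E.Normal := by
    rw [← Subgroup.commutator_top_left_le_iff, Subgroup.commutator_le]
    exact fun g _ x hx => hZE (hGE g x hx)
  have h1 : (E ⊔ centralizer (E : Set G)).index * E.relIndex (E ⊔ centralizer (E : Set G)) =
      E.index := by rw [mul_comm]; exact Subgroup.relIndex_mul_index le_sup_left
  have h2 : E.relIndex (E ⊔ centralizer (E : Set G)) =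
      Z.relIndex (centralizer (E : Set G)) := by
    rw [sup_comm, Subgroup.relIndex_sup_right, ← hinf, Subgroup.inf_relIndex_right]
  have h3 := Subgroup.relIndex_mul_index (H := Z) (K := centralizer (E : Set G))
    (hinf ▸ inf_le_right)
  have h4 := Subgroup.relIndex_mul_index hZE
  have hpos : 0 < (centralizer (E : Set G)).index := Nat.pos_of_ne_zero Subgroup.FiniteIndex.index_ne_zero
  have hpos2 : 0 < Z.relIndex (centralizer (E : Set G)) := Nat.pos_of_ne_zero Subgroup.FiniteIndex.index_ne_zero
  rw [← Subgroup.index_eq_one]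
  refine le_antisymm ?_ (Nat.one_le_iff_ne_zero.mpr Subgroup.FiniteIndex.index_ne_zero)
  by_contra hlt
  push Not at hlt
  have hbad : Z.index * 2 ≤ Z.index := calc
    Z.index * 2 ≤ Z.relIndex (centralizer (E : Set G)) * (centralizer (E : Set G)).index *
          (E ⊔ centralizer (E : Set G)).index := by rw [h3]; exact Nat.mul_le_mul_left _ hlt
    _ ≤ Z.relIndex (centralizer (E : Set G)) * Z.relIndex E *
          (E ⊔ centralizer (E : Set G)).index :=
        Nat.mul_le_mul_right _ (Nat.mul_le_mul_left _ hr)
    _ = Z.relIndex E * ((E ⊔ centralizer (E : Set G)).index *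
          Z.relIndex (centralizer (E : Set G))) := by ring
    _ = Z.index := by rw [← h2, h1, h4]
  have : 0 < Z.index := Nat.pos_of_ne_zero Subgroup.FiniteIndex.index_ne_zero
  omega

end CfsgLib.PGroups
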