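import Cfsg.Agent.Lib.PGroups.MaximalClass
import Cfsg.Agent.Lib.PGroups.UniqueOrderP
import Cfsg.Agent.Lib.Classical.Dihedral

/-!
# 2-groups of maximal class
-/

set_option linter.unusedSectionVars false
set_option linter.style.haveILetI false

universe u

namespace CfsgLib.PGroups

open Subgroup
open scoped commutatorElement

/-- An element commuting with C and with an element t with `G = C ⊔ ⟨t⟩` is central. -/
theorem mem_center_of_index_two {G : Type*} [Group G] [Finite G] {C : Subgroup G}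
    (hCi : C.index = 2) (hC : IsMulCommutative C) {t d : G} (ht : t ∉ C) (hd : d ∈ C)
    (htd : Commute t d) : d ∈ center G := by
  rw [Subgroup.mem_center_iff]
  intro g
  have hCc : ∀ e ∈ C, Commute e d := fun e he => congrArg Subtype.val (hC.is_comm.comm ⟨e, he⟩ ⟨d, hd⟩)
  by_cases hg : g ∈ C
  · exact (hCc g hg).eq
  · have hmem : g * t ∈ C :=
      (Subgroup.mul_mem_iff_of_index_two hCi).mpr ⟨fun h => absurd h hg, fun h => absurd h ht⟩
    have h := (hCc _ hmem).mul_left htd.inv_left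
    rw [mul_inv_cancel_right] at h
    exact h.eq

/-- For an abelian subgroup of index two, `t c t⁻¹ c` is central. -/
theorem conj_mul_mem_center {G : Type*} [Group G] [Finite G] {C : Subgroup G}
    (hCi : C.index = 2) (hC : IsMulCommutative C) {t c : G} (ht : t ∉ C) (hc : c ∈ C) :
    t * c * t⁻¹ * c ∈ center G := by
  haveI : C.Normal := Subgroup.normal_of_index_eq_two hCi
  have htc : t * c * t⁻¹ ∈ C := ‹C.Normal›.conj_mem c hc t
  refine mem_center_of_index_two hCi hC ht (mul_mem htc hc) ?_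
  have ht2 : t * t ∈ C := by
    have := Subgroup.sq_mem_of_index_two hCi t
    rwa [sq] at this
  have h1 : t * t * c * (t * t)⁻¹ = c :=
    mul_inv_eq_iff_eq_mul.mpr (congrArg Subtype.val (hC.is_comm.comm ⟨_, ht2⟩ ⟨_, hc⟩))
  have h2 : t * c * t⁻¹ * c = c * (t * c * t⁻¹) :=
    congrArg Subtype.val (hC.is_comm.comm ⟨_, htc⟩ ⟨_, hc⟩)
  have h3 : t * (t * c * t⁻¹ * c) * t⁻¹ = t * c * t⁻¹ * c := by
    calc t * (t * c * t⁻¹ * c) * t⁻¹ = (t * t * c * (t * t)⁻¹) * (t * c * t⁻¹) := by group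
      _ = c * (t * c * t⁻¹) := by rw [h1]
      _ = _ := h2.symm
  exact mul_inv_eq_iff_eq_mul.mp h3

theorem exists_orderOf_four {G : Type*} [Group G] [Finite G] (hG : Nat.card G = 2 ^ 3)
    (hna : ¬ IsMulCommutative G) : ∃ c : G, orderOf c = 4 := by
  by_contra h
  push Not at h
  refine hna ⟨⟨fun a b => ?_⟩⟩
  have hsq : ∀ x : G, x * x = 1 := fun x => by
    obtain ⟨k, hk, hxk⟩ := (Nat.dvd_prime_pow Nat.prime_two).mp (hG ▸ orderOf_dvd_natCard x)
    rcases (show k = 0 ∨ k = 1 ∨ k = 2 ∨ k = 3 by omega) with rfl | rfl | rfl | rfl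
    · have h1 : x = 1 := orderOf_eq_one_iff.mp (by simpa using hxk)
      rw [h1, one_mul]
    · rw [← sq, ← orderOf_dvd_iff_pow_eq_one, hxk, pow_one]
    · exact absurd hxk (h x)
    · exact absurd (orderOf_pow_of_dvd (n := 2) (x := x) (by norm_num) (hxk ▸ by norm_num))
        (by rw [hxk]; norm_num; exact h (x ^ 2))
  have hinv : ∀ x : G, x⁻¹ = x := fun x => inv_eq_of_mul_eq_one_right (hsq x)
  calc a * b = (a * b)⁻¹ := (hinv _).symm
    _ = b * a := by rw [mul_inv_rev, hinv, hinv]

/-- Data of a cyclic subgroup upstairs from a cyclic subgroup of index two of the quotient by a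
central subgroup of order two. -/
theorem abelian_index_two_of_quotient {G : Type*} [Group G] [Finite G] {n : ℕ} (hn : 2 ≤ n)
    (hG : Nat.card G = 2 ^ n) {Z : Subgroup G} [Z.Normal] (hZ : Z ≤ center G)
    (hZ2 : Nat.card Z = 2) {c : G} (hc : orderOf (c : G ⧸ Z) = 2 ^ (n - 2)) :
    (Z ⊔ zpowers c).index = 2 ∧ IsMulCommutative (Z ⊔ zpowers c : Subgroup G) := by
  have hab : IsMulCommutative (Z ⊔ zpowers c : Subgroup G) :=
    isMulCommutative_sup_zpowers ((isMulCommutative_iff_le_centralizer Z).mpr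
      fun z _ z' hz' => (Subgroup.mem_center_iff.mp (hZ hz') z).symm)
      (fun z hz => (Subgroup.mem_center_iff.mp (hZ hz) c).symm)
  refine ⟨?_, hab⟩
  have hmap : (Z ⊔ zpowers c).map (QuotientGroup.mk' Z) = zpowers (c : G ⧸ Z) := by
    rw [Subgroup.map_sup, QuotientGroup.map_mk'_self, bot_sup_eq, MonoidHom.map_zpowers]; rfl
  have hker : (QuotientGroup.mk' Z).ker ≤ Z ⊔ zpowers c := by
    rw [QuotientGroup.ker_mk']; exact le_sup_left
  have h2 : (Z ⊔ zpowers c).index = (zpowers (c : G ⧸ Z)).index := by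
    rw [← hmap, Subgroup.index_map, MonoidHom.range_eq_top.mpr (QuotientGroup.mk'_surjective Z),
      Subgroup.index_top, mul_one, sup_eq_left.mpr hker]
  have hq : Nat.card (G ⧸ Z) = 2 ^ (n - 1) := by
    have := Subgroup.card_eq_card_quotient_mul_card_subgroup Z
    rw [hG, hZ2, show n = n - 1 + 1 by omega, pow_succ] at this
    exact (Nat.eq_of_mul_eq_mul_right two_pos this).symm
  have h3 := Subgroup.card_mul_index (zpowers (c : G ⧸ Z))
  rw [Nat.card_zpowers, hc, hq, show n - 1 = (n - 2) + 1 by omega, pow_succ] at h3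
  rw [h2]
  exact Nat.eq_of_mul_eq_mul_left (pow_pos two_pos _) h3

/-- A 2-group of maximal class has a cyclic subgroup of index two. -/
theorem exists_orderOf_eq_of_maximalClass {G : Type u} [Group G] [Finite G] {n : ℕ} (hn : 3 ≤ n)
    (hG : Nat.card G = 2 ^ n) (hcl : Group.nilpotencyClass G = n - 1) :
    ∃ c : G, orderOf c = 2 ^ (n - 1) := by
  induction n, hn using Nat.le_induction generalizing G with
  | base =>
    refine exists_orderOf_four hG fun h => ?_
    haveI := (IsPGroup.of_card hG : IsPGroup 2 G).isNilpotent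
    have := Group.IsNilpotent.nilpotencyClass_le_one_iff.mpr h
    omega
  | succ n hn ih =>
    obtain ⟨hZ2, hQ, hQcl⟩ := center_of_maximalClass (p := 2) (by omega) hG hcl
    rw [Nat.add_sub_cancel] at hQ
    obtain ⟨C, hC⟩ := ih (G := G ⧸ center G) hQ (by rw [hQcl]; omega)
    obtain ⟨c, rfl⟩ := QuotientGroup.mk_surjective C
    obtain ⟨hCi, hCab⟩ := abelian_index_two_of_quotient (n := n + 1) (by omega) hG le_rfl hZ2
      (by rw [hC]; congr 1)
    obtain ⟨t, -, ht⟩ := SetLike.not_le_iff_exists.mp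
      (fun h : (⊤ : Subgroup G) ≤ center G ⊔ zpowers c => by
        rw [top_le_iff.mp h, Subgroup.index_top] at hCi; norm_num at hCi)
    have hw := conj_mul_mem_center hCi hCab ht
      (le_sup_right (a := center G) (mem_zpowers c))
    have hw2 : ∀ z ∈ center G, z ^ 2 = 1 := fun z hz =>
      congrArg Subtype.val (show (⟨z, hz⟩ : center G) ^ 2 = 1 by rw [← hZ2, pow_card_eq_one'])
    refine ⟨c, orderOf_eq_prime_pow (p := 2) (n := n - 1) ?_ ?_ |>.trans (by congr 1; omega)⟩
    · intro hc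
      -- the square root of c^(2^(n-1)) would be central
      have hd : c ^ 2 ^ (n - 2) ∈ center G := by
        refine mem_center_of_index_two hCi hCab ht
          (pow_mem (le_sup_right (a := center G) (mem_zpowers c)) _) ?_
        have h1 : t * c * t⁻¹ = (t * c * t⁻¹ * c) * c⁻¹ := (mul_inv_cancel_right _ _).symm
        have h2 : t * c ^ 2 ^ (n - 2) * t⁻¹ = (c ^ 2 ^ (n - 2))⁻¹ := by
          rw [← conj_pow, h1, (show Commute (t * c * t⁻¹ * c) c⁻¹ from
            ((Subgroup.mem_center_iff.mp hw c⁻¹).symm)).mul_pow, inv_pow,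
            show 2 ^ (n - 2) = 2 * 2 ^ (n - 3) by rw [← pow_succ']; congr 1; omega,
            pow_mul (t * c * t⁻¹ * c), hw2 _ hw, one_pow, one_mul]
        have h3 : (c ^ 2 ^ (n - 2))⁻¹ = c ^ 2 ^ (n - 2) := by
          refine inv_eq_of_mul_eq_one_right ?_
          rw [← pow_add, ← two_mul, ← pow_succ']
          convert hc using 3; omega
        rw [h3] at h2
        exact mul_inv_eq_iff_eq_mul.mp h2
      rw [← QuotientGroup.eq_one_iff, QuotientGroup.mk_pow, ← orderOf_dvd_iff_pow_eq_one, hC,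
        Nat.pow_dvd_pow_iff_le_right one_lt_two] at hd
      omega
    · rw [pow_succ, pow_mul]
      refine hw2 _ ?_
      rw [← QuotientGroup.eq_one_iff, QuotientGroup.mk_pow, ← hC, pow_orderOf_eq_one]

/-- Taussky: `|G : G'| = 4` forces maximal class. -/
theorem maximalClass_of_index_commutator {G : Type u} [Group G] [Finite G] {n : ℕ}
    (hG : Nat.card G = 2 ^ n) (h : (commutator G).index = 4) :
    Group.nilpotencyClass G = n - 1 := by
  induction n using Nat.strong_induction_on generalizing G with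
  | _ n ih =>
  have hP : IsPGroup 2 G := IsPGroup.of_card hG
  haveI := hP.isNilpotent
  have hn : 2 ≤ n := by
    have := Subgroup.index_dvd_card (commutator G)
    rwa [h, hG, show 4 = 2 ^ 2 from rfl, Nat.pow_dvd_pow_iff_le_right one_lt_two] at this
  haveI : Nontrivial G := Finite.one_lt_card_iff_nontrivial.mp
    (hG ▸ Nat.one_lt_pow (by omega) one_lt_two)
  by_cases hne : commutator G = ⊥
  · have : n = 2 := by
      rw [hne, Subgroup.index_bot, hG] at h
      exact Nat.pow_right_injective le_rfl (h.trans (show 4 = 2 ^ 2 from rfl))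
    subst this
    exact nilpotencyClass_eq_one ((commutator_eq_bot_iff (G := G)).mp hne)
  have hna : ¬ IsMulCommutative G := fun hc => hne ((commutator_eq_bot_iff (G := G)).mpr hc)
  have hn3 : 3 ≤ n := by
    by_contra hlt
    have hn2 : n = 2 := by omega
    subst hn2
    exact hna (IsPGroup.isMulCommutative_of_card_eq_prime_sq (p := 2) hG)
  rcases hn3.lt_or_eq with hn4 | rfl
  swap
  · refine le_antisymm (nilpotencyClass_le_sub_one (p := 2) (by omega) hG) ?_
    by_contra hlt
    exact hna (Group.IsNilpotent.nilpotencyClass_le_one_iff.mp (by omega))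
  have hi := inf_center_ne_bot hP (N := commutator G) hne
  obtain ⟨z, hz⟩ := exists_prime_orderOf_dvd_card' 2 (dvd_card_of_ne_bot hP hi)
  have hzc : (z : G) ∈ center G := z.2.2
  let Z := zpowers (z : G)
  have hZle : Z ≤ center G := zpowers_le.mpr hzc
  have hZ2 : Nat.card Z = 2 := by rw [Nat.card_zpowers, Subgroup.orderOf_coe, hz]
  haveI : Z.Normal := normal_of_le_center hZle
  have hQ : Nat.card (G ⧸ Z) = 2 ^ (n - 1) := by
    have := Subgroup.card_eq_card_quotient_mul_card_subgroup Z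
    rw [hG, hZ2, show n = n - 1 + 1 by omega, pow_succ] at this
    exact (Nat.eq_of_mul_eq_mul_right two_pos this).symm
  have hmap : commutator (G ⧸ Z) = (commutator G).map (QuotientGroup.mk' Z) := by
    rw [commutator_def, commutator_def, Subgroup.map_commutator,
      Subgroup.map_top_of_surjective _ (QuotientGroup.mk'_surjective Z)]
  have hQidx : (commutator (G ⧸ Z)).index = 4 := by
    rw [hmap, Subgroup.index_map, MonoidHom.range_eq_top.mpr (QuotientGroup.mk'_surjective Z),
      Subgroup.index_top, mul_one, QuotientGroup.ker_mk',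
      sup_eq_left.mpr (zpowers_le.mpr z.2.1 : Z ≤ commutator G), h]
  have hQcl := ih (n - 1) (by omega) hQ hQidx
  obtain ⟨hZQ, -, -⟩ := center_of_maximalClass (p := 2) (by omega) hQ hQcl
  obtain ⟨C, hC⟩ := exists_orderOf_eq_of_maximalClass (by omega) hQ hQcl
  obtain ⟨c, rfl⟩ := QuotientGroup.mk_surjective C
  rw [show n - 1 - 1 = n - 2 by omega] at hC
  obtain ⟨hCi, hCab⟩ := abelian_index_two_of_quotient hn hG hZle hZ2 hC
  set A := Z ⊔ zpowers c
  have hcA : c ∈ A := le_sup_right (a := Z) (mem_zpowers c)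
  obtain ⟨t, -, ht⟩ := SetLike.not_le_iff_exists.mp (fun h : (⊤ : Subgroup G) ≤ A => by
    rw [top_le_iff.mp h, Subgroup.index_top] at hCi; norm_num at hCi)
  set w := t * c * t⁻¹ * c with hwdef
  clear_value w
  have hw : w ∈ center G := hwdef.symm ▸ conj_mul_mem_center hCi hCab ht hcA
  have hwc : Commute w c := (Subgroup.mem_center_iff.mp hw c).symm
  have htc : t * c * t⁻¹ = w * c⁻¹ := by rw [hwdef, mul_inv_cancel_right]
  set d := c ^ 2 ^ (n - 3) with hd
  have hdQ : (d : G ⧸ Z) ≠ 1 := by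
    rw [hd, QuotientGroup.mk_pow, ne_eq, ← orderOf_dvd_iff_pow_eq_one, hC,
      Nat.pow_dvd_pow_iff_le_right one_lt_two]
    omega
  -- d is not central
  have hdn : d ∉ center G := by
    intro hdc
    have h1 : d⁻¹ * w ^ 2 ^ (n - 3) = d := by
      have h2 : t * d * t⁻¹ = d :=
        mul_inv_eq_iff_eq_mul.mpr (Subgroup.mem_center_iff.mp hdc t)
      rw [hd, ← conj_pow, htc, hwc.inv_right.mul_pow, inv_pow, ← hd] at h2
      rwa [(Subgroup.mem_center_iff.mp (pow_mem hw _) d⁻¹)]
    set u := c⁻¹ * c⁻¹ * w with hu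
    have hupow : u ^ 2 ^ (n - 3) = 1 := by
      rw [hu, (show Commute (c⁻¹ * c⁻¹) w from Subgroup.mem_center_iff.mp hw _).mul_pow,
        (Commute.refl c⁻¹).mul_pow, inv_pow, ← hd, mul_assoc, h1, inv_mul_cancel]
    have htu : t * u * t⁻¹ = u⁻¹ := by
      rw [hu, ← conj_mul, ← conj_mul, show t * w * t⁻¹ = w from
        mul_inv_eq_iff_eq_mul.mpr (Subgroup.mem_center_iff.mp hw t),
        show t * c⁻¹ * t⁻¹ = (t * c * t⁻¹)⁻¹ by group, htc]
      have hcw : c * w⁻¹ = w⁻¹ * c := (hwc.inv_left.symm).eq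
      calc (w * c⁻¹)⁻¹ * (w * c⁻¹)⁻¹ * w = c * w⁻¹ * (c * w⁻¹) * w := by group
        _ = w⁻¹ * c * c := by rw [mul_assoc, inv_mul_cancel_right, hcw]
        _ = (c⁻¹ * c⁻¹ * w)⁻¹ := by rw [mul_inv_rev, mul_inv_rev, inv_inv, ← mul_assoc]
    have hu_mem : u ∈ A := by
      rw [hu]
      refine mul_mem (mul_mem (inv_mem hcA) (inv_mem hcA)) ?_
      rw [hwdef]
      exact mul_mem ((Subgroup.normal_of_index_eq_two hCi).conj_mem c hcA t) hcA
    let I := zpowers u
    haveI hIn : I.Normal := by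
      constructor
      intro x hx g
      obtain ⟨k, rfl⟩ := Subgroup.mem_zpowers_iff.mp hx
      rw [← conj_zpow]
      refine zpow_mem ?_ k
      by_cases hg : g ∈ A
      · rw [show g * u * g⁻¹ = u from mul_inv_eq_iff_eq_mul.mpr
          (congrArg Subtype.val (hCab.is_comm.comm ⟨g, hg⟩ ⟨u, hu_mem⟩))]
        exact mem_zpowers u
      · have hmem : g * t⁻¹ ∈ A := (Subgroup.mul_mem_iff_of_index_two hCi).mpr
          ⟨fun h => absurd h hg, fun h => absurd (inv_mem_iff.mp h) ht⟩
        have h7 : g * t⁻¹ * u⁻¹ = u⁻¹ * (g * t⁻¹) :=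
          congrArg Subtype.val (hCab.is_comm.comm ⟨_, hmem⟩ ⟨_, inv_mem hu_mem⟩)
        rw [show g * u * g⁻¹ = (g * t⁻¹) * (t * u * t⁻¹) * (g * t⁻¹)⁻¹ by group, htu, h7,
          mul_inv_cancel_right]
        exact inv_mem (mem_zpowers u)
    -- the quotient by I is abelian
    have hta : ∀ a ∈ A, Commute (t : G ⧸ I) (a : G ⧸ I) := by
      have hle : A ≤ (centralizer ({(t : G ⧸ I)} : Set (G ⧸ I))).comap (QuotientGroup.mk' I) := by
        refine sup_le (fun z hz => mem_centralizer_singleton_iff.mpr ?_)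
          (zpowers_le.mpr (mem_centralizer_singleton_iff.mpr ?_))
        · show (z : G ⧸ I) * t = t * z
          rw [← QuotientGroup.mk_mul, ← QuotientGroup.mk_mul, Subgroup.mem_center_iff.mp (hZle hz) t]
        · show (c : G ⧸ I) * t = t * c
          refine (commutatorElement_eq_one_iff_mul_comm.mp ?_).symm
          rw [← QuotientGroup.mk'_apply, ← QuotientGroup.mk'_apply, ← map_commutatorElement,
            QuotientGroup.mk'_apply, QuotientGroup.eq_one_iff]
          have h4 : ⁅t, c⁆ = u := by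
            rw [commutatorElement_def, htc, hu, mul_assoc, Subgroup.mem_center_iff.mp hw]
          rw [h4]
          exact mem_zpowers u
      intro a ha
      exact (mem_centralizer_singleton_iff.mp (hle ha)).symm
    have haa : ∀ a ∈ A, ∀ b ∈ A, Commute (a : G ⧸ I) (b : G ⧸ I) := fun a ha b hb => by
      have h5 : a * b = b * a := congrArg Subtype.val (hCab.is_comm.comm ⟨a, ha⟩ ⟨b, hb⟩)
      show (a : G ⧸ I) * b = b * a
      rw [← QuotientGroup.mk_mul, ← QuotientGroup.mk_mul, h5]
    have hdec : ∀ g : G, ∃ a ∈ A, (g : G ⧸ I) = a ∨ (g : G ⧸ I) = t * a := fun g => by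
      by_cases hg : g ∈ A
      · exact ⟨g, hg, Or.inl rfl⟩
      · exact ⟨t⁻¹ * g, (Subgroup.mul_mem_iff_of_index_two hCi).mpr
          ⟨fun h => absurd (inv_mem_iff.mp h) ht, fun h => absurd h hg⟩,
          Or.inr (by rw [← QuotientGroup.mk_mul, mul_inv_cancel_left])⟩
    have hall : ∀ g g' : G, Commute (g : G ⧸ I) (g' : G ⧸ I) := by
      intro g g'
      obtain ⟨a, ha, h1'⟩ := hdec g
      obtain ⟨b, hb, h2'⟩ := hdec g'
      rcases h1' with h1' | h1' <;> rcases h2' with h2' | h2' <;> rw [h1', h2']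
      · exact haa a ha b hb
      · exact (hta a ha).symm.mul_right (haa a ha b hb)
      · exact (hta b hb).mul_left (haa a ha b hb)
      · exact ((Commute.refl _).mul_right (hta b hb)).mul_left
          ((hta a ha).symm.mul_right (haa a ha b hb))
    have hGI : commutator G ≤ I := by
      rw [commutator_eq_closure, Subgroup.closure_le]
      rintro _ ⟨g, g', rfl⟩
      rw [SetLike.mem_coe, ← QuotientGroup.eq_one_iff, ← QuotientGroup.mk'_apply,
        map_commutatorElement, commutatorElement_eq_one_iff_mul_comm]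
      exact (hall g g').eq
    have hIcard : Nat.card I ≤ 2 ^ (n - 3) := by
      rw [Nat.card_zpowers]
      exact orderOf_le_of_pow_eq_one (pow_pos two_pos _) hupow
    have hG' : Nat.card (commutator G) = 2 ^ (n - 2) := by
      have := Subgroup.card_mul_index (commutator G)
      rw [h, hG, show n = n - 2 + 2 by omega, pow_add] at this
      exact Nat.eq_of_mul_eq_mul_right (show 0 < 4 by norm_num) this
    have h6 := (hG' ▸ (Subgroup.card_le_of_le hGI)).trans hIcard
    rw [Nat.pow_le_pow_iff_right one_lt_two] at h6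
    omega
  -- so the centre is Z
  have hcenter : center G = Z := by
    refine le_antisymm (fun g hg => ?_) hZle
    have hgA : g ∈ A := by
      by_contra hgA
      refine hdn (mem_center_of_index_two hCi hCab hgA (pow_mem hcA _) ?_)
      exact (Subgroup.mem_center_iff.mp hg _).symm
    have hgQ : (g : G ⧸ Z) ∈ zpowers (c : G ⧸ Z) := by
      have hle : A ≤ (zpowers (c : G ⧸ Z)).comap (QuotientGroup.mk' Z) :=
        sup_le (fun x hx => by
          rw [Subgroup.mem_comap, QuotientGroup.mk'_apply, (QuotientGroup.eq_one_iff x).mpr hx]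
          exact one_mem _) (zpowers_le.mpr (mem_zpowers _))
      exact hle hgA
    obtain ⟨k, hk⟩ := Subgroup.mem_zpowers_iff.mp hgQ
    have hgc : (g : G ⧸ Z) ∈ center (G ⧸ Z) := by
      rw [Subgroup.mem_center_iff]
      intro q
      obtain ⟨q, rfl⟩ := QuotientGroup.mk_surjective q
      rw [← QuotientGroup.mk_mul, ← QuotientGroup.mk_mul, Subgroup.mem_center_iff.mp hg q]
    have hg2 : (g : G ⧸ Z) ^ 2 = 1 := congrArg Subtype.val
      (show (⟨_, hgc⟩ : center (G ⧸ Z)) ^ 2 = 1 by rw [← hZQ, pow_card_eq_one'])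
    rw [← hk, ← zpow_natCast, ← zpow_mul, ← orderOf_dvd_iff_zpow_eq_one, hC,
      show n - 2 = n - 3 + 1 by omega, pow_succ] at hg2
    push_cast at hg2
    obtain ⟨q, rfl⟩ := (mul_dvd_mul_iff_right two_ne_zero).mp hg2
    have hdd : (d : G ⧸ Z) ^ (2 : ℤ) = 1 := by
      rw [hd, QuotientGroup.mk_pow, ← zpow_natCast, ← zpow_mul, ← orderOf_dvd_iff_zpow_eq_one, hC,
        show n - 2 = n - 3 + 1 by omega, pow_succ]
      push_cast
      exact dvd_rfl
    have hgd : (g : G ⧸ Z) = (d : G ⧸ Z) ^ q := by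
      rw [← hk, hd, QuotientGroup.mk_pow, ← zpow_natCast, ← zpow_mul]
      norm_cast
    rw [← QuotientGroup.eq_one_iff, hgd]
    rcases Int.even_or_odd' q with ⟨m, rfl | rfl⟩
    · rw [zpow_mul, hdd, one_zpow]
    · refine absurd ?_ hdn
      rw [zpow_add, zpow_mul, hdd, one_zpow, one_mul, zpow_one, QuotientGroup.eq] at hgd
      simpa using mul_mem hg (hZle hgd)
  clear_value Z
  subst hcenter
  exact maximalClass_of_quotient_center (p := 2) (by omega) hG
    (by rw [hQcl]; omega)

/-- The structure of a 2-group of maximal class: c of order `2^(n-1)`, t outside `⟨c⟩` with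
`t² ∈ Z = {1, w}` and `t c t⁻¹ ∈ Z c⁻¹`. -/
theorem maximalClass_two_structure {G : Type u} [Group G] [Finite G] {n : ℕ} (hn : 3 ≤ n)
    (hG : Nat.card G = 2 ^ n) (hcl : Group.nilpotencyClass G = n - 1) :
    ∃ c t : G, orderOf c = 2 ^ (n - 1) ∧ t ∉ zpowers c ∧
      (∀ y : G, y ∈ zpowers c ∨ t⁻¹ * y ∈ zpowers c) ∧ center G = zpowers (c ^ 2 ^ (n - 2)) ∧
      (c ^ 2 ^ (n - 2)) ^ 2 = 1 ∧
      (t * t = 1 ∨ t * t = c ^ 2 ^ (n - 2)) ∧
      (t * c * t⁻¹ = c⁻¹ ∨ t * c * t⁻¹ = c ^ 2 ^ (n - 2) * c⁻¹) := by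
  obtain ⟨c, hc⟩ := exists_orderOf_eq_of_maximalClass hn hG hcl
  obtain ⟨hZ2, -, -⟩ := center_of_maximalClass (p := 2) hn hG hcl
  have hCi : (zpowers c).index = 2 := by
    have h := Subgroup.card_mul_index (zpowers c)
    rw [Nat.card_zpowers, hc, hG, ← mul_pow_sub_one (show n ≠ 0 by omega) (2 : ℕ),
      mul_comm 2 (2 ^ (n - 1))] at h
    exact Nat.eq_of_mul_eq_mul_left (pow_pos two_pos (n - 1)) h
  have hCab : IsMulCommutative (zpowers c) := inferInstance
  obtain ⟨t, -, ht⟩ := SetLike.not_le_iff_exists.mp (fun h : (⊤ : Subgroup G) ≤ zpowers c => by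
    rw [top_le_iff.mp h, Subgroup.index_top] at hCi; norm_num at hCi)
  have hdec : ∀ y : G, y ∈ zpowers c ∨ t⁻¹ * y ∈ zpowers c := fun y => or_iff_not_imp_left.mpr
    fun hy => (Subgroup.mul_mem_iff_of_index_two hCi).mpr
      ⟨fun h => absurd (inv_mem_iff.mp h) ht, fun h => absurd h hy⟩
  -- the centre is inside zpowers c
  have hna : ¬ IsMulCommutative G := fun h => by
    haveI := (IsPGroup.of_card hG : IsPGroup 2 G).isNilpotent
    have := Group.IsNilpotent.nilpotencyClass_le_one_iff.mpr h; omega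
  have hZC : center G ≤ zpowers c := by
    intro z hz
    by_contra hzc
    have hcc : c ∈ center G := mem_center_of_index_two hCi hCab hzc (mem_zpowers c)
      (Subgroup.mem_center_iff.mp hz c).symm
    refine hna (Subgroup.center_eq_top_iff.mp (eq_top_iff.mpr fun y _ => ?_))
    rcases (or_iff_not_imp_left.mpr fun hy => (Subgroup.mul_mem_iff_of_index_two hCi).mpr
      ⟨fun h => absurd (inv_mem_iff.mp h) hzc, fun h => absurd h hy⟩ :
        y ∈ zpowers c ∨ z⁻¹ * y ∈ zpowers c) with hy | hy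
    · exact zpowers_le.mpr hcc hy
    · have := mul_mem hz (zpowers_le.mpr hcc hy)
      rwa [mul_inv_cancel_left] at this
  have hw1 : (c ^ 2 ^ (n - 2)) ^ 2 = 1 := by
    rw [← pow_mul, ← pow_succ, show n - 2 + 1 = n - 1 by omega, ← hc, pow_orderOf_eq_one]
  have hZeq : center G = zpowers (c ^ 2 ^ (n - 2)) := by
    have hord : orderOf (c ^ 2 ^ (n - 2)) = 2 := by
      refine orderOf_eq_prime hw1 fun h => ?_
      rw [← orderOf_dvd_iff_pow_eq_one, hc, Nat.pow_dvd_pow_iff_le_right one_lt_two] at h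
      omega
    refine Subgroup.eq_of_le_of_card_ge (fun z hz => ?_) (by rw [Nat.card_zpowers, hord, hZ2])
    obtain ⟨k, rfl⟩ := Subgroup.mem_zpowers_iff.mp (hZC hz)
    have h2 : (c ^ k) ^ 2 = 1 :=
      congrArg Subtype.val (show (⟨c ^ k, hz⟩ : center G) ^ 2 = 1 by rw [← hZ2, pow_card_eq_one'])
    rw [← zpow_natCast, ← zpow_mul, ← orderOf_dvd_iff_zpow_eq_one, hc,
      show n - 1 = n - 2 + 1 by omega, pow_succ] at h2
    push_cast at h2
    obtain ⟨q, rfl⟩ := (mul_dvd_mul_iff_right two_ne_zero).mp h2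
    refine Subgroup.mem_zpowers_iff.mpr ⟨q, ?_⟩
    rw [← zpow_natCast, ← zpow_mul]
    norm_cast
  have hmem : ∀ x ∈ center G, x = 1 ∨ x = c ^ 2 ^ (n - 2) := by
    intro x hx
    rw [hZeq] at hx
    obtain ⟨k, rfl⟩ := Subgroup.mem_zpowers_iff.mp hx
    rcases Int.even_or_odd' k with ⟨m, rfl | rfl⟩
    · left; rw [zpow_mul, zpow_two, ← sq, hw1, one_zpow]
    · right; rw [zpow_add, zpow_mul, zpow_two, ← sq, hw1, one_zpow, one_mul, zpow_one]
  refine ⟨c, t, hc, ht, hdec, hZeq, hw1, ?_, ?_⟩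
  · refine hmem _ (mem_center_of_index_two hCi hCab ht ?_ ((Commute.refl t).mul_right (Commute.refl t)))
    have := Subgroup.sq_mem_of_index_two hCi t
    rwa [sq] at this
  · rcases hmem _ (conj_mul_mem_center hCi hCab ht (mem_zpowers c)) with h | h
    · left; exact eq_inv_of_mul_eq_one_left h
    · right; rw [← h, mul_inv_cancel_right]

/-- Dihedral, semidihedral or quaternion. -/
theorem maximalClass_two_classification {G : Type u} [Group G] [Finite G] {n : ℕ} (hn : 3 ≤ n)
    (hG : Nat.card G = 2 ^ n) (hcl : Group.nilpotencyClass G = n - 1) :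
    (∃ k : ℕ, Nonempty (G ≃* DihedralGroup (2 ^ (k + 2)))) ∨
      (∃ k : ℕ, Nat.card G = 2 ^ (k + 4) ∧ ∃ a b : G, orderOf a = 2 ^ (k + 3) ∧ orderOf b = 2 ∧
        b * a * b⁻¹ = a ^ (2 ^ (k + 2) - 1)) ∨
      (∃ k : ℕ, Nonempty (G ≃* QuaternionGroup (2 ^ (k + 1)))) := by
  obtain ⟨c, t, hc, ht, hdec, hZ, hw1, ht2, htc⟩ := maximalClass_two_structure hn hG hcl
  rcases htc with htc | htc
  · rcases ht2 with ht2 | ht2
    · refine Or.inl ⟨n - 3, CfsgLib.Classical.nonempty_mulEquiv_dihedralGroup (pow_pos two_pos _)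
        (x := c) (s := t) ?_ ht2 htc ht ?_⟩
      · rw [hc]; congr 1; omega
      · rw [hG, ← pow_succ']; congr 1; omega
    · refine Or.inr (Or.inr ⟨n - 3, ?_⟩)
      haveI : NeZero (2 ^ (n - 3 + 1)) := ⟨pow_ne_zero _ two_ne_zero⟩
      refine nonempty_mulEquiv_quaternionGroup (x := c) (g := t) ?_ htc ?_ hdec ht
      · rw [hc, ← pow_succ']; congr 1; omega
      · rw [sq, ht2]; congr 2; omega
  · have hn4 : 4 ≤ n := by
      by_contra hlt
      obtain rfl : n = 3 := by omega
      have h1 : c ^ 2 ^ (3 - 2) * c⁻¹ = c := by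
        rw [show 2 ^ (3 - 2) = 2 from rfl, sq, mul_inv_cancel_right]
      rw [h1] at htc
      have hcc : c ∈ center G := by
        rw [Subgroup.mem_center_iff]
        intro y
        rcases hdec y with hy | hy
        · obtain ⟨k, rfl⟩ := Subgroup.mem_zpowers_iff.mp hy
          exact ((Commute.refl c).zpow_left k).eq
        · obtain ⟨k, hk⟩ := Subgroup.mem_zpowers_iff.mp hy
          rw [show y = t * c ^ k by rw [hk, mul_inv_cancel_left]]
          exact ((show Commute t c from mul_inv_eq_iff_eq_mul.mp htc).mul_left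
            ((Commute.refl c).zpow_left k)).eq
      rw [hZ] at hcc
      have := orderOf_dvd_of_mem_zpowers hcc
      rw [hc] at this
      have h4 := Nat.le_of_dvd (orderOf_pos _) (this.trans dvd_rfl)
      have h5 : orderOf (c ^ 2 ^ (3 - 2)) ≤ 2 := orderOf_le_of_pow_eq_one two_pos hw1
      norm_num at h4 h5
      omega
    have hcw : Commute c (c ^ 2 ^ (n - 2)) := (Commute.refl c).pow_right _
    obtain ⟨b, hb, hb2, hbc⟩ : ∃ b : G, b ∉ zpowers c ∧ b * b = 1 ∧
        b * c * b⁻¹ = c ^ 2 ^ (n - 2) * c⁻¹ := by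
      rcases ht2 with ht2 | ht2
      · exact ⟨t, ht, ht2, htc⟩
      · refine ⟨t * c, fun h => ht ?_, ?_, ?_⟩
        · have := mul_mem h (inv_mem (mem_zpowers c))
          rwa [mul_inv_cancel_right] at this
        · calc t * c * (t * c) = (t * c * t⁻¹) * (t * t) * c := by group
            _ = c ^ 2 ^ (n - 2) * c⁻¹ * c ^ 2 ^ (n - 2) * c := by rw [htc, ht2]
            _ = 1 := by
              rw [mul_assoc (c ^ 2 ^ (n - 2)), hcw.inv_left.eq, ← mul_assoc, ← sq, hw1, one_mul,
                inv_mul_cancel]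
        · rw [← htc]; group
    refine Or.inr (Or.inl ⟨n - 4, ?_, c, b, ?_, ?_, ?_⟩)
    · rw [hG]; congr 1; omega
    · rw [hc]; congr 1; omega
    · exact orderOf_eq_prime (by rw [sq, hb2]) fun h => hb (h ▸ one_mem _)
    · rw [hbc, show n - 4 + 2 = n - 2 by omega, pow_sub c (Nat.one_le_pow _ _ two_pos), pow_one]

end CfsgLib.PGroups
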