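import Cfsg.Agent.Lib.PGroups.Basic

/-!
# Generating sets of p-groups and three subgroup lemma for normal subgroups
-/

set_option linter.unusedSectionVars false
set_option linter.style.haveILetI false

namespace CfsgLib.PGroups

open Subgroup
open scoped commutatorElement

variable {G : Type*} [Group G] {p : ℕ} [Fact p.Prime]

/-- A finite p-group is generated by at most d elements where `p^d = |G : Φ(G)|`. -/
theorem exists_finset_closure_eq_top [Finite G] (hG : IsPGroup p G) :
    ∃ S : Finset G, closure (S : Set G) = ⊤ ∧ p ^ S.card ≤ (frattini G).index := by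
  classical
  suffices H : ∀ k, ∀ K : Subgroup G, K.index ≤ k → ∃ S : Finset G,
      K ⊔ closure (S : Set G) = ⊤ ∧ p ^ S.card ≤ K.index by
    obtain ⟨S, h1, h2⟩ := H _ (frattini G) le_rfl
    exact ⟨S, frattini_nongenerating (by rw [sup_comm]; exact h1), h2⟩
  intro k
  induction k with
  | zero => exact fun K hK => absurd (Nat.le_zero.mp hK) FiniteIndex.index_ne_zero
  | succ k ih =>
    intro K hK
    by_cases hKtop : K = ⊤
    · exact ⟨∅, by simp [hKtop], by simp [hKtop]⟩
    obtain ⟨x, -, hx⟩ := SetLike.exists_of_lt (lt_top_iff_ne_top.mpr hKtop)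
    have hlt : K < K ⊔ zpowers x :=
      lt_of_le_not_ge le_sup_left fun hle => hx (hle (le_sup_right (a := K) (mem_zpowers x)))
    have hmul := relIndex_mul_index hlt.le
    obtain ⟨e, he⟩ := (hG.to_subgroup (K ⊔ zpowers x)).index (K.subgroupOf (K ⊔ zpowers x))
    have he' : K.relIndex (K ⊔ zpowers x) = p ^ e := he
    have he1 : p ≤ p ^ e := by
      rcases e with _ | e
      · exact absurd (relIndex_eq_one.mp (he'.trans (pow_zero p))) hlt.not_ge
      · exact Nat.le_self_pow (Nat.succ_ne_zero e) p
    have hpos : 0 < (K ⊔ zpowers x).index := Nat.pos_of_ne_zero FiniteIndex.index_ne_zero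
    have hsmall : (K ⊔ zpowers x).index ≤ k := by
      have h2 : 2 * (K ⊔ zpowers x).index ≤ K.index := by
        rw [← hmul, he']
        exact Nat.mul_le_mul_right _ ((Fact.out : p.Prime).two_le.trans he1)
      omega
    obtain ⟨S, h1, h2⟩ := ih _ hsmall
    refine ⟨insert x S, ?_, ?_⟩
    · rw [← top_le_iff, ← h1]
      refine sup_le (sup_le le_sup_left (zpowers_le.mpr ?_)) ?_
      · exact le_sup_right (a := K) (subset_closure (by simp))
      · exact le_sup_of_le_right (closure_mono (by simp))
    · refine (Nat.pow_le_pow_right (Fact.out : p.Prime).pos (Finset.card_insert_le x S)).trans ?_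
      rw [pow_succ, ← hmul, he', mul_comm (p ^ e)]
      exact Nat.mul_le_mul h2 he1

/-- The three subgroup lemma for normal subgroups. -/
theorem commutator_commutator_le_sup {X A B : Subgroup G} [X.Normal] [A.Normal] [B.Normal] :
    ⁅X, ⁅A, B⁆⁆ ≤ ⁅⁅X, A⁆, B⁆ ⊔ ⁅⁅X, B⁆, A⁆ := by
  set N := ⁅⁅X, A⁆, B⁆ ⊔ ⁅⁅X, B⁆, A⁆ with hN
  let f := QuotientGroup.mk' N
  have h1 : ⁅⁅A.map f, B.map f⁆, X.map f⁆ = ⊥ := by
    refine commutator_commutator_eq_bot_of_rotate ?_ ?_
    · rw [← map_commutator, ← map_commutator, Subgroup.map_eq_bot_iff, QuotientGroup.ker_mk',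
        Subgroup.commutator_comm B X]
      exact le_sup_right
    · rw [← map_commutator, ← map_commutator, Subgroup.map_eq_bot_iff, QuotientGroup.ker_mk']
      exact le_sup_left
  rw [← map_commutator, ← map_commutator, Subgroup.map_eq_bot_iff, QuotientGroup.ker_mk',
    Subgroup.commutator_comm] at h1
  exact h1

end CfsgLib.PGroups
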