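import Cfsg.Agent.Lib.PGroups.MaxAbelian
import Cfsg.Agent.Lib.PGroups.Commutator

/-!
# Alperin's lemma on maximal abelian normal subgroups of bounded exponent,
and the bound on the index of the centralizer of a normal subgroup
-/

set_option linter.unusedSectionVars false
set_option linter.style.haveILetI false

namespace CfsgLib.PGroups

open Subgroup
open scoped commutatorElement

variable {G : Type*} [Group G] {p : ℕ} [Fact p.Prime]

/-- The power formula when the commutator commutes with both elements. -/
theorem mul_pow_of_commute {a b : G} (ha : Commute ⁅b, a⁆ a) (hb : Commute ⁅b, a⁆ b) (n : ℕ) :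
    (a * b) ^ n = a ^ n * b ^ n * ⁅b, a⁆ ^ n.choose 2 := by
  let K := Subgroup.closure ({a, b} : Set G)
  let a' : K := ⟨a, subset_closure (by simp)⟩
  let b' : K := ⟨b, subset_closure (by simp)⟩
  have hc : ⁅b', a'⁆ ∈ center K := by
    rw [Subgroup.mem_center_iff]
    rintro ⟨g, hg⟩
    apply Subtype.ext
    simp only [Subgroup.coe_mul]
    show g * ⁅b, a⁆ = ⁅b, a⁆ * g
    exact ((closure_le (centralizer ({⁅b, a⁆} : Set G))).mpr (by
      intro y hy
      rcases hy with rfl | rfl
      · exact mem_centralizer_singleton_iff.mpr ha.eq.symm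
      · exact mem_centralizer_singleton_iff.mpr hb.eq.symm) hg) |>
      mem_centralizer_singleton_iff.mp
  exact congrArg Subtype.val (mul_pow_of_central hc n)

/-- Alperin: let A be maximal among abelian normal subgroups of exponent dividing `q = p^n ≠ 2`.
Then A contains every element of order dividing q of its centralizer. -/
theorem mem_of_maximal_abelian_exponent [Finite G] (hG : IsPGroup p G) {n : ℕ} (hn : p ^ n ≠ 2)
    {A : Subgroup G} [A.Normal] (hA : IsMulCommutative A) (hAe : ∀ a ∈ A, a ^ p ^ n = 1)
    (hmax : ∀ B : Subgroup G, B.Normal → IsMulCommutative B → (∀ b ∈ B, b ^ p ^ n = 1) → A ≤ B →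
      B = A) {x : G} (hx : x ∈ centralizer (A : Set G)) (hxn : x ^ p ^ n = 1) : x ∈ A := by
  have hp : p.Prime := Fact.out
  by_cases hn0 : n = 0
  · subst hn0
    simp only [pow_zero, pow_one] at hxn
    exact hxn ▸ one_mem A
  have hch : p ∣ (p ^ n).choose 2 := by
    refine hp.dvd_choose_pow two_ne_zero fun h => hn h.symm
  haveI := hG.isNilpotent
  obtain ⟨c, hc⟩ := Subgroup.nilpotent_iff_lowerCentralSeries.mp ‹Group.IsNilpotent G›
  set γ := (⊤ : Subgroup G).lowerCentralSeries with hγ
  have hγm : ∀ {i : ℕ} {a : G} (b : G), a ∈ γ i → ⁅a, b⁆ ∈ γ (i + 1) := fun b ha =>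
    commutator_mem_commutator ha (mem_top b)
  have hγ' : ∀ {i : ℕ} {a : G} (b : G), a ∈ γ i → ⁅b, a⁆ ∈ γ (i + 1) := fun {i a} b ha => by
    rw [← commutatorElement_inv a b]; exact inv_mem (hγm b ha)
  have hCA : ∀ {y g : G}, y ∈ centralizer (A : Set G) → g * y * g⁻¹ ∈ centralizer (A : Set G) :=
    fun {y g} hy => (inferInstance : (centralizer (A : Set G)).Normal).conj_mem y hy g
  suffices main : ∀ d i, i + d = c → ∀ y ∈ γ i, y ∈ centralizer (A : Set G) → y ^ p ∈ A →
      y ^ p ^ n = 1 → y ∈ A by
    by_contra hxA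
    have hex : ∃ k, x ^ p ^ k ∈ A := ⟨n, hxn ▸ one_mem A⟩
    classical
    have hk := Nat.find_spec hex
    obtain ⟨k, hk'⟩ : ∃ k, Nat.find hex = k + 1 := by
      refine ⟨Nat.find hex - 1, ?_⟩
      have : Nat.find hex ≠ 0 := fun h0 => hxA (by simpa [h0] using hk)
      omega
    have hlow : x ^ p ^ k ∉ A := Nat.find_min hex (by omega)
    refine hlow (main c 0 (by omega) _ (by simp [hγ]) (pow_mem hx _) ?_ ?_)
    · rw [← pow_mul, ← pow_succ, ← hk']; exact hk
    · rw [← pow_mul, mul_comm, pow_mul, hxn, one_pow]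
  intro d
  induction d with
  | zero =>
    intro i hi y hy _ _ _
    rw [Nat.add_zero] at hi
    subst hi
    rw [hc, mem_bot] at hy
    exact hy ▸ one_mem A
  | succ d ih =>
    intro i hi y hy hyC hyp hyn
    have key : ∀ e k, k + e = c → ∀ g ∈ γ k, y⁻¹ * (g * y * g⁻¹) ∈ A := by
      intro e
      induction e with
      | zero =>
        intro k hk g hg
        rw [Nat.add_zero] at hk
        subst hk
        rw [hc, mem_bot] at hg
        simp [hg]
      | succ e ihe =>
        intro k hk g hg
        set z := g * y * g⁻¹ with hz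
        have hzC : z ∈ centralizer (A : Set G) := hCA hyC
        have h1 := ihe (k + 1) (by omega) ⁅g, y⁆ (hγm y hg)
        -- the commutator of the two conjugates lies in A
        have hu : ⁅z, y⁆ ∈ A := by
          have hcm : y * (y⁻¹ * (⁅g, y⁆ * y * ⁅g, y⁆⁻¹)) = y⁻¹ * (⁅g, y⁆ * y * ⁅g, y⁆⁻¹) * y :=
            (hyC _ h1).symm
          have : ⁅z, y⁆ = y⁻¹ * (⁅g, y⁆ * y * ⁅g, y⁆⁻¹) := by
            rw [show ⁅z, y⁆ = ⁅g, y⁆ * y * ⁅g, y⁆⁻¹ * y⁻¹ by
              simp [hz, commutatorElement_def, mul_assoc]]
            rw [mul_inv_eq_iff_eq_mul, ← hcm, mul_inv_cancel_left]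
          rwa [this]
        have hzp : z ^ p ∈ A := by
          rw [hz, conj_pow]; exact (inferInstance : A.Normal).conj_mem _ hyp g
        have hzn : z ^ p ^ n = 1 := by rw [hz, conj_pow, hyn, mul_one, mul_inv_cancel]
        have hu' : ⁅z, y⁻¹⁆ = ⁅z, y⁆⁻¹ := by
          rw [commutatorElement_inv_right, ← commutatorElement_inv z y]
          have := hyC _ (inv_mem hu)
          rw [mul_assoc, this, inv_mul_cancel_left]
        have cy : Commute ⁅z, y⁻¹⁆ y⁻¹ := by
          rw [hu']; exact (show Commute ⁅z, y⁆ y from hyC _ hu).inv_inv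
        have cz : Commute ⁅z, y⁻¹⁆ z := by
          rw [hu']; exact (show Commute ⁅z, y⁆ z from hzC _ hu).inv_left
        have hup : ⁅z, y⁻¹⁆ ^ p = 1 := by
          have h2 := mul_pow_of_commute cy cz
          rw [hu', inv_pow, inv_eq_one]
          have h3 : ∀ m : ℕ, ⁅z, y⁆ ^ m = ⁅z, y ^ m⁆ := by
            have cc : Commute ⁅z, y⁆ y := hyC _ hu
            intro m
            induction m with
            | zero => simp
            | succ m ihm =>
              rw [pow_succ, pow_succ', commutatorElement_mul_right_eq_mul_conj, ← ihm]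
              have : y * ⁅z, y⁆ ^ m * y⁻¹ = ⁅z, y⁆ ^ m := by
                rw [← (cc.pow_left m).eq, mul_inv_cancel_right]
              rw [mul_assoc, mul_assoc, ← mul_assoc y (⁅z, y⁆ ^ m) y⁻¹, this]
              exact ((Commute.refl ⁅z, y⁆).pow_left m).eq
          rw [h3 p, commutatorElement_eq_one_iff_mul_comm]
          exact (hzC _ hyp).symm
        refine ih (i + 1) (by omega) _ ?_ (mul_mem (inv_mem hyC) hzC) ?_ ?_
        · rw [show y⁻¹ * z = ⁅y⁻¹, g⁆ by simp [hz, commutatorElement_def, mul_assoc]]
          exact hγm g (inv_mem hy)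
        · rw [mul_pow_of_commute cy cz, inv_pow]
          exact mul_mem (mul_mem (inv_mem hyp) hzp) (pow_mem (hu' ▸ inv_mem hu) _)
        · rw [mul_pow_of_commute cy cz, inv_pow, hyn, hzn, inv_one, one_mul, one_mul]
          obtain ⟨m, hm⟩ := hch
          rw [hm, pow_mul, hup, one_pow]
    have hcomm : ∀ g : G, ⁅g, y⁆ ∈ A := by
      intro g
      have h1 := key c 0 (by omega) g (by simp [hγ])
      rw [show ⁅g, y⁆ = y * (y⁻¹ * (g * y * g⁻¹)) * y⁻¹ by simp [commutatorElement_def, mul_assoc]]
      exact (inferInstance : A.Normal).conj_mem _ h1 y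
    have hBn : (A ⊔ zpowers y).Normal := by
      rw [← Subgroup.commutator_top_left_le_iff, Subgroup.commutator_le]
      intro g _ b hb
      obtain ⟨a, ha, t, ht, rfl⟩ := Subgroup.mem_sup_of_normal_left.mp hb
      obtain ⟨j, rfl⟩ := Subgroup.mem_zpowers_iff.mp ht
      refine le_sup_left (b := zpowers y) ?_
      rw [← QuotientGroup.eq_one_iff, ← QuotientGroup.mk'_apply A, map_commutatorElement,
        commutatorElement_eq_one_iff_commute, map_mul, QuotientGroup.mk'_apply A a,
        (QuotientGroup.eq_one_iff a).mpr ha, one_mul, map_zpow]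
      refine Commute.zpow_right ?_ j
      rw [← commutatorElement_eq_one_iff_commute, ← map_commutatorElement, QuotientGroup.mk'_apply,
        QuotientGroup.eq_one_iff]
      exact hcomm g
    have hBab : IsMulCommutative ↥(A ⊔ zpowers y) := isMulCommutative_sup_zpowers hA hyC
    have hBe : ∀ b ∈ A ⊔ zpowers y, b ^ p ^ n = 1 := by
      intro b hb
      obtain ⟨a, ha, t, ht, rfl⟩ := Subgroup.mem_sup_of_normal_left.mp hb
      obtain ⟨j, rfl⟩ := Subgroup.mem_zpowers_iff.mp ht
      have hc12 : Commute a (y ^ j) := (show Commute a y from hyC a ha).zpow_right j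
      rw [hc12.mul_pow, hAe a ha, one_mul, ← zpow_natCast, ← zpow_mul, mul_comm, zpow_mul,
        zpow_natCast, hyn, one_zpow]
    exact hmax _ hBn hBab hBe le_sup_left ▸ le_sup_right (a := A) (mem_zpowers y)

/-- If A is a normal subgroup of order `p^a`, then `|G : C(A)| ≤ p^(a choose 2)`. -/
theorem index_centralizer_le [Finite G] (hG : IsPGroup p G) (a : ℕ) {A : Subgroup G} [A.Normal]
    (hA : Nat.card A = p ^ a) : (centralizer (A : Set G)).index ≤ p ^ a.choose 2 := by
  have hp : p.Prime := Fact.out
  induction a generalizing A with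
  | zero =>
    have : A = ⊥ := Subgroup.card_eq_one.mp (by simpa using hA)
    subst this
    have : centralizer ((⊥ : Subgroup G) : Set G) = ⊤ := by
      rw [eq_top_iff]; intro g _ b hb; rw [SetLike.mem_coe, mem_bot] at hb; simp [hb]
    rw [this, Subgroup.index_top]
    exact Nat.one_le_pow _ _ hp.pos
  | succ a ih =>
    obtain ⟨B, hB, -, hBA, hcard⟩ := exists_normal_card_eq hG (bot_le : ⊥ ≤ A) (k := a)
      (by rw [Subgroup.card_bot]; exact Nat.one_le_pow _ _ hp.pos)
      (by rw [hA]; exact Nat.pow_le_pow_right hp.pos (Nat.le_succ a))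
    haveI := hB
    have hlt : B < A := by
      refine lt_of_le_of_ne hBA fun he => ?_
      rw [he, hA] at hcard
      have := Nat.pow_right_injective hp.two_le hcard
      omega
    obtain ⟨K, hK, hBK, hKA, hrel, hcent⟩ := exists_normal_index_prime hG hlt
    have hKeq : K = A := by
      refine Subgroup.eq_of_le_of_card_ge hKA ?_
      rw [hA, ← Subgroup.relIndex_bot_left, ← Subgroup.relIndex_mul_relIndex ⊥ B K bot_le hBK,
        Subgroup.relIndex_bot_left, hrel, hcard, pow_succ]
    subst hKeq
    obtain ⟨x, hxK, hxB⟩ := SetLike.not_le_iff_exists.mp hlt.not_ge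
    have hgen : K = B ⊔ zpowers x := by
      refine le_antisymm ?_ (sup_le hBA (zpowers_le.mpr hxK))
      have h1 := Subgroup.relIndex_mul_relIndex B (B ⊔ zpowers x) K le_sup_left
        (sup_le hBA (zpowers_le.mpr hxK))
      rw [hrel] at h1
      rcases Nat.prime_mul_iff.mp (h1 ▸ hp) with ⟨_, h⟩ | ⟨_, h⟩
      · exact Subgroup.relIndex_eq_one.mp h
      · exact absurd (Subgroup.relIndex_eq_one.mp h (le_sup_right (a := B) (mem_zpowers x))) hxB
    have hC : centralizer (K : Set G) =
        centralizer (B : Set G) ⊓ centralizer ({x} : Set G) := by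
      rw [hgen]
      refine le_antisymm (le_inf (centralizer_le (le_sup_left : B ≤ B ⊔ zpowers x))
        (centralizer_le ?_)) ?_
      · intro y hy; rw [Set.mem_singleton_iff] at hy
        rw [hy]; exact le_sup_right (a := B) (mem_zpowers x)
      · rw [Subgroup.le_centralizer_iff]
        exact sup_le (fun k hk c hc => (hc.1 k hk).symm)
          (zpowers_le.mpr fun c hc => mem_centralizer_singleton_iff.mp hc.2)
    have h2 : (centralizer (K : Set G)).relIndex (centralizer (B : Set G)) ≤ p ^ a := by
      rw [hC, Subgroup.inf_relIndex_left, ← hcard, Subgroup.relIndex, Subgroup.index]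
      refine Nat.card_le_card_of_injective
        (fun q => Quotient.liftOn' q (fun g => (⟨⁅(g : G), x⁆, hcent x hxK g⟩ : B)) ?_) ?_
      · intro g h hgh
        rw [QuotientGroup.leftRel_apply, Subgroup.mem_subgroupOf, mem_centralizer_singleton_iff] at hgh
        apply Subtype.ext
        show ⁅(g : G), x⁆ = ⁅(h : G), x⁆
        have hh : (h : G) * x * (h : G)⁻¹ = (g : G) * x * (g : G)⁻¹ := by
          have := congrArg (fun z => (g : G) * z * (h : G)⁻¹) hgh
          simpa [mul_assoc] using this
        rw [commutatorElement_def, commutatorElement_def, hh]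
      · intro q₁ q₂ hq
        induction q₁ using QuotientGroup.induction_on with | _ g =>
        induction q₂ using QuotientGroup.induction_on with | _ h =>
        have hq' : ⁅(g : G), x⁆ = ⁅(h : G), x⁆ := congrArg Subtype.val hq
        rw [commutatorElement_def, commutatorElement_def, mul_left_inj] at hq'
        rw [QuotientGroup.eq, Subgroup.mem_subgroupOf, mem_centralizer_singleton_iff]
        have := congrArg (fun z => (g : G)⁻¹ * z * (h : G)) hq'
        simpa [mul_assoc] using this.symm
    calc (centralizer (K : Set G)).index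
        = (centralizer (K : Set G)).relIndex (centralizer (B : Set G)) *
            (centralizer (B : Set G)).index :=
          (Subgroup.relIndex_mul_index (centralizer_le hBA)).symm
      _ ≤ p ^ a * p ^ a.choose 2 := Nat.mul_le_mul h2 (ih hcard)
      _ = _ := by rw [← pow_add, Nat.choose_succ_succ, Nat.choose_one_right]

end CfsgLib.PGroups
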