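/-
Thompson's generation bound for `p`-groups, `p` odd, whose elements of order `p` are central.
-/
import Cfsg.Agent.Lib.PGroups.Omega
import Cfsg.Agent.Lib.PGroups.Generation

set_option autoImplicit false
set_option linter.unusedSectionVars false

namespace CfsgLib.PGroups.OmegaCentral

open Subgroup
open scoped commutatorElement

universe u

variable {p : ℕ} [hp : Fact p.Prime]

/-- The elements of order dividing `p` are central. -/
def Hyp (p : ℕ) (G : Type u) [Group G] : Prop := ∀ x : G, x ^ p = 1 → x ∈ center G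

theorem Hyp.subgroup {G : Type u} [Group G] (h : Hyp p G) (M : Subgroup G) : Hyp p M :=
  fun x hx => Subgroup.mem_center_iff.2 fun y =>
    Subtype.ext (Subgroup.mem_center_iff.1 (h (x : G) (by simpa using congrArg Subtype.val hx)) y)

theorem choose_two_pow (hp2 : p ≠ 2) {G : Type u} [Group G] {c : G} (hc : c ^ p = 1) :
    c ^ p.choose 2 = 1 := by
  obtain ⟨t, ht⟩ := hp.1.dvd_choose_self two_ne_zero
    (lt_of_le_of_ne hp.1.two_le (Ne.symm hp2))
  rw [ht, pow_mul, hc, one_pow]

/-- Elements of order dividing `p²` have commutators of order dividing `p`. -/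
theorem pow_commutator (hp2 : p ≠ 2) : ∀ (n : ℕ) (G : Type u) [Group G] [Finite G],
    Nat.card G = n → IsPGroup p G → Hyp p G →
    ∀ x y : G, (x ^ p) ^ p = 1 → ⁅y, x⁆ ^ p = 1 := by
  intro n
  induction n using Nat.strong_induction_on with
  | _ n ih =>
    intro G _ _ hn hG h x y hx
    set M := zpowers x ⊔ commutator G with hM
    by_cases htop : M = ⊤
    · have hz : zpowers x = ⊤ := frattini_nongenerating (eq_top_iff.2 (htop.ge.trans
        (sup_le_sup_left (commutator_le_frattini hG) _)))
      obtain ⟨k, rfl⟩ := mem_zpowers_iff.1 (hz ▸ mem_top y)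
      rw [commutatorElement_eq_one_iff_commute.2 ((Commute.refl x).zpow_left k), one_pow]
    have hc : ⁅y, x⁆ ∈ M := mem_sup_right (commutator_mem_commutator (mem_top y) (mem_top x))
    have hxM : x ∈ M := mem_sup_left (mem_zpowers x)
    have hlt : Nat.card M < n := hn ▸ lt_of_le_of_ne M.card_le_card_group
      fun e => htop (M.card_eq_iff_eq_top.1 e)
    have h1 := ih _ hlt M rfl (hG.to_subgroup M) (h.subgroup M) ⟨x, hxM⟩ ⟨⁅y, x⁆, hc⟩
      (Subtype.ext (by simpa using hx))
    have h2 : ⁅x, ⁅y, x⁆⁆ ^ p = 1 := by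
      have h3 := congrArg Subtype.val h1
      rw [SubmonoidClass.coe_pow] at h3
      rw [← commutatorElement_inv, inv_pow, inv_eq_one]
      exact h3
    have hz2 := Subgroup.mem_center_iff.1 (h _ h2)
    have hpow := mul_pow_of_commute (a := ⁅y, x⁆) (b := x) (hz2 _).symm (hz2 _).symm p
    rw [choose_two_pow hp2 h2, mul_one, show ⁅y, x⁆ * x = y * x * y⁻¹ by
      rw [commutatorElement_def, inv_mul_cancel_right], conj_pow,
      Subgroup.mem_center_iff.1 (h _ hx) y, mul_inv_cancel_right] at hpow
    exact mul_eq_right.1 hpow.symm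

/-- Thompson: the group is generated by at most `log_p` of the number of solutions of `x ^ p = 1`
many elements. -/
theorem exists_generators (hp2 : p ≠ 2) : ∀ (n : ℕ) (G : Type u) [Group G] [Finite G],
    Nat.card G = n → IsPGroup p G → Hyp p G →
    ∃ S : Finset G, closure (S : Set G) = ⊤ ∧ p ^ S.card ≤ Nat.card {x : G // x ^ p = 1} := by
  intro n
  induction n using Nat.strong_induction_on with
  | _ n ih =>
    intro G _ _ hn hG h
    classical
    haveI : Nonempty {x : G // x ^ p = 1} := ⟨⟨1, one_pow p⟩⟩
    rcases subsingleton_or_nontrivial G with hsub | hnt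
    · refine ⟨∅, Subsingleton.elim _ _, ?_⟩
      rw [Finset.card_empty, pow_zero]
      exact Nat.card_pos
    -- the subgroup of solutions
    let Ω : Subgroup G :=
      { carrier := {x | x ^ p = 1}
        one_mem' := one_pow p
        mul_mem' := fun {a b} (ha : a ^ p = 1) (hb : b ^ p = 1) => by
          show (a * b) ^ p = 1
          rw [Commute.mul_pow (Subgroup.mem_center_iff.1 (h a ha) b).symm, ha, hb, one_mul]
        inv_mem' := fun {a} (ha : a ^ p = 1) => by
          show a⁻¹ ^ p = 1
          rw [inv_pow, ha, inv_one] }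
    have hΩc : Ω ≤ center G := fun x hx => h x hx
    haveI : Ω.Normal := normal_of_le_center hΩc
    by_cases hF : Ω ≤ frattini G
    swap
    · obtain ⟨z, hz, hzF⟩ := SetLike.not_le_iff_exists.1 hF
      rw [mem_frattini_iff] at hzF
      push Not at hzF
      obtain ⟨M, hM, hzM⟩ := hzF
      have hlt : Nat.card M < n := hn ▸ lt_of_le_of_ne M.card_le_card_group
        fun e => hM.1 (M.card_eq_iff_eq_top.1 e)
      obtain ⟨S, hS, hScard⟩ := ih _ hlt M rfl (hG.to_subgroup M) (h.subgroup M)
      refine ⟨insert z (S.image Subtype.val), ?_, ?_⟩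
      · refine hM.2 _ (SetLike.lt_iff_le_and_exists.2 ⟨?_, z, subset_closure (by simp), hzM⟩)
        intro w hw
        have hw' : (⟨w, hw⟩ : M) ∈ closure (S : Set M) := hS ▸ mem_top _
        have h1 : w ∈ (closure (S : Set M)).map M.subtype := ⟨_, hw', rfl⟩
        rw [MonoidHom.map_closure] at h1
        refine closure_mono ?_ h1
        rintro _ ⟨v, hv, rfl⟩
        exact Finset.mem_coe.2 (Finset.mem_insert_of_mem (Finset.mem_image_of_mem _ hv))
      · refine (Nat.pow_le_pow_right hp.1.pos ((Finset.card_insert_le _ _).trans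
          (Nat.succ_le_succ Finset.card_image_le))).trans ?_
        rw [pow_succ]
        refine (Nat.mul_le_mul_right p hScard).trans ?_
        have hord : orderOf z = p := orderOf_eq_prime hz fun e => hzM (e ▸ one_mem M)
        refine le_trans (le_of_eq (b := Nat.card ({x : M // x ^ p = 1} × zpowers z))
          (by rw [Nat.card_prod, Nat.card_zpowers, hord]))
          (Nat.card_le_card_of_injective (fun q => ⟨(q.1.1 : G) * (q.2 : G), ?_⟩) ?_)
        · obtain ⟨⟨⟨a, ha⟩, hap⟩, ⟨w, hw⟩⟩ := q
          have hw' : w ∈ Ω := zpowers_le.2 hz hw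
          have ha' : a ∈ Ω := show a ^ p = 1 by simpa using congrArg Subtype.val hap
          exact Ω.mul_mem ha' hw'
        · rintro ⟨⟨a, ha⟩, w⟩ ⟨⟨a', ha'⟩, w'⟩ e
          have e' : (a : G) * (w : G) = (a' : G) * (w' : G) := congrArg Subtype.val e
          have hinf : M ⊓ zpowers z = ⊥ := by
            by_contra h0
            have hle : zpowers z ≤ M ⊓ zpowers z := by
              refine (eq_of_le_of_card_ge inf_le_right ?_).ge
              rw [Nat.card_zpowers, hord]
              exact Nat.le_of_dvd Nat.card_pos (dvd_card_of_ne_bot hG h0)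
            exact hzM (hle (mem_zpowers z)).1
          have h1 : (a' : G)⁻¹ * a = w' * (w : G)⁻¹ :=
            eq_mul_inv_of_mul_eq (by rw [mul_assoc, e', inv_mul_cancel_left])
          have h2 : (a' : G)⁻¹ * a ∈ M ⊓ zpowers z :=
            mem_inf.2 ⟨mul_mem (inv_mem a'.2) a.2, by rw [h1]; exact mul_mem w'.2 (inv_mem w.2)⟩
          rw [hinf, mem_bot, inv_mul_eq_one] at h2
          have h3 : (w : G) = w' := mul_left_cancel (h2 ▸ e')
          obtain rfl : a = a' := Subtype.ext h2.symm
          obtain rfl : w = w' := Subtype.ext h3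
          rfl
    -- the quotient
    have hΩne : Ω ≠ ⊥ := by
      obtain ⟨x, hx⟩ := exists_prime_orderOf_dvd_card' (G := G) p (by
        obtain ⟨e, he⟩ := IsPGroup.iff_card.1 hG
        rw [he]
        refine dvd_pow_self p fun e0 => ?_
        rw [e0, pow_zero] at he
        exact (Finite.one_lt_card (α := G)).ne' he)
      intro e
      have hxΩ : x ∈ Ω := show x ^ p = 1 from hx ▸ pow_orderOf_eq_one x
      rw [e, mem_bot] at hxΩ
      rw [hxΩ, orderOf_one] at hx
      exact hp.1.one_lt.ne hx
    have hltQ : Nat.card (G ⧸ Ω) < n := by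
      have h1 := Subgroup.card_mul_index Ω
      have h2 := Subgroup.one_lt_card_iff_ne_bot Ω |>.2 hΩne
      rw [← hn, ← Subgroup.index, ← h1]
      exact Nat.lt_mul_iff_one_lt_left (Nat.pos_of_ne_zero Subgroup.index_ne_zero_of_finite) |>.2 h2
    have hQ : Hyp p (G ⧸ Ω) := fun q hq => by
      induction q using QuotientGroup.induction_on with | _ x => ?_
      rw [← QuotientGroup.mk_pow, QuotientGroup.eq_one_iff] at hq
      rw [Subgroup.mem_center_iff]
      intro r
      induction r using QuotientGroup.induction_on with | _ y => ?_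
      refine commutatorElement_eq_one_iff_mul_comm.1 ?_
      show ⁅QuotientGroup.mk' Ω y, QuotientGroup.mk' Ω x⁆ = 1
      rw [← map_commutatorElement]
      exact (QuotientGroup.eq_one_iff _).2 (pow_commutator hp2 _ G rfl hG h x y hq)
    obtain ⟨S, hS, hScard⟩ := ih _ hltQ (G ⧸ Ω) rfl (hG.to_quotient Ω) hQ
    refine ⟨S.image Quotient.out, ?_, (Nat.pow_le_pow_right hp.1.pos Finset.card_image_le).trans
      (hScard.trans ?_)⟩
    · refine frattini_nongenerating (eq_top_iff.2 fun x _ => ?_)
      have hmap : (closure ((S.image Quotient.out : Finset G) : Set G)).map (QuotientGroup.mk' Ω) = ⊤ := by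
        rw [MonoidHom.map_closure, ← top_le_iff, ← hS]
        refine closure_mono fun q hq => ⟨q.out, ?_, QuotientGroup.out_eq' q⟩
        exact Finset.mem_coe.2 (Finset.mem_image_of_mem _ hq)
      obtain ⟨c, hc, hcx⟩ := (hmap ▸ mem_top (QuotientGroup.mk' Ω x) :
        QuotientGroup.mk' Ω x ∈ (closure ((S.image Quotient.out : Finset G) : Set G)).map _)
      have := mul_mem (mem_sup_left hc :
        c ∈ Subgroup.closure ((S.image Quotient.out : Finset G) : Set G) ⊔ frattini G)
        (mem_sup_right (hF (QuotientGroup.eq.1 hcx)))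
      rwa [mul_inv_cancel_left] at this
    · have hmemΩ : ∀ q : {q : G ⧸ Ω // q ^ p = 1}, (q.1.out ^ p) ^ p = 1 := fun q => by
        have h1 : ((q.1.out ^ p : G) : G ⧸ Ω) = 1 := by
          rw [QuotientGroup.mk_pow, QuotientGroup.out_eq']; exact q.2
        exact (QuotientGroup.eq_one_iff _).1 h1
      refine Nat.card_le_card_of_injective (fun q => ⟨q.1.out ^ p, hmemΩ q⟩) ?_
      intro q r e
      have e' : q.1.out ^ p = r.1.out ^ p := congrArg Subtype.val e
      set a := q.1.out
      set b := r.1.out
      have hb : ((b⁻¹) ^ p) ^ p = 1 := by rw [inv_pow, inv_pow, hmemΩ r, inv_one]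
      have hc := pow_commutator hp2 _ G rfl hG h a b⁻¹ (hmemΩ q)
      have hz := Subgroup.mem_center_iff.1 (h _ hc)
      have hpow := mul_pow_of_commute (a := a) (b := b⁻¹) (hz _).symm (hz _).symm p
      rw [choose_two_pow hp2 hc, mul_one, inv_pow, e', mul_inv_cancel] at hpow
      have hmem : a * b⁻¹ ∈ Ω := hpow
      apply Subtype.ext
      rw [← QuotientGroup.out_eq' q.1, ← QuotientGroup.out_eq' r.1]
      refine QuotientGroup.eq.2 ?_
      have := inv_mem (Subgroup.Normal.mem_comm inferInstance hmem)
      rwa [mul_inv_rev, inv_inv] at this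

end CfsgLib.PGroups.OmegaCentral
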