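/-
A unipotent group on a flag of length `m` needs at most `m ^ 2 / 4` generators.
-/
import Mathlib

set_option autoImplicit false
set_option linter.unusedSectionVars false

namespace CfsgLib.PGroups.Pivot

/-- Positions are determined by their weights. -/
theorem weight_inj {i j i' j' : ℕ} (h : i < j) (h' : i' < j')
    (e : 2 ^ j - 2 ^ i = (2 ^ j' - 2 ^ i' : ℕ)) : i = i' ∧ j = j' := by
  have key : ∀ {a b a' b' : ℕ}, a < b → a' < b' → b < b' → 2 ^ b - 2 ^ a < (2 ^ b' - 2 ^ a' : ℕ) := by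
    intro a b a' b' _ h2 h3
    have h4 := Nat.pow_le_pow_right (show 0 < 2 by omega) (show b + 1 ≤ b' by omega)
    have h5 := Nat.pow_le_pow_right (show 0 < 2 by omega) (show a' + 1 ≤ b' by omega)
    have h6 := Nat.two_pow_pos a
    have h7 := Nat.two_pow_pos b
    rw [pow_succ] at h4 h5
    omega
  rcases lt_trichotomy j j' with hj | rfl | hj
  · exact absurd e (key h h' hj).ne
  · refine ⟨Nat.pow_right_injective le_rfl ?_, rfl⟩
    have h4 := Nat.pow_le_pow_right (show 0 < 2 by omega) h.le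
    have h5 := Nat.pow_le_pow_right (show 0 < 2 by omega) h'.le
    show 2 ^ i = 2 ^ i'
    omega
  · exact absurd e.symm (key h' h hj).ne

/-- Mantel's bound for a triangle-free set of increasing pairs below `m`. -/
theorem triangle_free_bound (m : ℕ) (T : Finset (ℕ × ℕ)) (hT : ∀ q ∈ T, q.1 < q.2 ∧ q.2 < m)
    (hfree : ∀ i j l, (i, j) ∈ T → (j, l) ∈ T → (i, l) ∈ T → False) : 4 * T.card ≤ m ^ 2 := by
  classical
  let R : Fin m → Fin m → Prop := fun a c => ((a : ℕ), (c : ℕ)) ∈ T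
  let Γ := SimpleGraph.fromRel R
  have hadj : ∀ {a c : Fin m}, a < c → Γ.Adj a c → R a c := by
    rintro a c hac ⟨-, h | h⟩
    · exact h
    · exact absurd (hT _ h).1 (not_lt.2 (le_of_lt (Fin.lt_def.1 hac)))
  have hfree' : Γ.CliqueFree (2 + 1) := by
    intro s hs
    obtain ⟨a, c, d, hac, had, hcd, -⟩ := SimpleGraph.is3Clique_iff.1 hs
    have key : ∀ {x y z : Fin m}, x < y → y < z → Γ.Adj x y → Γ.Adj y z → Γ.Adj x z → False :=
      fun hxy hyz h1 h2 h3 => hfree _ _ _ (hadj hxy h1) (hadj hyz h2) (hadj (hxy.trans hyz) h3)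
    rcases lt_or_gt_of_ne hac.ne with h1 | h1 <;> rcases lt_or_gt_of_ne had.ne with h2 | h2 <;>
      rcases lt_or_gt_of_ne hcd.ne with h3 | h3
    · exact key h1 h3 hac hcd had
    · exact key h2 h3 had hcd.symm hac
    · omega
    · exact key h2 h1 had.symm hac hcd.symm
    · exact key h1 h2 hac.symm had hcd
    · omega
    · exact key h3 h2 hcd had.symm hac.symm
    · exact key h3 h1 hcd.symm hac.symm had.symm
  have hcard : T.card ≤ Γ.edgeFinset.card := by
    let T' : Finset (Fin m × Fin m) := Finset.univ.filter fun q => R q.1 q.2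
    have h1 : T.card ≤ T'.card := by
      refine le_trans (Finset.card_le_card fun q hq => ?_)
        (Finset.card_image_le (f := fun q : Fin m × Fin m => ((q.1 : ℕ), (q.2 : ℕ))) (s := T'))
      obtain ⟨h1, h2⟩ := hT q hq
      exact Finset.mem_image.2 ⟨(⟨q.1, h1.trans h2⟩, ⟨q.2, h2⟩),
        Finset.mem_filter.2 ⟨Finset.mem_univ _, hq⟩, rfl⟩
    refine h1.trans (Finset.card_le_card_of_injOn (fun q : Fin m × Fin m => s(q.1, q.2)) ?_ ?_)
    · intro q hq
      have hq' : R q.1 q.2 := (Finset.mem_filter.1 hq).2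
      refine Finset.mem_coe.2 (SimpleGraph.mem_edgeFinset.2 ?_)
      exact ⟨fun e => lt_irrefl (q.2 : ℕ) (by have h := (hT _ hq').1; rwa [show q.1 = q.2 from e] at h), Or.inl hq'⟩
    · intro q hq q' hq' e
      have h1 : (q.1 : ℕ) < q.2 := (hT _ (Finset.mem_filter.1 hq).2).1
      have h2 : (q'.1 : ℕ) < q'.2 := (hT _ (Finset.mem_filter.1 hq').2).1
      rcases Sym2.eq_iff.1 e with ⟨e1, e2⟩ | ⟨e1, e2⟩
      · exact Prod.ext e1 e2
      · rw [e1, e2] at h1
        omega
  have h := hfree'.card_edgeFinset_le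
  simp only [Fintype.card_fin] at h
  have h1 : (m % 2).choose 2 = 0 := Nat.choose_eq_zero_of_lt (Nat.mod_lt _ two_pos)
  rw [h1, Nat.add_zero] at h
  have h2 : (m ^ 2 - (m % 2) ^ 2) * (2 - 1) / (2 * 2) * 4 ≤ m ^ 2 :=
    (Nat.div_mul_le_self _ _).trans (by rw [show 2 - 1 = 1 by rfl, mul_one]; exact Nat.sub_le _ _)
  omega

variable {M : Type*} [AddCommGroup M] {m : ℕ} (W : ℕ → AddSubgroup M)

/-- The maps lowering a flag by weight at least `w`. -/
def Fil (m w : ℕ) (A : AddMonoid.End M) : Prop :=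
  ∀ i j, j < m → i ≤ j → 2 ^ j - 2 ^ i < w → ∀ x ∈ W (j + 1), A x ∈ W i

/-- `A` has its leading position at `(i, j)`. -/
def Exact (m i j : ℕ) (A : AddMonoid.End M) : Prop :=
  Fil W m (2 ^ j - 2 ^ i) A ∧ ∃ x ∈ W (j + 1), A x ∉ W i

variable {W}

theorem Fil.mono {w v : ℕ} (h : w ≤ v) {A : AddMonoid.End M} (hA : Fil W m v A) : Fil W m w A :=
  fun i j hj hij hw => hA i j hj hij (hw.trans_le h)

theorem Fil.add {w : ℕ} {A B : AddMonoid.End M} (hA : Fil W m w A) (hB : Fil W m w B) :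
    Fil W m w (A + B) := fun i j hj hij hw x hx => by
  show A x + B x ∈ W i
  exact add_mem (hA i j hj hij hw x hx) (hB i j hj hij hw x hx)

theorem Fil.neg {w : ℕ} {A : AddMonoid.End M} (hA : Fil W m w A) : Fil W m w (-A) :=
  fun i j hj hij hw x hx => by
    show -(A x) ∈ W i
    exact neg_mem (hA i j hj hij hw x hx)

theorem Fil.zero (w : ℕ) : Fil W m w (0 : AddMonoid.End M) := fun i _ _ _ _ _ _ => zero_mem (W i)

theorem Fil.nsmul {w : ℕ} {A : AddMonoid.End M} (hA : Fil W m w A) (c : ℕ) : Fil W m w (c • A) := by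
  induction c with
  | zero => rw [zero_smul]; exact Fil.zero w
  | succ c ih => rw [succ_nsmul]; exact ih.add hA

variable (hW0 : W 0 = ⊥) (hmono : Monotone W)
include hW0 hmono

theorem Fil.mul {a b : ℕ} {A B : AddMonoid.End M} (ha : 1 ≤ a) (hb : 1 ≤ b) (hA : Fil W m a A)
    (hB : Fil W m b B) : Fil W m (a + b) (A * B) := by
  classical
  intro i j hj hij hw x hx
  show A (B x) ∈ W i
  have hBj : B x ∈ W j := hB j j hj le_rfl (by omega) x hx
  have hex : ∃ k, B x ∈ W k := ⟨j, hBj⟩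
  rcases Nat.eq_zero_or_pos (Nat.find hex) with h0 | hpos
  · have := Nat.find_spec hex
    rw [h0, hW0, AddSubgroup.mem_bot] at this
    rw [this, map_zero]
    exact zero_mem _
  obtain ⟨k, hk⟩ : ∃ k, Nat.find hex = k + 1 := ⟨_, (Nat.succ_pred_eq_of_pos hpos).symm⟩
  have hkx : B x ∈ W (k + 1) := hk ▸ Nat.find_spec hex
  have hkj : k + 1 ≤ j := hk ▸ Nat.find_min' hex hBj
  have hnot : B x ∉ W k := Nat.find_min hex (by omega)
  have hb' : b ≤ 2 ^ j - 2 ^ k := not_lt.1 fun h => hnot (hB k j hj (by omega) h x hx)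
  rcases Nat.lt_or_ge k i with hki | hik
  · exact hmono hki.le (hA k k (by omega) le_rfl (by omega) _ hkx)
  · refine hA i k (by omega) hik ?_ _ hkx
    have h4 := Nat.pow_le_pow_right (show 0 < 2 by omega) hik
    omega

omit hW0 hmono in
theorem Exact.lt {i j : ℕ} {A : AddMonoid.End M} (h : Exact W m i j A) (hu : Fil W m 1 A)
    (hij : i ≤ j) (hj : j < m) : i < j := by
  refine lt_of_le_of_ne hij fun e => ?_
  subst e
  obtain ⟨-, x, hx, hx'⟩ := h
  exact hx' (hu i i hj le_rfl (by omega) x hx)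

omit hW0 hmono in
/-- The dichotomy at a weight. -/
theorem fil_succ_or_exact {w : ℕ} (hw : 1 ≤ w) {A : AddMonoid.End M} (hA : Fil W m w A) :
    Fil W m (w + 1) A ∨ ∃ i j, i < j ∧ j < m ∧ 2 ^ j - 2 ^ i = w ∧ Exact W m i j A := by
  by_cases h : Fil W m (w + 1) A
  · exact Or.inl h
  rw [Fil] at h
  push Not at h
  obtain ⟨i, j, hj, hij, hw', x, hx, hx'⟩ := h
  have e : 2 ^ j - 2 ^ i = w :=
    le_antisymm (Nat.lt_succ_iff.1 hw') (not_lt.1 fun h => hx' (hA i j hj hij h x hx))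
  refine Or.inr ⟨i, j, lt_of_le_of_ne hij fun he => ?_, hj, e, e ▸ hA, x, hx, hx'⟩
  subst he
  rw [Nat.sub_self] at e
  omega

variable (hstep : ∀ j < m, ∀ x ∈ W (j + 1), x ∉ W j → ∀ y ∈ W (j + 1), ∃ c : ℕ, y - c • x ∈ W j)
include hstep

theorem Exact.maps {i j : ℕ} (hij : i < j) (hj : j < m) {A : AddMonoid.End M} (h : Exact W m i j A) :
    (∀ x ∈ W (j + 1), A x ∈ W (i + 1)) ∧ (∀ x ∈ W j, A x ∈ W i) ∧
      ∀ x ∈ W (j + 1), x ∉ W j → A x ∉ W i := by
  obtain ⟨hA, x0, hx0, hx0'⟩ := h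
  have h4 := Nat.pow_lt_pow_right (show 1 < 2 by omega) (Nat.lt_succ_self i)
  have h5 := Nat.pow_le_pow_right (show 0 < 2 by omega) (show i + 1 ≤ j by omega)
  have hlow : ∀ x ∈ W j, A x ∈ W i := by
    intro x hx
    obtain ⟨j', rfl⟩ : ∃ j', j = j' + 1 := ⟨j - 1, by omega⟩
    refine hA i j' (by omega) (by omega) ?_ x hx
    have h6 := Nat.pow_lt_pow_right (show 1 < 2 by omega) (Nat.lt_succ_self j')
    have h7 := Nat.pow_le_pow_right (show 0 < 2 by omega) (show i ≤ j' by omega)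
    omega
  refine ⟨fun x hx => hA (i + 1) j hj (by omega) (by omega) x hx, hlow, fun x hx hx' hAx => ?_⟩
  obtain ⟨c, hc⟩ := hstep j hj x hx hx' x0 hx0
  refine hx0' ?_
  have h1 := hlow _ hc
  rw [map_sub, map_nsmul] at h1
  have := add_mem h1 (nsmul_mem hAx c)
  rwa [sub_add_cancel] at this

/-- Composable leading positions multiply. -/
theorem exact_bracket {i j l : ℕ} (hij : i < j) (hjl : j < l) (hl : l < m) {A B : AddMonoid.End M}
    (hA : Exact W m i j A) (hB : Exact W m j l B) : Exact W m i l (A * B - B * A) := by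
  have h4 := Nat.pow_lt_pow_right (show 1 < 2 by omega) hij
  have h5 := Nat.pow_lt_pow_right (show 1 < 2 by omega) hjl
  have hsum : 2 ^ j - 2 ^ i + (2 ^ l - 2 ^ j) = 2 ^ l - 2 ^ i := by omega
  have hfil : Fil W m (2 ^ l - 2 ^ i) (A * B - B * A) := by
    rw [sub_eq_add_neg, ← hsum]
    refine ((hA.1).mul hW0 hmono (by omega) (by omega) hB.1).add (Fil.neg ?_)
    rw [add_comm]
    exact (hB.1).mul hW0 hmono (by omega) (by omega) hA.1
  obtain ⟨x, hx, hx'⟩ := hB.2
  have hxl : x ∉ W l := fun h => hx' ((hB.maps hW0 hmono hstep hjl hl).2.1 x h)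
  refine ⟨hfil, x, hx, fun hbad => ?_⟩
  have hBA : B (A x) ∈ W i := by
    classical
    have hAl : A x ∈ W l := hA.1 l l hl le_rfl (by omega) x hx
    have hex : ∃ k, A x ∈ W k := ⟨l, hAl⟩
    rcases Nat.eq_zero_or_pos (Nat.find hex) with h0 | hpos
    · have := Nat.find_spec hex
      rw [h0, hW0, AddSubgroup.mem_bot] at this
      rw [this, map_zero]
      exact zero_mem _
    obtain ⟨k, hk⟩ : ∃ k, Nat.find hex = k + 1 := ⟨_, (Nat.succ_pred_eq_of_pos hpos).symm⟩
    have hkx : A x ∈ W (k + 1) := hk ▸ Nat.find_spec hex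
    have hkl : k + 1 ≤ l := hk ▸ Nat.find_min' hex hAl
    have hnot : A x ∉ W k := Nat.find_min hex (by omega)
    have ha' : 2 ^ j - 2 ^ i ≤ 2 ^ l - 2 ^ k :=
      not_lt.1 fun h => hnot (hA.1 k l hl (by omega) h x hx)
    rcases Nat.lt_or_ge k i with hki | hik
    · exact hmono hki.le (hB.1 k k (by omega) le_rfl (by omega) _ hkx)
    · refine hB.1 i k (by omega) hik (not_le.1 fun hle => ?_) _ hkx
      have h6 := Nat.pow_lt_pow_right (show 1 < 2 by omega) (show k < l by omega)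
      have h7 := Nat.pow_le_pow_right (show 0 < 2 by omega) hik
      have e : 2 ^ l - 2 ^ k = 2 ^ j - 2 ^ i := by omega
      exact absurd (weight_inj (by omega) hij e).2 hjl.ne'
  have hAB : A (B x) ∉ W i := (hA.maps hW0 hmono hstep hij (by omega)).2.2 _
    ((hB.maps hW0 hmono hstep hjl hl).1 x hx) hx'
  refine hAB ?_
  have hbad' : A (B x) - B (A x) ∈ W i := hbad
  have := add_mem hbad' hBA
  rwa [sub_add_cancel] at this

/-- A finite unipotent group on a flag of length `m` is generated, modulo the kernel of the action,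
by at most `m ^ 2 / 4` elements. -/
theorem exists_few_generators (hWm : W m = ⊤) {H : Type*} [Group H] [Finite H]
    (ρ : H →* AddMonoid.End M) (hu : ∀ h, Fil W m 1 (ρ h - 1)) :
    ∃ T : Finset H, 4 * T.card ≤ m ^ 2 ∧
      ∀ h, ∃ k ∈ Subgroup.closure (T : Set H), ρ k = ρ h := by
  classical
  -- the occupied positions
  let S : Finset (ℕ × ℕ) := (Finset.range m ×ˢ Finset.range m).filter fun q =>
    q.1 < q.2 ∧ ∃ h : H, Exact W m q.1 q.2 (ρ h - 1)
  let T0 : Finset (ℕ × ℕ) := S.filter fun q => ¬ ∃ j, (q.1, j) ∈ S ∧ (j, q.2) ∈ S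
  have hS : ∀ q ∈ S, q.1 < q.2 ∧ q.2 < m ∧ ∃ h : H, Exact W m q.1 q.2 (ρ h - 1) := fun q hq => by
    obtain ⟨hr, hlt, hh⟩ := Finset.mem_filter.1 hq
    exact ⟨hlt, Finset.mem_range.1 (Finset.mem_product.1 hr).2, hh⟩
  let pick : ℕ × ℕ → H := fun q =>
    if hq : ∃ h : H, Exact W m q.1 q.2 (ρ h - 1) then hq.choose else 1
  refine ⟨T0.image pick, le_trans (Nat.mul_le_mul_left 4 Finset.card_image_le)
    (triangle_free_bound m T0 (fun q hq => ⟨(hS q (Finset.mem_filter.1 hq).1).1,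
      (hS q (Finset.mem_filter.1 hq).1).2.1⟩) fun i j l h1 h2 h3 => (Finset.mem_filter.1 h3).2
      ⟨j, (Finset.mem_filter.1 h1).1, (Finset.mem_filter.1 h2).1⟩), ?_⟩
  set K := Subgroup.closure ((T0.image pick : Finset H) : Set H)
  -- every occupied position is met
  have hmeet : ∀ w i j, 2 ^ j - 2 ^ i = w → (i, j) ∈ S → ∃ k ∈ K, Exact W m i j (ρ k - 1) := by
    intro w
    induction w using Nat.strong_induction_on with
    | _ w ih =>
      intro i j hw hq
      obtain ⟨hij, hj, hh⟩ := hS _ hq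
      by_cases hT0 : (i, j) ∈ T0
      · refine ⟨pick (i, j), Subgroup.subset_closure
          (Finset.mem_coe.2 (Finset.mem_image_of_mem _ hT0)), ?_⟩
        simp only [pick, dif_pos hh]
        exact hh.choose_spec
      obtain ⟨t, ht1, ht2⟩ : ∃ t, (i, t) ∈ S ∧ (t, j) ∈ S := by
        by_contra h
        exact hT0 (Finset.mem_filter.2 ⟨hq, h⟩)
      have hit : i < t := (hS _ ht1).1
      have htj : t < j := (hS _ ht2).1
      have h4 := Nat.pow_lt_pow_right (show 1 < 2 by omega) hit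
      have h5 := Nat.pow_lt_pow_right (show 1 < 2 by omega) htj
      obtain ⟨a, haK, ha⟩ := ih (2 ^ t - 2 ^ i) (by omega) i t rfl ht1
      obtain ⟨b, hbK, hb⟩ := ih (2 ^ j - 2 ^ t) (by omega) t j rfl ht2
      refine ⟨a * b * (b * a)⁻¹,
        mul_mem (mul_mem haK hbK) (inv_mem (mul_mem hbK haK)), ?_⟩
      have hD := exact_bracket hW0 hmono hstep hit htj hj ha hb
      set D := (ρ a - 1) * (ρ b - 1) - (ρ b - 1) * (ρ a - 1) with hDdef
      have hC : ρ (a * b * (b * a)⁻¹) - 1 = D + D * (ρ (b * a)⁻¹ - 1) := by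
        have h1 : ρ (b * a) * ρ (b * a)⁻¹ = 1 := by rw [← map_mul, mul_inv_cancel, map_one]
        have hD' : D = ρ (a * b) - ρ (b * a) := by rw [hDdef, map_mul, map_mul]; noncomm_ring
        rw [hD', map_mul, mul_sub, mul_one, add_sub_cancel, sub_mul, h1]
      have hX : Fil W m (2 ^ j - 2 ^ i + 1) (D * (ρ (b * a)⁻¹ - 1)) :=
        Fil.mul hW0 hmono (by omega) le_rfl hD.1 (hu _)
      obtain ⟨hD1, x, hx, hx'⟩ := hD
      rw [hC]
      refine ⟨hD1.add (hX.mono (Nat.le_succ _)), x, hx, fun h => hx' ?_⟩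
      have h' : D x + (D * (ρ (b * a)⁻¹ - 1)) x ∈ W i := h
      exact (add_mem_cancel_right (hX i j hj hij.le (Nat.lt_succ_self _) x hx)).1 h'
  -- descending through the weights
  suffices ∀ d w, 2 ^ m + 1 - w = d → 1 ≤ w → ∀ h, Fil W m w (ρ h - 1) → ∃ k ∈ K, ρ k = ρ h from
    fun h => this _ 1 rfl le_rfl h (hu h)
  intro d
  induction d using Nat.strong_induction_on with
  | _ d ihd =>
    intro w hd hw h hh
    by_cases hbig : 2 ^ m < w
    · refine ⟨1, one_mem _, ?_⟩
      rw [map_one, eq_comm, ← sub_eq_zero]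
      refine DFunLike.ext _ _ fun x => ?_
      have hx : x ∈ W m := hWm ▸ AddSubgroup.mem_top x
      rcases Nat.eq_zero_or_pos m with hm0 | hm0
      · rw [hm0, hW0, AddSubgroup.mem_bot] at hx
        rw [hx, map_zero, map_zero]
      have := hh 0 (m - 1) (by omega) (Nat.zero_le _) (by
        have h1 := Nat.pow_le_pow_right (show 0 < 2 by omega) (show m - 1 ≤ m by omega)
        omega) x (by rwa [Nat.sub_add_cancel hm0])
      rw [hW0, AddSubgroup.mem_bot] at this
      rw [this]; rfl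
    rcases fil_succ_or_exact hw hh with hs | ⟨i, j, hij, hj, hwe, hex⟩
    · exact ihd (2 ^ m + 1 - (w + 1)) (by omega) (w + 1) rfl (by omega) h hs
    have hq : (i, j) ∈ S := Finset.mem_filter.2 ⟨Finset.mem_product.2
      ⟨Finset.mem_range.2 (hij.trans hj), Finset.mem_range.2 hj⟩, hij, h, hex⟩
    obtain ⟨k, hkK, hk⟩ := hmeet w i j hwe hq
    have hm1 := hex.maps hW0 hmono hstep hij hj
    have hm2 := hk.maps hW0 hmono hstep hij hj
    obtain ⟨x0, hx0, hx0'⟩ := hex.2
    have hx0j : x0 ∉ W j := fun hmem => hx0' (hm1.2.1 x0 hmem)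
    set B := ρ h - 1 with hB
    set A := ρ k - 1 with hA
    obtain ⟨c, hc⟩ := hstep i (hij.trans hj) (A x0) (hm2.1 x0 hx0) (hm2.2.2 x0 hx0 hx0j) (-(B x0))
      (neg_mem (hm1.1 x0 hx0))
    have hAw : Fil W m w A := hwe ▸ hk.1
    -- powers are linear modulo the next weight
    have hlin : ∀ c : ℕ, Fil W m (w + 1) (ρ (k ^ c * h) - 1 - (c • A + B)) := by
      intro c
      induction c with
      | zero =>
        rw [pow_zero, one_mul, zero_smul, zero_add, ← hB, sub_self]
        exact Fil.zero _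
      | succ c ih =>
        set P := ρ (k ^ c * h) - 1 with hP
        have hPw : Fil W m w P := by
          have h1 := (ih.mono (Nat.le_succ w)).add ((hAw.nsmul c).add hh)
          rwa [sub_add_cancel] at h1
        have e : ρ (k ^ (c + 1) * h) - 1 - ((c + 1) • A + B) =
            (P - (c • A + B)) + A * P := by
          rw [pow_succ', mul_assoc, map_mul, succ_nsmul, hP, hA]
          noncomm_ring
        rw [e]
        exact ih.add ((Fil.mul hW0 hmono hw hw hAw hPw).mono (by omega))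
    have hnext : Fil W m (w + 1) (ρ (k ^ c * h) - 1) := by
      have hsum : Fil W m (w + 1) (c • A + B) := by
        rcases fil_succ_or_exact hw ((hAw.nsmul c).add hh) with hs | ⟨i', j', hij', -, hwe', hex'⟩
        · exact hs
        obtain ⟨rfl, rfl⟩ := weight_inj hij hij' (hwe.trans hwe'.symm)
        exfalso
        refine (hex'.maps hW0 hmono hstep hij hj).2.2 x0 hx0 hx0j ?_
        show c • A x0 + B x0 ∈ W i
        have := neg_mem hc
        rwa [neg_sub, sub_neg_eq_add] at this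
      have := (hlin c).add hsum
      rwa [sub_add_cancel] at this
    obtain ⟨k', hk'K, hk'⟩ := ihd (2 ^ m + 1 - (w + 1)) (by omega) (w + 1) rfl (by omega) _ hnext
    refine ⟨(k ^ c)⁻¹ * k', mul_mem (inv_mem (pow_mem hkK c)) hk'K, ?_⟩
    rw [map_mul, hk', ← map_mul, inv_mul_cancel_left]

end CfsgLib.PGroups.Pivot
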