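/-
Generator bound for subgroups from the normal elementary abelian subgroups, `p` odd.
-/
import Cfsg.Agent.Lib.PGroups.PivotGenerators
import Cfsg.Agent.Lib.PGroups.OmegaCentralGenerators

set_option autoImplicit false
set_option linter.unusedSectionVars false

namespace CfsgLib.PGroups.KGen

open Subgroup
open scoped commutatorElement

variable {P : Type*} [Group P] [Finite P] {p : ℕ} [hp : Fact p.Prime]

/-- The order of the join with a cyclic subgroup normalising the other factor. -/
theorem card_sup_zpowers_le {K : Subgroup P} {x : P} (hx : x ∈ normalizer (K : Set P)) :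
    Nat.card ↥(zpowers x ⊔ K) ≤ orderOf x * Nat.card K := by
  rw [← Nat.card_zpowers, ← Nat.card_prod]
  refine Nat.card_le_card_of_surjective
    (fun q : ↥(zpowers x) × ↥K => (⟨(q.1 : P) * q.2, mul_mem (mem_sup_left q.1.2)
      (mem_sup_right q.2.2)⟩ : ↥(zpowers x ⊔ K))) fun w => ?_
  have hw : (w : P) ∈ ((zpowers x ⊔ K : Subgroup P) : Set P) := w.2
  rw [Subgroup.coe_mul_of_left_le_normalizer_right _ _ (zpowers_le.2 hx)] at hw
  obtain ⟨a, ha, c, hc, hac⟩ := hw
  exact ⟨(⟨a, ha⟩, ⟨c, hc⟩), Subtype.ext hac⟩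

/-- An elementary abelian group on `k` generators has order at most `p ^ k`. -/
theorem card_closure_le {V : Subgroup P} (hab : ∀ a ∈ V, ∀ c ∈ V, a * c = c * a)
    (hexp : ∀ a ∈ V, a ^ p = 1) (S : Finset P) (hS : ∀ a ∈ S, a ∈ V) :
    Nat.card ↥(closure (S : Set P)) ≤ p ^ S.card := by
  classical
  induction S using Finset.induction_on with
  | empty => simp
  | insert a S haS ih =>
    have hS' : ∀ c ∈ S, c ∈ V := fun c hc => hS c (Finset.mem_insert_of_mem hc)
    have haV := hS a (Finset.mem_insert_self a S)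
    have hnorm : a ∈ normalizer ((closure (S : Set P) : Subgroup P) : Set P) := by
      refine centralizer_le_normalizer _ (mem_centralizer_iff.2 fun c hc => ?_)
      exact hab c ((closure_le V).2 hS' hc) a haV
    rw [Finset.coe_insert, Set.insert_eq, Subgroup.closure_union, ← zpowers_eq_closure,
      Finset.card_insert_of_notMem haS, pow_succ']
    exact (card_sup_zpowers_le hnorm).trans (Nat.mul_le_mul
      (Nat.le_of_dvd hp.1.pos (orderOf_dvd_of_pow_eq_one (hexp a haV))) (ih hS'))

open Classical in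
/-- A central series inside `V`. -/
noncomputable def series (V : Subgroup P) : ℕ → Subgroup P
  | 0 => ⊥
  | i + 1 => if h : ∃ x ∈ V, x ∉ series V i ∧ ∀ g : P, ⁅g, x⁆ ∈ series V i then
      zpowers h.choose ⊔ series V i else series V i

theorem series_le (V : Subgroup P) : ∀ i, series V i ≤ V := by
  intro i
  induction i with
  | zero => exact bot_le
  | succ i ih =>
    rw [series]
    split_ifs with h
    · exact sup_le (zpowers_le.2 h.choose_spec.1) ih
    · exact ih

theorem series_mono (V : Subgroup P) : Monotone (series V) :=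
  monotone_nat_of_le_succ fun i => by
    rw [series]
    split_ifs with h
    · exact le_sup_right
    · exact le_rfl

theorem series_spec (hP : IsPGroup p P) {V : Subgroup P} [V.Normal]
    (hexp : ∀ a ∈ V, a ^ p = 1) {m : ℕ} (hV : Nat.card V = p ^ m) :
    ∀ i, (series V i).Normal ∧ (i ≤ m → Nat.card (series V i) = p ^ i) ∧
      ∀ x ∈ series V (i + 1), ∀ g : P, ⁅g, x⁆ ∈ series V i := by
  have hstep : ∀ i, (series V i).Normal → ∀ x ∈ series V (i + 1), ∀ g : P, ⁅g, x⁆ ∈ series V i := by
    intro i hi x hx g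
    set π := QuotientGroup.mk' (series V i)
    have hsub : (series V (i + 1)).map π ≤ center (P ⧸ series V i) := by
      rw [series]
      split_ifs with h
      · rw [Subgroup.map_sup, sup_le_iff, MonoidHom.map_zpowers, zpowers_le,
          (Subgroup.map_eq_bot_iff _).2 (QuotientGroup.ker_mk' _).ge]
        refine ⟨Subgroup.mem_center_iff.2 fun q => ?_, bot_le⟩
        induction q using QuotientGroup.induction_on with | _ r => ?_
        refine commutatorElement_eq_one_iff_mul_comm.1 ?_
        show ⁅π r, π _⁆ = 1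
        rw [← map_commutatorElement]
        exact (QuotientGroup.eq_one_iff _).2 (h.choose_spec.2.2 r)
      · rw [(Subgroup.map_eq_bot_iff _).2 (QuotientGroup.ker_mk' _).ge]
        exact bot_le
    refine (QuotientGroup.eq_one_iff _).1 ?_
    show π ⁅g, x⁆ = 1
    rw [map_commutatorElement, commutatorElement_eq_one_iff_mul_comm]
    exact Subgroup.mem_center_iff.1 (hsub ⟨x, hx, rfl⟩) (π g)
  suffices ∀ i, (series V i).Normal ∧ (i ≤ m → Nat.card (series V i) = p ^ i) from
    fun i => ⟨(this i).1, (this i).2, hstep i (this i).1⟩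
  intro i
  induction i with
  | zero => exact ⟨inferInstanceAs (⊥ : Subgroup P).Normal, fun _ => by
      rw [series, Subgroup.card_bot, pow_zero]⟩
  | succ i ih =>
    obtain ⟨hn, hc⟩ := ih
    refine ⟨⟨fun x hx g => ?_⟩, fun him => ?_⟩
    · have h1 := series_mono V i.le_succ (hstep i hn x hx g)
      rw [commutatorElement_def] at h1
      exact (mul_mem_cancel_right (inv_mem hx)).1 h1
    have hne : (V.map (QuotientGroup.mk' (series V i))) ≠ ⊥ := by
      rw [Ne, Subgroup.map_eq_bot_iff, QuotientGroup.ker_mk']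
      intro hle
      have := card_le_of_le hle
      rw [hV, hc (by omega)] at this
      have := (Nat.pow_le_pow_iff_right hp.1.one_lt).1 this
      omega
    haveI : (V.map (QuotientGroup.mk' (series V i))).Normal :=
      Subgroup.Normal.map inferInstance _ (QuotientGroup.mk'_surjective _)
    have hex : ∃ x ∈ V, x ∉ series V i ∧ ∀ g : P, ⁅g, x⁆ ∈ series V i := by
      obtain ⟨⟨q, hq⟩, hq1'⟩ := ne_bot_iff_exists_ne_one.1 (CfsgLib.PGroups.inf_center_ne_bot
        (hP.to_quotient (series V i)) hne)
      have hq1 : q ≠ 1 := fun e => hq1' (Subtype.ext e)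
      obtain ⟨⟨x, hxV, hxq⟩, hqc⟩ := mem_inf.1 hq
      refine ⟨x, hxV, fun hxi => hq1 ?_, fun g => (QuotientGroup.eq_one_iff _).1 ?_⟩
      · rw [← hxq]; exact (QuotientGroup.eq_one_iff _).2 hxi
      · show QuotientGroup.mk' (series V i) ⁅g, x⁆ = 1
        rw [map_commutatorElement, commutatorElement_eq_one_iff_mul_comm, hxq]
        exact Subgroup.mem_center_iff.1 hqc _
    rw [series, dif_pos hex]
    obtain ⟨hxV, hxn, -⟩ := hex.choose_spec
    refine le_antisymm ?_ ?_
    · refine (card_sup_zpowers_le (by rw [Subgroup.normalizer_eq_top]; exact mem_top _)).trans ?_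
      rw [hc (by omega), pow_succ']
      exact Nat.mul_le_mul_right _ (Nat.le_of_dvd hp.1.pos
        (orderOf_dvd_of_pow_eq_one (hexp _ hxV)))
    · obtain ⟨a, ha⟩ := card_subgroup_eq_pow hP (zpowers hex.choose ⊔ series V i)
      have hlt : Nat.card (series V i) < Nat.card ↥(zpowers hex.choose ⊔ series V i) :=
        lt_of_le_of_ne (card_le_of_le le_sup_right) fun e =>
          hxn ((eq_of_le_of_card_ge le_sup_right e.ge).ge (mem_sup_left (mem_zpowers _)))
      rw [ha, hc (by omega)] at hlt
      rw [ha]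
      exact Nat.pow_le_pow_right hp.1.pos ((Nat.pow_lt_pow_iff_right hp.1.one_lt).1 hlt)

/-- The main bound. -/
theorem bound (hp2 : p ≠ 2) (hP : IsPGroup p P) (k : ℕ)
    (hab : ∀ A : Subgroup P, A.Normal → IsMulCommutative A →
      ∃ S : Finset P, S.card ≤ k ∧ closure (S : Set P) = A) (H : Subgroup P) :
    ∃ S : Finset P, S.card ≤ k * (k + 4) / 4 ∧ closure (S : Set P) = H := by
  classical
  obtain ⟨V, hV⟩ := Set.Finite.exists_maximal
    (s := {A : Subgroup P | A.Normal ∧ IsMulCommutative A ∧ ∀ a ∈ A, a ^ p ^ 1 = 1}) (Set.toFinite _)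
    ⟨⊥, inferInstance, inferInstance, by simp⟩
  obtain ⟨hVn, hVab, hVe⟩ := hV.1
  haveI := hVn
  have hexp : ∀ a ∈ V, a ^ p = 1 := fun a ha => by simpa using hVe a ha
  have hcomm : ∀ a ∈ V, ∀ c ∈ V, a * c = c * a := fun a ha c hc =>
    mem_centralizer_iff.1 ((isMulCommutative_iff_le_centralizer V).1 hVab hc) a ha
  obtain ⟨m, hm⟩ := card_subgroup_eq_pow hP V
  have hmk : m ≤ k := by
    obtain ⟨S, hS, hSV⟩ := hab V hVn hVab
    have h1 := card_closure_le (p := p) hcomm hexp S fun a ha => hSV.le (subset_closure ha)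
    rw [hSV, hm] at h1
    exact ((Nat.pow_le_pow_iff_right hp.1.one_lt).1 h1).trans hS
  have homega : ∀ x ∈ centralizer (V : Set P), x ^ p = 1 → x ∈ V := fun x hx hxp =>
    mem_of_maximal_abelian_exponent hP (n := 1) (by rwa [pow_one]) hVab hVe
      (fun B h1 h2 h3 h4 => le_antisymm (hV.2 ⟨h1, h2, h3⟩ h4) h4) hx (by rwa [pow_one])
  -- the part centralising `V`
  set D := H ⊓ centralizer (V : Set P) with hD
  have hDhyp : OmegaCentral.Hyp p D := fun x hx => Subgroup.mem_center_iff.2 fun y => Subtype.ext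
    ((mem_centralizer_iff.1 y.2.2 (x : P) (homega _ x.2.2 (by simpa using congrArg Subtype.val hx))).symm)
  obtain ⟨S₁, hS₁, hS₁card⟩ :=
    OmegaCentral.exists_generators hp2 _ D rfl (hP.to_subgroup D) hDhyp
  have hS₁m : S₁.card ≤ m := by
    refine (Nat.pow_le_pow_iff_right hp.1.one_lt).1 (hS₁card.trans ?_)
    rw [← hm]
    refine Nat.card_le_card_of_injective
      (fun x => ⟨(x.1 : P), homega _ x.1.2.2 (by simpa using congrArg Subtype.val x.2)⟩) ?_
    intro x y e
    exact Subtype.ext (Subtype.ext (congrArg Subtype.val e :))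
  -- the action on `V`
  letI : CommGroup ↥V := { (inferInstance : Group ↥V) with
    mul_comm := fun a c => Subtype.ext (hcomm _ a.2 _ c.2) }
  let ρ : ↥H →* AddMonoid.End (Additive ↥V) :=
    { toFun := fun g => MonoidHom.toAdditive (MulAut.conjNormal (g : P) : MulAut ↥V).toMonoidHom
      map_one' := AddMonoidHom.ext fun x => by rw [Subgroup.coe_one, map_one]; rfl
      map_mul' := fun g g' => AddMonoidHom.ext fun x => by rw [Subgroup.coe_mul, map_mul]; rfl }
  let W : ℕ → AddSubgroup (Additive ↥V) := fun i => Subgroup.toAddSubgroup ((series V i).subgroupOf V)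
  have hspec := series_spec hP hexp hm
  have hW0 : W 0 = ⊥ := by
    ext x
    show ((x.toMul : ↥V) : P) ∈ series V 0 ↔ x = 0
    rw [series, mem_bot, OneMemClass.coe_eq_one, toMul_eq_one]
  have hmono : Monotone W := fun i j hij x hx => series_mono V hij hx
  have hWm : W m = ⊤ := by
    refine eq_top_iff.2 fun x _ => ?_
    show ((x.toMul : ↥V) : P) ∈ series V m
    rw [eq_of_le_of_card_ge (series_le V m) (by rw [(hspec m).2.1 le_rfl, hm])]
    exact x.toMul.2
  have hstep : ∀ j < m, ∀ x ∈ W (j + 1), x ∉ W j → ∀ y ∈ W (j + 1),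
      ∃ c : ℕ, y - c • x ∈ W j := by
    intro j hj x hx hx' y hy
    haveI := (hspec j).1
    set x' : P := ((x.toMul : ↥V) : P) with hx'def
    set y' : P := ((y.toMul : ↥V) : P) with hy'def
    have hsup : zpowers x' ⊔ series V j = series V (j + 1) := by
      refine eq_of_le_of_card_ge (sup_le (zpowers_le.2 hx) (series_mono V j.le_succ)) ?_
      obtain ⟨a, ha⟩ := card_subgroup_eq_pow hP (zpowers x' ⊔ series V j)
      have hlt : Nat.card (series V j) < Nat.card ↥(zpowers x' ⊔ series V j) :=
        lt_of_le_of_ne (card_le_of_le le_sup_right) fun e =>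
          hx' ((eq_of_le_of_card_ge le_sup_right e.ge).ge (mem_sup_left (mem_zpowers _)))
      rw [ha, (hspec j).2.1 (by omega)] at hlt
      rw [(hspec (j + 1)).2.1 (by omega), ha]
      exact Nat.pow_le_pow_right hp.1.pos ((Nat.pow_lt_pow_iff_right hp.1.one_lt).1 hlt)
    have hy2 : y' ∈ zpowers x' ⊔ series V j := hsup.ge hy
    obtain ⟨a, ha, w, hw, haw⟩ := mem_sup_of_normal_right.1 hy2
    obtain ⟨c, -, rfl⟩ := ((isOfFinOrder_of_finite x').mem_zpowers_iff_mem_range_orderOf.1 ha |>
      fun h => by simpa using h : ∃ c, c < orderOf x' ∧ x' ^ c = a)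
    refine ⟨c, ?_⟩
    show ((((y - c • x).toMul : ↥V)) : P) ∈ series V j
    rw [toMul_sub, toMul_nsmul, Subgroup.coe_div, SubmonoidClass.coe_pow, ← hx'def, ← hy'def, ← haw,
      div_eq_mul_inv]
    exact (hspec j).1.conj_mem w hw (x' ^ c)
  have hu : ∀ h, Pivot.Fil W m 1 (ρ h - 1) := by
    intro h i j hj hij hw x hx
    obtain rfl : i = j := by
      by_contra hne
      have := Nat.pow_lt_pow_right (show 1 < 2 by omega) (show i < j by omega)
      omega
    have h1 := (hspec i).2.2 _ hx (h : P)
    show ((((ρ h x - x).toMul : ↥V)) : P) ∈ series V i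
    rw [toMul_sub, Subgroup.coe_div, div_eq_mul_inv]
    exact h1
  obtain ⟨T, hT, hTgen⟩ := Pivot.exists_few_generators hW0 hmono hstep hWm ρ hu
  -- the generators
  refine ⟨S₁.image Subtype.val ∪ T.image Subtype.val, ?_, le_antisymm ?_ ?_⟩
  · rw [Nat.le_div_iff_mul_le (by norm_num)]
    have h1 := Finset.card_union_le (S₁.image Subtype.val) (T.image Subtype.val : Finset P)
    have h2 := Finset.card_image_le (s := S₁) (f := (Subtype.val : ↥D → P))
    have h3 := Finset.card_image_le (s := T) (f := (Subtype.val : ↥H → P))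
    nlinarith [Nat.pow_le_pow_left hmk 2]
  · rw [closure_le, Finset.coe_union, Finset.coe_image, Finset.coe_image, Set.union_subset_iff]
    exact ⟨Set.image_subset_iff.2 fun x _ => x.2.1, Set.image_subset_iff.2 fun x _ => x.2⟩
  · intro x hx
    obtain ⟨t, ht, htx⟩ := hTgen ⟨x, hx⟩
    have h1 : (t : P) ∈ closure ((S₁.image Subtype.val ∪ T.image Subtype.val : Finset P) : Set P) := by
      have : (t : P) ∈ (closure (T : Set ↥H)).map H.subtype := ⟨t, ht, rfl⟩
      rw [MonoidHom.map_closure] at this
      refine closure_mono ?_ this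
      rw [Finset.coe_union, Finset.coe_image]
      exact Set.subset_union_of_subset_right (subset_of_eq (Finset.coe_image).symm) _
    have h2 : (t : P)⁻¹ * x ∈ D := by
      refine mem_inf.2 ⟨mul_mem (inv_mem t.2) hx, mem_centralizer_iff.2 fun v hv => ?_⟩
      have e : (t : P) * v * (t : P)⁻¹ = x * v * x⁻¹ :=
        congrArg (fun f : AddMonoid.End (Additive ↥V) =>
          (((f (Additive.ofMul (⟨v, hv⟩ : ↥V))).toMul : ↥V) : P)) htx
      calc v * ((t : P)⁻¹ * x) = (t : P)⁻¹ * ((t : P) * v * (t : P)⁻¹) * x := by group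
        _ = (t : P)⁻¹ * x * v := by rw [e]; group
    have h3 : (t : P)⁻¹ * x ∈ closure ((S₁.image Subtype.val ∪ T.image Subtype.val : Finset P) : Set P) := by
      have : (t : P)⁻¹ * x ∈ (closure (S₁ : Set ↥D)).map D.subtype :=
        ⟨⟨_, h2⟩, hS₁ ▸ mem_top _, rfl⟩
      rw [MonoidHom.map_closure] at this
      refine closure_mono ?_ this
      rw [Finset.coe_union, Finset.coe_image]
      exact Set.subset_union_left
    have := mul_mem h1 h3
    rwa [mul_inv_cancel_left] at this

end CfsgLib.PGroups.KGen
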