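import Cfsg.Agent.Lib.PGroups.Basic

/-!
# Maximal abelian normal subgroups of finite p-groups
-/

set_option linter.unusedSectionVars false
set_option linter.style.haveILetI false

namespace CfsgLib.PGroups

open Subgroup
open scoped commutatorElement

variable {G : Type*} [Group G] {p : ℕ} [Fact p.Prime]

theorem isMulCommutative_iff_le_centralizer (A : Subgroup G) :
    IsMulCommutative A ↔ A ≤ centralizer (A : Set G) := by
  constructor
  · intro h a ha b hb
    exact congrArg Subtype.val (h.is_comm.comm ⟨b, hb⟩ ⟨a, ha⟩)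
  · exact fun h => ⟨⟨fun a b => Subtype.ext (h b.2 a a.2)⟩⟩

/-- Adjoining a centralizing element to an abelian subgroup gives an abelian subgroup. -/
theorem isMulCommutative_sup_zpowers {A : Subgroup G} (hA : IsMulCommutative A) {x : G}
    (hx : x ∈ centralizer (A : Set G)) : IsMulCommutative ↥(A ⊔ zpowers x) := by
  rw [isMulCommutative_iff_le_centralizer] at hA ⊢
  have key : A ⊔ zpowers x ≤ centralizer (A : Set G) := sup_le hA (zpowers_le.mpr hx)
  have h2 : A ⊔ zpowers x ≤ centralizer ({x} : Set G) := by
    refine sup_le ?_ (zpowers_le.mpr ?_)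
    · intro a ha
      rw [mem_centralizer_singleton_iff]
      exact hx a ha
    · rw [mem_centralizer_singleton_iff]
  refine sup_le (fun a ha b hb => (key hb a ha).symm) (zpowers_le.mpr fun b hb => ?_)
  exact mem_centralizer_singleton_iff.mp (h2 hb)

/-- A normal abelian subgroup of a finite p-group is contained in a self-centralizing one. -/
theorem exists_selfCentralizing_normal [Finite G] (hG : IsPGroup p G) (A₀ : Subgroup G) [A₀.Normal]
    (hA₀ : IsMulCommutative A₀) :
    ∃ A : Subgroup G, A.Normal ∧ IsMulCommutative A ∧ A₀ ≤ A ∧ centralizer (A : Set G) = A := by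
  obtain ⟨A, hA⟩ := Set.Finite.exists_maximal
    (s := {A : Subgroup G | A.Normal ∧ IsMulCommutative A ∧ A₀ ≤ A}) (Set.toFinite _)
    ⟨A₀, inferInstance, hA₀, le_rfl⟩
  obtain ⟨hn, hab, hle⟩ := hA.1
  refine ⟨A, hn, hab, hle, le_antisymm ?_ ((isMulCommutative_iff_le_centralizer A).mp hab)⟩
  haveI := hn
  by_contra hnot
  have hlt : A < centralizer (A : Set G) :=
    lt_of_le_not_ge ((isMulCommutative_iff_le_centralizer A).mp hab) hnot
  obtain ⟨K, hK, hAK, hKC, hrel, -⟩ := exists_normal_index_prime hG hlt
  obtain ⟨x, hxK, hxA⟩ : ∃ x ∈ K, x ∉ A := by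
    refine SetLike.not_le_iff_exists.mp fun h => ?_
    rw [Subgroup.relIndex_eq_one.mpr h] at hrel
    exact (Fact.out : p.Prime).ne_one hrel.symm
  have hsup : A ⊔ zpowers x = K := by
    refine le_antisymm (sup_le hAK (zpowers_le.mpr hxK)) ?_
    have h1 := Subgroup.relIndex_mul_relIndex A (A ⊔ zpowers x) K le_sup_left
      (sup_le hAK (zpowers_le.mpr hxK))
    rw [hrel] at h1
    rcases Nat.prime_mul_iff.mp (h1 ▸ (Fact.out : p.Prime)) with ⟨_, h⟩ | ⟨_, h⟩
    · exact Subgroup.relIndex_eq_one.mp h
    · exact absurd (Subgroup.relIndex_eq_one.mp h (le_sup_right (a := A) (mem_zpowers x))) hxA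
  have hKab : IsMulCommutative K := hsup ▸ isMulCommutative_sup_zpowers hab (hKC hxK)
  exact hxA (hA.2 ⟨hK, hKab, hle.trans hAK⟩ hAK hxK)

/-- The order of a p-group divides `|A|` times the order of `Aut A` for A self-centralizing normal. -/
theorem card_dvd_card_mul_mulAut [Finite G] {A : Subgroup G} [A.Normal]
    (hA : centralizer (A : Set G) = A) : Nat.card G ∣ Nat.card A * Nat.card (MulAut A) := by
  let φ : G →* MulAut A := MulAut.conjNormal
  have hker : φ.ker = A := by
    suffices h : φ.ker = centralizer (A : Set G) from h.trans hA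
    ext g
    rw [MonoidHom.mem_ker]
    constructor
    · intro hg a ha
      have := congrArg Subtype.val (DFunLike.congr_fun hg ⟨a, ha⟩)
      simp only [φ, MulAut.conjNormal_apply, MulAut.one_apply] at this
      exact (mul_inv_eq_iff_eq_mul.mp this).symm
    · intro hg
      ext ⟨a, ha⟩
      simp only [φ, MulAut.conjNormal_apply, MulAut.one_apply]
      rw [← hg a ha, mul_inv_cancel_right]
  have h1 : Nat.card G = Nat.card A * Nat.card φ.range := by
    rw [← Subgroup.index_ker, hker, Subgroup.card_mul_index]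
  rw [h1]
  exact mul_dvd_mul_left _ (Subgroup.card_subgroup_dvd_card _)

end CfsgLib.PGroups
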