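import Mathlib.GroupTheory.Nilpotent
import Cfsg.Agent.Lib.PGroups.Extraspecial
import Cfsg.Agent.Lib.PGroups.MaxAbelian
import Cfsg.Agent.Lib.PGroups.Generation

/-!
# p-groups of maximal class
-/

set_option linter.unusedSectionVars false
set_option linter.style.haveILetI false

universe u

namespace CfsgLib.PGroups

open Subgroup
open scoped commutatorElement

variable {p : ℕ} [Fact p.Prime]

theorem not_isCyclic_quotient_center {G : Type*} [Group G] (hG : ¬ IsMulCommutative G) :
    ¬ IsCyclic (G ⧸ center G) := by
  intro h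
  exact hG (MonoidHom.isMulCommutative_of_isCyclic_of_ker_le_center _ (QuotientGroup.ker_mk' (center G)).le)

/-- The index of the centre of a non-abelian p-group is at least `p^2`. -/
theorem sq_le_index_center {G : Type*} [Group G] [Finite G] (hG : IsPGroup p G)
    (hna : ¬ IsMulCommutative G) : p ^ 2 ≤ (center G).index := by
  obtain ⟨k, hk⟩ := index_eq_pow hG (center G)
  rw [hk]
  refine Nat.pow_le_pow_right (Fact.out : p.Prime).pos ?_
  by_contra hlt
  refine not_isCyclic_quotient_center hna ?_
  rcases (show k = 0 ∨ k = 1 by omega) with rfl | rfl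
  · haveI : Subsingleton (G ⧸ center G) :=
      (Nat.card_eq_one_iff_unique.mp (by rw [← Subgroup.index, hk, pow_zero])).1
    infer_instance
  · exact isCyclic_of_prime_card (p := p) (by rw [← Subgroup.index, hk, pow_one])

/-- A group of order `p^n`, `n ≥ 2`, has class at most `n - 1`. -/
theorem nilpotencyClass_le_sub_one {G : Type u} [Group G] [Finite G] {n : ℕ} (hn : 2 ≤ n)
    (hG : Nat.card G = p ^ n) : Group.nilpotencyClass G ≤ n - 1 := by
  have hp : p.Prime := Fact.out
  induction n using Nat.strong_induction_on generalizing G with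
  | _ n ih =>
  have hP : IsPGroup p G := IsPGroup.of_card hG
  haveI := hP.isNilpotent
  by_cases hab : IsMulCommutative G
  · exact (Group.IsNilpotent.nilpotencyClass_le_one_iff.mpr hab).trans (by omega)
  haveI : Nontrivial G := Finite.one_lt_card_iff_nontrivial.mp
    (hG ▸ Nat.one_lt_pow (by omega) hp.one_lt)
  rw [Group.nilpotencyClass_eq_quotient_center_plus_one]
  have h2 := sq_le_index_center hP hab
  obtain ⟨k, hk⟩ := index_eq_pow hP (center G)
  obtain ⟨j, hj⟩ := card_subgroup_eq_pow hP (center G)
  have hj0 : j ≠ 0 := by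
    intro h
    rw [h, pow_zero, Subgroup.card_eq_one] at hj
    exact Group.IsNilpotent.center_ne_bot G hj
  have hjk : j + k = n := by
    have := Subgroup.card_mul_index (center G)
    rw [hj, hk, hG, ← pow_add] at this
    exact Nat.pow_right_injective hp.two_le this
  rw [hk, Nat.pow_le_pow_iff_right hp.one_lt] at h2
  have := ih k (by omega) (G := G ⧸ center G) h2 (by rw [← Subgroup.index, hk])
  omega

/-- In a group of maximal class of order `p^n`, `n ≥ 3`, the centre has order p and the central
quotient has maximal class. -/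
theorem center_of_maximalClass {G : Type u} [Group G] [Finite G] {n : ℕ} (hn : 3 ≤ n)
    (hG : Nat.card G = p ^ n) (hcl : Group.nilpotencyClass G = n - 1) :
    Nat.card (center G) = p ∧ Nat.card (G ⧸ center G) = p ^ (n - 1) ∧
      Group.nilpotencyClass (G ⧸ center G) = n - 2 := by
  have hp : p.Prime := Fact.out
  have hP : IsPGroup p G := IsPGroup.of_card hG
  haveI := hP.isNilpotent
  have hq : Group.nilpotencyClass (G ⧸ center G) = n - 2 := by
    rw [Group.nilpotencyClass_quotient_center, hcl]; omega
  have hab : ¬ IsMulCommutative G := fun h => by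
    have := Group.IsNilpotent.nilpotencyClass_le_one_iff.mpr h; omega
  obtain ⟨k, hk⟩ := index_eq_pow hP (center G)
  obtain ⟨j, hj⟩ := card_subgroup_eq_pow hP (center G)
  have hcardq : Nat.card (G ⧸ center G) = p ^ k := by rw [← Subgroup.index, hk]
  haveI : Nontrivial G := Finite.one_lt_card_iff_nontrivial.mp
    (hG ▸ Nat.one_lt_pow (by omega) hp.one_lt)
  have h2 := sq_le_index_center hP hab
  rw [hk, Nat.pow_le_pow_iff_right hp.one_lt] at h2
  have hj0 : j ≠ 0 := by
    intro h
    rw [h, pow_zero, Subgroup.card_eq_one] at hj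
    exact Group.IsNilpotent.center_ne_bot G hj
  have hjk : j + k = n := by
    have := Subgroup.card_mul_index (center G)
    rw [hj, hk, hG, ← pow_add] at this
    exact Nat.pow_right_injective hp.two_le this
  have := nilpotencyClass_le_sub_one h2 hcardq
  obtain ⟨rfl, rfl⟩ : j = 1 ∧ k = n - 1 := by omega
  exact ⟨by rw [hj, pow_one], hcardq, hq⟩

/-- If `Z(G)` has order p and `G/Z(G)` has maximal class then so has G. -/
theorem maximalClass_of_quotient_center {G : Type*} [Group G] [Finite G] {n : ℕ} (hn : 2 ≤ n)
    (hG : Nat.card G = p ^ n) (hq : Group.nilpotencyClass (G ⧸ center G) = n - 2) :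
    Group.nilpotencyClass G = n - 1 := by
  haveI := (IsPGroup.of_card hG : IsPGroup p G).isNilpotent
  haveI : Nontrivial G := Finite.one_lt_card_iff_nontrivial.mp
    (hG ▸ Nat.one_lt_pow (by omega) (Fact.out : p.Prime).one_lt)
  rw [Group.nilpotencyClass_eq_quotient_center_plus_one, hq]
  omega

theorem nilpotencyClass_eq_one {G : Type*} [Group G] [Group.IsNilpotent G] [Nontrivial G]
    (h : IsMulCommutative G) : Group.nilpotencyClass G = 1 := by
  refine le_antisymm (Group.IsNilpotent.nilpotencyClass_le_one_iff.mpr h)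
    (Nat.one_le_iff_ne_zero.mpr fun h0 => ?_)
  exact not_subsingleton G (Group.nilpotencyClass_zero_iff_subsingleton.mp h0)

theorem center_le_of_centralizer_eq {G : Type*} [Group G] {A : Subgroup G}
    (hC : centralizer (A : Set G) = A) : center G ≤ A :=
  hC ▸ center_le_centralizer _

/-- A self-centralizing subgroup of order `p^2` forces maximal class. -/
theorem maximalClass_of_centralizer_eq {G : Type u} [Group G] [Finite G] {n : ℕ}
    (hG : Nat.card G = p ^ n) {A : Subgroup G} (hA : Nat.card A = p ^ 2)
    (hC : centralizer (A : Set G) = A) : Group.nilpotencyClass G = n - 1 := by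
  have hp : p.Prime := Fact.out
  induction n using Nat.strong_induction_on generalizing G with
  | _ n ih =>
  have hP : IsPGroup p G := IsPGroup.of_card hG
  haveI := hP.isNilpotent
  have hn : 2 ≤ n := by
    have := Subgroup.card_subgroup_dvd_card A
    rwa [hA, hG, Nat.pow_dvd_pow_iff_le_right hp.one_lt] at this
  haveI : Nontrivial G := Finite.one_lt_card_iff_nontrivial.mp
    (hG ▸ Nat.one_lt_pow (by omega) hp.one_lt)
  have hAab : IsMulCommutative A := (isMulCommutative_iff_le_centralizer A).mpr hC.ge
  rcases hn.lt_or_eq with hn3 | rfl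
  swap
  · have : A = ⊤ := (Subgroup.card_eq_iff_eq_top A).mp (by rw [hA, hG])
    subst this
    exact nilpotencyClass_eq_one ⟨⟨fun a b => congrArg Subtype.val
      (hAab.is_comm.comm ⟨a, mem_top a⟩ ⟨b, mem_top b⟩)⟩⟩
  have hZA := center_le_of_centralizer_eq hC
  have hne : A ≠ ⊤ := fun h => by
    rw [h, Subgroup.card_top, hG] at hA
    exact absurd (Nat.pow_right_injective hp.two_le hA) (by omega)
  have hZ : Nat.card (center G) = p := by
    obtain ⟨j, hj⟩ := card_subgroup_eq_pow hP (center G)
    have hj2 : j ≤ 2 := by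
      have := Subgroup.card_le_of_le hZA
      rwa [hj, hA, Nat.pow_le_pow_iff_right hp.one_lt] at this
    rcases (show j = 0 ∨ j = 1 ∨ j = 2 by omega) with rfl | rfl | rfl
    · rw [pow_zero, Subgroup.card_eq_one] at hj
      exact absurd hj (Group.IsNilpotent.center_ne_bot G)
    · rw [hj, pow_one]
    · refine absurd ?_ hne
      have hAZ : center G = A := Subgroup.eq_of_le_of_card_ge hZA (by rw [hA, hj])
      rw [eq_top_iff, ← hC]
      intro g _ a ha
      rw [← hAZ] at ha
      exact (Subgroup.mem_center_iff.mp ha g).symm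
  -- an element of A outside the centre
  obtain ⟨a, haA, haZ⟩ := SetLike.not_le_iff_exists.mp (fun h : A ≤ center G => by
    have := Subgroup.card_le_of_le h
    rw [hA, hZ] at this
    exact absurd this (not_le.mpr (lt_self_pow₀ hp.one_lt one_lt_two)))
  have hAgen : A = center G ⊔ zpowers a := by
    refine (Subgroup.eq_of_le_of_card_ge (sup_le hZA (zpowers_le.mpr haA)) ?_).symm
    have hlt : center G < center G ⊔ zpowers a :=
      lt_of_le_of_ne le_sup_left fun h => haZ (h.ge (le_sup_right (a := center G) (mem_zpowers a)))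
    have h1 : p < Nat.card (center G ⊔ zpowers a : Subgroup G) :=
      hZ ▸ lt_of_le_of_ne (Subgroup.card_le_of_le hlt.le)
        (fun h => hlt.ne (Subgroup.eq_of_le_of_card_ge hlt.le h.ge))
    obtain ⟨k, hk⟩ := card_subgroup_eq_pow hP (center G ⊔ zpowers a)
    rw [hA, hk]
    rw [hk] at h1
    nth_rewrite 1 [← pow_one p] at h1
    exact Nat.pow_le_pow_right hp.pos ((Nat.pow_lt_pow_iff_right hp.one_lt).mp h1)
  let Q := G ⧸ center G
  let f := QuotientGroup.mk' (center G)
  have hQ : Nat.card Q = p ^ (n - 1) := by
    have := Subgroup.card_eq_card_quotient_mul_card_subgroup (center G)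
    rw [hG, hZ, show n = n - 1 + 1 by omega, pow_succ] at this
    exact (Nat.eq_of_mul_eq_mul_right hp.pos this).symm
  have hQP : IsPGroup p Q := IsPGroup.of_card hQ
  have hĀ : Nat.card (zpowers (f a)) = p := by
    refine (Nat.card_zpowers (f a)).trans (orderOf_eq_prime ?_ ?_)
    · rw [← map_pow]
      refine (QuotientGroup.eq_one_iff _).mpr ?_
      have h1 : (center G).relIndex A = p := by
        have := Subgroup.relIndex_mul_relIndex ⊥ (center G) A bot_le hZA
        rw [Subgroup.relIndex_bot_left, Subgroup.relIndex_bot_left, hZ, hA, pow_two] at this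
        exact Nat.eq_of_mul_eq_mul_left hp.pos this
      have h2 := Subgroup.pow_index_mem ((center G).subgroupOf A) ⟨a, haA⟩
      rw [← Subgroup.relIndex, h1, Subgroup.mem_subgroupOf] at h2
      simpa using h2
    · exact fun h => haZ ((QuotientGroup.eq_one_iff _).mp h)
  -- the centralizer of the image of a
  let C := centralizer ({f a} : Set Q)
  have hlow : p ^ 2 ≤ Nat.card C := by
    have hlt : zpowers (f a) < ⊤ := by
      refine lt_top_iff_ne_top.mpr fun h => ?_
      rw [h, Subgroup.card_top, hQ] at hĀ
      have := Nat.pow_right_injective hp.two_le (hĀ.trans (pow_one p).symm)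
      omega
    have hN := lt_normalizer hQP hlt
    let N := normalizer (zpowers (f a) : Set Q)
    have hle : N ≤ C := by
      haveI : ((zpowers (f a)).subgroupOf N).Normal := Subgroup.normal_in_normalizer
      have hne : (zpowers (f a)).subgroupOf N ≠ ⊥ := fun h => by
        have h2 := Nat.card_congr (Subgroup.subgroupOfEquivOfLe hN.le).toEquiv
        rw [h, Subgroup.card_bot, hĀ] at h2
        exact hp.ne_one h2.symm
      have hi := inf_center_ne_bot (hQP.to_subgroup N) hne
      intro g hg
      obtain ⟨z, hz, hz1⟩ := (Subgroup.ne_bot_iff_exists_ne_one.mp hi).elim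
        (fun z hz => (show ∃ z : N, z ∈ (zpowers (f a)).subgroupOf N ⊓ center N ∧ z ≠ 1 from
          ⟨z.1, z.2, fun h => hz (Subtype.ext h)⟩))
      obtain ⟨i, hi'⟩ := Subgroup.mem_zpowers_iff.mp (Subgroup.mem_subgroupOf.mp hz.1)
      have hgen : f a ∈ zpowers (z : Q) := by
        have hzne : (z : Q) ≠ 1 := fun h => hz1 (Subtype.ext h)
        have : zpowers (z : Q) = zpowers (f a) := by
          refine Subgroup.eq_of_le_of_card_ge (zpowers_le.mpr (hi' ▸ zpow_mem (mem_zpowers _) i)) ?_
          rw [hĀ]
          exact Nat.le_of_dvd Nat.card_pos (dvd_card_of_ne_bot hQP (by simpa using hzne))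
        exact this ▸ mem_zpowers _
      rw [mem_centralizer_singleton_iff]
      obtain ⟨k, hk⟩ := Subgroup.mem_zpowers_iff.mp hgen
      rw [← hk]
      have hc : Commute g (z : Q) :=
        congrArg Subtype.val (Subgroup.mem_center_iff.mp hz.2 ⟨g, hg⟩)
      exact (hc.zpow_right k).eq
    obtain ⟨j, hj⟩ := card_subgroup_eq_pow hQP C
    have h1 : p < Nat.card C := hĀ ▸ lt_of_lt_of_le
      (lt_of_le_of_ne (Subgroup.card_le_of_le hN.le)
        (fun h => hN.ne (Subgroup.eq_of_le_of_card_ge hN.le h.ge))) (Subgroup.card_le_of_le hle)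
    rw [hj] at h1 ⊢
    nth_rewrite 1 [← pow_one p] at h1
    exact Nat.pow_le_pow_right hp.pos ((Nat.pow_lt_pow_iff_right hp.one_lt).mp h1)
  have hcomm : ∀ g : G, f g ∈ C ↔ ⁅g, a⁆ ∈ center G := by
    intro g
    rw [mem_centralizer_singleton_iff, ← commutatorElement_eq_one_iff_mul_comm,
      ← map_commutatorElement]
    exact QuotientGroup.eq_one_iff _
  have hup : Nat.card C ≤ p ^ 2 := by
    let M := C.comap f
    let a' : M := ⟨a, by rw [Subgroup.mem_comap, hcomm, commutatorElement_self]; exact one_mem _⟩
    let Z' := (center G).subgroupOf M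
    have hZM : center G ≤ M := fun z hz => by
      rw [Subgroup.mem_comap, QuotientGroup.mk'_apply, (QuotientGroup.eq_one_iff z).mpr hz]
      exact one_mem _
    have h1 := index_centralizer_singleton_le (Z := Z')
      (fun z hz => Subgroup.mem_center_iff.mpr fun g => Subtype.ext
        (Subgroup.mem_center_iff.mp (Subgroup.mem_subgroupOf.mp hz) g))
      (x := a') (fun g => Subgroup.mem_subgroupOf.mpr (by
        simpa [commutatorElement_def] using (hcomm (g : G)).mp g.2))
    rw [Nat.card_congr (Subgroup.subgroupOfEquivOfLe hZM).toEquiv, hZ] at h1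
    have h2 : Nat.card (centralizer ({a'} : Set M)) ≤ p ^ 2 := by
      rw [← hA]
      refine Nat.card_le_card_of_injective (fun g => (⟨(g : M), ?_⟩ : A)) fun g g' h => ?_
      · rw [← hC]
        intro c hc
        rw [hAgen] at hc
        have hga : ((g : M) : G) * a = a * ((g : M) : G) :=
          congrArg Subtype.val (mem_centralizer_singleton_iff.mp g.2)
        have : c ∈ centralizer ({((g : M) : G)} : Set G) := by
          refine sup_le (center_le_centralizer _) (zpowers_le.mpr ?_) hc
          exact mem_centralizer_singleton_iff.mpr hga.symm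
        exact (mem_centralizer_singleton_iff.mp this)
      · exact Subtype.ext (Subtype.ext (congrArg (fun x : A => (x : G)) h))
    have h3 := Subgroup.index_mul_card (centralizer ({a'} : Set M))
    have h4 : Nat.card M ≤ p * p ^ 2 := h3 ▸ Nat.mul_le_mul h1 h2
    have h5 : Nat.card M = Nat.card C * p := by
      have hmap : M.map f = C := Subgroup.map_comap_eq_self_of_surjective
        (QuotientGroup.mk'_surjective _) C
      rw [← hmap, ← Subgroup.relIndex_ker, QuotientGroup.ker_mk', ← hZ,
        ← Subgroup.relIndex_bot_left (center G), mul_comm,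
        Subgroup.relIndex_mul_relIndex ⊥ _ _ bot_le hZM, Subgroup.relIndex_bot_left]
    rw [h5, mul_comm] at h4
    exact Nat.le_of_mul_le_mul_left h4 hp.pos
  have hCcard : Nat.card C = p ^ 2 := le_antisymm hup hlow
  haveI : IsMulCommutative C := IsPGroup.isMulCommutative_of_card_eq_prime_sq hCcard
  have hCC : centralizer (C : Set Q) = C := le_antisymm
    (centralizer_le (by
      rintro x rfl
      exact mem_centralizer_singleton_iff.mpr rfl))
    ((isMulCommutative_iff_le_centralizer C).mp inferInstance)
  exact maximalClass_of_quotient_center (p := p) hn hG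
    (by rw [show n - 2 = n - 1 - 1 by omega]; exact ih (n - 1) (by omega) hQ hCcard hCC)

/-- A non-abelian subgroup B of order `p^3` with `C(B) ≤ B` forces maximal class. -/
theorem maximalClass_of_centralizer_le {G : Type u} [Group G] [Finite G] {n : ℕ}
    (hG : Nat.card G = p ^ n) {B : Subgroup G} (hB : Nat.card B = p ^ 3)
    (hBna : ¬ IsMulCommutative B) (hC : centralizer (B : Set G) ≤ B) :
    Group.nilpotencyClass G = n - 1 := by
  have hp : p.Prime := Fact.out
  have hP : IsPGroup p G := IsPGroup.of_card hG
  haveI := hP.isNilpotent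
  have hn : 3 ≤ n := by
    have := Subgroup.card_subgroup_dvd_card B
    rwa [hB, hG, Nat.pow_dvd_pow_iff_le_right hp.one_lt] at this
  haveI : Nontrivial G := Finite.one_lt_card_iff_nontrivial.mp
    (hG ▸ Nat.one_lt_pow (by omega) hp.one_lt)
  have hZB : center G ≤ B := (center_le_centralizer _).trans hC
  have hBP : IsPGroup p B := hP.to_subgroup B
  have hcB : Nat.card (center B) ≤ p := by
    obtain ⟨j, hj⟩ := card_subgroup_eq_pow hBP (center B)
    have h2 := sq_le_index_center hBP hBna
    have h3 := Subgroup.card_mul_index (center B)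
    rw [hB] at h3
    refine Nat.le_of_mul_le_mul_right (c := p ^ 2) ?_ (pow_pos hp.pos 2)
    rw [← pow_succ' p 2, ← h3]
    exact Nat.mul_le_mul_left _ h2
  have hCcard : Nat.card (centralizer (B : Set G)) ≤ p := by
    refine le_trans ?_ hcB
    refine Nat.card_le_card_of_injective
      (fun g => (⟨⟨g.1, hC g.2⟩, Subgroup.mem_center_iff.mpr fun b => Subtype.ext (g.2 b b.2)⟩ :
        center B)) fun g g' h => Subtype.ext (congrArg (fun x : center B => ((x : B) : G)) h)
  have hZ : Nat.card (center G) = p ∧ centralizer (B : Set G) = center G := by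
    have h1 : p ≤ Nat.card (center G) :=
      Nat.le_of_dvd Nat.card_pos (dvd_card_of_ne_bot hP (Group.IsNilpotent.center_ne_bot G))
    have h2 := Subgroup.card_le_of_le (center_le_centralizer (B : Set G))
    exact ⟨by omega, (Subgroup.eq_of_le_of_card_ge (center_le_centralizer _) (by omega)).symm⟩
  let f := QuotientGroup.mk' (center G)
  have hmapcard : ∀ M : Subgroup G, center G ≤ M → Nat.card M = Nat.card (M.map f) * p := by
    intro M hM
    rw [← Subgroup.relIndex_ker, QuotientGroup.ker_mk', mul_comm, ← hZ.1,
      ← Subgroup.relIndex_bot_left (center G),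
      Subgroup.relIndex_mul_relIndex ⊥ _ _ bot_le hM, Subgroup.relIndex_bot_left]
  have hBbar : Nat.card (B.map f) = p ^ 2 := by
    have := hmapcard B hZB
    rw [hB, pow_succ] at this
    exact (Nat.eq_of_mul_eq_mul_right hp.pos this).symm
  haveI : IsMulCommutative (B.map f) := IsPGroup.isMulCommutative_of_card_eq_prime_sq hBbar
  let C := centralizer ((B.map f : Subgroup (G ⧸ center G)) : Set (G ⧸ center G))
  have hBC : B.map f ≤ C := (isMulCommutative_iff_le_centralizer _).mp inferInstance
  let M := C.comap f
  have hBM : B ≤ M := Subgroup.map_le_iff_le_comap.mp hBC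
  have hcomm : ∀ g ∈ M, ∀ b ∈ B, ⁅g, b⁆ ∈ center G := by
    intro g hg b hb
    rw [← QuotientGroup.eq_one_iff, ← QuotientGroup.mk'_apply, map_commutatorElement,
      commutatorElement_eq_one_iff_mul_comm]
    exact (hg (f b) (Subgroup.mem_map_of_mem f hb)).symm
  let Z' := (center G).subgroupOf M
  let B' := B.subgroupOf M
  have hZ'card : Nat.card Z' = p :=
    (Nat.card_congr (Subgroup.subgroupOfEquivOfLe (hZB.trans hBM)).toEquiv).trans hZ.1
  have hrel := relIndex_centralizer_le (p := p) (Z := Z') (fun z hz => Subgroup.mem_center_iff.mpr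
      fun g => Subtype.ext (Subgroup.mem_center_iff.mp (Subgroup.mem_subgroupOf.mp hz) g))
    hZ'card.le ((hP.to_subgroup M).to_subgroup B')
    (fun g x hx => Subgroup.mem_subgroupOf.mpr (by
      simpa [commutatorElement_def] using hcomm g g.2 x (Subgroup.mem_subgroupOf.mp hx)))
    (K := Z') (fun z hz => hZB hz)
  have hCZ : centralizer (Z' : Set M) = ⊤ := by
    rw [eq_top_iff]
    intro g _ z hz
    exact Subtype.ext (Subgroup.mem_center_iff.mp hz g).symm
  have hCB : Nat.card (centralizer (B' : Set M)) ≤ p := by
    refine le_trans ?_ hCcard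
    refine Nat.card_le_card_of_injective
      (fun g => (⟨(g : M), fun b hb => congrArg Subtype.val
        (g.2 ⟨b, hBM hb⟩ (Subgroup.mem_subgroupOf.mpr hb))⟩ : centralizer (B : Set G))) ?_
    exact fun g g' h => Subtype.ext (Subtype.ext
      (congrArg (fun x : centralizer (B : Set G) => (x : G)) h))
  have hrelval : Z'.relIndex B' = p ^ 2 := by
    have := Subgroup.relIndex_mul_relIndex ⊥ Z' B' bot_le (fun z hz => hZB hz)
    rw [Subgroup.relIndex_bot_left, Subgroup.relIndex_bot_left, hZ'card,
      Nat.card_congr (Subgroup.subgroupOfEquivOfLe hBM).toEquiv, hB, pow_succ'] at this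
    exact Nat.eq_of_mul_eq_mul_left hp.pos this
  rw [hCZ, Subgroup.relIndex_top_right, hrelval] at hrel
  have hMcard : Nat.card M ≤ Nat.card B := by
    rw [hB, pow_succ, ← Subgroup.index_mul_card (centralizer (B' : Set M))]
    exact Nat.mul_le_mul hrel hCB
  have hMB : B = M := Subgroup.eq_of_le_of_card_ge hBM hMcard
  have hCeq : C = B.map f := by
    rw [hMB]
    exact (Subgroup.map_comap_eq_self_of_surjective (QuotientGroup.mk'_surjective _) C).symm
  have hQ : Nat.card (G ⧸ center G) = p ^ (n - 1) := by
    have := Subgroup.card_eq_card_quotient_mul_card_subgroup (center G)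
    rw [hG, hZ.1, show n = n - 1 + 1 by omega, pow_succ] at this
    exact (Nat.eq_of_mul_eq_mul_right hp.pos this).symm
  exact maximalClass_of_quotient_center (p := p) (by omega) hG
    (by rw [show n - 2 = n - 1 - 1 by omega]; exact maximalClass_of_centralizer_eq hQ hBbar hCeq)

/-- The Frattini subgroup of a non-abelian p-group has index at least `p^2`. -/
theorem sq_le_index_frattini {G : Type*} [Group G] [Finite G] (hP : IsPGroup p G)
    (hna : ¬ IsMulCommutative G) : p ^ 2 ≤ (frattini G).index := by
  obtain ⟨k, hk⟩ := index_eq_pow hP (frattini G)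
  rw [hk]
  refine Nat.pow_le_pow_right (Fact.out : p.Prime).pos ?_
  by_contra hlt
  obtain ⟨S, hS, htop⟩ := exists_finset_closure_eq_top (p := p) hP
  have h2 : S.card ≤ 1 := by
    refine le_trans ((Nat.pow_le_pow_iff_right (Fact.out : p.Prime).one_lt).mp (htop.trans_eq hk)) ?_
    omega
  refine hna ?_
  rcases Finset.card_le_one_iff_subset_singleton.mp h2 with ⟨x, hx⟩
  have hgen : zpowers x = ⊤ := by
    rw [zpowers_eq_closure, eq_top_iff, ← hS]
    exact Subgroup.closure_mono (by simpa using Finset.coe_subset.mpr hx)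
  haveI : IsCyclic G := ⟨x, fun g => by
    have : g ∈ zpowers x := by rw [hgen]; exact mem_top g
    exact this⟩
  infer_instance

theorem sq_le_index_commutator {G : Type*} [Group G] [Finite G] (hP : IsPGroup p G)
    (hna : ¬ IsMulCommutative G) : p ^ 2 ≤ (commutator G).index :=
  (sq_le_index_frattini hP hna).trans (Nat.le_of_dvd
    (Nat.pos_of_ne_zero Subgroup.FiniteIndex.index_ne_zero)
    (Subgroup.index_dvd_of_le (commutator_le_frattini hP)))

/-- If `|G : G'| = p^2` then `G' = Φ(G)`, for non-abelian G. -/
theorem frattini_eq_commutator {G : Type*} [Group G] [Finite G] (hP : IsPGroup p G)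
    (hna : ¬ IsMulCommutative G) (h : (commutator G).index = p ^ 2) :
    frattini G = commutator G := by
  refine (Subgroup.eq_of_le_of_card_ge (commutator_le_frattini hP) ?_).symm
  refine Nat.le_of_mul_le_mul_right (c := (commutator G).index) ?_
    (Nat.pos_of_ne_zero Subgroup.FiniteIndex.index_ne_zero)
  rw [Subgroup.card_mul_index (commutator G), ← Subgroup.card_mul_index (frattini G)]
  exact Nat.mul_le_mul_left _ (h ▸ sq_le_index_frattini hP hna)

/-- Order bound on the lower central series. -/
theorem pow_le_card_lowerCentralSeries {G : Type*} [Group G] [Finite G] (hP : IsPGroup p G) {i k : ℕ}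
    (h : (⊤ : Subgroup G).lowerCentralSeries (i + k) ≠ ⊥) :
    p ^ (k + 1) ≤ Nat.card ((⊤ : Subgroup G).lowerCentralSeries i) := by
  induction k generalizing i with
  | zero => rw [pow_one]; exact Nat.le_of_dvd Nat.card_pos (dvd_card_of_ne_bot hP h)
  | succ k ih =>
    haveI : ((⊤ : Subgroup G).lowerCentralSeries i).Normal := inferInstance
    have hne : (⊤ : Subgroup G).lowerCentralSeries i ≠ ⊥ := fun h0 => h (le_bot_iff.mp
      (h0 ▸ Subgroup.lowerCentralSeries_antitone _ (Nat.le_add_right i (k + 1))))
    have hlt := commutator_top_lt hP hne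
    rw [← Subgroup.lowerCentralSeries_succ] at hlt
    have h1 := ih (i := i + 1) (by rwa [add_assoc, add_comm 1 k])
    rw [pow_succ', ← Subgroup.relIndex_bot_left ((⊤ : Subgroup G).lowerCentralSeries i),
      ← Subgroup.relIndex_mul_relIndex ⊥ _ _ bot_le hlt.le, Subgroup.relIndex_bot_left, mul_comm p]
    refine Nat.mul_le_mul h1 ?_
    obtain ⟨e, he⟩ := index_eq_pow (hP.to_subgroup ((⊤ : Subgroup G).lowerCentralSeries i))
      (((⊤ : Subgroup G).lowerCentralSeries (i + 1)).subgroupOf _)
    rcases e with _ | e
    · exact absurd (Subgroup.relIndex_eq_one.mp (he.trans (pow_zero p))) hlt.not_ge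
    · rw [Subgroup.relIndex, he]; exact Nat.le_self_pow (Nat.succ_ne_zero e) p

/-- In a group of maximal class the normal subgroups of index `p^r`, `r ≥ 2`, are terms of the
lower central series. -/
theorem eq_lowerCentralSeries_of_maximalClass {G : Type u} [Group G] [Finite G] {n : ℕ}
    (hn : 3 ≤ n) (hG : Nat.card G = p ^ n) (hcl : Group.nilpotencyClass G = n - 1) {N : Subgroup G}
    [N.Normal] {r : ℕ} (hr : 2 ≤ r) (hN : N.index = p ^ r) :
    N = (⊤ : Subgroup G).lowerCentralSeries (r - 1) := by
  have hp : p.Prime := Fact.out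
  have hP : IsPGroup p G := IsPGroup.of_card hG
  haveI := hP.isNilpotent
  have hna : ¬ IsMulCommutative G := fun h => by
    have := Group.IsNilpotent.nilpotencyClass_le_one_iff.mpr h; omega
  have hrn : r ≤ n := by
    have := Subgroup.index_dvd_card N
    rwa [hN, hG, Nat.pow_dvd_pow_iff_le_right hp.one_lt] at this
  have hle : (⊤ : Subgroup G).lowerCentralSeries (r - 1) ≤ N := by
    haveI := Group.nilpotent_of_surjective (QuotientGroup.mk' N) (QuotientGroup.mk'_surjective N)
    have hc := nilpotencyClass_le_sub_one (G := G ⧸ N) hr (by rw [← Subgroup.index, hN])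
    rw [← QuotientGroup.ker_mk' N, ← Subgroup.map_eq_bot_iff, map_lowerCentralSeries,
      Subgroup.map_top_of_surjective _ (QuotientGroup.mk'_surjective N),
      Subgroup.lowerCentralSeries_eq_bot_iff_nilpotencyClass_le]
    exact hc
  refine (Subgroup.eq_of_le_of_card_ge hle ?_).symm
  have hcard : Nat.card N = p ^ (n - r) := by
    refine Nat.eq_of_mul_eq_mul_right (pow_pos hp.pos r) ?_
    rw [← pow_add, Nat.sub_add_cancel hrn, ← hG, ← hN, Subgroup.card_mul_index]
  rw [hcard]
  rcases hrn.lt_or_eq with hlt | rfl
  · rw [show n - r = (n - 1 - r) + 1 by omega]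
    refine pow_le_card_lowerCentralSeries hP fun h => ?_
    rw [Subgroup.lowerCentralSeries_eq_bot_iff_nilpotencyClass_le, hcl] at h
    omega
  · rw [Nat.sub_self, pow_zero]; exact Nat.card_pos

theorem index_commutator_of_maximalClass {G : Type u} [Group G] [Finite G] {n : ℕ}
    (hn : 3 ≤ n) (hG : Nat.card G = p ^ n) (hcl : Group.nilpotencyClass G = n - 1) :
    (commutator G).index = p ^ 2 := by
  have hP : IsPGroup p G := IsPGroup.of_card hG
  obtain ⟨N, -, hNn, hNc⟩ : ∃ N : Subgroup G, True ∧ N.Normal ∧ Nat.card N = p ^ (n - 2) := by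
    obtain ⟨N, hN, -, -, hc⟩ := exists_normal_card_eq (p := p) hP (N := ⊥) (M := ⊤) bot_le
      (k := n - 2) (by rw [Subgroup.card_bot]; exact Nat.one_le_pow _ _ (Fact.out : p.Prime).pos)
      (by rw [Subgroup.card_top, hG]
          exact Nat.pow_le_pow_right (Fact.out : p.Prime).pos (Nat.sub_le n 2))
    exact ⟨N, trivial, hN, hc⟩
  have hidx : N.index = p ^ 2 := by
    have := Subgroup.card_mul_index N
    rw [hNc, hG, show n = n - 2 + 2 by omega, pow_add] at this
    exact Nat.eq_of_mul_eq_mul_left (pow_pos (Fact.out : p.Prime).pos _) (by simpa using this)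
  haveI := hNn
  rw [← top_lowerCentralSeries_one, ← eq_lowerCentralSeries_of_maximalClass hn hG hcl le_rfl hidx,
    hidx]

end CfsgLib.PGroups
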