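import Cfsg.Agent.Lib.PGroups.Basic
import Cfsg.Agent.Lib.PGroups.UniqueOrderP
import Cfsg.Agent.Lib.OddOrder.MetacyclicAction

/-!
Metacyclic 2-groups with an automorphism of odd prime order are `Q₈` or homocyclic of rank two.
-/

set_option autoImplicit false
set_option linter.style.haveILetI false
set_option linter.unusedSectionVars false

universe u

namespace CfsgLib.PGroups.MetacyclicTwoAut

open Cfsg Subgroup
open scoped commutatorElement

variable {X : Type u} [Group X] [Finite X]

/-- A cyclic group of exponent two has order at most two. -/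
theorem card_le_two {C : Type*} [Group C] [Finite C] [IsCyclic C] (h : ∀ x : C, x ^ 2 = 1) :
    Nat.card C ≤ 2 := by
  obtain ⟨g, hg⟩ := IsCyclic.exists_ofOrder_eq_natCard (α := C)
  rw [← hg]
  exact Nat.le_of_dvd two_pos (orderOf_dvd_of_pow_eq_one (h g))

/-- An elementary abelian subgroup of a metacyclic group has order at most four. -/
theorem card_le_four (hm : IsMetacyclic X) (E : Subgroup X) (hE : ∀ x ∈ E, x ^ 2 = 1) :
    Nat.card E ≤ 4 := by
  obtain ⟨N, hN, hNc, hQc⟩ := hm
  set f := (QuotientGroup.mk' N).comp E.subtype with hf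
  have h1 : Nat.card f.range ≤ 2 := card_le_two fun x => by
    obtain ⟨y, hy⟩ := x.2
    apply Subtype.ext
    rw [coe_pow, coe_one, ← hy, ← map_pow,
      show y ^ 2 = 1 from Subtype.ext (hE y y.2), map_one]
  have h2 : Nat.card f.ker ≤ 2 := by
    haveI : IsCyclic f.ker := by
      refine isCyclic_of_injective ((E.subtype.comp f.ker.subtype).codRestrict N fun x => ?_)
        (fun x y h => ?_)
      · exact (QuotientGroup.eq_one_iff _).1 x.2
      · exact Subtype.ext (Subtype.ext (congrArg (fun z : N => (z : X)) h))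
    exact card_le_two fun x => Subtype.ext (Subtype.ext (hE _ x.1.2))
  rw [card_eq_card_quotient_mul_card_subgroup f.ker,
    Nat.card_congr (QuotientGroup.quotientKerEquivRange f).toEquiv]
  exact Nat.mul_le_mul h1 h2

/-- An abelian metacyclic group has at most four elements with square one. -/
theorem card_sq_eq_one_le_four (hm : IsMetacyclic X) (hc : ∀ a b : X, a * b = b * a) :
    Nat.card {x : X // x * x = 1} ≤ 4 := by
  let E : Subgroup X :=
    { carrier := {x | x ^ 2 = 1}
      one_mem' := one_pow 2
      mul_mem' := fun {a b} ha hb => by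
        simp only [Set.mem_setOf_eq] at *
        rw [Commute.mul_pow (hc a b), ha, hb, one_mul]
      inv_mem' := fun {a} ha => by simp only [Set.mem_setOf_eq] at *; rw [inv_pow, ha, inv_one] }
  exact (Nat.card_le_card_of_injective (α := {x : X // x * x = 1})
    (fun x => (⟨x.1, (sq x.1).trans x.2⟩ : E))
    fun x y h => Subtype.ext (congrArg (fun z : E => (z : X)) h)).trans (card_le_four hm E fun x hx => hx)

/-- Squaring as a homomorphism of a commutative group. -/
def sqHom (hc : ∀ a b : X, a * b = b * a) : X →* X where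
  toFun x := x ^ 2
  map_one' := one_pow 2
  map_mul' x y := Commute.mul_pow (hc x y) 2

/-- The automorphism induced on the quotient by a characteristic subgroup. -/
noncomputable def quotAut (K : Subgroup X) [K.Characteristic] (α : MulAut X) : MulAut (X ⧸ K) :=
  QuotientGroup.congr K K α (characteristic_iff_map_eq.1 (inferInstance : K.Characteristic) α)

theorem quotAut_mk (K : Subgroup X) [K.Characteristic] (α : MulAut X) (x : X) :
    quotAut K α x = (α x : X ⧸ K) := QuotientGroup.congr_mk' K K α _ x

theorem quotAut_pow (K : Subgroup X) [K.Characteristic] (α : MulAut X) :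
    ∀ (n : ℕ) (x : X), (quotAut K α ^ n) x = ((α ^ n) x : X)
  | 0, x => rfl
  | n + 1, x => by
    rw [pow_succ', MulAut.mul_apply, quotAut_pow K α n x, quotAut_mk, pow_succ', MulAut.mul_apply]

variable {r : ℕ} [hr : Fact r.Prime] {α : MulAut X}

/-- An automorphism of odd prime order of a 2-group which is trivial modulo the Frattini subgroup
is trivial. -/
theorem eq_one_of_trivial (h2 : IsPGroup 2 X) (hr2 : r ≠ 2) (hα : α ^ r = 1)
    (h : ∀ x : X, x⁻¹ * α x ∈ frattini X) : α = 1 := by
  classical
  let F : Subgroup X := α.toMonoidHom.eqLocus (MonoidHom.id X)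
  have hF : F ⊔ frattini X = ⊤ := by
    rw [eq_top_iff]
    intro x _
    haveI := Fintype.ofFinite {y : X // x⁻¹ * y ∈ frattini X}
    have hmem : ∀ y : X, x⁻¹ * y ∈ frattini X → x⁻¹ * α y ∈ frattini X := fun y hy => by
      have := mul_mem hy (h y)
      simpa [mul_assoc] using this
    have hpow : ∀ (i : ℕ) (y : X), x⁻¹ * y ∈ frattini X → x⁻¹ * (α ^ i) y ∈ frattini X := by
      intro i
      induction i with
      | zero => exact fun y hy => hy
      | succ i ih =>
        intro y hy
        rw [pow_succ', MulAut.mul_apply]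
        exact hmem _ (ih y hy)
    let σ : Equiv.Perm {y : X // x⁻¹ * y ∈ frattini X} :=
      { toFun := fun y => ⟨α y, hmem _ y.2⟩
        invFun := fun y => ⟨(α ^ (r - 1)) y, hpow _ _ y.2⟩
        left_inv := fun y => Subtype.ext (by
          show (α ^ (r - 1)) (α y) = y
          rw [← MulAut.mul_apply, ← pow_succ, Nat.sub_add_cancel hr.out.one_le, hα]
          rfl)
        right_inv := fun y => Subtype.ext (by
          show α ((α ^ (r - 1)) y) = y
          rw [← MulAut.mul_apply, ← pow_succ', Nat.sub_add_cancel hr.out.one_le, hα]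
          rfl) }
    have hσi : ∀ (i : ℕ) (y), ((σ ^ i) y : X) = (α ^ i) y := by
      intro i
      induction i with
      | zero => exact fun y => rfl
      | succ i ih =>
        intro y
        rw [pow_succ', Equiv.Perm.mul_apply, pow_succ', MulAut.mul_apply, ← ih y]
        rfl
    have hσ : σ ^ r ^ 1 = 1 := Equiv.ext fun y => Subtype.ext (by
      rw [pow_one, hσi, hα]; rfl)
    have hcard : ¬ r ∣ Fintype.card {y : X // x⁻¹ * y ∈ frattini X} := by
      rw [← Nat.card_eq_fintype_card]
      have e : {y : X // x⁻¹ * y ∈ frattini X} ≃ frattini X :=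
        { toFun := fun y => ⟨x⁻¹ * y, y.2⟩
          invFun := fun f => ⟨x * f, by simp⟩
          left_inv := fun y => Subtype.ext (mul_inv_cancel_left x _)
          right_inv := fun f => Subtype.ext (inv_mul_cancel_left x _) }
      obtain ⟨k, hk⟩ := IsPGroup.iff_card.1 (h2.to_subgroup (frattini X))
      rw [Nat.card_congr e, hk]
      exact fun hd => hr2 ((Nat.prime_dvd_prime_iff_eq hr.out Nat.prime_two).1
        (hr.out.dvd_of_dvd_pow hd))
    obtain ⟨y, hy⟩ := Equiv.Perm.exists_fixed_point_of_prime (p := r) hcard hσ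
    have hyF : (y : X) ∈ F := congrArg Subtype.val hy
    have := mul_mem (mem_sup_left hyF : _ ∈ F ⊔ frattini X) (mem_sup_right (inv_mem y.2))
    simpa using this
  have hF' := frattini_nongenerating hF
  exact MulEquiv.ext fun x => (hF' ▸ mem_top x : x ∈ F)

/-- A nontrivial automorphism of odd prime order fixes no nontrivial element of the Frattini
quotient, which is a four-group. -/
theorem frattini_quotient (h2 : IsPGroup 2 X) (hm : IsMetacyclic X) (hr2 : r ≠ 2)
    (hα : α ^ r = 1) (hα1 : α ≠ 1) :
    (frattini X).index = 4 ∧ ∀ x : X, x⁻¹ * α x ∈ frattini X → x ∈ frattini X := by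
  classical
  set V := X ⧸ frattini X
  haveI := Fintype.ofFinite V
  set f := quotAut (frattini X) α with hf
  have hexp : ∀ v : V, v ^ 2 = 1 := by
    intro v
    induction v using QuotientGroup.induction_on with
    | H x => exact (QuotientGroup.eq_one_iff _).2 (pow_mem_frattini h2 x)
  have hle : Nat.card V ≤ 4 := by
    have h := card_le_four (OddOrder.isMetacyclic_of_surjective (QuotientGroup.mk' (frattini X))
      (QuotientGroup.mk'_surjective _) hm) ⊤ (fun v _ => hexp v)
    rwa [card_top] at h
  let Fx : Subgroup V := f.toMonoidHom.eqLocus (MonoidHom.id V)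
  have hmemFx : ∀ x : X, x⁻¹ * α x ∈ frattini X ↔ (x : V) ∈ Fx := by
    intro x
    show _ ↔ f (x : V) = (x : V)
    rw [hf, quotAut_mk, ← QuotientGroup.eq, eq_comm]
  have hne : Fx ≠ ⊤ := fun h => hα1 (eq_one_of_trivial h2 hr2 hα fun x =>
    (hmemFx x).2 (h ▸ mem_top _))
  let fE : Function.End V := fun v => f v
  have hfr : f ^ r = 1 := by
    refine MulEquiv.ext fun v => ?_
    induction v using QuotientGroup.induction_on with
    | H x => rw [hf, quotAut_pow, hα]; rfl
  have hi : ∀ (i : ℕ) (v : V), (fE ^ i) v = (f ^ i) v := by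
    intro i
    induction i with
    | zero => exact fun v => rfl
    | succ i ih =>
      intro v
      rw [pow_succ', pow_succ', MulAut.mul_apply, ← ih v]
      rfl
  have hσ : fE ^ r ^ 1 = 1 := funext fun v => by rw [pow_one, hi, hfr]; rfl
  have hmod := Equiv.Perm.card_fixedPoints_modEq (p := r) hσ
  have hfix : Fintype.card (Function.fixedPoints fE) = Nat.card Fx := by
    rw [← Nat.card_eq_fintype_card]
    exact Nat.card_congr (Equiv.subtypeEquivRight fun v => Iff.rfl)
  rw [hfix, ← Nat.card_eq_fintype_card] at hmod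
  obtain ⟨k, hk⟩ := IsPGroup.iff_card.1 (h2.to_quotient (frattini X))
  have hlt : Nat.card Fx < Nat.card V :=
    lt_of_le_of_ne Fx.card_le_card_group fun h => hne (Fx.card_eq_iff_eq_top.1 h)
  have hdvd := Fx.card_subgroup_dvd_card
  rw [hk] at hdvd hle hlt hmod
  obtain ⟨j, hj, hje⟩ := (Nat.dvd_prime_pow Nat.prime_two).1 hdvd
  rw [hje] at hlt hmod
  have hk2 : k ≤ 2 := (Nat.pow_le_pow_iff_right (le_refl 2)).1 hle
  have hjk : j < k := (Nat.pow_lt_pow_iff_right (le_refl 2)).1 hlt
  have hkj : k = 2 ∧ j = 0 := by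
    by_contra hcon
    have hcase : (k = 1 ∧ j = 0) ∨ (k = 2 ∧ j = 1) := by omega
    rcases hcase with ⟨rfl, rfl⟩ | ⟨rfl, rfl⟩ <;>
      · have h1 := (Nat.modEq_iff_dvd' (by norm_num)).1 hmod.symm
        norm_num at h1
        first
          | exact hr.out.one_lt.ne' h1
          | exact hr2 ((Nat.prime_dvd_prime_iff_eq hr.out Nat.prime_two).1 h1)
  refine ⟨by rw [index_eq_card, hk, hkj.1]; norm_num, fun x hx => ?_⟩
  have hb : Fx = ⊥ := Fx.eq_bot_of_card_eq (by rw [hje, hkj.2, pow_zero])
  have := (hmemFx x).1 hx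
  rw [hb, mem_bot, QuotientGroup.eq_one_iff] at this
  exact this

/-- An element outside the Frattini subgroup and its image generate. -/
theorem closure_pair_eq_top (h2 : IsPGroup 2 X) (hm : IsMetacyclic X) (hr2 : r ≠ 2)
    (hα : α ^ r = 1) (hα1 : α ≠ 1) {a : X} (ha : a ∉ frattini X) :
    closure ({a, α a} : Set X) = ⊤ := by
  obtain ⟨hidx, hfix⟩ := frattini_quotient h2 hm hr2 hα hα1
  refine frattini_nongenerating ?_
  set H := closure ({a, α a} : Set X) ⊔ frattini X with hH
  have hsub : frattini X ≤ H := le_sup_right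
  by_contra hne
  have haH : a ∈ H := mem_sup_left (subset_closure (by simp))
  have hbH : α a ∈ H := mem_sup_left (subset_closure (by simp))
  have h1 : H.index ∣ 4 := hidx ▸ index_dvd_of_le hsub
  have h12 : H.index ≠ 1 := fun h => hne (index_eq_one.1 h)
  have h4 : H.index ≠ 4 := fun h => ha (by
    have he : frattini X = H :=
      eq_of_le_of_card_ge hsub (by
        have e1 := (frattini X).card_mul_index
        have e2 := H.card_mul_index
        rw [hidx] at e1; rw [h] at e2
        omega)
    rw [he]; exact haH)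
  have hH2 : H.index = 2 := by
    obtain ⟨i, hi, he⟩ := (Nat.dvd_prime_pow (m := 2) Nat.prime_two).1 h1
    interval_cases i <;> omega
  -- the only elements of `H` outside the Frattini subgroup are congruent
  have hrel : (frattini X).relIndex H = 2 := by
    have := relIndex_mul_index hsub
    rw [hH2, hidx] at this
    omega
  refine ha (hfix a ?_)
  have hiff := index_eq_two_iff.1 (show ((frattini X).subgroupOf H).index = 2 from hrel)
  obtain ⟨w, hw⟩ := hiff
  have hwa := hw ⟨a, haH⟩
  have hwb := hw ⟨α a, hbH⟩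
  have hbn : α a ∉ frattini X := fun h => ha (by
    have h' := (characteristic_iff_comap_eq.1 (inferInstance : (frattini X).Characteristic) α).le
    exact h' h)
  simp only [mem_subgroupOf, coe_mul] at hwa hwb
  have ha' : a * w ∈ frattini X := by rcases hwa with ⟨h, -⟩ | ⟨h, -⟩ <;> tauto
  have hb' : α a * w ∈ frattini X := by rcases hwb with ⟨h, -⟩ | ⟨h, -⟩ <;> tauto
  have h1 : α a * a⁻¹ ∈ frattini X := by
    simpa [mul_assoc] using mul_mem hb' (inv_mem ha')
  exact (Subgroup.normal_of_characteristic (frattini X)).mem_comm h1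

/-- Abelian case: `α` has no fixed points. -/
theorem eq_one_of_fixed (h2 : IsPGroup 2 X) (hm : IsMetacyclic X)
    (hr2 : r ≠ 2) (hα : α ^ r = 1) (hα1 : α ≠ 1) (hc : ∀ a b : X, a * b = b * a) {x : X}
    (hx : α x = x) : x = 1 := by
  let ψ : X →* X :=
    { toFun := fun y => y⁻¹ * α y
      map_one' := by simp
      map_mul' := fun y z => by
        show (y * z)⁻¹ * α (y * z) = y⁻¹ * α y * (z⁻¹ * α z)
        rw [map_mul, mul_inv_rev]
        calc z⁻¹ * y⁻¹ * (α y * α z) = z⁻¹ * (y⁻¹ * α y) * α z := by group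
          _ = y⁻¹ * α y * (z⁻¹ * α z) := by rw [hc z⁻¹]; group }
  obtain ⟨hidx, hfix⟩ := frattini_quotient h2 hm hr2 hα hα1
  have hψF : frattini X ≤ (frattini X).comap ψ := fun y hy =>
    mul_mem (inv_mem hy)
      ((characteristic_iff_comap_eq.1 (inferInstance : (frattini X).Characteristic) α).ge hy)
  let g := QuotientGroup.map (frattini X) (frattini X) ψ hψF
  have hg : Function.Injective g := (injective_iff_map_eq_one g).2 fun v => by
    induction v using QuotientGroup.induction_on with
    | H y =>
      intro hy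
      exact (QuotientGroup.eq_one_iff y).2 (hfix y ((QuotientGroup.eq_one_iff (ψ y)).1 hy))
  have hgs : Function.Surjective g := (Finite.injective_iff_surjective.1 hg)
  have htop : ψ.range ⊔ frattini X = ⊤ := by
    rw [eq_top_iff]
    intro y _
    obtain ⟨v, hv⟩ := hgs (y : X ⧸ frattini X)
    induction v using QuotientGroup.induction_on with
    | H z =>
      have h := QuotientGroup.eq.1 hv
      have := mul_mem (mem_sup_left ⟨z, rfl⟩ : ψ z ∈ ψ.range ⊔ frattini X) (mem_sup_right h)
      simpa using this
  have hs : Function.Surjective ψ :=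
    MonoidHom.range_eq_top.1 (frattini_nongenerating htop)
  have := (Finite.injective_iff_surjective.2 hs) (show ψ x = ψ 1 by
    show x⁻¹ * α x = (1 : X)⁻¹ * α 1
    rw [hx]; simp)
  exact this

/-- The abelian case: homocyclic. -/
theorem homocyclic (h2 : IsPGroup 2 X) (hm : IsMetacyclic X)
    (hr2 : r ≠ 2) (hα : α ^ r = 1) (hα1 : α ≠ 1) (hc : ∀ a b : X, a * b = b * a) :
    ∃ (n : ℕ) (a : X), 1 ≤ n ∧ a ∉ frattini X ∧ orderOf a = 2 ^ n ∧
      zpowers a ⊓ zpowers (α a) = ⊥ ∧ zpowers a ⊔ zpowers (α a) = ⊤ := by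
  haveI := Fintype.ofFinite X
  obtain ⟨a, -, hmax⟩ := Set.exists_max_image (Set.univ : Set X) orderOf (Set.toFinite _)
    Set.univ_nonempty
  obtain ⟨hidx, -⟩ := frattini_quotient h2 hm hr2 hα hα1
  obtain ⟨n, hn⟩ := IsPGroup.iff_orderOf.1 h2 a
  have hn1 : 1 ≤ n := by
    by_contra h
    have h0 : ∀ x : X, x = 1 := fun x => orderOf_eq_one_iff.1 (le_antisymm
      (by have := hmax x (Set.mem_univ x); rw [hn, show n = 0 by omega] at this; simpa using this)
      (orderOf_pos x))
    exact hα1 (MulEquiv.ext fun x => by rw [h0 x, map_one, map_one])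
  have haΦ : a ∉ frattini X := by
    intro ha
    rw [frattini_eq_derivedPow (p := 2) h2] at ha
    have hsq : derivedPow 2 X ≤ (sqHom hc).range := by
      refine sup_le ?_ ((closure_le _).2 ?_)
      · rw [show commutator X = ⊥ from (eq_bot_iff.2 (commutator_le.2 fun x _ y _ => by
          rw [commutatorElement_eq_one_iff_mul_comm.2 (hc x y)]; exact one_mem _))]
        exact bot_le
      · rintro _ ⟨g, rfl⟩
        exact ⟨g, rfl⟩
    obtain ⟨c, hc'⟩ := hsq ha
    have hc2 : c ^ 2 = a := hc'
    have hmx := hmax c (Set.mem_univ c)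
    obtain ⟨j, hj⟩ := IsPGroup.iff_orderOf.1 h2 c
    have := orderOf_pow c (n := 2)
    rw [hc2, hn, hj] at this
    rcases j with _ | j
    · simp at this; omega
    · rw [Nat.gcd_eq_right (dvd_pow_self 2 j.succ_ne_zero), pow_succ,
        Nat.mul_div_cancel _ two_pos] at this
      rw [hj, hn, this, pow_succ] at hmx
      have := Nat.two_pow_pos j
      omega
  refine ⟨n, a, hn1, haΦ, hn, ?_, ?_⟩
  · by_contra hne
    obtain ⟨y, hy⟩ := (ne_bot_iff_exists_ne_one).1 hne
    obtain ⟨z, hz⟩ := exists_prime_orderOf_dvd_card' 2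
      (dvd_card_of_ne_bot h2 hne)
    obtain ⟨hza, hzb⟩ := mem_inf.1 z.2
    have hkey : ∀ c : X, orderOf c = 2 ^ n → ∀ w ∈ zpowers c, orderOf w = 2 →
        w = c ^ 2 ^ (n - 1) := by
      intro c hc w hw hw2
      obtain ⟨i, rfl⟩ := (mem_powers_iff_mem_zpowers.2 hw : w ∈ Submonoid.powers c)
      have h1 : c ^ (2 * i) = 1 := by
        rw [mul_comm, pow_mul, ← hw2]; exact pow_orderOf_eq_one _
      have h3 := orderOf_dvd_of_pow_eq_one h1
      rw [hc, show n = n - 1 + 1 by omega, pow_succ'] at h3
      obtain ⟨j, rfl⟩ := Nat.dvd_of_mul_dvd_mul_left two_pos h3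
      have hodd : ¬ 2 ∣ j := by
        rintro ⟨l, rfl⟩
        show False
        have : c ^ (2 ^ (n - 1) * (2 * l)) = 1 := by
          rw [show 2 ^ (n - 1) * (2 * l) = 2 ^ n * l by
            conv_rhs => rw [show n = n - 1 + 1 by omega, pow_succ]
            ring, pow_mul, ← hc, pow_orderOf_eq_one, one_pow]
        simp only [this, orderOf_one] at hw2
        omega
      show c ^ (2 ^ (n - 1) * j) = _
      obtain ⟨l, rfl⟩ : ∃ l, j = 2 * l + 1 := ⟨j / 2, by omega⟩
      rw [mul_add, mul_one, pow_add, show 2 ^ (n - 1) * (2 * l) = 2 ^ n * l by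
        conv_rhs => rw [show n = n - 1 + 1 by omega, pow_succ]
        ring, pow_mul, ← hc, pow_orderOf_eq_one, one_pow, one_mul]
    have hz2 : orderOf (z : X) = 2 := by rw [Subgroup.orderOf_coe]; exact hz
    have e1 := hkey a hn _ hza hz2
    have e2 := hkey (α a) (by rw [α.orderOf_eq, hn]) _ hzb hz2
    rw [← map_pow, ← e1] at e2
    have := eq_one_of_fixed h2 hm hr2 hα hα1 hc e2.symm
    rw [this, orderOf_one] at hz2
    omega
  · rw [zpowers_eq_closure, zpowers_eq_closure, ← Subgroup.closure_union, Set.union_singleton,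
      Set.pair_comm]
    exact closure_pair_eq_top h2 hm hr2 hα hα1 haΦ

theorem commutatorElement_pow_right {a b c : X} (h : ⁅a, b⁆ = c) (hc : c ∈ center X) (m : ℕ) :
    ⁅a, b ^ m⁆ = c ^ m := by
  induction m with
  | zero => simp
  | succ m ih =>
    have hm := mem_center_iff.1 (pow_mem hc m)
    calc ⁅a, b ^ (m + 1)⁆ = ⁅a, b⁆ * (b * ⁅a, b ^ m⁆ * b⁻¹) := by
          rw [pow_succ', commutatorElement_def, commutatorElement_def, commutatorElement_def]
          group
      _ = c ^ (m + 1) := by rw [ih, h, hm b, mul_inv_cancel_right, pow_succ']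

theorem commutatorElement_pow_left {a b c : X} (h : ⁅a, b⁆ = c) (hc : c ∈ center X) (m : ℕ) :
    ⁅a ^ m, b⁆ = c ^ m := by
  induction m with
  | zero => simp
  | succ m ih =>
    calc ⁅a ^ (m + 1), b⁆ = a * ⁅a ^ m, b⁆ * a⁻¹ * ⁅a, b⁆ := by
          rw [pow_succ', commutatorElement_def, commutatorElement_def, commutatorElement_def]
          group
      _ = c ^ (m + 1) := by
          rw [ih, h, mem_center_iff.1 (pow_mem hc m) a, mul_inv_cancel_right, pow_succ]

/-- An automorphism of odd prime order of a cyclic 2-group is trivial. -/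
theorem eq_one_of_isCyclic {C : Type u} [Group C] [Finite C] [IsCyclic C] (h2 : IsPGroup 2 C)
    (hr2 : r ≠ 2) (β : MulAut C) (hβ : β ^ r = 1) : β = 1 := by
  obtain ⟨k, hk⟩ := IsPGroup.iff_card.1 h2
  have hd : orderOf β ∣ Nat.card (MulAut C) := orderOf_dvd_natCard β
  rw [IsCyclic.card_mulAut, hk] at hd
  have hcard : Nat.totient (2 ^ k) ∣ 2 ^ k := by
    rcases k with _ | k
    · simp
    · rw [Nat.totient_prime_pow_succ Nat.prime_two]
      simp [pow_succ]
  have h1 : orderOf β ∣ r := orderOf_dvd_of_pow_eq_one hβ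
  have hcop : r.Coprime (2 ^ k) :=
    Nat.Coprime.pow_right k ((Nat.coprime_primes hr.out Nat.prime_two).2 hr2)
  exact orderOf_eq_one_iff.1 (Nat.eq_one_of_dvd_coprimes hcop h1 (hd.trans hcard))

/-- The derived subgroup is fixed pointwise. -/
theorem fix_commutator (h2 : IsPGroup 2 X) (hm : IsMetacyclic X) (hr2 : r ≠ 2) (hα : α ^ r = 1) :
    IsCyclic (commutator X) ∧ ∀ c ∈ commutator X, α c = c := by
  obtain ⟨N, hN, hNc, hQc⟩ := hm
  have hle : commutator X ≤ N :=
    Subgroup.Normal.quotient_commutative_iff_commutator_le.1 hQc.isMulCommutative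
  haveI : IsCyclic (commutator X) :=
    isCyclic_of_injective (inclusion hle) (inclusion_injective hle)
  refine ⟨inferInstance, fun c hc => ?_⟩
  let β : MulAut (commutator X) :=
    (α.subgroupMap (commutator X)).trans
      (MulEquiv.subgroupCongr (characteristic_iff_map_eq.1 inferInstance α))
  have hβi : ∀ (i : ℕ) (x : commutator X), ((β ^ i) x : X) = (α ^ i) x := by
    intro i
    induction i with
    | zero => exact fun x => rfl
    | succ i ih =>
      intro x
      rw [pow_succ', MulAut.mul_apply, pow_succ', MulAut.mul_apply, ← ih x]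
      rfl
  have hβ : β ^ r = 1 := MulEquiv.ext fun x => Subtype.ext (by rw [hβi, hα]; rfl)
  have h1 := eq_one_of_isCyclic (h2.to_subgroup _) hr2 β hβ
  exact congrArg (Subtype.val) (DFunLike.congr_fun h1 ⟨c, hc⟩)

/-- Modulo the Frattini subgroup the three images of an element outside it multiply to one. -/
theorem apply_apply_mem (h2 : IsPGroup 2 X) (hm : IsMetacyclic X) (hr2 : r ≠ 2) (hα : α ^ r = 1)
    (hα1 : α ≠ 1) {a : X} (ha : a ∉ frattini X) : (a * α a)⁻¹ * α (α a) ∈ frattini X := by
  classical
  obtain ⟨hidx, hfix⟩ := frattini_quotient h2 hm hr2 hα hα1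
  haveI := Fintype.ofFinite (X ⧸ frattini X)
  have hcomap := (characteristic_iff_comap_eq.1 (inferInstance : (frattini X).Characteristic) α).le
  by_contra hcon
  set f := quotAut (frattini X) α with hf
  have hexp : ∀ v : X ⧸ frattini X, v * v = 1 := fun v => by
    induction v using QuotientGroup.induction_on with
    | H x =>
      rw [← QuotientGroup.mk_mul, QuotientGroup.eq_one_iff, ← sq]
      exact pow_mem_frattini h2 x
  set A : X ⧸ frattini X := (a : X ⧸ frattini X) with hA
  set B : X ⧸ frattini X := ((α a : X) : X ⧸ frattini X) with hB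
  set C : X ⧸ frattini X := ((α (α a) : X) : X ⧸ frattini X) with hC
  have hb0 : α a ∉ frattini X := fun h => ha (hcomap h)
  have hA1 : A ≠ 1 := fun h => ha ((QuotientGroup.eq_one_iff a).1 h)
  have hB1 : B ≠ 1 := fun h => hb0 ((QuotientGroup.eq_one_iff _).1 h)
  have hC1 : C ≠ 1 := fun h => hb0 (@hcomap (α a) ((QuotientGroup.eq_one_iff (α (α a))).1 h))
  have hAB : A ≠ B := fun h => ha (hfix a (QuotientGroup.eq.1 h))
  have hBC : B ≠ C := fun h => hb0 (hfix _ (QuotientGroup.eq.1 h))
  have hABC : A * B ≠ C := fun h => hcon (QuotientGroup.eq.1 h)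
  have hAC : A ≠ C := fun h => by
    have hsw : ∀ i : ℕ, (f ^ (2 * i + 1)) A = B := by
      intro i
      induction i with
      | zero => rw [Nat.mul_zero, zero_add, pow_one, hA, hf, quotAut_mk]
      | succ i ih =>
        rw [show 2 * (i + 1) + 1 = 2 * i + 1 + 1 + 1 by ring, pow_succ', pow_succ',
          MulAut.mul_apply, MulAut.mul_apply, ih]
        rw [show f B = C from quotAut_mk _ α _, ← h, hA, hf, quotAut_mk]
    obtain ⟨i, hi⟩ := hr.out.odd_of_ne_two hr2
    have h7 := hsw i
    rw [← hi, hA, hf, quotAut_pow, hα] at h7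
    exact hAB h7
  have hAB1 : A * B ≠ 1 := fun h => hAB (mul_left_cancel ((hexp A).trans h.symm))
  have hA' : A * B ≠ A := fun h => hB1 (mul_eq_left.1 h)
  have hB' : A * B ≠ B := fun h => hA1 (mul_eq_right.1 h)
  have h5 := Finset.card_le_univ ({1, A, B, A * B, C} : Finset (X ⧸ frattini X))
  rw [← Nat.card_eq_fintype_card, ← index_eq_card, hidx] at h5
  simp [Finset.card_insert_of_notMem, hA1.symm, hB1.symm, hAB, hAB1.symm, hC1.symm, hBC,
    hAC, hABC, hA'.symm, hB'.symm] at h5

/-- A metacyclic 2-group with a nontrivial automorphism of odd prime order is abelian or `Q₈`. -/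
theorem comm_or_quaternion (h2 : IsPGroup 2 X) (hm : IsMetacyclic X) (hr2 : r ≠ 2)
    (hα : α ^ r = 1) (hα1 : α ≠ 1) :
    (∀ a b : X, a * b = b * a) ∨ Nonempty (X ≃* QuaternionGroup 2) := by
  obtain ⟨hidx, hfix⟩ := frattini_quotient h2 hm hr2 hα hα1
  obtain ⟨hDc, hDfix⟩ := fix_commutator h2 hm hr2 hα
  haveI := hDc
  set D := commutator X with hD
  have hDΦ : D ≤ frattini X := commutator_le_frattini h2
  -- conjugation on `D`
  let τ : X →* MulAut D := MulAut.conjNormal
  have hτ : ∀ x, τ (α x) = τ x := by
    intro x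
    refine MulEquiv.ext fun d => Subtype.ext ?_
    show α x * (d : X) * (α x)⁻¹ = x * d * x⁻¹
    conv_lhs => rw [← hDfix d d.2, ← map_inv, ← map_mul, ← map_mul]
    exact hDfix _ ((inferInstance : D.Normal).conj_mem _ d.2 x)
  obtain ⟨a, ha⟩ : ∃ a : X, a ∉ frattini X := by
    by_contra h
    push Not at h
    rw [(eq_top_iff' _).2 h, index_top] at hidx
    omega
  set b := α a with hb
  have hgen := closure_pair_eq_top h2 hm hr2 hα hα1 ha
  have hDZ : D ≤ center X := by
    set t := τ a with ht
    have htb : τ b = t := hτ a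
    have hrange : ∀ x : X, τ x ∈ zpowers t := by
      intro x
      have hx := hgen ▸ mem_top x
      induction hx using closure_induction with
      | mem y hy =>
        rcases hy with rfl | rfl
        · exact mem_zpowers _
        · rw [show τ (α a) = t from htb]; exact mem_zpowers _
      | one => rw [map_one]; exact one_mem _
      | mul y z _ _ h1 h2 => rw [map_mul]; exact mul_mem h1 h2
      | inv y _ h => rw [map_inv]; exact inv_mem h
    have hΦsq : ∀ f ∈ frattini X, τ f ∈ zpowers (t ^ 2) := by
      intro f hf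
      have hle : frattini X ≤ (zpowers (t ^ 2)).comap τ := by
        rw [frattini_eq_derivedPow (p := 2) h2]
        refine sup_le (commutator_le.2 fun x _ y _ => ?_) ((closure_le _).2 ?_)
        · obtain ⟨i, hi⟩ := hrange x
          obtain ⟨j, hj⟩ := hrange y
          rw [mem_comap, map_commutatorElement, ← hi, ← hj,
            commutatorElement_eq_one_iff_mul_comm.2 (Commute.zpow_zpow_self t i j)]
          exact one_mem _
        · rintro _ ⟨g, rfl⟩
          obtain ⟨i, hi⟩ := hrange g
          refine ⟨i, ?_⟩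
          show (t ^ 2) ^ i = τ (g ^ 2)
          rw [map_pow, ← hi, ← zpow_natCast, ← zpow_natCast, ← zpow_mul, ← zpow_mul, mul_comm]
      exact hle hf
    have hαbn : (a * b)⁻¹ * α b ∈ frattini X := apply_apply_mem h2 hm hr2 hα hα1 ha
    have h1 : t = t * t * τ ((a * b)⁻¹ * α b) := by
      calc t = τ (α b) := by rw [hτ b, htb]
        _ = τ a * τ b * τ ((a * b)⁻¹ * α b) := by rw [← map_mul, ← map_mul, mul_inv_cancel_left]
        _ = _ := by rw [htb]
    obtain ⟨j, hj : (t ^ 2) ^ j = τ ((a * b)⁻¹ * α b)⟩ := hΦsq _ hαbn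
    have h1' : t ^ (1 + 2 * j) = 1 := by
      rw [← hj] at h1
      have h2' : (t ^ 2) ^ j = t ^ (2 * j) := by rw [zpow_mul, zpow_ofNat]
      rw [h2', mul_assoc, left_eq_mul] at h1
      rw [zpow_add, zpow_one]
      exact h1
    have ht1 : t = 1 := by
      obtain ⟨l, hl⟩ := IsPGroup.iff_orderOf.1 h2 a
      obtain ⟨k, -, hk⟩ := (Nat.dvd_prime_pow Nat.prime_two).1 (hl ▸ orderOf_map_dvd τ a)
      have hd := orderOf_dvd_iff_zpow_eq_one.2 h1'
      rw [show orderOf t = 2 ^ k from hk] at hd
      rcases k with _ | k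
      · exact orderOf_eq_one_iff.1 hk
      · exfalso
        have : (2 : ℤ) ∣ 1 + 2 * j := (dvd_pow_self (2 : ℤ) k.succ_ne_zero).trans (by
          exact_mod_cast hd)
        omega
    intro d hd
    rw [mem_center_iff]
    intro x
    have hx : τ x = 1 := by
      obtain ⟨i, hi : t ^ i = τ x⟩ := hrange x
      rw [← hi, ht1, one_zpow]
    have h3 : x * d * x⁻¹ = d := (show ((τ x) (⟨d, hd⟩ : D) : X) = d by rw [hx]; rfl)
    exact mul_inv_eq_iff_eq_mul.1 h3
  by_cases hcD : D = ⊥
  · left
    intro x y
    have : ⁅x, y⁆ ∈ D := commutator_mem_commutator (mem_top x) (mem_top y)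
    rw [hcD, mem_bot] at this
    exact commutatorElement_eq_one_iff_mul_comm.1 this
  right
  set c := ⁅a, b⁆ with hc
  have hcD' : c ∈ D := commutator_mem_commutator (mem_top a) (mem_top b)
  have hcZ : c ∈ center X := hDZ hcD'
  have hDc' : D = zpowers c := by
    refine le_antisymm ?_ (zpowers_le.2 hcD')
    have hn : (zpowers c).Normal := normal_of_le_center (zpowers_le.2 hcZ)
    refine commutator_le.2 fun x hx' y hy' => ?_
    clear hx' hy'
    rw [← QuotientGroup.eq_one_iff]
    change QuotientGroup.mk' (zpowers c) ⁅x, y⁆ = 1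
    rw [map_commutatorElement, commutatorElement_eq_one_iff_mul_comm]
    set π := QuotientGroup.mk' (zpowers c)
    have hgc : ∀ g ∈ ({a, α a} : Set X), ∀ g' ∈ ({a, α a} : Set X), π g * π g' = π g' * π g := by
      have hab : π a * π b = π b * π a := by
        rw [← commutatorElement_eq_one_iff_mul_comm, ← map_commutatorElement]
        exact (QuotientGroup.eq_one_iff c).2 (mem_zpowers c)
      rintro g (rfl | rfl) g' (rfl | rfl)
      · rfl
      · exact hab
      · exact hab.symm
      · rfl
    have htop : ∀ z : X, ∀ g ∈ ({a, α a} : Set X), π z * π g = π g * π z := by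
      intro z g hg
      have hz := hgen ▸ mem_top z
      induction hz using closure_induction with
      | mem w hw => exact hgc w hw g hg
      | one => simp
      | mul u v _ _ h1 h2 => rw [map_mul]; exact Commute.mul_left h1 h2
      | inv u _ h => rw [map_inv]; exact Commute.inv_left h
    have hy := hgen ▸ mem_top y
    induction hy using closure_induction with
    | mem w hw => exact htop x w hw
    | one => simp
    | mul u v _ _ h1 h2 => rw [map_mul]; exact Commute.mul_right h1 h2
    | inv u _ h => rw [map_inv]; exact Commute.inv_right h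
  have hc1 : c ≠ 1 := fun h => hcD (by rw [hDc', h, zpowers_one_eq_bot])
  haveI : D.Characteristic := inferInstance
  set W := X ⧸ D with hW
  set f := quotAut D α with hf
  have hWc : ∀ u v : W, u * v = v * u := fun u v => by
    induction u using QuotientGroup.induction_on with
    | H x => induction v using QuotientGroup.induction_on with
      | H y =>
        rw [← QuotientGroup.mk_mul, ← QuotientGroup.mk_mul, QuotientGroup.eq]
        have h3 := commutator_mem_commutator (mem_top y⁻¹) (mem_top x⁻¹)
        rwa [commutatorElement_def, inv_inv, inv_inv, show y⁻¹ * x⁻¹ * y * x = (x * y)⁻¹ * (y * x)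
          by group] at h3
  have hWm : IsMetacyclic W := OddOrder.isMetacyclic_of_surjective (QuotientGroup.mk' D)
    (QuotientGroup.mk'_surjective _) hm
  have hfr : f ^ r = 1 := MulEquiv.ext fun v => by
    induction v using QuotientGroup.induction_on with
    | H x => rw [hf, quotAut_pow, hα]; rfl
  have hf1 : f ≠ 1 := fun h => ha (hfix a (hDΦ (QuotientGroup.eq.1 (by
    rw [← quotAut_mk D α a, ← hf, h]; rfl))))
  have hW2 := h2.to_quotient D
  have hWfix : ∀ x : X, α x = x → x ∈ D := fun x hx => (QuotientGroup.eq_one_iff x).1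
    (eq_one_of_fixed hW2 hWm hr2 hfr hf1 hWc (by rw [hf, quotAut_mk, hx]))
  -- the order of `a` modulo `D`
  obtain ⟨n, hn⟩ := IsPGroup.iff_orderOf.1 hW2 (a : W)
  have han : a ^ 2 ^ n ∈ D := (QuotientGroup.eq_one_iff _).1 (by
    rw [QuotientGroup.mk_pow, ← hn, pow_orderOf_eq_one])
  have hbn : b ^ 2 ^ n = a ^ 2 ^ n := by rw [hb, ← map_pow, hDfix _ han]
  have hcn : c ^ 2 ^ n = 1 := by
    rw [← commutatorElement_pow_left rfl hcZ,
      commutatorElement_eq_one_iff_mul_comm.2 ((mem_center_iff.1 (hDZ han) b).symm)]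
  rcases n with _ | _ | n
  · exact absurd (orderOf_eq_one_iff.1 hn) fun h => ha (hDΦ ((QuotientGroup.eq_one_iff a).1 h))
  · -- the quaternion case
    rw [zero_add, pow_one] at han hbn hcn
    have hz : ∀ d ∈ D, d = 1 ∨ d = c := by
      intro d hd
      rw [hDc'] at hd
      obtain ⟨i, rfl⟩ := hd
      simp only
      obtain ⟨k, hk | hk⟩ := Int.even_or_odd' i
      · left
        rw [hk, zpow_mul, zpow_two, ← sq, hcn, one_zpow]
      · right
        rw [hk, zpow_add, zpow_one, zpow_mul, zpow_two, ← sq, hcn, one_zpow, one_mul]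
    have hDsq : D = frattini X := by
      refine le_antisymm hDΦ ?_
      rw [frattini_eq_derivedPow (p := 2) h2]
      refine sup_le le_rfl ((closure_le _).2 ?_)
      rintro _ ⟨g, rfl⟩
      have hg := hgen ▸ mem_top g
      have key : ((g : W)) ^ 2 = 1 := by
        induction hg using closure_induction with
        | mem w hw =>
          rcases hw with rfl | rfl
          · exact (QuotientGroup.eq_one_iff _).2 han
          · exact (QuotientGroup.eq_one_iff _).2 (by simp only [← hb]; rw [hbn]; exact han)
        | one => simp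
        | mul u v _ _ h1 h2 =>
          rw [QuotientGroup.mk_mul, Commute.mul_pow (hWc _ _), h1, h2, one_mul]
        | inv u _ h => rw [QuotientGroup.mk_inv, inv_pow, h, inv_one]
      exact (QuotientGroup.eq_one_iff _).1 key
    have hcard : Nat.card X = 8 := by
      have e1 := (frattini X).card_mul_index
      have hc2 : Nat.card D = 2 := by
        rw [hDc', Nat.card_zpowers]
        exact orderOf_eq_prime hcn hc1
      rw [← hDsq] at e1
      rw [show D.index = 4 from hDsq ▸ hidx, hc2] at e1
      omega
    have ha2 : a ^ 2 = c := by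
      refine (hz _ han).resolve_left fun h => hc1 ?_
      -- then `α b ≡ a b` squares to both `c` and `1`
      have hαb : (a * b)⁻¹ * α b ∈ D := hDsq ▸ apply_apply_mem h2 hm hr2 hα hα1 ha
      set d := (a * b)⁻¹ * α b with hd
      have hαb2 : (α b) ^ 2 = 1 := by rw [← map_pow, hbn, h, map_one]
      have hd2 : d ^ 2 = 1 := by
        rcases hz d hαb with e | e <;> rw [e]
        · exact one_pow 2
        · exact hcn
      have hdz := mem_center_iff.1 (hDZ hαb) (a * b)
      rw [show α b = a * b * d by rw [hd]; group, Commute.mul_pow hdz.symm.symm, hd2,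
        mul_one] at hαb2
      have hsq : (a * b) ^ 2 = a * (b * a) * b := by rw [sq]; group
      rw [hsq, show b * a = c⁻¹ * (a * b) by rw [hc, commutatorElement_def]; group,
        ← mul_assoc a, mem_center_iff.1 (inv_mem hcZ) a, mul_assoc c⁻¹,
        mul_assoc c⁻¹, show a * (a * b) * b = a ^ 2 * b ^ 2 by simp only [sq, mul_assoc],
        hbn, h, mul_one, mul_one, inv_eq_one] at hαb2
      exact hαb2
    have hconj : b * a * b⁻¹ = a⁻¹ := by
      have h1 : b * a * b⁻¹ = c⁻¹ * a := by rw [hc, commutatorElement_def]; group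
      rw [h1, ← ha2]
      group
    have ha4 : orderOf a = 2 * 2 :=
      orderOf_eq_prime_pow (p := 2) (n := 1) (by rw [pow_one, ha2]; exact hc1)
        (by rw [show (2 : ℕ) ^ (1 + 1) = 2 * 2 by norm_num, pow_mul, ha2, hcn])
    have hba : b ∉ zpowers a := by
      rintro ⟨i, hi⟩
      refine hc1 ?_
      rw [hc, ← hi, commutatorElement_eq_one_iff_mul_comm]
      exact (Commute.refl a).zpow_right i
    refine nonempty_mulEquiv_quaternionGroup (x := a) (g := b) ha4 hconj hbn ?_ hba
    have hidx2 : (zpowers a).index = 2 := by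
      have e1 := (zpowers a).card_mul_index
      rw [Nat.card_zpowers, ha4, hcard] at e1
      omega
    intro y
    by_cases hy : y ∈ zpowers a
    · exact Or.inl hy
    · right
      have hb' : b⁻¹ ∉ zpowers a := fun h => hba (by simpa using inv_mem h)
      exact (mul_mem_iff_of_index_two hidx2).2 ⟨fun h => absurd h hb', fun h => absurd h hy⟩
  · -- higher rank contradiction
    exfalso
    set u := a ^ 2 ^ (n + 1) with hu
    set v := b ^ 2 ^ (n + 1) with hv
    have huv : α u = v := by rw [hu, map_pow]
    have hu2 : u ^ 2 = a ^ 2 ^ (n + 1 + 1) := by rw [hu, ← pow_mul, ← pow_succ]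
    have hv2 : v ^ 2 = u ^ 2 := by rw [hv, hu2, ← pow_mul, ← pow_succ, hbn]
    have hu2D : u ^ 2 ∈ D := hu2 ▸ han
    have hucomm : u * v = v * u := by
      rw [← commutatorElement_eq_one_iff_mul_comm, hu, hv]
      have h1 := commutatorElement_pow_left (a := a) (b := b) rfl hcZ (2 ^ (n + 1))
      have h2' := commutatorElement_pow_right h1 (pow_mem hcZ _) (2 ^ (n + 1))
      rw [h2', ← pow_mul, ← pow_add,
        show n + 1 + (n + 1) = n + 1 + 1 + n by ring, pow_add, pow_mul, ← hc, hcn, one_pow]
    have huD : u ∉ D := fun h => by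
      have h' : ((a : W)) ^ 2 ^ (n + 1) = 1 := by
        rw [← QuotientGroup.mk_pow]; exact (QuotientGroup.eq_one_iff _).2 h
      have h3 := orderOf_dvd_of_pow_eq_one h'
      rw [hn] at h3
      have := (Nat.pow_dvd_pow_iff_le_right (le_refl 2)).1 h3
      omega
    obtain ⟨y, hy1, hyD, hyc⟩ : ∃ y : X, y ^ 2 = 1 ∧ y ∉ D ∧ y * α y = α y * y := by
      obtain ⟨i, hi⟩ := (hDc' ▸ hu2D : u ^ 2 ∈ zpowers c)
      obtain ⟨k, hk | hk⟩ := Int.even_or_odd' i
      · refine ⟨u * c ^ (-k), ?_, fun h => huD ?_, ?_⟩
        · rw [Commute.mul_pow (mem_center_iff.1 (zpow_mem hcZ _) u), ← hi, hk,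
            ← zpow_natCast (c ^ (-k)), ← zpow_mul, ← zpow_add]
          rw [show (2 * k + -k * ((2 : ℕ) : ℤ)) = 0 by push_cast; ring, zpow_zero]
        · simpa using mul_mem h (zpow_mem hcD' k)
        · rw [map_mul, huv, hDfix _ (zpow_mem hcD' _)]
          exact Commute.mul_left (Commute.mul_right hucomm (mem_center_iff.1 (zpow_mem hcZ _) u))
            (mem_center_iff.1 (zpow_mem hcZ _) _).symm
      · refine ⟨u * v * c ^ (-i), ?_, fun h => ?_, ?_⟩
        · rw [Commute.mul_pow (mem_center_iff.1 (zpow_mem hcZ _) _), Commute.mul_pow hucomm, hv2,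
            ← hi, ← zpow_natCast (c ^ (-i)), ← zpow_mul, ← zpow_add, ← zpow_add]
          rw [show (i + i + -i * ((2 : ℕ) : ℤ)) = 0 by push_cast; ring, zpow_zero]
        · have h' : u * v ∈ D := by simpa using mul_mem h (zpow_mem hcD' i)
          have huinv : (v : W) = (u : W) := by
            have h3 : (u : W) * (v : W) = 1 := by
              rw [← QuotientGroup.mk_mul]; exact (QuotientGroup.eq_one_iff _).2 h'
            have h4 : (u : W) * (u : W) = 1 := by
              rw [← QuotientGroup.mk_mul, ← sq]; exact (QuotientGroup.eq_one_iff _).2 hu2D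
            exact mul_left_cancel (h3.trans h4.symm)
          exact huD ((QuotientGroup.eq_one_iff u).1
            (eq_one_of_fixed hW2 hWm hr2 hfr hf1 hWc (by rw [hf, quotAut_mk, huv, huinv])))
        · have hvu : Commute (u * v) (α (u * v)) := by
            rw [map_mul, huv]
            have hvv : Commute v (α v) := by
              have := congrArg α hucomm
              rwa [map_mul, map_mul, huv] at this
            have h5 : Commute u (α v) := by
              have hk : u * v ∈ zpowers u ⊔ zpowers v := mul_mem_sup (mem_zpowers u) (mem_zpowers v)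
              have h1 := commutatorElement_pow_left (a := a) (b := α b) rfl
                (hDZ (commutator_mem_commutator (mem_top a) (mem_top _))) (2 ^ (n + 1))
              have h2' := commutatorElement_pow_right h1 (pow_mem
                (hDZ (commutator_mem_commutator (mem_top a) (mem_top _))) _) (2 ^ (n + 1))
              rw [← map_pow, ← hv, ← hu] at h2'
              refine commutatorElement_eq_one_iff_commute.1 (h2'.trans ?_)
              obtain ⟨j, hj⟩ := (hDc' ▸ commutator_mem_commutator (mem_top a) (mem_top (α b)) :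
                ⁅a, α b⁆ ∈ zpowers c)
              rw [← hj, ← pow_mul, ← pow_add, ← zpow_natCast, ← zpow_mul, mul_comm, zpow_mul,
                zpow_natCast, show n + 1 + (n + 1) = n + 1 + 1 + n by ring, pow_add, pow_mul, hcn,
                one_pow, one_zpow]
            exact Commute.mul_left (Commute.mul_right hucomm h5)
              (Commute.mul_right (Commute.refl v) hvv)
          have hcz := mem_center_iff.1 (zpow_mem hcZ (-i))
          rw [map_mul, hDfix _ (zpow_mem hcD' _)]
          exact Commute.mul_left (Commute.mul_right hvu (hcz _)) (hcz _).symm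
    -- an elementary abelian subgroup of order eight
    set k := orderOf c / 2 with hk
    obtain ⟨z, hz⟩ := exists_prime_orderOf_dvd_card' 2 (dvd_card_of_ne_bot h2 hcD)
    have hz2 : (z : X) ^ 2 = 1 := congrArg Subtype.val (hz ▸ pow_orderOf_eq_one z)
    have hzc := mem_center_iff.1 (hDZ z.2)
    have hy2 : (α y) ^ 2 = 1 := by rw [← map_pow, hy1, map_one]
    have hz1 : (z : X) ≠ 1 := fun e => by
      rw [← Subgroup.orderOf_coe, e, orderOf_one] at hz
      omega
    let E : Subgroup X := closure {(z : X), y, α y}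
    have hEc : ∀ p ∈ ({(z : X), y, α y} : Set X), ∀ q ∈ ({(z : X), y, α y} : Set X),
        p * q = q * p := by
      rintro p (rfl | rfl | rfl) q (rfl | rfl | rfl)
      all_goals first | rfl | exact (hzc _).symm | exact hzc _ | exact hyc | exact hyc.symm
    have hEab : IsMulCommutative E := Subgroup.isMulCommutative_closure hEc
    have hE : ∀ x ∈ E, x ^ 2 = 1 := by
      intro x hx
      induction hx using closure_induction with
      | mem w hw => rcases hw with rfl | rfl | rfl <;> assumption
      | one => exact one_pow 2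
      | mul p q hp hq h1 h2' =>
        have hpq : p * q = q * p :=
          congrArg Subtype.val (hEab.is_comm.comm ⟨p, hp⟩ ⟨q, hq⟩)
        rw [Commute.mul_pow hpq, h1, h2', one_mul]
      | inv p _ h => rw [inv_pow, h, inv_one]
    have h4 := card_le_four hm E hE
    classical
    haveI := Fintype.ofFinite E
    have hαyD : α y ∉ D := fun h => hyD (by
      have h' := (characteristic_iff_comap_eq.1 (inferInstance : D.Characteristic) α).le h
      exact h')
    have hmod : ∀ p q : X, (p : W) ≠ (q : W) → p ≠ q := fun p q h e => h (by rw [e])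
    have hy0 : (y : W) ≠ 1 := fun h => hyD ((QuotientGroup.eq_one_iff y).1 h)
    have hαy0 : ((α y : X) : W) ≠ 1 := fun h => hαyD ((QuotientGroup.eq_one_iff _).1 h)
    have hyαy : (y : W) ≠ ((α y : X) : W) := fun h =>
      hy0 (eq_one_of_fixed hW2 hWm hr2 hfr hf1 hWc (by rw [hf, quotAut_mk]; exact h.symm))
    have mz : (z : X) ∈ E := subset_closure (by simp)
    have my : y ∈ E := subset_closure (by simp)
    have may : α y ∈ E := subset_closure (by simp)
    have hzW : ((z : X) : W) = 1 := (QuotientGroup.eq_one_iff _).2 z.2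
    have h5 := Finset.card_le_univ ({1, ⟨z, mz⟩, ⟨y, my⟩, ⟨α y, may⟩,
      ⟨z * y, mul_mem mz my⟩} : Finset E)
    have n1 := hmod 1 y (by rw [QuotientGroup.mk_one]; exact hy0.symm)
    have n2 := hmod 1 (α y) (by rw [QuotientGroup.mk_one]; exact hαy0.symm)
    have n3 := hmod 1 ((z : X) * y) (by
      rw [QuotientGroup.mk_one, QuotientGroup.mk_mul, hzW, one_mul]; exact hy0.symm)
    have n4 := hmod z y (by rw [hzW]; exact hy0.symm)
    have n5 := hmod z (α y) (by rw [hzW]; exact hαy0.symm)
    have n6 := hmod z (z * y) (by rw [QuotientGroup.mk_mul, hzW, one_mul]; exact hy0.symm)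
    have n7 := hmod y (α y) hyαy
    have n8 : y ≠ z * y := fun h => hz1 (mul_eq_right.1 h.symm)
    have n9 := hmod (α y) (z * y) (by rw [QuotientGroup.mk_mul, hzW, one_mul]; exact hyαy.symm)
    rw [← Nat.card_eq_fintype_card] at h5
    simp [Finset.card_insert_of_notMem, Subtype.ext_iff, hz1.symm, n1, n2, n3, n4, n5, n6, n7,
      n8, n9] at h5
    have h6 : Nat.card E = Fintype.card E := Nat.card_eq_fintype_card
    omega

omit hr in
/-- An automorphism of odd prime order exists if the automorphism group is not a 2-group. -/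
theorem exists_odd_prime_aut (hA : ¬ IsPGroup 2 (MulAut X)) :
    ∃ (r : ℕ) (α : MulAut X), r.Prime ∧ r ≠ 2 ∧ α ^ r = 1 ∧ α ≠ 1 := by
  by_contra hcon
  push Not at hcon
  refine hA (IsPGroup.of_card (n := (Nat.card (MulAut X)).primeFactorsList.length)
    (Nat.eq_prime_pow_of_unique_prime_dvd Nat.card_pos.ne' ?_))
  intro q hq hqd
  haveI := Fact.mk hq
  obtain ⟨α, hα⟩ := exists_prime_orderOf_dvd_card' q hqd
  by_contra hq2
  have h1 := hcon q α hq hq2 (hα ▸ pow_orderOf_eq_one α)
  rw [h1, orderOf_one] at hα
  exact hq.one_lt.ne hα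

/-- With an automorphism of odd prime order the group is `Q₈` or homocyclic of rank two. -/
theorem quaternion_or_homocyclic (h2 : IsPGroup 2 X) (hm : IsMetacyclic X) (hr2 : r ≠ 2)
    (hα : α ^ r = 1) (hα1 : α ≠ 1) :
    Nonempty (X ≃* QuaternionGroup 2) ∨
      ∃ n : ℕ, Nonempty (X ≃* Multiplicative (ZMod (2 ^ n)) × Multiplicative (ZMod (2 ^ n))) := by
  rcases comm_or_quaternion h2 hm hr2 hα hα1 with hc | hq
  · right
    obtain ⟨n, a, -, -, hn, hdis, htop⟩ := homocyclic h2 hm hr2 hα hα1 hc
    have hb : Nat.card (zpowers (α a)) = 2 ^ n := by rw [Nat.card_zpowers, α.orderOf_eq, hn]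
    have ha : Nat.card (zpowers a) = 2 ^ n := by rw [Nat.card_zpowers, hn]
    let ea : Multiplicative (ZMod (2 ^ n)) ≃* zpowers a := ha ▸ zmodCyclicMulEquiv inferInstance
    let eb : Multiplicative (ZMod (2 ^ n)) ≃* zpowers (α a) :=
      hb ▸ zmodCyclicMulEquiv inferInstance
    let φ : zpowers a × zpowers (α a) →* X :=
      MonoidHom.noncommCoprod (zpowers a).subtype (zpowers (α a)).subtype fun x y => hc x y
    have hinj : Function.Injective φ := (injective_iff_map_eq_one φ).2 fun ⟨x, y⟩ h => by
      have h' : (x : X) * (y : X) = 1 := h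
      have hx : (x : X) ∈ zpowers a ⊓ zpowers (α a) :=
        mem_inf.2 ⟨x.2, by rw [eq_inv_of_mul_eq_one_left h']; exact inv_mem y.2⟩
      rw [hdis, mem_bot] at hx
      rw [hx, one_mul] at h'
      exact Prod.ext (Subtype.ext hx) (Subtype.ext h')
    have hsurj : Function.Surjective φ := fun g => by
      haveI : (zpowers (α a)).Normal := ⟨fun x hx y => by
        rw [hc y x, mul_inv_cancel_right]; exact hx⟩
      obtain ⟨x, hx, y, hy, rfl⟩ := mem_sup_of_normal_right.1 (htop ▸ mem_top g)
      exact ⟨(⟨x, hx⟩, ⟨y, hy⟩), rfl⟩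
    exact ⟨n, ⟨((ea.prodCongr eb).trans (MulEquiv.ofBijective φ ⟨hinj, hsurj⟩)).symm⟩⟩
  · exact Or.inl hq

end CfsgLib.PGroups.MetacyclicTwoAut
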