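import Cfsg.Agent.Lib.PGroups.MaxAbelian

/-!
# Thompson critical subgroups
-/

set_option linter.unusedSectionVars false
set_option linter.style.haveILetI false

namespace CfsgLib.PGroups

open Subgroup
open scoped commutatorElement

variable {P : Type*} [Group P] {p : ℕ} [Fact p.Prime]

/-- Every finite p-group has a critical subgroup. -/
theorem exists_critical [Finite P] (hP : IsPGroup p P) :
    ∃ H : Subgroup P, H.Characteristic ∧ (frattini H).map H.subtype ≤ centralizer (H : Set P) ∧
      ⁅H, (⊤ : Subgroup P)⁆ ≤ H ⊓ centralizer (H : Set P) ∧ centralizer (H : Set P) ≤ H := by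
  obtain ⟨D, hD⟩ := Set.Finite.exists_maximal
    (s := {D : Subgroup P | D.Characteristic ∧ D ≤ centralizer (D : Set P)}) (Set.toFinite _)
    ⟨⊥, inferInstance, bot_le⟩
  obtain ⟨hDc, hDab⟩ := hD.1
  haveI := hDc
  haveI hCc : (centralizer (D : Set P)).Characteristic := by
    rw [Subgroup.characteristic_iff_map_le]
    rintro φ _ ⟨c, hc, rfl⟩ d hd
    obtain ⟨d', hd', rfl⟩ := (Subgroup.characteristic_iff_map_eq.mp hDc φ).symm ▸ hd
    simp only [MulEquiv.coe_toMonoidHom, ← map_mul, hc d' hd']
  set C := centralizer (D : Set P) with hC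
  -- elements centralising modulo D, of order p modulo D
  let H : Subgroup P :=
    { carrier := {h : P | h ∈ C ∧ h ^ p ∈ D ∧ ∀ g : P, ⁅g, h⁆ ∈ D}
      one_mem' := ⟨one_mem _, by simp, fun g => by simp⟩
      mul_mem' := by
        rintro a b ⟨ha, hap, hac⟩ ⟨hb, hbp, hbc⟩
        refine ⟨mul_mem ha hb, ?_, ?_⟩
        · rw [← QuotientGroup.eq_one_iff] at hap hbp ⊢
          have hcomm : Commute (a : P ⧸ D) (b : P ⧸ D) := by
            rw [← commutatorElement_eq_one_iff_commute, ← QuotientGroup.mk'_apply D,
              ← QuotientGroup.mk'_apply D, ← map_commutatorElement, QuotientGroup.mk'_apply,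
              QuotientGroup.eq_one_iff]
            exact hbc a
          rw [QuotientGroup.mk_pow, QuotientGroup.mk_mul, hcomm.mul_pow, ← QuotientGroup.mk_pow,
            ← QuotientGroup.mk_pow, hap, hbp, one_mul]
        · intro g
          rw [commutatorElement_mul_right_eq_mul_conj]
          simpa [mul_assoc] using mul_mem (hac g) (Subgroup.Normal.conj_mem inferInstance _ (hbc g) a)
      inv_mem' := by
        rintro a ⟨ha, hap, hac⟩
        refine ⟨inv_mem ha, by rw [inv_pow]; exact inv_mem hap, fun g => ?_⟩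
        rw [commutatorElement_inv_right, ← commutatorElement_inv g a]
        exact Subgroup.Normal.conj_mem' inferInstance _ (inv_mem (hac g)) a }
  haveI hHc : H.Characteristic := by
    rw [Subgroup.characteristic_iff_map_le]
    rintro φ _ ⟨h, ⟨h1, h2, h3⟩, rfl⟩
    simp only [MulEquiv.coe_toMonoidHom]
    have hm : ∀ {K : Subgroup P} [K.Characteristic] {x : P}, x ∈ K → φ x ∈ K := fun {K} _ {x} hx =>
      (Subgroup.characteristic_iff_map_eq.mp ‹K.Characteristic› φ) ▸
        Subgroup.mem_map_of_mem φ.toMonoidHom hx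
    refine ⟨hm h1, map_pow φ h p ▸ hm h2, fun g => ?_⟩
    have hg := hm (K := D) (h3 (φ.symm g))
    rwa [← MulEquiv.coe_toMonoidHom, map_commutatorElement, MulEquiv.coe_toMonoidHom,
      MulEquiv.apply_symm_apply] at hg
  have hDH : D ≤ H := fun d hd => ⟨hDab hd, pow_mem hd p, fun g =>
    commutator_le_right ⊤ D (commutator_mem_commutator (mem_top g) hd)⟩
  have hHC : H ≤ C := fun _ hh => hh.1
  have hCH : centralizer (H : Set P) ≤ C := centralizer_le hDH
  haveI hCHc : (centralizer (H : Set P)).Characteristic := by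
    rw [Subgroup.characteristic_iff_map_le]
    rintro φ _ ⟨c, hc, rfl⟩ d hd
    obtain ⟨d', hd', rfl⟩ := (Subgroup.characteristic_iff_map_eq.mp hHc φ).symm ▸ hd
    simp only [MulEquiv.coe_toMonoidHom, ← map_mul, hc d' hd']
  -- the centre of H is D
  have hZ : H ⊓ centralizer (H : Set P) = D := by
    refine le_antisymm ?_ (le_inf hDH ?_)
    · have hchar : (H ⊓ centralizer (H : Set P)).Characteristic := by
        rw [Subgroup.characteristic_iff_map_le]
        intro φ
        exact (Subgroup.map_inf_le _ _ _).trans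
          (inf_le_inf (Subgroup.characteristic_iff_map_le.mp hHc φ)
            (Subgroup.characteristic_iff_map_le.mp hCHc φ))
      refine hD.2 ⟨hchar, fun x hx y hy => hx.2 y hy.1⟩ (le_inf hDH ?_)
      rw [Subgroup.le_centralizer_iff]; exact hHC
    · rw [Subgroup.le_centralizer_iff]; exact hHC
  refine ⟨H, hHc, ?_, ?_, ?_⟩
  · refine le_trans ?_ (hZ.symm.le.trans inf_le_right)
    have hDn : (D.subgroupOf H).Normal := inferInstance
    rw [Subgroup.map_le_iff_le_comap]
    refine frattini_le_of_elementary_quotient (p := p) (N := D.subgroupOf H) ?_ fun h => h.2.2.1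
    rw [_root_.commutator_def, Subgroup.commutator_le]
    exact fun a _ b _ => b.2.2.2 a
  · rw [hZ, Subgroup.commutator_comm, Subgroup.commutator_le]
    exact fun g _ h hh => hh.2.2 g
  · by_contra hnot
    have hQ : H ⊓ centralizer (H : Set P) < centralizer (H : Set P) :=
      lt_of_le_not_ge inf_le_right (fun hle => hnot (hle.trans inf_le_left))
    rw [hZ] at hQ
    obtain ⟨K, hK, hDK, hKQ, hrel, hcent⟩ := exists_normal_index_prime hP hQ
    obtain ⟨k, hkK, hkD⟩ : ∃ k ∈ K, k ∉ D := by
      refine SetLike.not_le_iff_exists.mp fun hle => ?_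
      rw [Subgroup.relIndex_eq_one.mpr hle] at hrel
      exact (Fact.out : p.Prime).ne_one hrel.symm
    have hkp : k ^ p ∈ D := by
      haveI : (D.subgroupOf K).Normal := inferInstance
      have := Subgroup.pow_index_mem (D.subgroupOf K) ⟨k, hkK⟩
      rw [show (D.subgroupOf K).index = p from hrel] at this
      exact this
    have hkH : k ∈ H := ⟨hCH (hKQ hkK), hkp, hcent k hkK⟩
    exact hkD (hZ ▸ ⟨hkH, hKQ hkK⟩)

end CfsgLib.PGroups
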