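import Mathlib
import Cfsg.Prelude.Def_Transfer
import Cfsg.Agent.Lib.PGroups.Basic
import Cfsg.Agent.Lib.PGroups.Commutator
import Cfsg.Agent.Lib.PGroups.UniqueOrderP

/-!
# Characteristic series with factors of order `p` in groups of order at most `p ^ 3`
-/

set_option autoImplicit false

namespace CfsgLib.PGroups.SmallSeries

open Subgroup
open scoped commutatorElement

variable {p : ℕ} [hp : Fact p.Prime] {G : Type*} [Group G] [Finite G]

/-- A series from `⊥` to `⊤` of length `n`, invariant under all automorphisms, with steps of index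
at most `p`. -/
def CharLineSeries (p : ℕ) (G : Type*) [Group G] : Prop :=
  ∃ (n : ℕ) (W : ℕ → Subgroup G), W 0 = ⊥ ∧ W n = ⊤ ∧
    (∀ i < n, W i ≤ W (i + 1) ∧ Nat.card (W (i + 1)) ≤ p * Nat.card (W i)) ∧
    ∀ (α : MulAut G) (i : ℕ), ∀ x ∈ W i, α x ∈ W i

theorem charLineSeries_three {A B : Subgroup G} (hA : Nat.card A ≤ p) (hAB : A ≤ B)
    (hB : Nat.card B ≤ p * Nat.card A) (hG : Nat.card G ≤ p * Nat.card B)
    (hAα : ∀ (α : MulAut G), ∀ x ∈ A, α x ∈ A) (hBα : ∀ (α : MulAut G), ∀ x ∈ B, α x ∈ B) :
    CharLineSeries p G := by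
  refine ⟨3, fun i => if i = 0 then ⊥ else if i = 1 then A else if i = 2 then B else ⊤,
    by simp, by simp, fun i hi => ?_, fun α i x hx => ?_⟩
  · interval_cases i
    · simpa using hA
    · simpa using ⟨hAB, hB⟩
    · simpa using hG
  · by_cases h0 : i = 0
    · simp only [h0, if_true, mem_bot] at hx ⊢
      rw [hx, map_one]
    by_cases h1 : i = 1
    · simp only [h1, one_ne_zero, if_false, if_true] at hx ⊢
      exact hAα α x hx
    by_cases h2 : i = 2
    · simp only [h2, two_ne_zero, OfNat.ofNat_ne_one, if_false, if_true] at hx ⊢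
      exact hBα α x hx
    simp [h0, h1, h2]

theorem center_invariant (α : MulAut G) {x : G} (hx : x ∈ center G) : α x ∈ center G :=
  (Subgroup.characteristic_iff_map_eq.1 (inferInstance : (center G).Characteristic) α).le
    ⟨x, hx, rfl⟩

/-- The kernel and range of the `p`-th power map, when it is a homomorphism. -/
theorem pow_ker_range (f : G →* G) (hf : ∀ x, f x = x ^ p) :
    Nat.card f.ker * Nat.card f.range = Nat.card G ∧
      (∀ α : MulAut G, ∀ x ∈ f.ker, α x ∈ f.ker) ∧
      ∀ α : MulAut G, ∀ x ∈ f.range, α x ∈ f.range := by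
  refine ⟨by rw [← Subgroup.index_ker, Subgroup.card_mul_index], fun α x hx => ?_, ?_⟩
  · rw [MonoidHom.mem_ker, hf] at hx ⊢
    rw [← map_pow, hx, map_one]
  · rintro α _ ⟨y, rfl⟩
    exact ⟨α y, by rw [hf, hf, map_pow]⟩

/-- A group of order `p ^ 2` is cyclic with a characteristic series, or elementary abelian. -/
theorem order_p2 (hG : Nat.card G = p ^ 2) :
    (∀ a b : G, a * b = b * a) ∧ ((∀ x : G, x ^ p = 1) ∨ CharLineSeries p G) := by
  have hcomm : ∀ a b : G, a * b = b * a := IsPGroup.commutative_of_card_eq_prime_sq (p := p) hG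
  refine ⟨hcomm, or_iff_not_imp_left.2 fun hne => ?_⟩
  push Not at hne
  obtain ⟨x, hx⟩ := hne
  let f : G →* G := MonoidHom.mk' (fun y => y ^ p) fun a b => Commute.mul_pow (hcomm a b) p
  obtain ⟨hcard, hk, hr⟩ := pow_ker_range f fun _ => rfl
  rw [hG] at hcard
  obtain ⟨i, hi⟩ := card_subgroup_eq_pow (IsPGroup.of_card hG) f.range
  obtain ⟨j, hj⟩ := card_subgroup_eq_pow (IsPGroup.of_card hG) f.ker
  rw [hi, hj, ← pow_add] at hcard
  have hij := Nat.pow_right_injective hp.1.two_le hcard
  have hi0 : i ≠ 0 := fun h => by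
    rw [h, pow_zero, Subgroup.card_eq_one] at hi
    exact hx (mem_bot.1 (hi ▸ ⟨x, rfl⟩))
  have hj0 : j ≠ 0 := fun h => by
    rw [h, pow_zero, Subgroup.card_eq_one] at hj
    obtain ⟨k, hk'⟩ := (IsPGroup.of_card hG) x
    have hinj : Function.Injective f := (MonoidHom.ker_eq_bot_iff f).1 hj
    have : ∀ k, ∀ y : G, y ^ p ^ k = 1 → y = 1 := by
      intro k
      induction k with
      | zero => intro y hy; simpa using hy
      | succ k ih =>
        intro y hy
        rw [pow_succ', pow_mul] at hy
        exact hinj ((ih _ hy).trans (map_one f).symm)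
    exact hx (by rw [this k x hk', one_pow])
  obtain ⟨rfl, rfl⟩ : i = 1 ∧ j = 1 := by omega
  rw [pow_one] at hj
  exact charLineSeries_three (A := f.ker) (B := f.ker) hj.le le_rfl
    (Nat.le_mul_of_pos_left _ hp.1.pos) (by rw [hG, hj, sq]) hk hk

/-- An abelian group of order `p ^ 3` that is not elementary has a characteristic series. -/
theorem order_p3_comm (hG : Nat.card G = p ^ 3) (hcomm : ∀ a b : G, a * b = b * a)
    {x : G} (hx : x ^ p ≠ 1) : CharLineSeries p G := by
  let f : G →* G := MonoidHom.mk' (fun y => y ^ p) fun a b => Commute.mul_pow (hcomm a b) p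
  obtain ⟨hcard, hk, hr⟩ := pow_ker_range f fun _ => rfl
  rw [hG] at hcard
  have hP := IsPGroup.of_card hG
  obtain ⟨i, hi⟩ := card_subgroup_eq_pow hP f.range
  obtain ⟨j, hj⟩ := card_subgroup_eq_pow hP f.ker
  rw [hi, hj, ← pow_add] at hcard
  have hij := Nat.pow_right_injective hp.1.two_le hcard
  have hi0 : i ≠ 0 := fun h => by
    rw [h, pow_zero, Subgroup.card_eq_one] at hi
    exact hx (mem_bot.1 (hi ▸ ⟨x, rfl⟩))
  -- every nontrivial subgroup meets the kernel
  have hmeet : f.range ⊓ f.ker ≠ ⊥ := by
    obtain ⟨u, hu⟩ := exists_prime_orderOf_dvd_card' (G := f.range) p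
      (hi ▸ dvd_pow_self p hi0)
    intro hbot
    have hu' : ((u : G)) ∈ f.range ⊓ f.ker := ⟨u.2, by
      show (u : G) ^ p = 1
      rw [← hu, ← Subgroup.orderOf_coe, pow_orderOf_eq_one]⟩
    rw [hbot, mem_bot] at hu'
    rw [show u = 1 from Subtype.ext hu', orderOf_one] at hu
    exact hp.1.ne_one hu.symm
  have hinf : ∀ α : MulAut G, ∀ y ∈ f.range ⊓ f.ker, α y ∈ f.range ⊓ f.ker :=
    fun α y hy => ⟨hr α y hy.1, hk α y hy.2⟩
  obtain ⟨l, hl⟩ := card_subgroup_eq_pow hP (f.range ⊓ f.ker : Subgroup G)
  have hl0 : l ≠ 0 := fun h => hmeet (by rwa [h, pow_zero, Subgroup.card_eq_one] at hl)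
  have hj0 : j ≠ 0 := fun h => by
    rw [h, pow_zero, Subgroup.card_eq_one] at hj
    exact hmeet (le_bot_iff.1 (inf_le_right.trans hj.le))
  rcases (show i = 1 ∧ j = 2 ∨ i = 2 ∧ j = 1 by omega) with ⟨rfl, rfl⟩ | ⟨rfl, rfl⟩
  · have h1 : f.range ⊓ f.ker = f.range := eq_of_le_of_card_ge inf_le_left (by
      rw [hi, hl]; exact Nat.pow_le_pow_right hp.1.pos (by omega))
    exact charLineSeries_three (A := f.range) (B := f.ker) (by rw [hi, pow_one])
      (h1 ▸ inf_le_right) (by rw [hi, hj, pow_one, sq]) (by rw [hG, hj]; ring_nf; rfl) hr hk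
  · have h1 : f.range ⊓ f.ker = f.ker := eq_of_le_of_card_ge inf_le_right (by
      rw [hj, hl]; exact Nat.pow_le_pow_right hp.1.pos (by omega))
    exact charLineSeries_three (A := f.ker) (B := f.range) (by rw [hj, pow_one])
      (h1 ▸ inf_le_left) (by rw [hi, hj, pow_one, sq]) (by rw [hG, hi]; ring_nf; rfl) hk hr

/-- A nonabelian group of order `p ^ 3` is extraspecial of exponent `p` with `p` odd, the
quaternion group, or has a characteristic series. -/
theorem order_p3_nonab (hG : Nat.card G = p ^ 3) (hna : ∃ a b : G, a * b ≠ b * a) :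
    (Odd p ∧ Cfsg.IsExtraspecial p G ∧ ∀ x : G, x ^ p = 1) ∨
      (p = 2 ∧ Nonempty (G ≃* QuaternionGroup 2)) ∨
        (CharLineSeries p G ∧ ∃ x : G, x ^ p ≠ 1) := by
  have hP := IsPGroup.of_card hG
  obtain ⟨a, b, hab⟩ := hna
  haveI : Nontrivial G := ⟨⟨a * b, b * a, hab⟩⟩
  have hnc : ¬ IsCyclic (G ⧸ center G) := fun h => hab (by
    exact commutative_of_cyclic_center_quotient (QuotientGroup.mk' (center G))
      (by rw [QuotientGroup.ker_mk']) a b)
  obtain ⟨k, hk⟩ := card_subgroup_eq_pow hP (center G)
  have hmul := (center G).card_mul_index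
  obtain ⟨l, hl⟩ := hP.index (center G)
  rw [hk, hl, hG, ← pow_add] at hmul
  have hkl := Nat.pow_right_injective hp.1.two_le hmul
  have hk0 : k ≠ 0 := fun h => by
    have := hP.center_nontrivial
    rw [h, pow_zero, Subgroup.card_eq_one] at hk
    exact (Subgroup.nontrivial_iff_ne_bot _).1 this hk
  have hl2 : 2 ≤ l := by
    by_contra h
    refine hnc ?_
    interval_cases l
    · haveI : Subsingleton (G ⧸ center G) := by
        rw [pow_zero, Subgroup.index_eq_one] at hl
        rw [hl]
        exact QuotientGroup.subsingleton_quotient_top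
      exact isCyclic_of_subsingleton
    · exact isCyclic_of_prime_card (p := p) (by rw [← Subgroup.index_eq_card, hl, pow_one])
  obtain ⟨rfl, rfl⟩ : k = 1 ∧ l = 2 := by omega
  rw [pow_one] at hk
  have hcomm : ∀ x y : G, ⁅x, y⁆ ∈ center G := fun x y => by
    rw [← QuotientGroup.eq_one_iff]
    show QuotientGroup.mk' (center G) ⁅x, y⁆ = 1
    rw [map_commutatorElement, commutatorElement_eq_one_iff_mul_comm]
    exact IsPGroup.commutative_of_card_eq_prime_sq (p := p)
      (by rw [← Subgroup.index_eq_card, hl]) _ _
  have hzp : ∀ z ∈ center G, z ^ p = 1 := fun z hz => by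
    have := pow_card_eq_one' (x := (⟨z, hz⟩ : center G))
    rw [hk] at this
    exact congrArg Subtype.val this
  have hpowc : ∀ x : G, x ^ p ∈ center G := fun x => by
    obtain ⟨i, hi⟩ := hP x
    rw [← QuotientGroup.eq_one_iff, QuotientGroup.mk_pow]
    by_contra hne
    refine hnc ?_
    have hord : orderOf (x : G ⧸ center G) = p ^ 2 := by
      have hd : orderOf (x : G ⧸ center G) ∣ p ^ 2 := by
        rw [← hl, Subgroup.index_eq_card]
        exact orderOf_dvd_natCard _
      obtain ⟨e, he, he'⟩ := (Nat.dvd_prime_pow hp.1).1 hd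
      interval_cases e
      · exact absurd (by rw [orderOf_eq_one_iff.1 he', one_pow]) hne
      · exact absurd (by rw [← pow_orderOf_eq_one (x : G ⧸ center G), he', pow_one]) hne
      · exact he'
    exact isCyclic_of_orderOf_eq_card (x : G ⧸ center G) (by rw [hord, ← Subgroup.index_eq_card, hl])
  rcases hp.1.eq_two_or_odd' with rfl | hodd
  · by_cases hinv : ∀ y : G, y ^ 2 = 1 → y ∈ center G
    · right; left
      refine ⟨rfl, ?_⟩
      obtain ⟨z, hz⟩ := (center G).ne_bot_iff_exists_ne_one.1 fun h => by
        rw [h, Subgroup.card_bot] at hk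
        exact absurd hk (by norm_num)
      have hzgen : zpowers (z : G) = center G := eq_of_le_of_card_ge (zpowers_le.2 z.2) (by
        rw [hk, Nat.card_zpowers,
          orderOf_eq_prime (hzp _ z.2) fun h => hz (Subtype.ext h)])
      rcases isCyclic_or_quaternion_of_unique hP (hzp _ z.2)
        (fun y hy => hzgen.ge (hinv y hy)) with hc | ⟨-, m, hm, ⟨e⟩⟩
      · exact absurd ((IsCyclic.isMulCommutative (α := G)).is_comm.comm a b) hab
      · have h8 := Nat.card_congr e.toEquiv
        rw [hG, Nat.card_eq_fintype_card, QuaternionGroup.card, show (2 : ℕ) ^ 3 = 4 * 2 ^ 1 by norm_num] at h8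
        obtain rfl : 1 = m := Nat.pow_right_injective le_rfl (Nat.eq_of_mul_eq_mul_left four_pos h8)
        exact ⟨e⟩
    · right; right
      push Not at hinv
      obtain ⟨t, ht, htZ⟩ := hinv
      set C := closure {y : G | y ^ 2 ≠ 1} with hC
      have hCα : ∀ α : MulAut G, ∀ y ∈ C, α y ∈ C := by
        intro α y hy
        induction hy using closure_induction with
        | mem y hy =>
          exact subset_closure fun h => hy (by rwa [← map_pow, MulEquiv.map_eq_one_iff] at h)
        | one => rw [map_one]; exact C.one_mem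
        | mul u v _ _ h1 h2 => rw [map_mul]; exact C.mul_mem h1 h2
        | inv u _ h1 => rw [map_inv]; exact C.inv_mem h1
      obtain ⟨x, hx⟩ : ∃ x : G, x ^ 2 ≠ 1 := by
        by_contra h
        push Not at h
        apply hab
        have e1 : a * a = 1 := by rw [← sq]; exact h a
        have e2 : b * b = 1 := by rw [← sq]; exact h b
        have e3 : a * b * (a * b) = 1 := by rw [← sq]; exact h _
        calc a * b = a * b * ((a * a)) := by rw [e1, mul_one]
          _ = a * b * (a * (b * b) * a) := by rw [e2, mul_one]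
          _ = (a * b * (a * b)) * (b * a) := by group
          _ = b * a := by rw [e3, one_mul]
      have hx4 : orderOf x = 2 ^ (1 + 1) := orderOf_eq_prime_pow (p := 2) (n := 1)
        (by rwa [pow_one]) (by rw [pow_succ, pow_one, pow_mul]; exact hzp _ (hpowc x))
      have hxidx : (zpowers x).index = 2 := by
        have := (zpowers x).card_mul_index
        rw [Nat.card_zpowers, hx4, hG] at this
        omega
      have hxn : (zpowers x).Normal := normal_of_index_eq_two hxidx
      have hC' : C ≤ zpowers x := by
        rw [closure_le]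
        intro y hy
        by_contra hyx
        apply hy
        have htx : t ∉ zpowers x := fun h => htZ (by
          obtain ⟨i, rfl⟩ := mem_zpowers_iff.1 h
          obtain ⟨j, rfl | rfl⟩ := Int.even_or_odd' i
          · rw [zpow_mul, zpow_two, ← sq]
            exact zpow_mem (hpowc x) j
          · exfalso
            rw [zpow_add_one, zpow_mul] at ht
            rw [Commute.mul_pow ((Commute.refl x).zpow_left 2 |>.zpow_left j)] at ht
            apply hx
            rw [← zpow_natCast, ← zpow_mul, mul_comm, zpow_mul, zpow_natCast, zpow_two, ← sq,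
              hzp _ (hpowc x), one_zpow, one_mul] at ht
            exact ht)
        have hty : t * y ∈ zpowers x :=
          (mul_mem_iff_of_index_two hxidx).2 ⟨fun h => absurd h htx, fun h => absurd h hyx⟩
        obtain ⟨i, hi⟩ := mem_zpowers_iff.1 hty
        have htt : t * t = 1 := by rw [← sq]; exact ht
        have hy' : y = t * x ^ i := by rw [hi, ← mul_assoc, htt, one_mul]
        -- `t` inverts `x`
        have htx' : t * x * t = x⁻¹ := by
          have h1 : t * x * t * x⁻¹ ∈ center G := by
            have := hcomm t x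
            rwa [commutatorElement_def, inv_eq_of_mul_eq_one_right htt] at this
          have h2 : t * x * t * x⁻¹ ≠ 1 := fun h => htZ (by
            have hxt : t * x = x * t := by
              rw [mul_inv_eq_one] at h
              calc t * x = t * x * (t * t) := by rw [htt, mul_one]
                _ = x * t := by rw [← mul_assoc, h]
            rw [mem_center_iff]
            intro g
            by_cases hg : g ∈ zpowers x
            · obtain ⟨j, rfl⟩ := mem_zpowers_iff.1 hg
              exact ((show Commute t x from hxt).zpow_right j).eq.symm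
            · obtain ⟨j, hj⟩ := mem_zpowers_iff.1 ((mul_mem_iff_of_index_two hxidx).2
                ⟨fun h' => absurd h' htx, fun h' => absurd h' hg⟩ : t * g ∈ zpowers x)
              have hg' : g = t * x ^ j := by rw [hj, ← mul_assoc, htt, one_mul]
              rw [hg']
              exact (((Commute.refl t).mul_right
                ((show Commute t x from hxt).zpow_right j))).eq.symm)
          have h3 : zpowers (t * x * t * x⁻¹) = center G :=
            eq_of_le_of_card_ge (zpowers_le.2 h1) (by
              rw [hk, Nat.card_zpowers, orderOf_eq_prime (hzp _ h1) h2])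
          obtain ⟨j, hj⟩ := mem_zpowers_iff.1 (h3.ge (hpowc x))
          have hcc : (t * x * t * x⁻¹) * (t * x * t * x⁻¹) = 1 := by rw [← sq]; exact hzp _ h1
          obtain ⟨m, rfl | rfl⟩ := Int.even_or_odd' j
          · rw [zpow_mul, zpow_two, hcc, one_zpow] at hj
            exact absurd hj.symm hx
          · rw [zpow_add_one, zpow_mul, zpow_two, hcc, one_zpow, one_mul] at hj
            have hx41 : x ^ 4 = 1 := by
              rw [show (4 : ℕ) = 2 * 2 from rfl, pow_mul]; exact hzp _ (hpowc x)
            calc t * x * t = t * x * t * x⁻¹ * x := by group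
              _ = x ^ 2 * x := by rw [hj]
              _ = x ^ 4 * x⁻¹ := by group
              _ = x⁻¹ := by rw [hx41, one_mul]
        show y ^ 2 = 1
        have ht' : t⁻¹ = t := inv_eq_of_mul_eq_one_right htt
        rw [hy', sq, show t * x ^ i * (t * x ^ i) = (t * x * t⁻¹) ^ i * (t * t) * x ^ i by
          rw [conj_zpow]; group, htt, mul_one, ht', htx', inv_zpow, inv_mul_cancel]
      have hCeq : C = zpowers x := le_antisymm hC' (zpowers_le.2 (subset_closure hx))
      refine ⟨?_, x, hx⟩
      refine charLineSeries_three (A := center G) (B := C) hk.le ?_ ?_ ?_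
        (fun α y hy => center_invariant α hy) hCα
      · intro z hz
        rw [hCeq]
        by_contra hzx
        have htop : ∀ g : G, g * x = x * g := fun g => by
          by_cases hg : g ∈ zpowers x
          · obtain ⟨j, rfl⟩ := mem_zpowers_iff.1 hg
            exact ((Commute.refl x).zpow_left j).eq
          · obtain ⟨j, hj⟩ := mem_zpowers_iff.1 ((mul_mem_iff_of_index_two hxidx).2
              ⟨fun h' => absurd h' hzx, fun h' => absurd h' hg⟩ : z * g ∈ zpowers x)
            have hg' : g = z⁻¹ * x ^ j := by rw [hj, inv_mul_cancel_left]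
            rw [hg']
            exact ((Commute.inv_left (mem_center_iff.1 hz x).symm).mul_left
              ((Commute.refl x).zpow_left j)).eq
        have hxZ : x ∈ center G := mem_center_iff.2 htop
        exact hx (hzp x hxZ)
      · rw [hCeq, Nat.card_zpowers, hx4, hk]; norm_num
      · rw [hG, hCeq, Nat.card_zpowers, hx4]; norm_num
  · let f : G →* G := MonoidHom.mk' (fun y => y ^ p) fun u v => by
      show (u * v) ^ p = u ^ p * v ^ p
      obtain ⟨m, hm⟩ := hodd
      rw [mul_pow_of_central (hcomm v u), show p.choose 2 = p * m by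
        rw [Nat.choose_two_right, hm, Nat.add_sub_cancel,
          show (2 * m + 1) * (2 * m) = (2 * m + 1) * m * 2 by ring, Nat.mul_div_cancel _ two_pos],
        pow_mul, hzp _ (hcomm v u), one_pow, mul_one]
    obtain ⟨hcard, hkα, -⟩ := pow_ker_range f fun _ => rfl
    by_cases hexp : ∀ x : G, x ^ p = 1
    · left
      have hle : commutator G ≤ center G := by
        rw [_root_.commutator_def, Subgroup.commutator_le]
        exact fun u _ v _ => hcomm u v
      have hcom : commutator G = center G := by
        refine eq_of_le_of_card_ge hle ?_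
        have hn : ⁅a, b⁆ ≠ 1 := fun h => hab (commutatorElement_eq_one_iff_mul_comm.1 h)
        rw [hk, ← orderOf_eq_prime (hzp _ (hcomm a b)) hn, ← Nat.card_zpowers]
        exact card_le_of_le (zpowers_le.2 (commutator_mem_commutator (mem_top a) (mem_top b)))
      exact ⟨hodd, ⟨⟨hP, le_antisymm (frattini_le_of_elementary_quotient (p := p) hle hpowc)
        (hcom ▸ commutator_le_frattini hP), hcom⟩, hk⟩, hexp⟩
    · right; right
      push Not at hexp
      obtain ⟨x, hx⟩ := hexp
      have hr : f.range = center G := by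
        refine eq_of_le_of_card_ge (fun y ⟨w, hw⟩ => hw ▸ hpowc w) ?_
        rw [hk, ← orderOf_eq_prime (hzp _ (hpowc x)) hx, ← Nat.card_zpowers]
        exact card_le_of_le (zpowers_le.2 ⟨x, rfl⟩)
      rw [hr, hk, hG, pow_succ] at hcard
      have hker := Nat.eq_of_mul_eq_mul_right hp.1.pos hcard
      exact ⟨charLineSeries_three (A := center G) (B := f.ker) hk.le (fun z hz => hzp z hz)
        (by rw [hk, hker, sq]) (by rw [hG, hker]; exact le_of_eq (by ring))
        (fun α y hy => center_invariant α hy) hkα, x, hx⟩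

end CfsgLib.PGroups.SmallSeries
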