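import Mathlib
import Cfsg.Agent.Lib.PGroups.Basic

/-!
# Class and breadth

The theorem of Leedham-Green, Neumann and Wiegold: a `p`-group of class `c` and breadth `b ≥ 1`
satisfies `(c - 1) (p - 1) < b p`.
-/

set_option linter.style.haveILetI false
set_option autoImplicit false

namespace CfsgLib.PGroups

open scoped commutatorElement

variable {G : Type*} [Group G] [Finite G] {p : ℕ}

/-- The centralizer of the section between the terms `i` and `i + 2` of the lower central series. -/
def twoStepCentralizer (G : Type*) [Group G] (i : ℕ) : Subgroup G :=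
  (Subgroup.centralizer ((((⊤ : Subgroup G).lowerCentralSeries i).map
    (QuotientGroup.mk' ((⊤ : Subgroup G).lowerCentralSeries (i + 2)))) : Set _)).comap
    (QuotientGroup.mk' ((⊤ : Subgroup G).lowerCentralSeries (i + 2)))

theorem mem_twoStepCentralizer {i : ℕ} {x : G} :
    x ∈ twoStepCentralizer G i ↔
      ∀ a ∈ (⊤ : Subgroup G).lowerCentralSeries i, ⁅a, x⁆ ∈ (⊤ : Subgroup G).lowerCentralSeries (i + 2) := by
  have key : ∀ a : G, ⁅a, x⁆ ∈ (⊤ : Subgroup G).lowerCentralSeries (i + 2) ↔
      QuotientGroup.mk' ((⊤ : Subgroup G).lowerCentralSeries (i + 2)) a * QuotientGroup.mk' _ x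
        = QuotientGroup.mk' _ x * QuotientGroup.mk' _ a := by
    intro a
    rw [← QuotientGroup.eq_one_iff]
    show QuotientGroup.mk' ((⊤ : Subgroup G).lowerCentralSeries (i + 2)) ⁅a, x⁆ = 1 ↔ _
    rw [map_commutatorElement, commutatorElement_eq_one_iff_mul_comm]
  constructor
  · intro h a ha
    exact (key a).mpr (Subgroup.mem_centralizer_iff.mp h _ ⟨a, ha, rfl⟩)
  · intro h
    show QuotientGroup.mk' _ x ∈ Subgroup.centralizer _
    rw [Subgroup.mem_centralizer_iff]
    rintro _ ⟨a, ha, rfl⟩
    exact (key a).mp (h a ha)

open Classical in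
/-- A `p`-group in which the class is `c` has an element with `p` times the number of two-step
centralizers avoiding it exceeding `(c - 1) (p - 1)`. -/
theorem exists_many_not_mem [Fact p.Prime] (hG : IsPGroup p G) {m : ℕ} (hm : 0 < m)
    (H : ℕ → Subgroup G) (hH : ∀ i < m, H i ≠ ⊤) :
    ∃ x : G, m * (p - 1) < ((Finset.range m).filter fun i => x ∉ H i).card * p := by
  classical
  haveI := Fintype.ofFinite G
  by_contra h
  push Not at h
  have hone : ((Finset.range m).filter fun i => (1 : G) ∉ H i).card = 0 := by
    rw [Finset.card_eq_zero, Finset.filter_eq_empty_iff]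
    exact fun i _ hi => hi (one_mem _)
  have hlow : ∀ i < m,
      Fintype.card G * (p - 1) ≤ (Finset.univ.filter fun x : G => x ∉ H i).card * p := by
    intro i hi
    have h1 := (H i).index_mul_card
    have h2 : p ≤ (H i).index := Nat.le_of_dvd
      (Nat.pos_of_ne_zero Subgroup.index_ne_zero_of_finite) (dvd_index_of_ne_top hG (hH i hi))
    have h3 : (Finset.univ.filter fun x : G => x ∉ H i).card + Nat.card (H i) = Fintype.card G := by
      rw [Nat.card_eq_fintype_card, Fintype.card_subtype, add_comm,
        Finset.card_filter_add_card_filter_not]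
      rfl
    rw [Nat.card_eq_fintype_card (α := G)] at h1
    have hp := (Fact.out : p.Prime).one_lt
    obtain ⟨q, rfl⟩ : ∃ q, p = q + 1 := ⟨p - 1, by omega⟩
    rw [Nat.add_sub_cancel]
    nlinarith [Nat.mul_le_mul_right (Nat.card (H i)) h2]
  have hswap : ∑ i ∈ Finset.range m, (Finset.univ.filter fun x : G => x ∉ H i).card
      = ∑ x : G, ((Finset.range m).filter fun i => x ∉ H i).card := by
    simp only [Finset.card_filter]
    exact Finset.sum_comm
  have hbig : m * (Fintype.card G * (p - 1))
      ≤ ∑ x : G, ((Finset.range m).filter fun i => x ∉ H i).card * p := by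
    rw [← Finset.sum_mul, ← hswap, Finset.sum_mul]
    calc m * (Fintype.card G * (p - 1))
        = ∑ _i ∈ Finset.range m, Fintype.card G * (p - 1) := by
          rw [Finset.sum_const, Finset.card_range, smul_eq_mul]
      _ ≤ _ := Finset.sum_le_sum fun i hi => hlow i (Finset.mem_range.mp hi)
  have hsmall : ∑ x : G, ((Finset.range m).filter fun i => x ∉ H i).card * p
      < ∑ _x : G, m * (p - 1) := by
    refine Finset.sum_lt_sum (fun x _ => h x) ⟨1, Finset.mem_univ _, ?_⟩
    rw [hone, zero_mul]
    exact Nat.mul_pos hm (by have := (Fact.out : p.Prime).one_lt; omega)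
  rw [Finset.sum_const, Finset.card_univ, smul_eq_mul] at hsmall
  have h4 : m * (Fintype.card G * (p - 1)) = Fintype.card G * (m * (p - 1)) := by ring
  omega

open Classical in
/-- The two-step centralizers avoiding `x` are at most the breadth of `x` in number. -/
theorem pow_card_not_mem_le_index [Fact p.Prime] (hG : IsPGroup p G) (x : G) (m : ℕ) :
    p ^ ((Finset.range m).filter fun i => x ∉ twoStepCentralizer G i).card
      ≤ (Subgroup.centralizer ({x} : Set G)).index := by
  classical
  set C := Subgroup.centralizer ({x} : Set G) with hC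
  set D : ℕ → Subgroup G := fun i => C ⊔ (⊤ : Subgroup G).lowerCentralSeries i with hD
  have key : ∀ n, p ^ ((Finset.range n).filter fun i => x ∉ twoStepCentralizer G i).card
      ≤ (D n).index := by
    intro n
    induction n with
    | zero => exact Nat.one_le_iff_ne_zero.mpr Subgroup.index_ne_zero_of_finite
    | succ n ih =>
      have hle : D (n + 1) ≤ D n :=
        sup_le_sup_left (Subgroup.lowerCentralSeries_antitone _ n.le_succ) _
      rw [Finset.range_add_one, Finset.filter_insert]
      by_cases hx : x ∈ twoStepCentralizer G n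
      swap
      · rw [if_pos hx]
        have hne : D (n + 1) ≠ D n := by
          intro he
          apply hx
          rw [mem_twoStepCentralizer]
          intro a ha
          have ha' : a ∈ D (n + 1) := he ▸ Subgroup.mem_sup_right ha
          obtain ⟨c, hc, w, hw, rfl⟩ := Subgroup.mem_sup_of_normal_right.mp ha'
          have hcx : c * x = x * c := Subgroup.mem_centralizer_singleton_iff.mp hc
          have h1 : ⁅c * w, x⁆ = c * ⁅w, x⁆ * c⁻¹ := by
            simp only [commutatorElement_def, mul_inv_rev, mul_assoc]
            rw [show c⁻¹ * x⁻¹ = x⁻¹ * c⁻¹ by rw [← mul_inv_rev, ← mul_inv_rev, hcx]]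
          rw [h1]
          exact (inferInstance : ((⊤ : Subgroup G).lowerCentralSeries (n + 2)).Normal).conj_mem _
            (Subgroup.commutator_mem_commutator hw (Subgroup.mem_top x)) c
        rw [Finset.card_insert_of_notMem (by simp), pow_succ,
          ← Subgroup.relIndex_mul_index hle, mul_comm _ (D n).index]
        refine Nat.mul_le_mul ih ?_
        obtain ⟨k, hk⟩ := (hG.to_subgroup (D n)).index ((D (n + 1)).subgroupOf (D n))
        have hk' : (D (n + 1)).relIndex (D n) = p ^ k := hk
        rw [hk']
        rcases k with _ | k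
        · exact absurd (le_antisymm hle (Subgroup.relIndex_eq_one.mp (by rw [hk', pow_zero]))) hne
        · exact Nat.le_self_pow k.succ_ne_zero p
      · rw [if_neg (not_not_intro hx)]
        exact ih.trans (Nat.le_of_dvd (Nat.pos_of_ne_zero Subgroup.index_ne_zero_of_finite)
          (Subgroup.index_dvd_of_le hle))
  exact (key m).trans (Nat.le_of_dvd (Nat.pos_of_ne_zero Subgroup.index_ne_zero_of_finite)
    (Subgroup.index_dvd_of_le le_sup_left))

theorem class_breadth [Fact p.Prime] (hG : IsPGroup p G) (b : ℕ)
    (hb : ∀ x : G, (Subgroup.centralizer ({x} : Set G)).index ≤ p ^ b) :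
    ∃ c : ℕ, (⊤ : Subgroup G).lowerCentralSeries c = ⊥ ∧
      (b ≠ 0 → (c - 1) * (p - 1) < b * p ∧ c ≤ 2 * b) ∧ (b = 0 → c ≤ 1) := by
  classical
  haveI := hG.isNilpotent
  have hex := Subgroup.nilpotent_iff_lowerCentralSeries.mp (inferInstance : Group.IsNilpotent G)
  refine ⟨Nat.find hex, Nat.find_spec hex, ?_⟩
  set c := Nat.find hex with hcdef
  have hp := (Fact.out : p.Prime).two_le
  have hbound : 1 < c → (c - 1) * (p - 1) < b * p := by
    intro hc
    have hproper : ∀ i < c - 1, twoStepCentralizer G i ≠ ⊤ := by
      intro i hi htop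
      have hle : (⊤ : Subgroup G).lowerCentralSeries (i + 1)
          ≤ (⊤ : Subgroup G).lowerCentralSeries (i + 2) := by
        rw [Subgroup.lowerCentralSeries_succ, Subgroup.commutator_le]
        intro a ha g _
        exact mem_twoStepCentralizer.mp (htop ▸ Subgroup.mem_top g) a ha
      have hall : ∀ j, (⊤ : Subgroup G).lowerCentralSeries (i + 1)
          ≤ (⊤ : Subgroup G).lowerCentralSeries (i + 1 + j) := by
        intro j
        induction j with
        | zero => exact le_rfl
        | succ j ihj => exact hle.trans (Subgroup.commutator_mono ihj le_rfl)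
      have hbot : (⊤ : Subgroup G).lowerCentralSeries (i + 1) = ⊥ :=
        le_bot_iff.mp (((hall c).trans (Subgroup.lowerCentralSeries_antitone _
          (Nat.le_add_left c (i + 1)))).trans (Nat.find_spec hex).le)
      exact Nat.find_min hex (by omega : i + 1 < c) hbot
    obtain ⟨x, hx⟩ := exists_many_not_mem hG (by omega : 0 < c - 1) (twoStepCentralizer G) hproper
    have h1 := (pow_card_not_mem_le_index hG x (c - 1)).trans (hb x)
    rw [Nat.pow_le_pow_iff_right hp] at h1
    exact lt_of_lt_of_le hx (Nat.mul_le_mul_right p h1)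
  constructor
  · intro hb0
    rcases Nat.lt_or_ge 1 c with hc | hc
    · refine ⟨hbound hc, ?_⟩
      have h := hbound hc
      by_contra hlt
      push Not at hlt
      have h1 : 2 * b * (p - 1) ≤ (c - 1) * (p - 1) := Nat.mul_le_mul_right _ (by omega)
      have h2 : p ≤ 2 * (p - 1) := by omega
      nlinarith
    · refine ⟨?_, by omega⟩
      rw [show c - 1 = 0 by omega, zero_mul]
      exact Nat.mul_pos (Nat.pos_of_ne_zero hb0) (by omega)
  · intro hb0
    by_contra hc
    have h := hbound (by omega)
    rw [hb0, zero_mul] at h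
    exact Nat.not_lt_zero _ h

end CfsgLib.PGroups
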