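import Mathlib
import Cfsg.Agent.Lib.PGroups.MaximalClass
import Cfsg.Agent.Lib.PLocal.MaximalClass
import Cfsg.Agent.Lib.PLocal.PolySeq

/-! `p`-groups with a self-centralising subgroup of order `p²` (or nonabelian of order `p³`):
the `p`-th power map on the lower central series, and generation of subgroups by `p` elements. -/
set_option autoImplicit false

universe u

namespace CfsgLib.PGroups.Pearl

open Subgroup CfsgLib.PLocal
open scoped commutatorElement

variable {G : Type u} [Group G]

/-- The terms of the lower central series of a group. -/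
abbrev lcsT (G : Type u) [Group G] (i : ℕ) : Subgroup G := (⊤ : Subgroup G).lowerCentralSeries i

theorem lcsT_normal (i : ℕ) : (lcsT G i).Normal :=
  inferInstanceAs ((⊤ : Subgroup G).lowerCentralSeries i).Normal

theorem lcsFil_succ (i : ℕ) : lcsFil G (i + 1) = lcsT G i := rfl

theorem diff_mem {m : ℕ} : ∀ {i : ℕ} {f : ℕ → G}, polyPred m i f →
    ∀ k, seqDiff^[m] f k ∈ lcsFil G (i + m) := by
  induction m with
  | zero => exact fun hf k => hf k
  | succ m ih =>
    intro i f hf k
    rw [Function.iterate_succ_apply, show i + (m + 1) = i + 1 + m by ring]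
    exact ih hf.2 k

theorem diff_eq_of_vanish {m : ℕ} : ∀ {f : ℕ → G}, (∀ k < m, f k = 1) → seqDiff^[m] f 0 = f m := by
  induction m with
  | zero => exact fun _ => rfl
  | succ m ih =>
    intro f h
    rw [Function.iterate_succ_apply, ih fun k hk => by
      simp [seqDiff, h k (by omega), h (k + 1) (by omega)]]
    simp [seqDiff, h m (lt_add_one m)]

theorem diff_const_pow (x : G) : ∀ {j m : ℕ}, j < m →
    seqDiff^[m] (fun k => x ^ k.choose j) = 1 := by
  have h1 : ∀ m : ℕ, seqDiff^[m] (1 : ℕ → G) = 1 := by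
    intro m
    induction m with
    | zero => rfl
    | succ m ih =>
      rw [Function.iterate_succ_apply,
        show seqDiff (1 : ℕ → G) = 1 by funext k; simp [seqDiff], ih]
  intro j
  induction j with
  | zero =>
    intro m hm
    obtain ⟨m, rfl⟩ : ∃ m', m = m' + 1 := ⟨m - 1, by omega⟩
    rw [Function.iterate_succ_apply,
      show seqDiff (fun k => x ^ k.choose 0) = 1 by funext k; simp [seqDiff], h1]
  | succ j ih =>
    intro m hm
    obtain ⟨m, rfl⟩ : ∃ m', m = m' + 1 := ⟨m - 1, by omega⟩
    rw [Function.iterate_succ_apply,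
      show seqDiff (fun k => x ^ k.choose (j + 1)) = fun k => x ^ k.choose j by
        funext k
        simp only [seqDiff]
        rw [Nat.choose_succ_succ', add_comm (k.choose j), pow_add, inv_mul_cancel_left],
      ih (by omega)]

/-- The top difference is multiplicative modulo the next term of the filtration. -/
theorem diff_mul {m : ℕ} : ∀ {i : ℕ} {f g : ℕ → G}, 1 ≤ i → polyPred m i f → polyPred m i g →
    ∀ {N : Subgroup G} [N.Normal], lcsFil G (i + m + 1) ≤ N → ∀ k,
      QuotientGroup.mk' N (seqDiff^[m] (f * g) k) =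
        QuotientGroup.mk' N (seqDiff^[m] f k) * QuotientGroup.mk' N (seqDiff^[m] g k) := by
  induction m with
  | zero =>
    intro i f g _ _ _ N _ _ k
    exact map_mul _ _ _
  | succ m ih =>
    intro i f g hi hf hg N _ hN k
    obtain ⟨-, -, hinv, hanti, hcomm⟩ := polyPred_properties (G := G) m
    set a := seqDiff f
    set b := seqDiff g
    set w : ℕ → G := ⁅a⁻¹, g⁻¹⁆ with hw
    have e : seqDiff (f * g) = a * (w * b) := by
      rw [seqDiff_mul, hw]
      simp [commutatorElement_def, a, b, mul_assoc]
    have hw2 : polyPred m (i + 2) w :=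
      hanti (i + 2) (i + 1 + i) (by omega) _ (hcomm _ _ _ _ (hinv _ _ hf.2) (hinv _ _ hg.1))
    have hw1 := hanti (i + 1) (i + 2) (by omega) _ hw2
    have hN' : lcsFil G (i + 1 + m + 1) ≤ N := by
      rwa [show i + 1 + m + 1 = i + (m + 1) + 1 by ring]
    have h1 : QuotientGroup.mk' N (seqDiff^[m] w k) = 1 :=
      (QuotientGroup.eq_one_iff _).2 (hN' (by
        rw [show i + 1 + m + 1 = i + 2 + m by ring]
        exact diff_mem hw2 k))
    simp only [Function.iterate_succ_apply]
    rw [e, ih (by omega) hf.2 ((polyPred_properties m).2.1 _ _ _ hw1 hg.2) hN' k,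
      ih (by omega) hw1 hg.2 hN' k, h1, one_mul]

theorem polyPred_conjSeq (s : G) : ∀ (m : ℕ) {i : ℕ} {c : G}, c ∈ lcsT G i →
    polyPred m (i + 1) (fun k => s ^ k * c * (s ^ k)⁻¹) := by
  intro m
  induction m with
  | zero => exact fun {i c} hc k => (lcsT_normal i).conj_mem c hc _
  | succ m ih =>
    intro i c hc
    refine ⟨ih hc, ?_⟩
    have hd : ⁅c⁻¹, s⁆ ∈ lcsT G (i + 1) := by
      rw [show lcsT G (i + 1) = ⁅lcsT G i, (⊤ : Subgroup G)⁆ from Subgroup.lowerCentralSeries_succ _ _]
      exact commutator_mem_commutator (inv_mem hc) (mem_top s)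
    convert ih hd using 1
    funext k
    simp only [seqDiff, commutatorElement_def]
    group

/-- The iterated commutators with `s`. -/
def iterComm (s c : G) (k : ℕ) : G := (fun d => ⁅d⁻¹, s⁆)^[k] c

theorem diff_conjSeq (s : G) : ∀ (m : ℕ) (c : G) (k : ℕ),
    seqDiff^[m] (fun k => s ^ k * c * (s ^ k)⁻¹) k = s ^ k * iterComm s c m * (s ^ k)⁻¹ := by
  intro m
  induction m with
  | zero => exact fun c k => rfl
  | succ m ih =>
    intro c k
    rw [Function.iterate_succ_apply,
      show seqDiff (fun k => s ^ k * c * (s ^ k)⁻¹) = fun k => s ^ k * ⁅c⁻¹, s⁆ * (s ^ k)⁻¹ by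
        funext k; simp only [seqDiff, commutatorElement_def]; group, ih]
    simp [iterComm, Function.iterate_succ_apply]

theorem iterComm_mem {s c : G} {i : ℕ} (hc : c ∈ lcsT G i) (k : ℕ) :
    iterComm s c k ∈ lcsT G (i + k) := by
  induction k with
  | zero => exact hc
  | succ k ih =>
    rw [iterComm, Function.iterate_succ_apply',
      show lcsT G (i + (k + 1)) = ⁅lcsT G (i + k), (⊤ : Subgroup G)⁆ from
        Subgroup.lowerCentralSeries_succ _ _]
    exact commutator_mem_commutator (inv_mem ih) (mem_top s)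

variable [Finite G] {p n : ℕ} [hp : Fact p.Prime]

/-- An element `s` outside `G'` with centraliser of order `p²` and central `p`-th power, in a group
of maximal class. -/
structure Elt (p n : ℕ) (s : G) : Prop where
  card : Nat.card G = p ^ n
  three : 3 ≤ n
  cls : Group.nilpotencyClass G = n - 1
  cent : Nat.card (centralizer ({s} : Set G)) = p ^ 2
  pow_central : s ^ p ∈ center G

variable {s : G} (H : Elt p n s)
include H

theorem Elt.card_lcs {i : ℕ} (hi : 1 ≤ i) (hin : i ≤ n - 1) :
    Nat.card (lcsT G i) = p ^ (n - 1 - i) := maximalClass_card H.card H.cls H.three i hi hin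

theorem Elt.lcs_eq_bot {i : ℕ} (hi : n - 1 ≤ i) : lcsT G i = ⊥ := by
  haveI := (IsPGroup.of_card H.card).isNilpotent
  exact Subgroup.lowerCentralSeries_eq_bot_iff_nilpotencyClass_le.2 (by rw [H.cls]; exact hi)

theorem Elt.index_cent : (centralizer ({s} : Set G)).index = p ^ (n - 2) := by
  have h := card_mul_index (centralizer ({s} : Set G))
  rw [H.cent, H.card, show p ^ n = p ^ 2 * p ^ (n - 2) by
    rw [← pow_add]; congr 1; have := H.three; omega] at h
  exact Nat.eq_of_mul_eq_mul_left (pow_pos hp.1.pos 2) h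

/-- The conjugates of `s` fill the coset `s G'`. -/
theorem Elt.exists_conj {y : G} (hy : y ∈ lcsT G 1) : ∃ g : G, g * s * g⁻¹ = y * s := by
  let φ : G ⧸ centralizer ({s} : Set G) → lcsT G 1 :=
    Quotient.lift (fun g => (⟨g * s * g⁻¹ * s⁻¹, by
      rw [lcsT, top_lowerCentralSeries_one]
      have := commutator_mem_commutator (mem_top g) (mem_top s)
      rwa [commutatorElement_def] at this⟩ : lcsT G 1)) (by
      intro g h hgh
      have hgh' : g⁻¹ * h ∈ centralizer ({s} : Set G) := QuotientGroup.leftRel_apply.1 hgh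
      rw [mem_centralizer_singleton_iff] at hgh'
      refine Subtype.ext ?_
      show g * s * g⁻¹ * s⁻¹ = h * s * h⁻¹ * s⁻¹
      rw [show h * s * h⁻¹ = g * ((g⁻¹ * h) * s) * h⁻¹ by group, hgh']
      group)
  have hinj : Function.Injective φ := by
    intro a b
    induction a using QuotientGroup.induction_on with | _ g => ?_
    induction b using QuotientGroup.induction_on with | _ h => ?_
    intro e
    have e' : g * s * g⁻¹ * s⁻¹ = h * s * h⁻¹ * s⁻¹ := congrArg Subtype.val e
    have e'' : g * s * g⁻¹ = h * s * h⁻¹ := mul_right_cancel e'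
    refine QuotientGroup.eq.2 (mem_centralizer_singleton_iff.2 ?_)
    calc g⁻¹ * h * s = g⁻¹ * (h * s * h⁻¹) * h := by group
      _ = s * (g⁻¹ * h) := by rw [← e'']; group
  have hbij := hinj.bijective_of_nat_card_le (by
    rw [← Subgroup.index, H.index_cent, H.card_lcs le_rfl (by have := H.three; omega)]
    exact Nat.pow_le_pow_right hp.1.pos (by omega))
  obtain ⟨q, hq⟩ := hbij.2 ⟨y, hy⟩
  induction q using QuotientGroup.induction_on with | _ g => ?_
  refine ⟨g, ?_⟩
  have h1 : g * s * g⁻¹ * s⁻¹ = y := congrArg Subtype.val hq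
  rw [← h1, inv_mul_cancel_right]

theorem Elt.pow_mul_eq {y : G} (hy : y ∈ lcsT G 1) : (y * s) ^ p = s ^ p := by
  obtain ⟨g, hg⟩ := H.exists_conj hy
  rw [← hg, conj_pow, mem_center_iff.1 H.pow_central g, mul_inv_cancel_right]

theorem Elt.not_mem : s ∉ lcsT G 1 := by
  intro hs
  obtain ⟨g, hg⟩ := H.exists_conj (inv_mem hs)
  rw [inv_mul_cancel, mul_inv_eq_one, mul_eq_left] at hg
  have h := H.cent
  rw [hg, show centralizer ({1} : Set G) = ⊤ from
    eq_top_iff.2 fun x _ => mem_centralizer_singleton_iff.2 (by rw [mul_one, one_mul]), card_top,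
    H.card] at h
  have := Nat.pow_right_injective hp.1.two_le h
  have := H.three
  omega

/-- Commutation with `s` moves each layer onto the next one. -/
theorem Elt.layer {j : ℕ} (hj : 1 ≤ j) (hjn : j + 2 ≤ n - 1) {y : G} (hy : y ∈ lcsT G j)
    (hy' : y ∉ lcsT G (j + 1)) : ⁅y, s⁆ ∉ lcsT G (j + 2) := by
  intro hc
  classical
  set N := lcsT G (j + 1) with hN
  set M := lcsT G (j + 2) with hM
  have hMn : M.Normal := lcsT_normal _
  -- the elements commuting with `s` modulo `M`
  set π := QuotientGroup.mk' M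
  set P := (centralizer ({π s} : Set (G ⧸ M))).comap π with hP
  have hmemP : ∀ g : G, g ∈ P ↔ ⁅g, s⁆ ∈ M := fun g => by
    rw [hP, mem_comap, mem_centralizer_singleton_iff, ← commutatorElement_eq_one_iff_mul_comm,
      ← map_commutatorElement]
    exact QuotientGroup.eq_one_iff _
  have hPcard : Nat.card P ≤ p ^ 2 * Nat.card M := by
    let ψ : ↥P → M := fun g => ⟨⁅(g : G), s⁆, (hmemP _).1 g.2⟩
    refine (Nat.card_le_card_of_injective
      (β := ↥(centralizer ({s} : Set G)) × M)
      (fun g => (⟨((Function.invFun ψ (ψ g) : ↥P) : G)⁻¹ * (g : G), ?_⟩, ψ g)) ?_).trans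
      (by rw [Nat.card_prod, H.cent])
    · have h1 : ψ (Function.invFun ψ (ψ g)) = ψ g := Function.invFun_eq ⟨g, rfl⟩
      have h2 : ⁅((Function.invFun ψ (ψ g) : ↥P) : G), s⁆ = ⁅(g : G), s⁆ := congrArg Subtype.val h1
      set a := ((Function.invFun ψ (ψ g) : ↥P) : G)
      rw [commutatorElement_def, commutatorElement_def] at h2
      have h3 : a * s * a⁻¹ = (g : G) * s * (g : G)⁻¹ := mul_right_cancel h2
      refine mem_centralizer_singleton_iff.2 ?_
      calc a⁻¹ * g * s = a⁻¹ * ((g : G) * s * (g : G)⁻¹) * g := by group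
        _ = s * (a⁻¹ * g) := by rw [← h3]; group
    · intro a b e
      simp only [Prod.mk.injEq, Subtype.mk.injEq] at e
      obtain ⟨e1, e2⟩ := e
      have e3 : ψ a = ψ b := e2
      rw [e3] at e1
      exact Subtype.ext (mul_left_cancel e1)
  have hle : zpowers s ⊔ N ≤ P := by
    refine sup_le (zpowers_le.2 ((hmemP s).2 (by rw [commutatorElement_self]; exact one_mem _)))
      fun g hg => (hmemP g).2 ?_
    rw [hM, show lcsT G (j + 2) = ⁅lcsT G (j + 1), (⊤ : Subgroup G)⁆ from
      Subgroup.lowerCentralSeries_succ _ _]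
    exact commutator_mem_commutator hg (mem_top s)
  have hNn : N.Normal := lcsT_normal _
  have hsN : s ∉ N := fun h =>
    H.not_mem (Subgroup.lowerCentralSeries_antitone _ (by omega : 1 ≤ j + 1) h)
  have hlow : p ^ 2 * Nat.card M ≤ Nat.card ↥(zpowers s ⊔ N) := by
    have h1 : Nat.card N < Nat.card ↥(zpowers s ⊔ N) := by
      refine lt_of_le_of_ne (card_le_of_le le_sup_right) fun e => ?_
      have := eq_of_le_of_card_ge (le_sup_right : N ≤ zpowers s ⊔ N) e.ge
      exact hsN (this.symm ▸ mem_sup_left (mem_zpowers s))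
    obtain ⟨a, ha⟩ :=
      CfsgLib.PGroups.card_subgroup_eq_pow (IsPGroup.of_card H.card) (zpowers s ⊔ N)
    rw [ha] at h1 ⊢
    rw [hN, H.card_lcs (by omega) (by omega)] at h1
    rw [hM, H.card_lcs (by omega) (by omega), ← pow_add]
    have := (Nat.pow_lt_pow_iff_right hp.1.one_lt).1 h1
    exact Nat.pow_le_pow_right hp.1.pos (by omega)
  have heq := eq_of_le_of_card_ge hle (hPcard.trans hlow)
  have hyS : y ∈ zpowers s ⊔ N := heq.ge ((hmemP y).2 hc)
  rw [← SetLike.mem_coe, Subgroup.mul_normal] at hyS
  obtain ⟨a, ha, b, hb, rfl⟩ := hyS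
  obtain ⟨k, rfl⟩ := mem_zpowers_iff.1 ha
  refine hy' (mul_mem ?_ hb)
  have hsk : s ^ k ∈ lcsT G j :=
    (mul_mem_cancel_right (H := lcsT G j)
      (Subgroup.lowerCentralSeries_antitone _ j.le_succ hb)).1 hy
  -- `s ^ k` lies in `G'`, hence is trivial modulo `s ^ p`, a central element
  by_cases hk : (p : ℤ) ∣ k
  · obtain ⟨l, rfl⟩ := hk
    rw [zpow_mul, zpow_natCast] at hsk ⊢
    by_cases hsl : (s ^ p) ^ l = 1
    · rw [hsl]
      exact one_mem _
    -- the centre has order `p` and lies in every nontrivial term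
    have hZ : center G = lcsT G (n - 2) := by
      refine (eq_of_le_of_card_ge ?_ ?_).symm
      · intro x hx
        rw [mem_center_iff]
        intro g
        have h1 := commutator_mem_commutator hx (mem_top g)
        rw [show ⁅lcsT G (n - 2), (⊤ : Subgroup G)⁆ = lcsT G (n - 2 + 1) from
          (Subgroup.lowerCentralSeries_succ _ _).symm, H.lcs_eq_bot (by omega), mem_bot,
          commutatorElement_eq_one_iff_mul_comm] at h1
        exact h1.symm
      · rw [H.card_lcs (by omega) (by omega), (CfsgLib.PGroups.center_of_maximalClass (p := p)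
          H.three H.card H.cls).1]
        exact le_of_eq (by rw [show n - 1 - (n - 2) = 1 by omega, pow_one])
    exact Subgroup.lowerCentralSeries_antitone _ (show j + 1 ≤ n - 2 by omega)
      (hZ.le (zpow_mem H.pow_central l))
  · exfalso
    obtain ⟨u, v, huv⟩ : IsCoprime (p : ℤ) k :=
      (Nat.prime_iff_prime_int.1 hp.1).coprime_iff_not_dvd.2 hk
    refine H.not_mem ?_
    have h1 : s = (s ^ p) ^ u * (s ^ k) ^ v := by
      rw [← zpow_natCast, ← zpow_mul, ← zpow_mul, ← zpow_add, mul_comm (p : ℤ), mul_comm k, huv,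
        zpow_one]
    rw [h1]
    refine mul_mem (zpow_mem ?_ u) (zpow_mem (Subgroup.lowerCentralSeries_antitone _ hj hsk) v)
    rw [lcsT, top_lowerCentralSeries_one]
    exact center_le_commutator H H.pow_central
where
  center_le_commutator (H : Elt p n s) : center G ≤ commutator G := by
    have h3 := H.three
    intro x hx
    have hle : lcsT G (n - 2) ≤ center G := fun z hz => by
      rw [mem_center_iff]
      intro g
      have h1 := commutator_mem_commutator hz (mem_top g)
      rw [show ⁅lcsT G (n - 2), (⊤ : Subgroup G)⁆ = lcsT G (n - 2 + 1) from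
        (Subgroup.lowerCentralSeries_succ _ _).symm, H.lcs_eq_bot (by omega), mem_bot,
        commutatorElement_eq_one_iff_mul_comm] at h1
      exact h1.symm
    have heq := eq_of_le_of_card_ge hle (by
      rw [H.card_lcs (by omega) (by omega), (CfsgLib.PGroups.center_of_maximalClass (p := p)
        H.three H.card H.cls).1]
      exact le_of_eq (by rw [show n - 1 - (n - 2) = 1 by omega, pow_one]))
    rw [← top_lowerCentralSeries_one]
    exact Subgroup.lowerCentralSeries_antitone _ (by omega : 1 ≤ n - 2) (heq.ge hx)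

theorem Elt.iterComm_not_mem {i : ℕ} (hi : 1 ≤ i) {y : G} (hy : y ∈ lcsT G i)
    (hy' : y ∉ lcsT G (i + 1)) : ∀ k, i + k + 1 ≤ n - 1 → iterComm s y k ∉ lcsT G (i + k + 1) := by
  intro k
  induction k with
  | zero => exact fun _ => hy'
  | succ k ih =>
    intro hk
    have h1 := ih (by omega)
    rw [iterComm, Function.iterate_succ_apply', show i + (k + 1) + 1 = i + k + 2 by ring]
    exact H.layer (by omega) (by omega) (inv_mem (iterComm_mem hy k))
      fun h => h1 (inv_mem_iff.1 h)

/-- The `p`-th power map shifts the layers below `G'` by `p - 1`. -/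
theorem Elt.pow_layer : ∀ i, 1 ≤ i → ∀ y ∈ lcsT G i, y ^ p ∈ lcsT G (i + p - 1) ∧
    (y ∉ lcsT G (i + 1) → i + p ≤ n - 1 → y ^ p ∉ lcsT G (i + p)) := by
  suffices ∀ d i, n - i = d → 1 ≤ i → ∀ y ∈ lcsT G i, y ^ p ∈ lcsT G (i + p - 1) ∧
      (y ∉ lcsT G (i + 1) → i + p ≤ n - 1 → y ^ p ∉ lcsT G (i + p)) from fun i => this _ i rfl
  intro d
  induction d using Nat.strong_induction_on with
  | _ d ih =>
    intro i hd hi y hy
    subst hd
    rcases Nat.lt_or_ge i (n - 1) with hin | hin
    swap
    · rw [H.lcs_eq_bot hin, mem_bot] at hy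
      subst hy
      exact ⟨by rw [one_pow]; exact one_mem _, fun h => absurd (one_mem _) h⟩
    have hp2 := hp.1.two_le
    set N := lcsT G (i + p) with hN
    haveI : N.Normal := lcsT_normal _
    set π := QuotientGroup.mk' N
    have hNfil : lcsFil G (i + p + 1) ≤ N := le_of_eq (lcsFil_succ (i + p))
    set P : ℕ → G := fun k => (y * s) ^ k * (s ^ k)⁻¹ with hPdef
    have hPs : seqDiff P = fun k => s ^ k * y * (s ^ k)⁻¹ := by
      funext k
      simp only [seqDiff, hPdef, pow_succ]
      group
    have hPval : ∀ k, P k ∈ lcsT G i := by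
      intro k
      induction k with
      | zero => simp [hPdef]
      | succ k ihk =>
        have h1 : P (k + 1) = P k * seqDiff P k := by simp [seqDiff]
        rw [h1, hPs]
        exact mul_mem ihk ((lcsT_normal i).conj_mem y hy _)
    have hPpoly : ∀ m, polyPred m i P := by
      intro m
      induction m with
      | zero => exact fun k => lcsFil_antitone (Nat.le_succ i) (hPval k)
      | succ m ihm => exact ⟨ihm, by rw [hPs]; exact polyPred_conjSeq s m hy⟩
    -- peel off the binomial terms
    have key : ∀ j, 1 ≤ j → j < p → ∃ g : ℕ → G, (∀ m, polyPred m i g) ∧ (∀ k ≤ j, g k = 1) ∧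
        π (g p) = (π (y ^ p))⁻¹ * π (P p) ∧ π (seqDiff^[p] g 0) = π (seqDiff^[p] P 0) := by
      intro j hj1
      induction j, hj1 using Nat.le_induction with
      | base =>
        intro _
        have hc : ∀ m, polyPred m i (fun k => (y⁻¹) ^ k.choose 1) := fun m =>
          polyPred_choose m i 1 _ (inv_mem hy)
        refine ⟨(fun k => (y⁻¹) ^ k.choose 1) * P,
          fun m => (polyPred_properties m).2.1 _ _ _ (hc m) (hPpoly m), fun k hk => ?_, ?_, ?_⟩
        · rcases Nat.le_one_iff_eq_zero_or_eq_one.1 hk with rfl | rfl <;> simp [hPdef]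
        · simp [Pi.mul_apply, inv_pow]
        · rw [diff_mul hi (hc p) (hPpoly p) hNfil 0, diff_const_pow _ hp.1.one_lt, Pi.one_apply,
            map_one, one_mul]
      | succ j hj1 ihj =>
        intro hj
        obtain ⟨g, hg, hg1, hgp, hgd⟩ := ihj (by omega)
        have hx : g (j + 1) ∈ lcsFil G (i + (j + 1)) :=
          polyPred_top (j + 1) i g (hg _) fun k hk => hg1 k (by omega)
        have hc : ∀ m, polyPred m i (fun k => ((g (j + 1))⁻¹) ^ k.choose (j + 1)) := fun m =>
          polyPred_choose m i (j + 1) _ (inv_mem hx)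
        refine ⟨(fun k => ((g (j + 1))⁻¹) ^ k.choose (j + 1)) * g,
          fun m => (polyPred_properties m).2.1 _ _ _ (hc m) (hg m), fun k hk => ?_, ?_, ?_⟩
        · rcases Nat.lt_or_ge k (j + 1) with h | h
          · simp [Nat.choose_eq_zero_of_lt h, hg1 k (Nat.lt_succ_iff.1 h)]
          · obtain rfl := le_antisymm hk h
            simp
        · rw [Pi.mul_apply, map_mul, hgp]
          convert one_mul _ using 2
          refine (QuotientGroup.eq_one_iff _).2 ?_
          obtain ⟨t, ht⟩ := hp.1.dvd_choose_self (Nat.succ_ne_zero j) hj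
          show (g (j + 1))⁻¹ ^ p.choose (j + 1) ∈ N
          rw [ht, pow_mul']
          have hx1 : ((g (j + 1))⁻¹) ^ t ∈ lcsT G (i + 1) :=
            pow_mem (inv_mem (lcsFil_antitone (show i + 2 ≤ i + (j + 1) by omega) hx)) t
          have h2 := ((ih (n - (i + 1)) (by omega) (i + 1) rfl (by omega)) _ hx1).1
          rwa [show i + 1 + p - 1 = i + p by omega] at h2
        · rw [diff_mul hi (hc p) (hg p) hNfil 0, diff_const_pow _ hj, Pi.one_apply, map_one,
            one_mul, hgd]
    obtain ⟨g, -, hg1, hgp, hgd⟩ := key (p - 1) (by omega) (by omega)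
    rw [diff_eq_of_vanish fun k hk => hg1 k (by omega)] at hgd
    have hPp : P p = 1 := by
      rw [hPdef]
      simp only [H.pow_mul_eq (Subgroup.lowerCentralSeries_antitone _ hi hy), mul_inv_cancel]
    have hdiff : seqDiff^[p] P 0 = iterComm s y (p - 1) := by
      rw [show p = p - 1 + 1 by omega, Function.iterate_succ_apply, hPs, diff_conjSeq]
      simp
    rw [hPp, map_one, mul_one] at hgp
    rw [hdiff] at hgd
    rw [hgp] at hgd
    -- `hgd : (π (y ^ p))⁻¹ = π (iterComm s y (p - 1))`
    have hmem : y ^ p * iterComm s y (p - 1) ∈ N := by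
      rw [← QuotientGroup.eq_one_iff, QuotientGroup.mk_mul]
      show π (y ^ p) * π (iterComm s y (p - 1)) = 1
      rw [← hgd, mul_inv_cancel]
    have hic : iterComm s y (p - 1) ∈ lcsT G (i + p - 1) := by
      rw [show i + p - 1 = i + (p - 1) by omega]
      exact iterComm_mem hy _
    refine ⟨?_, fun hy' hip hbad => ?_⟩
    · exact (mul_mem_cancel_right hic).1
        (Subgroup.lowerCentralSeries_antitone _ (show i + p - 1 ≤ i + p by omega) hmem)
    · refine H.iterComm_not_mem hi hy hy' (p - 1) (by omega) ?_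
      rw [show i + (p - 1) + 1 = i + p by omega]
      exact (mul_mem_cancel_left hbad).1 hmem

/-- Subgroups of `G'` need at most `p - 1` generators. -/
theorem Elt.exists_generators (K : Subgroup G) (hK : K ≤ lcsT G 1) :
    ∃ T : Finset G, T.card ≤ p - 1 ∧ closure (T : Set G) = K := by
  classical
  have hp2 := hp.1.two_le
  -- the occupied layers
  let Occ : ℕ → Prop := fun i => 1 ≤ i ∧ ∃ h ∈ K, h ∈ lcsT G i ∧ h ∉ lcsT G (i + 1)
  have hocc : ∀ i, Occ i → i ≤ n - 2 := by
    rintro i ⟨-, h, -, h1, h2⟩
    by_contra hi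
    rw [H.lcs_eq_bot (by omega), mem_bot] at h1
    subst h1
    exact h2 (one_mem _)
  let pick : ℕ → G := fun r =>
    if hr : ∃ i, Occ i ∧ i % (p - 1) = r then (Nat.find_spec hr).1.2.choose else 1
  refine ⟨(Finset.range (p - 1)).image pick, Finset.card_image_le.trans (by simp), ?_⟩
  set T := closure (((Finset.range (p - 1)).image pick : Finset G) : Set G)
  have hTK : T ≤ K := by
    refine (closure_le _).2 fun x hx => ?_
    obtain ⟨r, -, rfl⟩ := Finset.mem_image.1 hx
    simp only [pick]
    split_ifs with hr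
    · exact (Nat.find_spec hr).1.2.choose_spec.1
    · exact one_mem _
  -- every occupied layer is met by `T`
  have hmeet : ∀ i, Occ i → ∃ t ∈ T, t ∈ lcsT G i ∧ t ∉ lcsT G (i + 1) := by
    intro i
    induction i using Nat.strong_induction_on with
    | _ i ih =>
      intro hi
      have hr : ∃ k, Occ k ∧ k % (p - 1) = i % (p - 1) := ⟨i, hi, rfl⟩
      rcases (Nat.find_min' hr ⟨hi, rfl⟩).lt_or_eq with hlt | heq
      · obtain ⟨hk, hkr⟩ := Nat.find_spec hr
        have hge : Nat.find hr ≤ i - (p - 1) ∧ p - 1 ≤ i := by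
          have h1 := Nat.div_add_mod i (p - 1)
          have h2 := Nat.div_add_mod (Nat.find hr) (p - 1)
          have h3 : Nat.find hr / (p - 1) < i / (p - 1) := by
            by_contra h4
            have := Nat.mul_le_mul_left (p - 1) (not_lt.1 h4)
            omega
          have h5 := Nat.mul_le_mul_left (p - 1) (Nat.succ_le_of_lt h3)
          rw [Nat.mul_succ] at h5
          omega
        -- climb from the bottom layer of this residue
        have climb : ∀ m, Nat.find hr + m * (p - 1) ≤ n - 2 →
            ∃ t ∈ T, t ∈ lcsT G (Nat.find hr + m * (p - 1)) ∧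
              t ∉ lcsT G (Nat.find hr + m * (p - 1) + 1) := by
          intro m
          induction m with
          | zero =>
            intro _
            rw [Nat.zero_mul, Nat.add_zero]
            exact ih _ hlt hk
          | succ m ihm =>
            intro hm
            rw [Nat.succ_mul] at hm ⊢
            obtain ⟨t, ht, ht1, ht2⟩ := ihm (by omega)
            obtain ⟨e1, e2⟩ := H.pow_layer _ (by have := hk.1; omega) t ht1
            refine ⟨t ^ p, pow_mem ht p, ?_, ?_⟩
            · convert e1 using 2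
              omega
            · have := e2 ht2 (by omega)
              convert this using 3
              omega
        obtain ⟨m, hm⟩ : ∃ m, i = Nat.find hr + m * (p - 1) := by
          refine ⟨(i - Nat.find hr) / (p - 1), ?_⟩
          have h1 : (i - Nat.find hr) % (p - 1) = 0 :=
            Nat.sub_mod_eq_zero_of_mod_eq hkr.symm
          rw [Nat.div_mul_cancel (Nat.dvd_of_mod_eq_zero h1)]
          omega
        rw [hm]
        exact climb m (hm ▸ hocc i hi)
      · refine ⟨pick (i % (p - 1)), subset_closure (Finset.mem_coe.2 (Finset.mem_image.2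
          ⟨_, Finset.mem_range.2 (Nat.mod_lt _ (by omega)), rfl⟩)), ?_⟩
        simp only [pick, dif_pos hr]
        have h1 := (Nat.find_spec hr).1.2.choose_spec.2
        revert h1
        generalize (Nat.find_spec hr).1.2.choose = c
        intro h1
        rw [heq] at h1
        exact h1
  refine le_antisymm hTK ?_
  -- climb down the layers
  suffices ∀ d i, n - i = d → 1 ≤ i → K ⊓ lcsT G i ≤ T by
    have := this _ 1 rfl le_rfl
    rwa [inf_eq_left.2 hK] at this
  intro d
  induction d using Nat.strong_induction_on with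
  | _ d ihd =>
    intro i hd hi x hx
    subst hd
    obtain ⟨hxK, hxi⟩ := mem_inf.1 hx
    rcases Nat.lt_or_ge i (n - 1) with hin | hin
    swap
    · rw [H.lcs_eq_bot hin, mem_bot] at hxi
      subst hxi
      exact one_mem _
    by_cases hx' : x ∈ lcsT G (i + 1)
    · exact ihd (n - (i + 1)) (by omega) (i + 1) rfl (by omega) (mem_inf.2 ⟨hxK, hx'⟩)
    obtain ⟨t, ht, ht1, ht2⟩ := hmeet i ⟨hi, x, hxK, hxi, hx'⟩
    haveI : (lcsT G (i + 1)).Normal := lcsT_normal _
    set π := QuotientGroup.mk' (lcsT G (i + 1))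
    have hcard : Nat.card ((lcsT G i).map π) = p := by
      have h1 := Subgroup.relIndex_ker (f := π) (lcsT G i)
      rw [QuotientGroup.ker_mk'] at h1
      have h2 := relIndex_mul_relIndex (⊥ : Subgroup G) (lcsT G (i + 1)) (lcsT G i) bot_le
        (Subgroup.lowerCentralSeries_antitone _ i.le_succ)
      rw [relIndex_bot_left, relIndex_bot_left, H.card_lcs (by omega) (by omega),
        H.card_lcs hi (by omega), show n - 1 - i = n - 1 - (i + 1) + 1 by omega, pow_succ] at h2
      rw [← h1]
      exact Nat.eq_of_mul_eq_mul_left (pow_pos hp.1.pos _) h2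
    obtain ⟨k, hk⟩ := mem_zpowers_iff.1 (mem_zpowers_of_prime_card hcard
      (g := (⟨π t, t, ht1, rfl⟩ : (lcsT G i).map π)) (g' := ⟨π x, x, hxi, rfl⟩)
      (fun h => ht2 ((QuotientGroup.eq_one_iff t).1 (congrArg Subtype.val h))))
    have hk' : π (t ^ k) = π x := by rw [map_zpow]; exact congrArg Subtype.val hk
    have hd' : (t ^ k)⁻¹ * x ∈ lcsT G (i + 1) := QuotientGroup.eq.1 hk'
    have h3 := ihd (n - (i + 1)) (by omega) (i + 1) rfl (by omega)
      (mem_inf.2 ⟨mul_mem (inv_mem (zpow_mem (hTK ht) k)) hxK, hd'⟩)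
    have := mul_mem (zpow_mem ht k) h3
    rwa [mul_inv_cancel_left] at this

/-- All subgroups need at most `p` generators. -/
theorem Elt.exists_generators_all (K : Subgroup G) :
    ∃ T : Finset G, T.card ≤ p ∧ closure (T : Set G) = K := by
  classical
  have hp2 := hp.1.two_le
  have h3 := H.three
  set L := lcsT G 1 with hL
  haveI hLn : L.Normal := lcsT_normal _
  by_cases hKL : K ≤ L
  · obtain ⟨T, hT, hTe⟩ := H.exists_generators K hKL
    exact ⟨T, hT.trans (Nat.sub_le _ _), hTe⟩
  have hLidx : L.index = p ^ 2 := by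
    have h := card_mul_index L
    rw [hL, H.card_lcs le_rfl (by omega), H.card,
      show p ^ n = p ^ (n - 1 - 1) * p ^ 2 by rw [← pow_add]; congr 1; omega] at h
    exact Nat.eq_of_mul_eq_mul_left (pow_pos hp.1.pos _) h
  set π := QuotientGroup.mk' L with hπ
  have hQcard : Nat.card (G ⧸ L) = p ^ 2 := hLidx
  obtain ⟨h, hhK, hhL⟩ := SetLike.not_le_iff_exists.1 hKL
  have hgen : ∀ T : Set G, closure (π '' T) = ⊤ → closure T = ⊤ := by
    intro T hT
    refine frattini_nongenerating (le_antisymm le_top fun x _ => ?_)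
    rw [← MonoidHom.map_closure] at hT
    obtain ⟨c, hc, hcx⟩ := (hT.ge (mem_top (π x)) : π x ∈ (closure T).map π)
    have h1 : c⁻¹ * x ∈ L := QuotientGroup.eq.1 hcx
    have h2 : L ≤ frattini G := by
      rw [hL, lcsT, top_lowerCentralSeries_one]
      exact CfsgLib.PGroups.commutator_le_frattini (IsPGroup.of_card H.card)
    have := mul_mem (mem_sup_left hc : c ∈ closure T ⊔ frattini G) (mem_sup_right (h2 h1))
    rwa [mul_inv_cancel_left] at this
  have hh1 : π h ≠ 1 := fun e => hhL ((QuotientGroup.eq_one_iff h).1 e)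
  by_cases hcyc : K.map π ≤ zpowers (π h)
  · obtain ⟨T, hT, hTe⟩ := H.exists_generators (K ⊓ L) inf_le_right
    refine ⟨insert h T, (Finset.card_insert_le _ _).trans (by omega), le_antisymm ?_ fun x hx => ?_⟩
    · rw [closure_le, Finset.coe_insert, Set.insert_subset_iff]
      exact ⟨hhK, fun t ht => (mem_inf.1 (hTe.le (subset_closure ht))).1⟩
    · obtain ⟨k, hk⟩ := mem_zpowers_iff.1 (hcyc ⟨x, hx, rfl⟩)
      have hk' : π (h ^ k) = π x := by rw [map_zpow]; exact hk
      have h1 : (h ^ k)⁻¹ * x ∈ closure (T : Set G) := hTe.ge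
        (mem_inf.2 ⟨mul_mem (inv_mem (zpow_mem hhK k)) hx, QuotientGroup.eq.1 hk'⟩)
      rw [Finset.coe_insert]
      have := mul_mem (zpow_mem (subset_closure (Set.mem_insert h (T : Set G))) k)
        (closure_mono (Set.subset_insert h (T : Set G)) h1)
      rwa [mul_inv_cancel_left] at this
  · obtain ⟨_, ⟨k, hkK, rfl⟩, hk⟩ := SetLike.not_le_iff_exists.1 hcyc
    have htop : closure ({h, k} : Set G) = ⊤ := by
      refine hgen _ ?_
      rw [Set.image_pair]
      have h1 : zpowers (π h) < closure ({π h, π k} : Set (G ⧸ L)) :=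
        SetLike.lt_iff_le_and_exists.2 ⟨zpowers_le.2 (subset_closure (Or.inl rfl)),
          π k, subset_closure (Or.inr rfl), hk⟩
      refine eq_top_of_card_eq _ (hQcard.symm ▸ ?_)
      obtain ⟨a, ha, hae⟩ := (Nat.dvd_prime_pow hp.1).1
        (hQcard ▸ card_subgroup_dvd_card (closure ({π h, π k} : Set (G ⧸ L))))
      obtain ⟨b, hb, hbe⟩ := (Nat.dvd_prime_pow hp.1).1
        (hQcard ▸ card_subgroup_dvd_card (zpowers (π h)))
      have hb1 : b ≠ 0 := fun e => hh1 (by
        rw [e, pow_zero, card_eq_one, zpowers_eq_bot] at hbe; exact hbe)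
      have hlt : Nat.card (zpowers (π h)) < Nat.card (closure ({π h, π k} : Set (G ⧸ L))) :=
        lt_of_le_of_ne (card_le_of_le h1.le) fun e => h1.ne (eq_of_le_of_card_ge h1.le e.ge)
      rw [hae, hbe] at hlt
      have := (Nat.pow_lt_pow_iff_right hp.1.one_lt).1 hlt
      rw [hae, show a = 2 by omega]
    refine ⟨{h, k}, Finset.card_le_two.trans hp2, ?_⟩
    rw [Finset.coe_insert, Finset.coe_singleton, htop]
    refine (eq_top_iff.2 ?_).symm
    rw [← htop, closure_le, Set.insert_subset_iff, Set.singleton_subset_iff]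
    exact ⟨hhK, hkK⟩

omit H in
/-- A pearl provides such an element. -/
theorem exists_elt (hG : Nat.card G = p ^ n) (E : Subgroup G) (hE : E ≠ ⊤)
    (hC : centralizer (E : Set G) ≤ E)
    (h : (Nat.card E = p ^ 2 ∧ IsMulCommutative E ∧ ∀ x ∈ E, x ^ p = 1) ∨
      (Nat.card E = p ^ 3 ∧ ¬ IsMulCommutative E)) : ∃ s : G, Elt p n s := by
  have hP : IsPGroup p G := IsPGroup.of_card hG
  haveI := hP.isNilpotent
  have hlt : Nat.card E < p ^ n := hG ▸ lt_of_le_of_ne E.card_le_card_group
    fun e => hE (E.card_eq_iff_eq_top.1 e)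
  have hZ : center G ≤ E := (center_le_centralizer _).trans hC
  rcases h with ⟨hc, hab, hexp⟩ | ⟨hc, hna⟩
  · have hn : 3 ≤ n := by
      rw [hc] at hlt
      exact (Nat.pow_lt_pow_iff_right hp.1.one_lt).1 hlt
    have hCE : centralizer (E : Set G) = E :=
      le_antisymm hC ((isMulCommutative_iff_le_centralizer E).mp hab)
    have hcl := CfsgLib.PGroups.maximalClass_of_centralizer_eq hG hc hCE
    have hZc := (CfsgLib.PGroups.center_of_maximalClass (p := p) hn hG hcl).1
    obtain ⟨s, hs, hsZ⟩ : ∃ s ∈ E, s ∉ center G := by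
      refine SetLike.exists_of_lt (lt_of_le_of_ne hZ fun e => ?_)
      rw [e, hc, sq] at hZc
      exact absurd hZc (lt_mul_of_one_lt_right hp.1.pos hp.1.one_lt).ne'
    refine ⟨s, hG, hn, hcl, ?_, by rw [hexp s hs]; exact one_mem _⟩
    have : centralizer ({s} : Set G) = E := by
      refine le_antisymm (fun g hg => hC fun e he => ?_) ?_
      · -- `E` is generated by `s` and the centre
        have h1 : zpowers s ⊔ center G = E := by
          refine eq_of_le_of_card_ge (sup_le (zpowers_le.2 hs) hZ) ?_
          obtain ⟨a, ha⟩ := CfsgLib.PGroups.card_subgroup_eq_pow hP (zpowers s ⊔ center G)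
          have h2 : Nat.card (center G) < Nat.card ↥(zpowers s ⊔ center G) :=
            lt_of_le_of_ne (card_le_of_le le_sup_right) fun e' =>
              hsZ ((eq_of_le_of_card_ge (le_sup_right : center G ≤ zpowers s ⊔ center G) e'.ge).symm
                ▸ mem_sup_left (mem_zpowers s))
          rw [ha, hc] at *
          rw [hZc, ← pow_one p] at h2
          have := (Nat.pow_lt_pow_iff_right hp.1.one_lt).1 (by simpa using h2 : p ^ 1 < p ^ a)
          exact Nat.pow_le_pow_right hp.1.pos (by omega)
        rw [SetLike.mem_coe, ← h1, ← SetLike.mem_coe, Subgroup.mul_normal] at he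
        obtain ⟨x, hx, z, hz, rfl⟩ := he
        obtain ⟨k, rfl⟩ := mem_zpowers_iff.1 hx
        rw [mem_centralizer_singleton_iff] at hg
        exact ((show Commute g s from hg).zpow_right k).mul_right
          (mem_center_iff.1 hz g) |>.eq.symm
      · intro e he
        exact mem_centralizer_singleton_iff.2 (congrArg Subtype.val
          (hab.is_comm.comm (⟨e, he⟩ : E) ⟨s, hs⟩))
    rw [this, hc]
  · have hn : 3 ≤ n := by
      rw [hc] at hlt
      have := (Nat.pow_lt_pow_iff_right hp.1.one_lt).1 hlt
      omega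
    have hcl := CfsgLib.PGroups.maximalClass_of_centralizer_le hG hc hna hC
    obtain ⟨hZc, -, -⟩ := CfsgLib.PGroups.center_of_maximalClass (p := p) hn hG hcl
    -- the centre of `E` is the centre of `G`
    have hZE : ∀ x ∈ E, (∀ e ∈ E, e * x = x * e) → x ∈ center G := by
      intro x hx hxc
      have hcard : Nat.card (center E) ≤ p := by
        obtain ⟨j, hj⟩ := CfsgLib.PGroups.card_subgroup_eq_pow (hP.to_subgroup E) (center E)
        have h2 := CfsgLib.PGroups.sq_le_index_center (hP.to_subgroup E) hna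
        have h3' := card_mul_index (center E)
        rw [hc] at h3'
        refine Nat.le_of_mul_le_mul_right (c := p ^ 2) ?_ (pow_pos hp.1.pos 2)
        rw [← pow_succ' p 2, ← h3']
        exact Nat.mul_le_mul_left _ h2
      have h1 : (center G).subgroupOf E ≤ center E := fun z hz =>
        mem_center_iff.2 fun e => Subtype.ext (mem_center_iff.1 hz e)
      have h2 := eq_of_le_of_card_ge h1 (by
        rw [Nat.card_congr (subgroupOfEquivOfLe hZ).toEquiv, hZc]; exact hcard)
      exact h2.ge (mem_center_iff.2 fun e => Subtype.ext (hxc e e.2) :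
        (⟨x, hx⟩ : E) ∈ center E)
    -- modulo the centre
    set π := QuotientGroup.mk' (center G) with hπ
    have hmapcard : Nat.card (E.map π) = p ^ 2 := by
      have h1 := Subgroup.relIndex_ker (f := π) E
      rw [QuotientGroup.ker_mk'] at h1
      have h2 := relIndex_mul_relIndex (⊥ : Subgroup G) (center G) E bot_le hZ
      rw [relIndex_bot_left, relIndex_bot_left, hZc, hc, pow_succ'] at h2
      rw [← h1]
      exact Nat.eq_of_mul_eq_mul_left hp.1.pos h2
    haveI hEbar : IsMulCommutative (E.map π) := IsPGroup.isMulCommutative_of_card_eq_prime_sq hmapcard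
    have hcomm : ∀ a ∈ E, ∀ b ∈ E, ⁅a, b⁆ ∈ center G := fun a ha b hb => by
      rw [← QuotientGroup.eq_one_iff, ← QuotientGroup.mk'_apply, map_commutatorElement,
        commutatorElement_eq_one_iff_mul_comm]
      exact congrArg Subtype.val (hEbar.is_comm.comm (⟨π a, a, ha, rfl⟩ : E.map π) ⟨π b, b, hb, rfl⟩)
    have hnorm : ∀ g : G, (∀ e ∈ E, ⁅g, e⁆ ∈ center G) → g ∈ E := by
      intro g hg
      obtain ⟨a, ha, b, hb, hab⟩ : ∃ a ∈ E, ∃ b ∈ E, a * b ≠ b * a := by
        by_contra h
        push Not at h
        exact hna ⟨⟨fun a b => Subtype.ext (h a a.2 b b.2)⟩⟩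
      -- `E` is generated by `a`, `b` and the centre
      have hbar : closure ({π a, π b} : Set (G ⧸ center G)) = E.map π := by
        refine eq_of_le_of_card_ge ((closure_le _).2 (Set.insert_subset_iff.2
          ⟨⟨a, ha, rfl⟩, Set.singleton_subset_iff.2 ⟨b, hb, rfl⟩⟩)) ?_
        have hnz : π b ∉ zpowers (π a) := by
          intro hbz
          obtain ⟨k, hk⟩ := mem_zpowers_iff.1 hbz
          have hk' : π (a ^ k) = π b := by rw [map_zpow]; exact hk
          have hz := mem_center_iff.1 (QuotientGroup.eq.1 hk' : (a ^ k)⁻¹ * b ∈ center G) a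
          apply hab
          have h5 : b = a ^ k * ((a ^ k)⁻¹ * b) := by group
          rw [h5]
          calc a * (a ^ k * ((a ^ k)⁻¹ * b)) = a ^ k * (a * ((a ^ k)⁻¹ * b)) := by group
            _ = a ^ k * ((a ^ k)⁻¹ * b) * a := by rw [hz]; group
        have ha1 : π a ≠ 1 := fun e => by
          have := mem_center_iff.1 ((QuotientGroup.eq_one_iff a).1 e) b
          exact hab this.symm
        have h1 : zpowers (π a) < closure ({π a, π b} : Set (G ⧸ center G)) :=
          SetLike.lt_iff_le_and_exists.2 ⟨zpowers_le.2 (subset_closure (Or.inl rfl)),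
            π b, subset_closure (Or.inr rfl), hnz⟩
        obtain ⟨c, hce⟩ := CfsgLib.PGroups.card_subgroup_eq_pow (hP.to_quotient (center G))
          (closure ({π a, π b} : Set (G ⧸ center G)))
        obtain ⟨d, hde⟩ := CfsgLib.PGroups.card_subgroup_eq_pow (hP.to_quotient (center G))
          (zpowers (π a))
        have hd1 : d ≠ 0 := fun e => ha1 (by
          rw [e, pow_zero, card_eq_one, zpowers_eq_bot] at hde; exact hde)
        have hlt' : Nat.card (zpowers (π a)) < Nat.card (closure ({π a, π b} : Set (G ⧸ center G))) :=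
          lt_of_le_of_ne (card_le_of_le h1.le) fun e => h1.ne (eq_of_le_of_card_ge h1.le e.ge)
        rw [hce, hde] at hlt'
        have := (Nat.pow_lt_pow_iff_right hp.1.one_lt).1 hlt'
        rw [hce, hmapcard]
        exact Nat.pow_le_pow_right hp.1.pos (by omega)
      set z := ⁅a, b⁆ with hzdef
      have hzC : z ∈ center G := hcomm a ha b hb
      have hz1 : z ≠ 1 := fun e => hab (commutatorElement_eq_one_iff_mul_comm.1 e)
      have hzgen : center G = zpowers z := by
        refine (eq_of_le_of_card_ge (zpowers_le.2 hzC) ?_).symm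
        have hzp : z ^ p = 1 := by
          have := pow_card_eq_one' (x := (⟨z, hzC⟩ : center G))
          rw [hZc] at this
          exact congrArg Subtype.val this
        rw [hZc, Nat.card_zpowers, orderOf_eq_prime hzp hz1]
      obtain ⟨i, hi⟩ := mem_zpowers_iff.1 (hzgen ▸ hg a ha : ⁅g, a⁆ ∈ zpowers z)
      obtain ⟨j, hj⟩ := mem_zpowers_iff.1 (hzgen ▸ hg b hb : ⁅g, b⁆ ∈ zpowers z)
      -- conjugation by an element of `E` with the same effect
      have hcz : ∀ (m : ℤ) (x : G), x * z ^ m * x⁻¹ = z ^ m := fun m x => by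
        rw [mem_center_iff.1 (zpow_mem hzC m) x, mul_inv_cancel_right]
      have ea : a * b * a⁻¹ = z * b := by rw [hzdef, commutatorElement_def]; group
      have eb : b * a * b⁻¹ = z⁻¹ * a := by rw [hzdef, commutatorElement_def]; group
      have epow : ∀ (u v : G) (c : G), c ∈ center G → u * v * u⁻¹ = c * v →
          ∀ m : ℤ, u ^ m * v * (u ^ m)⁻¹ = c ^ m * v := by
        intro u v c hc huv m
        have hc' : ∀ x, x * c = c * x := fun x => mem_center_iff.1 hc x
        have hcu : ∀ m : ℤ, Commute u (c ^ m) := fun m => Commute.zpow_right (hc' u) m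
        induction m using Int.induction_on with
        | zero => simp
        | succ m ih =>
          rw [zpow_add_one, show u ^ (m : ℤ) * u = u * u ^ (m : ℤ) from ((Commute.refl u).zpow_right _).eq.symm,
            show u * u ^ (m : ℤ) * v * (u * u ^ (m : ℤ))⁻¹ = u * (u ^ (m : ℤ) * v * (u ^ (m : ℤ))⁻¹) * u⁻¹ by group,
            ih, ← mul_assoc, (hcu _).eq, mul_assoc (c ^ (m : ℤ)), mul_assoc (c ^ (m : ℤ)), huv,
            zpow_add_one, mul_assoc]
        | pred m ih =>
          have huv' : u⁻¹ * v * u = c⁻¹ * v := by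
            have h1 : v = u⁻¹ * (c * v) * u := by rw [← huv]; group
            rw [← mul_assoc u⁻¹, hc' u⁻¹, mul_assoc c, mul_assoc c] at h1
            rw [eq_inv_mul_iff_mul_eq]
            exact h1.symm
          rw [zpow_sub_one, show u ^ (-(m : ℤ)) * u⁻¹ = u⁻¹ * u ^ (-(m : ℤ)) from
              ((Commute.refl u).inv_left.zpow_right _).eq.symm,
            show u⁻¹ * u ^ (-(m : ℤ)) * v * (u⁻¹ * u ^ (-(m : ℤ)))⁻¹ =
              u⁻¹ * (u ^ (-(m : ℤ)) * v * (u ^ (-(m : ℤ)))⁻¹) * u by group,
            ih, ← mul_assoc, ((hcu _).inv_left).eq, mul_assoc (c ^ (-(m : ℤ))),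
            mul_assoc (c ^ (-(m : ℤ))), huv', zpow_sub_one, mul_assoc]
      have ga : g * a * g⁻¹ = z ^ i * a := by rw [hi, commutatorElement_def]; group
      have gb : g * b * g⁻¹ = z ^ j * b := by rw [hj, commutatorElement_def]; group
      -- `u := a ^ j * b ^ (-i)` acts on `E` as `g`
      set u := a ^ j * b ^ (-i) with hu
      have hu_a : u * a * u⁻¹ = z ^ i * a := by
        rw [hu, show a ^ j * b ^ (-i) * a * (a ^ j * b ^ (-i))⁻¹ =
            a ^ j * (b ^ (-i) * a * (b ^ (-i))⁻¹) * (a ^ j)⁻¹ by group,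
          epow b a z⁻¹ (inv_mem hzC) eb (-i), inv_zpow', neg_neg,
          show a ^ j * (z ^ i * a) * (a ^ j)⁻¹ =
            (a ^ j * z ^ i * (a ^ j)⁻¹) * (a ^ j * a * (a ^ j)⁻¹) by group, hcz]
        group
      have hu_b : u * b * u⁻¹ = z ^ j * b := by
        rw [hu, show a ^ j * b ^ (-i) * b * (a ^ j * b ^ (-i))⁻¹ = a ^ j * b * (a ^ j)⁻¹ by group,
          epow a b z hzC ea j]
      have huE : u ∈ E := mul_mem (zpow_mem ha j) (zpow_mem hb (-i))
      have hw : u⁻¹ * g ∈ E := by
        refine hC fun e he => ?_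
        have hfix : ∀ v, g * v * g⁻¹ = u * v * u⁻¹ → Commute v (u⁻¹ * g) := fun v hv => by
          show v * (u⁻¹ * g) = u⁻¹ * g * v
          calc v * (u⁻¹ * g) = u⁻¹ * (u * v * u⁻¹) * g := by group
            _ = u⁻¹ * g * v := by rw [← hv]; group
        obtain ⟨c, hc', hce⟩ := (hbar.ge ⟨e, he, rfl⟩ :
          π e ∈ closure ({π a, π b} : Set (G ⧸ center G))) |> fun h' =>
            (show π e ∈ (closure ({a, b} : Set G)).map π by
              rwa [MonoidHom.map_closure, Set.image_pair])
        have hz' := mem_center_iff.1 (QuotientGroup.eq.1 hce : c⁻¹ * e ∈ center G) (u⁻¹ * g)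
        have hcc : Commute c (u⁻¹ * g) := by
          have hle : closure ({a, b} : Set G) ≤ centralizer ({u⁻¹ * g} : Set G) := by
            rw [closure_le, Set.insert_subset_iff, Set.singleton_subset_iff]
            exact ⟨mem_centralizer_singleton_iff.2 (hfix a (ga.trans hu_a.symm)).eq,
              mem_centralizer_singleton_iff.2 (hfix b (gb.trans hu_b.symm)).eq⟩
          exact mem_centralizer_singleton_iff.1 (hle hc')
        have he' : Commute e (u⁻¹ * g) := by
          rw [show e = c * (c⁻¹ * e) by group]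
          exact hcc.mul_left (show Commute (c⁻¹ * e) (u⁻¹ * g) from hz'.symm)
        exact he'.eq
      have := mul_mem huE hw
      rwa [mul_inv_cancel_left] at this
    -- an element `w` of the second centre, and `s` outside `Z(G)⟨w⟩`
    obtain ⟨q, hq, hq1⟩ := (Subgroup.bot_or_exists_ne_one (center (G ⧸ center G))).resolve_left
      (by
        haveI : Nontrivial (G ⧸ center G) := Finite.one_lt_card_iff_nontrivial.1 (by
          have h1 := card_le_card_group (E.map π)
          rw [hmapcard] at h1
          exact lt_of_lt_of_le (Nat.one_lt_pow two_ne_zero hp.1.one_lt) h1)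
        exact Group.IsNilpotent.center_ne_bot _)
    obtain ⟨w, rfl⟩ := QuotientGroup.mk_surjective q
    have hwc : ∀ g : G, ⁅g, w⁆ ∈ center G := fun g => by
      rw [← QuotientGroup.eq_one_iff, ← QuotientGroup.mk'_apply, map_commutatorElement,
        commutatorElement_eq_one_iff_mul_comm]
      exact mem_center_iff.1 hq (π g)
    have hwE : w ∈ E := hnorm w fun e _ => by
      rw [← inv_mem_iff, commutatorElement_inv]
      exact hwc e
    obtain ⟨_, ⟨s, hs, rfl⟩, hsw⟩ : ∃ x ∈ E.map π, x ∉ zpowers (π w) := by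
      by_contra h
      push Not at h
      have h1 := card_le_of_le (h : E.map π ≤ zpowers (π w))
      rw [hmapcard, Nat.card_zpowers] at h1
      have h2 : (π w) ^ p = 1 := by
        haveI : IsCyclic ↥(E.map π) := by
          refine isCyclic_of_injective (Subgroup.inclusion (h : E.map π ≤ zpowers (π w)))
            (Subgroup.inclusion_injective _)
        exfalso
        obtain ⟨x, hx⟩ := IsCyclic.exists_ofOrder_eq_natCard (α := ↥(E.map π))
        -- a cyclic image makes `E` abelian
        obtain ⟨g₀, hg₀, hg₀e⟩ := x.2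
        refine hna ⟨⟨fun u v => Subtype.ext ?_⟩⟩
        have hgen : ∀ v : E, ∃ k : ℤ, (g₀ ^ k)⁻¹ * (v : G) ∈ center G := fun v => by
          obtain ⟨k, hk⟩ := mem_zpowers_iff.1
            ((eq_top_iff' (zpowers x)).1 (eq_top_of_card_eq _ (by rw [Nat.card_zpowers, hx]))
              ⟨π (v : G), v, v.2, rfl⟩)
          refine ⟨k, QuotientGroup.eq.1 ?_⟩
          show π (g₀ ^ k) = π (v : G)
          rw [map_zpow, hg₀e]
          exact congrArg Subtype.val hk
        obtain ⟨k, hk⟩ := hgen u
        obtain ⟨l, hl⟩ := hgen v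
        have c1 : ∀ {c : G}, c ∈ center G → ∀ x, Commute c x := fun hc x =>
          (mem_center_iff.1 hc x).symm
        show (u : G) * v = v * u
        rw [show (u : G) = g₀ ^ k * ((g₀ ^ k)⁻¹ * u) by group,
          show (v : G) = g₀ ^ l * ((g₀ ^ l)⁻¹ * v) by group]
        exact (((Commute.refl g₀).zpow_zpow k l).mul_left (c1 hk _)).mul_right
          ((c1 hl _).symm) |>.eq
      exact absurd ((h1.trans (orderOf_le_of_pow_eq_one hp.1.pos h2)).trans_eq (pow_one p).symm)
        (Nat.pow_lt_pow_right hp.1.one_lt one_lt_two).not_ge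
    have hsZ : s ∉ center G := fun h => hsw (by
      rw [show π s = 1 from (QuotientGroup.eq_one_iff s).2 h]; exact one_mem _)
    refine ⟨s, hG, hn, hcl, ?_, ?_⟩
    · have hCE : centralizer ({s} : Set G) ≤ E := by
        intro g hg
        refine hnorm g fun e he => ?_
        -- modulo the centre `E` is generated by `s` and `w`
        have hgen : E.map π ≤ centralizer ({π g} : Set (G ⧸ center G)) := by
          have h1 : closure ({π s, π w} : Set (G ⧸ center G)) = E.map π := by
            refine eq_of_le_of_card_ge ((closure_le _).2 (Set.insert_subset_iff.2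
              ⟨⟨s, hs, rfl⟩, Set.singleton_subset_iff.2 ⟨w, hwE, rfl⟩⟩)) ?_
            have hlt' : zpowers (π w) < closure ({π s, π w} : Set (G ⧸ center G)) :=
              SetLike.lt_iff_le_and_exists.2 ⟨zpowers_le.2 (subset_closure (Or.inr rfl)),
                π s, subset_closure (Or.inl rfl), hsw⟩
            obtain ⟨c, hce⟩ := CfsgLib.PGroups.card_subgroup_eq_pow (hP.to_quotient (center G))
              (closure ({π s, π w} : Set (G ⧸ center G)))
            obtain ⟨d, hde⟩ := CfsgLib.PGroups.card_subgroup_eq_pow (hP.to_quotient (center G))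
              (zpowers (π w))
            have hd1 : d ≠ 0 := fun e' => hq1 (by
              rw [e', pow_zero, card_eq_one, zpowers_eq_bot] at hde; exact hde)
            have hlt'' := lt_of_le_of_ne (card_le_of_le hlt'.le)
              fun e' => hlt'.ne (eq_of_le_of_card_ge hlt'.le e'.ge)
            rw [hce, hde] at hlt''
            have := (Nat.pow_lt_pow_iff_right hp.1.one_lt).1 hlt''
            rw [hce, hmapcard]
            exact Nat.pow_le_pow_right hp.1.pos (by omega)
          rw [← h1, closure_le, Set.insert_subset_iff, Set.singleton_subset_iff]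
          refine ⟨mem_centralizer_singleton_iff.2 ?_, mem_centralizer_singleton_iff.2 ?_⟩
          · rw [← map_mul, ← map_mul, mem_centralizer_singleton_iff.1 hg]
          · exact (mem_center_iff.1 hq (π g)).symm
        rw [← QuotientGroup.eq_one_iff, ← QuotientGroup.mk'_apply, map_commutatorElement,
          commutatorElement_eq_one_iff_mul_comm]
        exact (mem_centralizer_singleton_iff.1 (hgen ⟨e, he, rfl⟩)).symm
      have hne : centralizer ({s} : Set G) < E := lt_of_le_of_ne hCE fun e =>
        hsZ (hZE s hs fun x hx => mem_centralizer_singleton_iff.1 (e.ge hx))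
      obtain ⟨a, ha⟩ := CfsgLib.PGroups.card_subgroup_eq_pow hP (centralizer ({s} : Set G))
      have h1 : center G < centralizer ({s} : Set G) := SetLike.lt_iff_le_and_exists.2
        ⟨center_le_centralizer _, s, mem_centralizer_singleton_iff.2 rfl, hsZ⟩
      have h2 := lt_of_le_of_ne (card_le_of_le h1.le) fun e => h1.ne (eq_of_le_of_card_ge h1.le e.ge)
      have h3 := lt_of_le_of_ne (card_le_of_le hne.le) fun e => hne.ne (eq_of_le_of_card_ge hne.le e.ge)
      rw [ha, hc] at h3
      rw [hZc, ha] at h2
      nth_rewrite 1 [← pow_one p] at h2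
      have e1 := (Nat.pow_lt_pow_iff_right hp.1.one_lt).1 h2
      have e2 := (Nat.pow_lt_pow_iff_right hp.1.one_lt).1 h3
      rw [ha, show a = 2 by omega]
    · -- `E / Z(G)` is elementary abelian
      rw [← QuotientGroup.eq_one_iff]
      show π (s ^ p) = 1
      rw [map_pow]
      by_contra hne
      have h1 : orderOf (π s) ∣ p ^ 2 := by
        have := orderOf_dvd_natCard (⟨π s, s, hs, rfl⟩ : E.map π)
        rwa [hmapcard, ← Subgroup.orderOf_coe] at this
      obtain ⟨d, hd, hde⟩ := (Nat.dvd_prime_pow hp.1).1 h1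
      have hd2 : d = 2 := by
        by_contra hd2
        exact hne (orderOf_dvd_iff_pow_eq_one.1 (hde ▸ by
          rcases (show d = 0 ∨ d = 1 by omega) with rfl | rfl
          · simp
          · simp))
      -- then the image of `E` is cyclic, so `E` is abelian
      subst hd2
      have htop : zpowers (π s) = E.map π := eq_of_le_of_card_ge (zpowers_le.2 ⟨s, hs, rfl⟩)
        (by rw [hmapcard, Nat.card_zpowers, hde])
      refine hna ⟨⟨fun u v => Subtype.ext ?_⟩⟩
      have hgen : ∀ v : E, ∃ k : ℤ, (s ^ k)⁻¹ * (v : G) ∈ center G := fun v => by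
        obtain ⟨k, hk⟩ := mem_zpowers_iff.1 (htop.ge ⟨(v : G), v.2, rfl⟩)
        exact ⟨k, QuotientGroup.eq.1 (show π (s ^ k) = π (v : G) by rw [map_zpow]; exact hk)⟩
      obtain ⟨k, hk⟩ := hgen u
      obtain ⟨l, hl⟩ := hgen v
      have c1 : ∀ {c : G}, c ∈ center G → ∀ x, Commute c x := fun hc x =>
        (mem_center_iff.1 hc x).symm
      show (u : G) * v = v * u
      rw [show (u : G) = s ^ k * ((s ^ k)⁻¹ * u) by group,
        show (v : G) = s ^ l * ((s ^ l)⁻¹ * v) by group]
      exact (((Commute.refl s).zpow_zpow k l).mul_left (c1 hk _)).mul_right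
        ((c1 hl _).symm) |>.eq

end CfsgLib.PGroups.Pearl
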