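/-
Every group of maximal class has an element with centralizer of order `p ^ 2` and central `p`-th
power; the index of the subgroup of `p`-th powers in subgroups of the derived group.
-/
import Cfsg.Agent.Lib.PGroups.Pearl
import Cfsg.Agent.Lib.FgsC.MaximalClassSection

set_option autoImplicit false
set_option linter.unusedSectionVars false

namespace CfsgLib.PGroups.MaxClassPower

open Subgroup CfsgLib.PLocal CfsgLib.PGroups.Pearl CfsgLib.PGroups
open CfsgLib.FgsC.MaxClassSection
open scoped commutatorElement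

universe u

variable {G : Type u} [Group G] [Finite G] {p n : ℕ} [hp : Fact p.Prime]

/-- A constant is a polynomial sequence. -/
theorem polyPred_const (m : ℕ) {i : ℕ} {c : G} (hc : c ∈ lcsFil G i) :
    polyPred m i (fun _ => c) := by
  simpa using polyPred_choose m i 0 c (by simpa using hc)

/-- `(c y) ^ p` and `y ^ p` agree modulo the layer `a + p - 1` for `c` in layer `a`. -/
theorem pow_congr {s : G} (H : Elt p n s) {a : ℕ} (ha : 1 ≤ a) {c : G} (hc : c ∈ lcsT G a) (y : G) :
    (c * y) ^ p * (y ^ p)⁻¹ ∈ lcsT G (a + p - 1) := by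
  have hp2 := hp.1.two_le
  set N := lcsT G (a + p - 1) with hN
  set P : ℕ → G := fun k => (c * y) ^ k * (y ^ k)⁻¹ with hPdef
  have hPs : seqDiff P = fun k => y ^ k * c * (y ^ k)⁻¹ := by
    funext k
    simp only [seqDiff, hPdef, pow_succ]
    group
  have hPval : ∀ k, P k ∈ lcsT G a := by
    intro k
    induction k with
    | zero => simp [hPdef]
    | succ k ihk =>
      rw [show P (k + 1) = P k * seqDiff P k by simp [seqDiff], hPs]
      exact mul_mem ihk ((lcsT_normal a).conj_mem c hc _)
  have hPpoly : ∀ m, polyPred m a P := by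
    intro m
    induction m with
    | zero => exact fun k => lcsFil_antitone (Nat.le_succ a) (hPval k)
    | succ m ihm => exact ⟨ihm, by rw [hPs]; exact polyPred_conjSeq y m hc⟩
  have key : ∀ j, 1 ≤ j → j < p → ∃ g : ℕ → G, (∀ m, polyPred m a g) ∧ (∀ k ≤ j, g k = 1) ∧
      g p * (P p)⁻¹ ∈ N := by
    intro j hj1
    induction j, hj1 using Nat.le_induction with
    | base =>
      intro _
      refine ⟨(fun k => (c⁻¹) ^ k.choose 1) * P,
        fun m => (polyPred_properties m).2.1 _ _ _ (polyPred_choose m a 1 _ (inv_mem hc))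
          (hPpoly m), fun k hk => ?_, ?_⟩
      · rcases Nat.le_one_iff_eq_zero_or_eq_one.1 hk with rfl | rfl <;> simp [hPdef]
      · simp only [Pi.mul_apply, Nat.choose_one_right, mul_inv_cancel_right]
        exact (H.pow_layer a ha _ (inv_mem hc)).1
    | succ j hj1 ihj =>
      intro hj
      obtain ⟨g, hg, hg1, hgp⟩ := ihj (by omega)
      have hx : g (j + 1) ∈ lcsFil G (a + (j + 1)) :=
        polyPred_top (j + 1) a g (hg _) fun k hk => hg1 k (by omega)
      refine ⟨(fun k => ((g (j + 1))⁻¹) ^ k.choose (j + 1)) * g,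
        fun m => (polyPred_properties m).2.1 _ _ _ (polyPred_choose m a (j + 1) _ (inv_mem hx))
          (hg m), fun k hk => ?_, ?_⟩
      · rcases Nat.lt_or_ge k (j + 1) with h | h
        · simp [Nat.choose_eq_zero_of_lt h, hg1 k (Nat.lt_succ_iff.1 h)]
        · obtain rfl := le_antisymm hk h
          simp
      · obtain ⟨t, ht⟩ := hp.1.dvd_choose_self (Nat.succ_ne_zero j) hj
        rw [Pi.mul_apply, mul_assoc]
        refine mul_mem ?_ hgp
        show (g (j + 1))⁻¹ ^ p.choose (j + 1) ∈ N
        rw [ht, pow_mul']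
        have hx1 : ((g (j + 1))⁻¹) ^ t ∈ lcsT G (a + 1) :=
          pow_mem (inv_mem (lcsFil_antitone (show a + 2 ≤ a + (j + 1) by omega) hx)) t
        exact Subgroup.lowerCentralSeries_antitone _ (show a + p - 1 ≤ a + 1 + p - 1 by omega)
          (H.pow_layer (a + 1) (by omega) _ hx1).1
  obtain ⟨g, hg, hg1, hgp⟩ := key (p - 1) (by omega) (by omega)
  have h1 : g p ∈ N := by
    have := polyPred_top p a g (hg p) fun k hk => hg1 k (by omega)
    rwa [show a + p = a + p - 1 + 1 by omega, lcsFil_succ] at this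
  exact inv_mem_iff.1 ((mul_mem_cancel_left h1).1 hgp)

/-- The two-step centralizers repeat with period `p - 1`. -/
theorem twoStep_le {s : G} (H : Elt p n s) {j : ℕ} (hj : 1 ≤ j) (hjn : j + p + 1 ≤ n - 1) :
    twoStepCentralizer G j ≤ twoStepCentralizer G (j + p - 1) := by
  intro x hx
  have hp2 := hp.1.two_le
  have HM : MC G p n := ⟨H.card, H.cls, H.three⟩
  obtain ⟨y, hy, hy'⟩ := SetLike.exists_of_lt (HM.lcs_lt (i := j) (by omega))
  obtain ⟨h1, h2⟩ := H.pow_layer j hj y hy
  by_contra hg
  refine HM.layer_not_mem (i := j + p - 1) (by omega) (by omega) hg h1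
    (by rw [show j + p - 1 + 1 = j + p by omega]; exact h2 hy' (by omega)) ?_
  have h3 : x * y * x⁻¹ * y⁻¹ ∈ lcsT G (j + 2) := by
    have h := inv_mem (mem_twoStepCentralizer.1 hx y hy)
    rwa [commutatorElement_inv, commutatorElement_def] at h
  have h4 := pow_congr H (show 1 ≤ j + 2 by omega) h3 y
  rw [inv_mul_cancel_right, conj_pow] at h4
  rw [show ⁅y ^ p, x⁆ = (⁅x, y ^ p⁆)⁻¹ from (commutatorElement_inv _ _).symm, inv_mem_iff,
    commutatorElement_def, show j + p - 1 + 2 = j + 2 + p - 1 by omega]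
  exact h4

/-- The lower central series of a quotient by one of its terms. -/
theorem lcsT_quot (N : Subgroup G) [N.Normal] (i : ℕ) :
    lcsT (G ⧸ N) i = (lcsT G i).map (QuotientGroup.mk' N) := by
  rw [lcsT, lcsT, map_lowerCentralSeries,
    Subgroup.map_top_of_surjective _ (QuotientGroup.mk'_surjective _)]

/-- Quotients of maximal class groups have maximal class. -/
theorem mc_quot (H : MC G p n) {k : ℕ} (hk : 2 ≤ k) (hkn : k + 1 ≤ n) [(lcsT G k).Normal] :
    MC (G ⧸ lcsT G k) p (k + 1) := by
  have hQ : IsPGroup p (G ⧸ lcsT G k) := (IsPGroup.of_card H.card).to_quotient _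
  refine ⟨?_, ?_, by omega⟩
  · have h := Subgroup.card_mul_index (lcsT G k)
    rw [H.card_lcs (by omega) (by omega), H.card,
      show p ^ n = p ^ (n - 1 - k) * p ^ (k + 1) by rw [← pow_add]; congr 1; omega] at h
    exact Nat.eq_of_mul_eq_mul_left (pow_pos hp.1.pos _) h
  · haveI := hQ.isNilpotent
    rw [Nat.add_sub_cancel]
    refine le_antisymm (Subgroup.lowerCentralSeries_eq_bot_iff_nilpotencyClass_le.1 ?_) ?_
    · show lcsT (G ⧸ lcsT G k) k = ⊥
      rw [lcsT_quot, Subgroup.map_eq_bot_iff, QuotientGroup.ker_mk']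
    · by_contra hc
      have hb : lcsT (G ⧸ lcsT G k) (k - 1) = ⊥ :=
        Subgroup.lowerCentralSeries_eq_bot_iff_nilpotencyClass_le.2 (by omega)
      rw [lcsT_quot, Subgroup.map_eq_bot_iff, QuotientGroup.ker_mk'] at hb
      have := H.lcs_lt (i := k - 1) (by omega)
      rw [show k - 1 + 1 = k by omega] at this
      exact this.not_ge hb

/-- An element of a quotient layer comes from the layer. -/
theorem mem_of_map {k i : ℕ} (hik : i ≤ k) [(lcsT G k).Normal] {c : G}
    (hc : QuotientGroup.mk' (lcsT G k) c ∈ (lcsT G i).map (QuotientGroup.mk' (lcsT G k))) :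
    c ∈ lcsT G i := by
  obtain ⟨b, hb, hbc⟩ := hc
  have := mul_mem hb (Subgroup.lowerCentralSeries_antitone _ hik (QuotientGroup.eq.1 hbc) :
    b⁻¹ * c ∈ lcsT G i)
  rwa [mul_inv_cancel_left] at this

/-- `p` proper subgroups do not cover a `p`-group. -/
theorem exists_avoid (hG : IsPGroup p G) (K : ℕ → Subgroup G) (hK : ∀ l < p, K l ≠ ⊤) :
    ∃ x : G, ∀ l < p, x ∉ K l := by
  classical
  obtain ⟨x, hx⟩ := exists_many_not_mem hG hp.1.pos K hK
  refine ⟨x, fun l hl hmem => ?_⟩
  have hsub : ((Finset.range p).filter fun l => x ∉ K l) ⊆ (Finset.range p).erase l := fun i hi => by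
    rw [Finset.mem_filter] at hi
    exact Finset.mem_erase.2 ⟨fun e => hi.2 (e ▸ hmem), hi.1⟩
  have h := Finset.card_le_card hsub
  rw [Finset.card_erase_of_mem (Finset.mem_range.2 hl), Finset.card_range] at h
  have h1 := lt_of_lt_of_le hx (Nat.mul_le_mul_right p h)
  rw [Nat.mul_comm p (p - 1)] at h1
  exact lt_irrefl _ h1

/-- An element outside all two-step centralizers qualifies. -/
theorem elt_of_avoid (H : MC G p n) {s : G} (h1 : s ∉ lcsT G 1)
    (hs : ∀ j, 1 ≤ j → j + 2 ≤ n - 1 → s ∉ twoStepCentralizer G j) : Elt p n s := by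
  have h3 := H.three
  have hp2 := hp.1.two_le
  haveI : (lcsT G 1).Normal := lcsT_normal _
  set L := lcsT G 1 with hL
  set C := centralizer ({s} : Set G) with hC
  have hZ : lcsT G (n - 2) ≤ center G := fun z hz => by
    rw [mem_center_iff]
    intro g
    have h := commutator_mem_commutator hz (mem_top g)
    rw [show ⁅lcsT G (n - 2), (⊤ : Subgroup G)⁆ = lcsT G (n - 2 + 1) from
      (Subgroup.lowerCentralSeries_succ _ _).symm, H.lcs_eq_bot (by omega), mem_bot,
      commutatorElement_eq_one_iff_mul_comm] at h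
    exact h.symm
  have hZeq : center G = lcsT G (n - 2) := (eq_of_le_of_card_ge hZ (by
    rw [H.card_lcs (by omega) (by omega),
      (CfsgLib.PGroups.center_of_maximalClass (p := p) H.three H.card H.cls).1,
      show n - 1 - (n - 2) = 1 by omega, pow_one])).symm
  have hdesc : ∀ v ∈ C ⊓ L, v ∈ lcsT G (n - 2) := by
    rintro v ⟨hvC, hvL⟩
    have key : ∀ j, 1 ≤ j → j ≤ n - 2 → v ∈ lcsT G j := by
      intro j hj
      induction j, hj using Nat.le_induction with
      | base => exact fun _ => hvL
      | succ j hj ih =>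
        intro hjn
        exact H.descend (mem_centralizer_singleton_iff.1 hvC) hj (by omega) (hs j hj (by omega))
          (ih (by omega))
    exact key (n - 2) (by omega) le_rfl
  have hCL : Nat.card ↥(C ⊓ L) = p := by
    rw [show C ⊓ L = lcsT G (n - 2) from le_antisymm hdesc fun v hv => ⟨center_le_centralizer _
      (hZ hv), Subgroup.lowerCentralSeries_antitone _ (by omega : 1 ≤ n - 2) hv⟩,
      H.card_lcs (by omega) (by omega), show n - 1 - (n - 2) = 1 by omega, pow_one]
  have hidx : L.index = p ^ 2 := by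
    rw [hL, lcsT, top_lowerCentralSeries_one]
    exact index_commutator_of_maximalClass H.three H.card H.cls
  have hsC : s ∈ C := mem_centralizer_singleton_iff.2 rfl
  have hcard : Nat.card C = p ^ 2 := by
    have hmul : Nat.card C = Nat.card ↥(C ⊓ L) * L.relIndex C := by
      rw [← Subgroup.card_mul_index ((C ⊓ L).subgroupOf C),
        Nat.card_congr (Subgroup.subgroupOfEquivOfLe (inf_le_left : C ⊓ L ≤ C)).toEquiv,
        ← Subgroup.relIndex, Subgroup.inf_relIndex_left]
    obtain ⟨a, ha, hae⟩ := (Nat.dvd_prime_pow hp.1).1 (hidx ▸ L.relIndex_dvd_index_of_normal (K := C))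
    rw [hmul, hCL, hae, ← pow_succ']
    interval_cases a
    · rw [pow_zero] at hae
      exact absurd (Subgroup.relIndex_eq_one.1 hae hsC) h1
    · rfl
    · exfalso
      have hsup : C ⊔ L = ⊤ := by
        have h := Subgroup.relIndex_mul_index (le_sup_right : L ≤ C ⊔ L)
        rw [Subgroup.relIndex_sup_right, hae, hidx] at h
        exact Subgroup.index_eq_one.1 (Nat.eq_of_mul_eq_mul_left (pow_pos hp.1.pos 2)
          (by rw [h, mul_one]))
      have htop : C = ⊤ := frattini_nongenerating (eq_top_iff.2 (hsup.ge.trans (sup_le_sup_left (by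
        rw [hL, lcsT, top_lowerCentralSeries_one]
        exact CfsgLib.PGroups.commutator_le_frattini (IsPGroup.of_card H.card)) _)))
      refine h1 (Subgroup.lowerCentralSeries_antitone _ (by omega : 1 ≤ n - 2) (hZeq.le ?_))
      rw [mem_center_iff]
      intro g
      exact mem_centralizer_singleton_iff.1 ((htop ▸ mem_top g : g ∈ C))
  refine ⟨H.card, H.three, H.cls, hcard, hZ (hdesc _ ⟨?_, H.pow_mem le_rfl hp.1.one_lt (by omega) s⟩)⟩
  exact mem_centralizer_singleton_iff.2 (((Commute.refl s).pow_left p).eq)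

/-- Every group of maximal class has an element with centralizer of order `p ^ 2` and central
`p`-th power. -/
theorem exists_elt : ∀ (n : ℕ) (G : Type u) [Group G] [Finite G],
    MC G p n → ∃ s : G, Elt p n s := by
  intro n
  induction n using Nat.strong_induction_on with
  | _ n ih =>
    intro G _ _ H
    have h3 := H.three
    have hp2 := hp.1.two_le
    let K : ℕ → Subgroup G := fun l => if l < n - 3 then twoStepCentralizer G (n - 3 - l)
      else lcsT G 1
    obtain ⟨s, hs⟩ := exists_avoid (IsPGroup.of_card H.card) K fun l _ => by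
      by_cases h : l < n - 3
      · simp only [K, if_pos h]
        exact H.twoStep_ne_top (by omega)
      · simp only [K, if_neg h]
        intro e
        have := H.lcs_lt (i := 0) (by omega)
        exact this.ne (by rw [e]; rfl)
    have hs1 : s ∉ lcsT G 1 := by
      intro hmem
      have h0 := hs 0 hp.1.pos
      by_cases h : 0 < n - 3
      · simp only [K, if_pos h, Nat.sub_zero] at h0
        refine h0 (mem_twoStepCentralizer.2 fun a ha => ?_)
        exact commutator_lowerCentralSeries_le (n - 3) 1 (commutator_mem_commutator ha hmem)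
      · simp only [K, if_neg h] at h0
        exact h0 hmem
    refine ⟨s, elt_of_avoid H hs1 ?_⟩
    suffices ∀ d j, n - 3 - j = d → 1 ≤ j → j + 2 ≤ n - 1 → s ∉ twoStepCentralizer G j from
      fun j => this _ j rfl
    intro d
    induction d using Nat.strong_induction_on with
    | _ d ihd =>
      intro j hd hj hjn hmem
      rcases Nat.lt_or_ge d p with hdp | hdp
      · have h0 := hs d hdp
        simp only [K, if_pos (show d < n - 3 by omega), show n - 3 - d = j by omega] at h0
        exact h0 hmem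
      haveI : (lcsT G (n - 2)).Normal := lcsT_normal _
      have HQ := mc_quot H (k := n - 2) (by omega) (by omega)
      obtain ⟨t, ht⟩ := ih (n - 2 + 1) (by omega) _ HQ
      refine ihd (n - 3 - (j + p - 1)) (by omega) (j + p - 1) rfl (by omega) (by omega) ?_
      have hq : QuotientGroup.mk' (lcsT G (n - 2)) s ∈ twoStepCentralizer (G ⧸ lcsT G (n - 2)) j := by
        refine mem_twoStepCentralizer.2 fun a ha => ?_
        have ha' : a ∈ (lcsT G j).map (QuotientGroup.mk' (lcsT G (n - 2))) := lcsT_quot (lcsT G (n - 2)) j ▸ ha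
        obtain ⟨b, hb, rfl⟩ := ha'
        show _ ∈ lcsT (G ⧸ lcsT G (n - 2)) (j + 2)
        rw [lcsT_quot, ← map_commutatorElement]
        exact ⟨_, mem_twoStepCentralizer.1 hmem b hb, rfl⟩
      have hq' := twoStep_le ht hj (by omega) hq
      refine mem_twoStepCentralizer.2 fun a ha => mem_of_map (G := G) (k := n - 2) (by omega) ?_
      rw [← lcsT_quot, map_commutatorElement]
      exact mem_twoStepCentralizer.1 hq' _ (by
        show _ ∈ lcsT _ _
        rw [lcsT_quot]
        exact ⟨a, ha, rfl⟩)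

/-- In the derived group the `p`-th powers of a subgroup have index at most `p ^ (p - 1)`. -/
theorem card_inf_le {s : G} (H : Elt p n s) (K U : Subgroup G) (hU : ∀ x ∈ K, x ^ p ∈ U) :
    ∀ i, 1 ≤ i →
      Nat.card ↥(K ⊓ lcsT G i) ≤ p ^ (p - 1) * Nat.card ↥(U ⊓ lcsT G (i + p - 1)) := by
  have hp2 := hp.1.two_le
  have h3 := H.three
  suffices ∀ d i, n - i = d → 1 ≤ i → Nat.card ↥(K ⊓ lcsT G i) ≤
      p ^ (p - 1) * Nat.card ↥(U ⊓ lcsT G (i + p - 1)) from fun i => this _ i rfl
  intro d
  induction d using Nat.strong_induction_on with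
  | _ d ih =>
    intro i hd hi
    have hpos : 0 < Nat.card ↥(U ⊓ lcsT G (i + p - 1)) := Nat.card_pos
    by_cases hin : i + p ≤ n - 1
    swap
    · refine le_trans ?_ (Nat.le_mul_of_pos_right _ hpos)
      refine (card_le_of_le inf_le_right).trans ?_
      rcases Nat.lt_or_ge i (n - 1) with h | h
      · rw [H.card_lcs hi (by omega)]
        exact Nat.pow_le_pow_right hp.1.pos (by omega)
      · rw [H.lcs_eq_bot h, Subgroup.card_bot]
        exact Nat.one_le_pow _ _ hp.1.pos
    have hmono : Nat.card ↥(U ⊓ lcsT G (i + 1 + p - 1)) ≤ Nat.card ↥(U ⊓ lcsT G (i + p - 1)) :=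
      card_le_of_le (inf_le_inf_left _ (Subgroup.lowerCentralSeries_antitone _ (by omega)))
    have ih' := ih (n - (i + 1)) (by omega) (i + 1) rfl (by omega)
    by_cases hy : ∃ y ∈ K, y ∈ lcsT G i ∧ y ∉ lcsT G (i + 1)
    swap
    · push Not at hy
      calc Nat.card ↥(K ⊓ lcsT G i) ≤ Nat.card ↥(K ⊓ lcsT G (i + 1)) :=
            card_le_of_le fun x hx => ⟨hx.1, hy x hx.1 hx.2⟩
        _ ≤ _ := ih'.trans (Nat.mul_le_mul_left _ hmono)
    obtain ⟨y, hyK, hy1, hy2⟩ := hy
    obtain ⟨e1, e2⟩ := H.pow_layer i hi y hy1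
    -- the layer of `K` has order at most `p`, that of `U` at least `p`
    haveI : (lcsT G (i + 1)).Normal := lcsT_normal _
    have hK : Nat.card ↥(K ⊓ lcsT G i) ≤ p * Nat.card ↥(K ⊓ lcsT G (i + 1)) := by
      have hle : K ⊓ lcsT G (i + 1) ≤ K ⊓ lcsT G i :=
        inf_le_inf_left _ (Subgroup.lowerCentralSeries_antitone _ i.le_succ)
      have h := relIndex_mul_relIndex (⊥ : Subgroup G) _ _ bot_le hle
      rw [relIndex_bot_left, relIndex_bot_left] at h
      rw [← h, mul_comm p]
      refine Nat.mul_le_mul_left _ ?_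
      have h1 : (K ⊓ lcsT G (i + 1)).relIndex (K ⊓ lcsT G i) =
          (lcsT G (i + 1)).relIndex (K ⊓ lcsT G i) := by
        conv_lhs => rw [show K ⊓ lcsT G (i + 1) = lcsT G (i + 1) ⊓ (K ⊓ lcsT G i) from by
          rw [inf_comm (lcsT G (i + 1)), inf_assoc,
            inf_eq_right.2 (Subgroup.lowerCentralSeries_antitone _ i.le_succ)]]
        exact inf_relIndex_right _ _
      have h2 : (lcsT G (i + 1)).relIndex (lcsT G i) = p := by
        have h2 := relIndex_mul_relIndex (⊥ : Subgroup G) (lcsT G (i + 1)) (lcsT G i) bot_le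
          (Subgroup.lowerCentralSeries_antitone _ i.le_succ)
        rw [relIndex_bot_left, relIndex_bot_left, H.card_lcs (by omega) (by omega),
          H.card_lcs hi (by omega), show n - 1 - i = n - 1 - (i + 1) + 1 by omega, pow_succ] at h2
        exact Nat.eq_of_mul_eq_mul_left (pow_pos hp.1.pos _) h2
      rw [h1, ← h2]
      exact relIndex_le_of_le_right inf_le_right (h2 ▸ hp.1.ne_zero)
    have hU' : p * Nat.card ↥(U ⊓ lcsT G (i + 1 + p - 1)) ≤
        Nat.card ↥(U ⊓ lcsT G (i + p - 1)) := by
      set A := U ⊓ lcsT G (i + 1 + p - 1) with hA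
      set B := U ⊓ lcsT G (i + p - 1) with hB
      have hle : A ≤ B := inf_le_inf_left _ (Subgroup.lowerCentralSeries_antitone _ (by omega))
      obtain ⟨a, ha⟩ := card_subgroup_eq_pow (IsPGroup.of_card H.card) A
      obtain ⟨b, hb⟩ := card_subgroup_eq_pow (IsPGroup.of_card H.card) B
      have hlt : Nat.card A < Nat.card B := lt_of_le_of_ne (card_le_of_le hle) fun e => by
        refine e2 hy2 hin ?_
        have := (eq_of_le_of_card_ge hle e.ge).ge ⟨hU y hyK, e1⟩
        rw [show i + p = i + 1 + p - 1 by omega]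
        exact this.2
      rw [ha, hb] at hlt ⊢
      rw [← pow_succ']
      exact Nat.pow_le_pow_right hp.1.pos ((Nat.pow_lt_pow_iff_right hp.1.one_lt).1 hlt)
    calc Nat.card ↥(K ⊓ lcsT G i) ≤ p * (p ^ (p - 1) * Nat.card ↥(U ⊓ lcsT G (i + 1 + p - 1))) :=
          hK.trans (Nat.mul_le_mul_left _ ih')
      _ = p ^ (p - 1) * (p * Nat.card ↥(U ⊓ lcsT G (i + 1 + p - 1))) := by ring
      _ ≤ _ := Nat.mul_le_mul_left _ hU'

end CfsgLib.PGroups.MaxClassPower
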