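/-
A group of maximal class of order at least `p ^ (p + 1)` has a `p`-th power outside the `p`-th
term of its lower central series.
-/
import Cfsg.Agent.Lib.PGroups.MaximalClassPower

set_option autoImplicit false
set_option linter.unusedSectionVars false

namespace CfsgLib.PGroups.MaxClassPower

open Subgroup Polynomial CfsgLib.PLocal CfsgLib.PGroups.Pearl CfsgLib.PGroups
open CfsgLib.FgsC.MaxClassSection
open scoped commutatorElement

universe u

namespace Wr

variable (p : ℕ) [hp : Fact p.Prime]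

/-- Fibrewise translation. -/
def tr (f : ZMod p → ZMod p) : Equiv.Perm (ZMod p × ZMod p) where
  toFun x := (x.1, x.2 + f x.1)
  invFun x := (x.1, x.2 - f x.1)
  left_inv x := by simp
  right_inv x := by simp

/-- Shift of the base. -/
def sh : Equiv.Perm (ZMod p × ZMod p) where
  toFun x := (x.1 + 1, x.2)
  invFun x := (x.1 - 1, x.2)
  left_inv x := by simp
  right_inv x := by simp

/-- The shift on functions. -/
def T : Module.End (ZMod p) (ZMod p → ZMod p) where
  toFun f i := f (i - 1)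
  map_add' _ _ := rfl
  map_smul' _ _ := rfl

/-- The difference operator. -/
def D : Module.End (ZMod p) (ZMod p → ZMod p) := 1 - T p

theorem tr_add (f h : ZMod p → ZMod p) : tr p (f + h) = tr p f * tr p h := by
  ext x <;> simp [tr, add_assoc, add_comm (f x.1)]

theorem tr_zero : tr p 0 = 1 := by
  ext x <;> simp [tr]

theorem tr_neg (f : ZMod p → ZMod p) : tr p (-f) = (tr p f)⁻¹ :=
  eq_inv_of_mul_eq_one_left (by rw [← tr_add, neg_add_cancel, tr_zero])

theorem tr_pow (f : ZMod p → ZMod p) (k : ℕ) : tr p f ^ k = tr p (k • f) := by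
  induction k with
  | zero => rw [pow_zero, zero_smul, tr_zero]
  | succ k ih => rw [pow_succ, ih, succ_nsmul, tr_add]

theorem sh_conj (f : ZMod p → ZMod p) : sh p * tr p f * (sh p)⁻¹ = tr p (T p f) := by
  rw [mul_inv_eq_iff_eq_mul]
  ext x <;> simp [tr, sh, T]

theorem comm_sh (f : ZMod p → ZMod p) : ⁅tr p f, sh p⁆ = tr p (D p f) := by
  rw [commutatorElement_def, mul_assoc, mul_assoc, ← mul_assoc (sh p), ← tr_neg, sh_conj,
    ← tr_add]
  congr 1
  rw [D, LinearMap.sub_apply, Module.End.one_apply, map_neg, ← sub_eq_add_neg]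

theorem T_pow (k : ℕ) (f : ZMod p → ZMod p) (i : ZMod p) : (T p ^ k) f i = f (i - k) := by
  induction k generalizing i with
  | zero => simp
  | succ k ih =>
    rw [pow_succ', Module.End.mul_apply]
    show (T p ^ k) f (i - 1) = _
    rw [ih, Nat.cast_succ, sub_sub, add_comm (1 : ZMod p)]

theorem D_pow_prime : D p ^ p = 0 := by
  haveI : CharP (Module.End (ZMod p) (ZMod p → ZMod p)) p :=
    charP_of_injective_ringHom (f := algebraMap (ZMod p) (Module.End (ZMod p) (ZMod p → ZMod p)))
      (RingHom.injective _) p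
  rw [D, sub_pow_char_of_commute p (Commute.one_left (T p)), one_pow, sub_eq_zero]
  refine LinearMap.ext fun f => funext fun i => ?_
  rw [T_pow, Module.End.one_apply, ZMod.natCast_self, sub_zero]

/-- The indicator of the origin. -/
def b : ZMod p → ZMod p := Pi.single 0 1

theorem pow_apply : ((tr p (b p) * sh p) ^ p) ((0 : ZMod p), (0 : ZMod p)) = (0, 1) := by
  have key : ∀ k < p, ((tr p (b p) * sh p) ^ k) ((0 : ZMod p), (0 : ZMod p)) = ((k : ZMod p), 0) := by
    intro k
    induction k with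
    | zero => intro _; simp
    | succ k ih =>
      intro hk
      rw [pow_succ', Equiv.Perm.mul_apply, ih (by omega)]
      have h0 : (k : ZMod p) + 1 ≠ 0 := by
        rw [← Nat.cast_succ]
        intro e
        rw [ZMod.natCast_eq_zero_iff] at e
        exact absurd (Nat.le_of_dvd (Nat.succ_pos k) e) (by omega)
      simp [tr, sh, b, h0]
  have hp1 := hp.1.pos
  have hsplit : (tr p (b p) * sh p) ^ p = (tr p (b p) * sh p) * (tr p (b p) * sh p) ^ (p - 1) := by
    rw [← pow_succ']; congr 1; omega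
  rw [hsplit, Equiv.Perm.mul_apply, key (p - 1) (by omega)]
  have h1 : ((p - 1 : ℕ) : ZMod p) + 1 = 0 := by
    rw [← Nat.cast_succ, show (p - 1).succ = p by omega, ZMod.natCast_self]
  simp [tr, sh, b, h1]

theorem sh_pow : sh p ^ p = 1 := by
  have key : ∀ (k : ℕ) (x : ZMod p × ZMod p), (sh p ^ k) x = (x.1 + k, x.2) := by
    intro k
    induction k with
    | zero => intro x; simp
    | succ k ih => intro x; rw [pow_succ', Equiv.Perm.mul_apply, ih]; simp [sh, add_assoc]
  refine Equiv.ext fun x => ?_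
  rw [key, ZMod.natCast_self, add_zero, Equiv.Perm.coe_one, id]

end Wr

open Wr

variable {G : Type u} [Group G] [Finite G] {p n : ℕ} [hp : Fact p.Prime]

/-- Commutation is linear in the first variable between two layers. -/
theorem comm_zpow_left {i : ℕ} {x u e : G} {m : ℤ} [(lcsT G (i + 2)).Normal]
    [(lcsT G (i + 1)).Normal] (hu : u ∈ lcsT G i) (he : e ∈ lcsT G i)
    (h : (u : G ⧸ lcsT G (i + 1)) = (e : G ⧸ lcsT G (i + 1)) ^ m) :
    ((⁅u, x⁆ : G) : G ⧸ lcsT G (i + 2)) = ((⁅e, x⁆ : G) : G ⧸ lcsT G (i + 2)) ^ m := by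
  have hcomm : ∀ {j : ℕ} {a : G}, a ∈ lcsT G j → ∀ y : G, ⁅a, y⁆ ∈ lcsT G (j + 1) :=
    fun ha y => (Subgroup.lowerCentralSeries_succ _ _).ge (commutator_mem_commutator ha (mem_top y))
  let φ : ↥(lcsT G i) →* G ⧸ lcsT G (i + 2) := MonoidHom.mk'
    (fun a => ((⁅(a : G), x⁆ : G) : G ⧸ lcsT G (i + 2))) (fun a c => by
      rw [Subgroup.coe_mul, show ⁅(a : G) * c, x⁆ = ⁅(a : G), ⁅(c : G), x⁆⁆ * ⁅(c : G), x⁆ * ⁅(a : G), x⁆ by
        simp only [commutatorElement_def]; group]
      have h1 : ⁅(a : G), ⁅(c : G), x⁆⁆ ∈ lcsT G (i + 2) := by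
        rw [← commutatorElement_inv]
        exact inv_mem (hcomm (hcomm c.2 x) _)
      rw [QuotientGroup.mk_mul, QuotientGroup.mk_mul, (QuotientGroup.eq_one_iff _).2 h1, one_mul]
      refine commutatorElement_eq_one_iff_mul_comm.1 ?_
      show ⁅QuotientGroup.mk' (lcsT G (i + 2)) _, QuotientGroup.mk' (lcsT G (i + 2)) _⁆ = _
      rw [← map_commutatorElement]
      exact (QuotientGroup.eq_one_iff _).2 (hcomm (hcomm c.2 x) _))
  have hd : u * (e ^ m)⁻¹ ∈ lcsT G (i + 1) := by
    rw [← QuotientGroup.eq_one_iff, QuotientGroup.mk_mul, QuotientGroup.mk_inv,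
      QuotientGroup.mk_zpow, h, mul_inv_cancel]
  have h2 : φ ⟨u, hu⟩ = φ (⟨u, hu⟩ * ((⟨e, he⟩ : ↥(lcsT G i)) ^ m)⁻¹) * φ ⟨e, he⟩ ^ m := by
    rw [← map_zpow, ← map_mul, inv_mul_cancel_right]
  have h3 : φ (⟨u, hu⟩ * ((⟨e, he⟩ : ↥(lcsT G i)) ^ m)⁻¹) = 1 :=
    (QuotientGroup.eq_one_iff _).2 (hcomm hd x)
  rw [h3, one_mul] at h2
  exact h2

/-- Commutation is linear in the second variable between two layers. -/
theorem comm_pow_right {i : ℕ} {x u : G} [(lcsT G (i + 2)).Normal] (hu : u ∈ lcsT G i) (k : ℕ) :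
    ((⁅u, x ^ k⁆ : G) : G ⧸ lcsT G (i + 2)) = ((⁅u, x⁆ : G) : G ⧸ lcsT G (i + 2)) ^ k := by
  have hcomm : ∀ {j : ℕ} {a : G}, a ∈ lcsT G j → ∀ y : G, ⁅a, y⁆ ∈ lcsT G (j + 1) :=
    fun ha y => (Subgroup.lowerCentralSeries_succ _ _).ge (commutator_mem_commutator ha (mem_top y))
  induction k with
  | zero => rw [pow_zero, pow_zero, commutatorElement_one_right, QuotientGroup.mk_one]
  | succ k ih =>
    have h1 : ⁅x, ⁅u, x ^ k⁆⁆ ∈ lcsT G (i + 2) := by
      rw [← commutatorElement_inv]
      exact inv_mem (hcomm (hcomm hu _) _)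
    rw [show ⁅u, x ^ (k + 1)⁆ = ⁅u, x⁆ * ⁅x, ⁅u, x ^ k⁆⁆ * ⁅u, x ^ k⁆ by
      simp only [commutatorElement_def, pow_succ']; group,
      QuotientGroup.mk_mul, QuotientGroup.mk_mul, (QuotientGroup.eq_one_iff _).2 h1, mul_one, ih,
      pow_succ']

/-- The iterated commutators of `g` with `s`. -/
def layerGen (g s : G) : ℕ → G
  | 0 => g
  | i + 1 => ⁅layerGen g s i, s⁆

theorem layerGen_mem (g s : G) : ∀ i, layerGen g s i ∈ lcsT G i
  | 0 => mem_top g
  | i + 1 => (Subgroup.lowerCentralSeries_succ _ _).ge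
      (commutator_mem_commutator (layerGen_mem g s i) (mem_top s))

/-- The elements of the product which are polynomial of degree at most `i` in the layer `i`. -/
def polyLayer (g s : G) (i : ℕ) [(lcsT G (i + 1)).Normal] :
    Subgroup ((ZMod p → G) × Equiv.Perm (ZMod p × ZMod p)) where
  carrier := {k | ∃ P : (ZMod p)[X], P.natDegree ≤ i ∧ P.coeff 0 = 0 ∧
    (∀ t, k.1 t ∈ lcsT G i ∧ ∃ m : ℤ, (m : ZMod p) = P.eval t ∧
      ((k.1 t : G) : G ⧸ lcsT G (i + 1)) =
        (QuotientGroup.mk (layerGen g s i) : G ⧸ lcsT G (i + 1)) ^ m) ∧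
    ∃ f, k.2 = tr p f ∧ f - P.coeff 1 • (D p ^ i) (b p) ∈ LinearMap.range (D p ^ (i + 1))}
  one_mem' := ⟨0, by simp, by simp, fun t => ⟨one_mem _, 0, by simp, (zpow_zero _).symm⟩, 0,
    (tr_zero p).symm, by simp⟩
  mul_mem' := by
    rintro k k' ⟨P, hP1, hP2, hPG, f, hf, hfr⟩ ⟨Q, hQ1, hQ2, hQG, f', hf', hfr'⟩
    refine ⟨P + Q, (natDegree_add_le _ _).trans (max_le hP1 hQ1), by simp [hP2, hQ2],
      fun t => ⟨mul_mem (hPG t).1 (hQG t).1, ?_⟩, f + f', by rw [tr_add, ← hf, ← hf']; rfl, ?_⟩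
    · obtain ⟨-, m, hm1, hm2⟩ := hPG t
      obtain ⟨-, m', hm1', hm2'⟩ := hQG t
      exact ⟨m + m', by simp [hm1, hm1'], (congrArg₂ (· * ·) hm2 hm2').trans (zpow_add _ m m').symm⟩
    · rw [coeff_add, add_smul, add_sub_add_comm]
      exact add_mem hfr hfr'
  inv_mem' := by
    rintro k ⟨P, hP1, hP2, hPG, f, hf, hfr⟩
    refine ⟨-P, by rwa [natDegree_neg], by simp [hP2], fun t => ⟨inv_mem (hPG t).1, ?_⟩, -f,
      by rw [tr_neg, ← hf]; rfl, ?_⟩
    · obtain ⟨-, m, hm1, hm2⟩ := hPG t
      exact ⟨-m, by simp [hm1], (congrArg (·⁻¹) hm2).trans (zpow_neg _ m).symm⟩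
    · rw [coeff_neg, neg_smul, ← neg_sub']
      exact neg_mem hfr

/-- A `p`-th power outside `γ_{p+1}` in a group of maximal class of order at least `p ^ (p + 1)`. -/
theorem exists_pow_not_mem {s : G} (H : Elt p n s) (hpn : p + 1 ≤ n) :
    ∃ x : G, x ^ p ∉ lcsT G p := by
  classical
  by_contra! hexp
  have hp2 := hp.1.two_le
  have h3 := H.three
  have HM : MC G p n := ⟨H.card, H.cls, H.three⟩
  haveI : ∀ i, (lcsT G i).Normal := lcsT_normal
  have hL1 : lcsT G 1 ≤ frattini G := by
    show (⊤ : Subgroup G).lowerCentralSeries 1 ≤ frattini G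
    rw [top_lowerCentralSeries_one]
    exact CfsgLib.PGroups.commutator_le_frattini (IsPGroup.of_card H.card)
  -- two generators
  obtain ⟨g, hg⟩ : ∃ g : G, g ∉ zpowers s ⊔ lcsT G 1 := by
    by_contra! h
    have hle : zpowers s ⊔ lcsT G 1 ≤ zpowers s ⊔ frattini G := sup_le_sup_left hL1 _
    have htop : zpowers s = ⊤ := frattini_nongenerating (eq_top_iff.2 fun x _ => hle (h x))
    have hC : centralizer ({s} : Set G) = ⊤ := eq_top_iff.2 (htop.ge.trans (zpowers_le.2
      (mem_centralizer_singleton_iff.2 rfl) |>.trans le_rfl))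
    have h1 := H.cent
    rw [hC, Subgroup.card_top, H.card] at h1
    have := Nat.pow_right_injective hp.1.two_le h1
    omega
  have hgen : closure ({g, s} : Set G) = ⊤ := by
    set K := closure ({g, s} : Set G) with hK
    set M := zpowers s ⊔ lcsT G 1 with hM
    have hgK : g ∈ K := subset_closure (Or.inl rfl)
    have hsK : s ∈ K := subset_closure (Or.inr rfl)
    have hML : lcsT G 1 < M := lt_of_le_of_ne le_sup_right fun e =>
      H.not_mem (e.ge (mem_sup_left (mem_zpowers s)))
    have hMK : M < K ⊔ lcsT G 1 := lt_of_le_of_ne (sup_le_sup_right (zpowers_le.2 hsK) _) fun e =>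
      hg (e.ge (mem_sup_left hgK))
    have hcard := fun (A B : Subgroup G) (h : A < B) => show p * Nat.card A ≤ Nat.card B from by
      obtain ⟨a, ha⟩ := card_subgroup_eq_pow (IsPGroup.of_card H.card) A
      obtain ⟨c, hc⟩ := card_subgroup_eq_pow (IsPGroup.of_card H.card) B
      have hlt : Nat.card A < Nat.card B := lt_of_le_of_ne (card_le_of_le h.le) fun e =>
        h.ne (eq_of_le_of_card_ge h.le e.ge)
      rw [ha, hc] at hlt ⊢
      rw [← pow_succ']
      exact Nat.pow_le_pow_right hp.1.pos ((Nat.pow_lt_pow_iff_right hp.1.one_lt).1 hlt)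
    have h1 := (Nat.mul_le_mul_left p (hcard _ _ hML)).trans (hcard _ _ hMK)
    rw [H.card_lcs le_rfl (by omega), ← pow_succ', ← pow_succ',
      show n - 1 - 1 + 1 + 1 = n by omega, ← H.card] at h1
    exact frattini_nongenerating (eq_top_iff.2 ((eq_top_of_le_card _ h1).ge.trans
      (sup_le_sup_left hL1 _)))
  set e := layerGen g s with he
  have he1 : e 1 ∉ lcsT G 2 := by
    intro h
    refine (HM.lcs_lt (i := 1) (by omega)).not_ge ?_
    show ⁅(⊤ : Subgroup G), ⊤⁆ ≤ lcsT G 2
    set π := QuotientGroup.mk' (lcsT G 2)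
    have hc : Commute (π g) (π s) := by
      rw [← commutatorElement_eq_one_iff_commute, ← map_commutatorElement]
      exact (QuotientGroup.eq_one_iff _).2 h
    have hall : ∀ x y : G, Commute (π x) (π y) := by
      have h0 : ∀ x : G, Commute (π x) (π g) ∧ Commute (π x) (π s) := by
        intro x
        induction (hgen ▸ mem_top x : x ∈ closure ({g, s} : Set G)) using closure_induction with
        | mem a ha =>
          rcases ha with rfl | rfl
          · exact ⟨Commute.refl _, hc⟩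
          · exact ⟨hc.symm, Commute.refl _⟩
        | one => exact ⟨by rw [map_one]; exact Commute.one_left _, by rw [map_one]; exact Commute.one_left _⟩
        | mul a c _ _ ha hc' => rw [map_mul]; exact ⟨ha.1.mul_left hc'.1, ha.2.mul_left hc'.2⟩
        | inv a _ ha => rw [map_inv]; exact ⟨ha.1.inv_left, ha.2.inv_left⟩
      intro x y
      induction (hgen ▸ mem_top y : y ∈ closure ({g, s} : Set G)) using closure_induction with
      | mem a ha =>
        rcases ha with rfl | rfl
        · exact (h0 x).1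
        · exact (h0 x).2
      | one => rw [map_one]; exact Commute.one_right _
      | mul a c _ _ ha hc' => rw [map_mul]; exact ha.mul_right hc'
      | inv a _ ha => rw [map_inv]; exact ha.inv_right
    refine commutator_le.2 fun x _ y _ => (QuotientGroup.eq_one_iff _).1 ?_
    show π ⁅x, y⁆ = 1
    rw [map_commutatorElement, commutatorElement_eq_one_iff_commute]
    exact hall x y
  have hein : ∀ i, e i ∈ lcsT G i := layerGen_mem g s
  have henot : ∀ i, 1 ≤ i → i ≤ n - 2 → e i ∉ lcsT G (i + 1) := by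
    intro i hi
    induction i, hi using Nat.le_induction with
    | base => exact fun _ => he1
    | succ i hi ih => exact fun hin => H.layer hi (by omega) (hein i) (ih (by omega))
  -- orders in the layers
  have hord : ∀ i, 1 ≤ i → i ≤ n - 2 → ∀ x ∈ lcsT G i,
      ∃ m : ℤ, (x : G ⧸ lcsT G (i + 1)) = (e i : G ⧸ lcsT G (i + 1)) ^ m := by
    intro i hi hin x hx
    set π := QuotientGroup.mk' (lcsT G (i + 1))
    have hcard : Nat.card ((lcsT G i).map π) = p := by
      have h1 := Subgroup.relIndex_ker (f := π) (lcsT G i)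
      rw [QuotientGroup.ker_mk'] at h1
      have h2 := relIndex_mul_relIndex (⊥ : Subgroup G) (lcsT G (i + 1)) (lcsT G i) bot_le
        (Subgroup.lowerCentralSeries_antitone _ i.le_succ)
      rw [relIndex_bot_left, relIndex_bot_left, H.card_lcs (by omega) (by omega),
        H.card_lcs hi (by omega), show n - 1 - i = n - 1 - (i + 1) + 1 by omega, pow_succ] at h2
      rw [← h1]
      exact Nat.eq_of_mul_eq_mul_left (pow_pos hp.1.pos _) h2
    obtain ⟨m, hm⟩ := mem_zpowers_iff.1 (mem_zpowers_of_prime_card hcard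
      (g := (⟨π (e i), e i, hein i, rfl⟩ : (lcsT G i).map π)) (g' := ⟨π x, x, hx, rfl⟩)
      (fun h => henot i hi hin ((QuotientGroup.eq_one_iff _).1 (congrArg Subtype.val h))))
    exact ⟨m, (congrArg Subtype.val hm).symm⟩
  -- the product group
  set y : (ZMod p → G) × Equiv.Perm (ZMod p × ZMod p) := (fun t => g ^ t.val, tr p (b p)) with hy
  set z : (ZMod p → G) × Equiv.Perm (ZMod p × ZMod p) := (fun _ => s, sh p) with hz
  set K0 := closure ({y, z} : Set ((ZMod p → G) × Equiv.Perm (ZMod p × ZMod p))) with hK0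
  let Y : ↥K0 := ⟨y, subset_closure (Or.inl rfl)⟩
  let Z : ↥K0 := ⟨z, subset_closure (Or.inr rfl)⟩
  have hgenK : ∀ (q : ↥K0 → Prop), q 1 → q Y → q Z → (∀ a c, q a → q c → q (a * c)) →
      ∀ a, q a := by
    intro q q1 qY qZ qmul a
    obtain ⟨a, ha⟩ := a
    have ha' : a ∈ Submonoid.closure ({y, z} : Set ((ZMod p → G) × Equiv.Perm (ZMod p × ZMod p))) := by
      rw [← Subgroup.closure_toSubmonoid_of_finite]; exact ha
    clear hexp
    induction ha' using Submonoid.closure_induction with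
    | mem c hc =>
      rcases hc with rfl | rfl
      · exact qY
      · exact qZ
    | one => exact q1
    | mul c d hc hd ihc ihd =>
      have hc' : c ∈ K0 := by rw [hK0, ← Subgroup.mem_toSubmonoid, Subgroup.closure_toSubmonoid_of_finite]; exact hc
      have hd' : d ∈ K0 := by rw [hK0, ← Subgroup.mem_toSubmonoid, Subgroup.closure_toSubmonoid_of_finite]; exact hd
      exact qmul ⟨c, hc'⟩ ⟨d, hd'⟩ (ihc hc') (ihd hd')
  let S : ℕ → Subgroup ↥K0 := fun i => (polyLayer (p := p) g s i).subgroupOf K0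
  have hSn : ∀ i, ∀ h k : ↥K0, k ∈ S i → h * k * h⁻¹ ∈ S i := by
    intro i h
    refine hgenK (fun h => ∀ k, k ∈ S i → h * k * h⁻¹ ∈ S i) (fun k hk => by simpa using hk)
      ?_ ?_ (fun a c ha hc k hk => by
        have := ha _ (hc k hk)
        convert this using 1
        group) h
    all_goals intro k hk
    all_goals obtain ⟨P, hP1, hP2, hPG, f, hf, hfr⟩ := (hk : k.1 ∈ polyLayer (p := p) g s i)
    all_goals refine ⟨P, hP1, hP2, fun t => ?_, ?_⟩
    · obtain ⟨hin, m, hm1, hm2⟩ := hPG t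
      refine ⟨(lcsT_normal i).conj_mem _ hin _, m, hm1, ?_⟩
      rw [← hm2]
      refine (QuotientGroup.eq_iff_div_mem).2 ?_
      rw [div_eq_mul_inv]
      show ⁅g ^ t.val, k.1.1 t⁆ ∈ _
      rw [← commutatorElement_inv, inv_mem_iff]
      exact (Subgroup.lowerCentralSeries_succ _ _).ge (commutator_mem_commutator hin (mem_top _))
    · refine ⟨f, ?_, hfr⟩
      show tr p (b p) * k.1.2 * (tr p (b p))⁻¹ = _
      rw [show k.1.2 = tr p f from hf, ← tr_neg, ← tr_add, ← tr_add, add_neg_cancel_comm]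
    · obtain ⟨hin, m, hm1, hm2⟩ := hPG t
      refine ⟨(lcsT_normal i).conj_mem _ hin _, m, hm1, ?_⟩
      rw [← hm2]
      refine (QuotientGroup.eq_iff_div_mem).2 ?_
      rw [div_eq_mul_inv]
      show ⁅s, k.1.1 t⁆ ∈ _
      rw [← commutatorElement_inv, inv_mem_iff]
      exact (Subgroup.lowerCentralSeries_succ _ _).ge (commutator_mem_commutator hin (mem_top _))
    · refine ⟨T p f, ?_, ?_⟩
      · show sh p * k.1.2 * (sh p)⁻¹ = _
        rw [show k.1.2 = tr p f from hf, sh_conj]
      · have hT : T p f = f - D p f := by rw [D, LinearMap.sub_apply, Module.End.one_apply, sub_sub_cancel]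
        obtain ⟨v, hv⟩ := hfr
        rw [hT, sub_right_comm]
        refine sub_mem ⟨v, hv⟩ ⟨P.coeff 1 • b p + D p v, ?_⟩
        rw [map_add, map_smul, ← Module.End.mul_apply, ← pow_succ, pow_succ' (D p) (i + 1),
          Module.End.mul_apply, hv, pow_succ' (D p) i, Module.End.mul_apply, map_sub, map_smul,
          add_sub_cancel]
  have hSle : ∀ i, 1 ≤ i → i ≤ p - 1 → lcsT (↥K0) i ≤ S i := by
    intro i hi
    induction i, hi using Nat.le_induction with
    | base =>
      intro _
      show ⁅(⊤ : Subgroup ↥K0), ⊤⁆ ≤ S 1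
      have hYZ : ⁅Y, Z⁆ ∈ S 1 := by
        refine ⟨Polynomial.X, natDegree_X_le, coeff_X_zero, fun t => ?_, D p (b p), comm_sh p (b p),
          ?_⟩
        · refine ⟨(Subgroup.lowerCentralSeries_succ _ _).ge
            (commutator_mem_commutator (mem_top _) (mem_top _)), (t.val : ℤ), by simp, ?_⟩
          exact comm_zpow_left (i := 0) (x := s) (mem_top (g ^ t.val)) (mem_top g)
            (by rw [zpow_natCast, QuotientGroup.mk_pow]; rfl)
        · rw [pow_one, coeff_X_one, one_smul, sub_self]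
          exact zero_mem _
      have hcl : ∀ a d q : ↥K0, ⁅a * d, q⁆ = (a * ⁅d, q⁆ * a⁻¹) * ⁅a, q⁆ := fun a d q => by
        simp only [commutatorElement_def]; group
      refine commutator_le.2 fun a _ c _ => ?_
      refine hgenK (fun c => ∀ a, ⁅a, c⁆ ∈ S 1) (fun a => by
        rw [commutatorElement_one_right]; exact one_mem _) ?_ ?_ (fun c d hc hd a => by
        rw [show ⁅a, c * d⁆ = ⁅a, c⁆ * (c * ⁅a, d⁆ * c⁻¹) by simp only [commutatorElement_def]; group]
        exact mul_mem (hc a) (hSn 1 _ _ (hd a))) c a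
      all_goals intro a
      all_goals refine hgenK (fun a => ⁅a, _⁆ ∈ S 1) (by
        rw [commutatorElement_one_left]; exact one_mem _) ?_ ?_ (fun a d ha hd => by
        rw [hcl]
        exact mul_mem (hSn 1 _ _ hd) ha) a
      · rw [commutatorElement_self]; exact one_mem _
      · rw [← commutatorElement_inv]; exact inv_mem hYZ
      · exact hYZ
      · rw [commutatorElement_self]; exact one_mem _
    | succ i hi ih =>
      intro hip
      show ⁅lcsT (↥K0) i, (⊤ : Subgroup ↥K0)⁆ ≤ S (i + 1)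
      refine commutator_le.2 fun k hk c _ => ?_
      obtain ⟨P, hP1, hP2, hPG, f, hf, hfr⟩ := (ih (by omega) hk : k.1 ∈ polyLayer (p := p) g s i)
      refine hgenK (fun c => ⁅k, c⁆ ∈ S (i + 1)) (by rw [commutatorElement_one_right]; exact one_mem _)
        ?_ ?_ (fun c d hc hd => by
        rw [show ⁅k, c * d⁆ = ⁅k, c⁆ * (c * ⁅k, d⁆ * c⁻¹) by simp only [commutatorElement_def]; group]
        exact mul_mem hc (hSn _ _ _ hd)) c
      · obtain ⟨a, ha⟩ := hord (i + 1) (by omega) (by omega) ⁅e i, g⁆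
          ((Subgroup.lowerCentralSeries_succ _ _).ge (commutator_mem_commutator (hein i) (mem_top g)))
        refine ⟨Polynomial.C (a : ZMod p) * Polynomial.X * P, ?_, by simp [hP2, mul_assoc],
          fun t => ?_, 0, ?_, ?_⟩
        · refine natDegree_mul_le.trans ?_
          have := (natDegree_C_mul_le (a : ZMod p) (Polynomial.X : (ZMod p)[X])).trans natDegree_X_le
          omega
        · obtain ⟨hin, m, hm1, hm2⟩ := hPG t
          refine ⟨(Subgroup.lowerCentralSeries_succ _ _).ge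
            (commutator_mem_commutator hin (mem_top _)), a * m * (t.val : ℤ), ?_, ?_⟩
          · simp [hm1, mul_assoc, mul_comm (P.eval t)]
          · show ((⁅k.1.1 t, g ^ t.val⁆ : G) : G ⧸ lcsT G (i + 2)) = _
            refine (comm_pow_right hin _).trans ?_
            rw [comm_zpow_left hin (hein i) hm2, ha, ← zpow_mul, ← zpow_natCast, ← zpow_mul]
        · show ⁅k.1.2, tr p (b p)⁆ = _
          rw [show k.1.2 = tr p f from hf, commutatorElement_def, ← tr_neg, ← tr_neg,
            ← tr_add, ← tr_add, ← tr_add]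
          congr 1
          abel
        · rw [mul_assoc, coeff_C_mul, coeff_X_mul, hP2, mul_zero, zero_smul, sub_zero]
          exact zero_mem _
      · refine ⟨P, hP1.trans (Nat.le_succ i), hP2, fun t => ?_, D p f, ?_, ?_⟩
        · obtain ⟨hin, m, hm1, hm2⟩ := hPG t
          exact ⟨(Subgroup.lowerCentralSeries_succ _ _).ge
            (commutator_mem_commutator hin (mem_top _)), m, hm1, comm_zpow_left hin (hein i) hm2⟩
        · show ⁅k.1.2, sh p⁆ = _
          rw [show k.1.2 = tr p f from hf, comm_sh]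
        · obtain ⟨v, hv⟩ := hfr
          refine ⟨v, ?_⟩
          rw [pow_succ' _ (i + 1), Module.End.mul_apply, hv, map_sub, map_smul, pow_succ' _ i,
            Module.End.mul_apply]
  -- Hall–Petrescu
  let U : Subgroup ↥K0 :=
    { carrier := {k | (∀ t, k.1.1 t ∈ lcsT G p) ∧ k.1.2 = 1}
      one_mem' := ⟨fun _ => one_mem _, rfl⟩
      mul_mem' := fun ha hc => ⟨fun t => mul_mem (ha.1 t) (hc.1 t), by simp [ha.2, hc.2]⟩
      inv_mem' := fun ha => ⟨fun t => inv_mem (ha.1 t), by simp [ha.2]⟩ }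
  have hU : ∀ x ∈ commutator (↥K0), x ^ p ∈ U := by
    intro x hx
    rw [← top_lowerCentralSeries_one] at hx
    obtain ⟨-, -, -, -, f, hf, -⟩ := (hSle 1 le_rfl (by omega) hx : x.1 ∈ polyLayer (p := p) g s 1)
    refine ⟨fun t => hexp _, ?_⟩
    show x.1.2 ^ p = 1
    rw [show x.1.2 = tr p f from hf, tr_pow, ← Nat.cast_smul_eq_nsmul (ZMod p),
      ZMod.natCast_self, zero_smul, tr_zero]
  obtain ⟨u, hu, w, hw, huw⟩ := hall_petrescu hp.1 U hU Y Z
  obtain ⟨P, hP1, hP2, hPG, f, hf, hfr⟩ :=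
    (hSle (p - 1) (by omega) le_rfl hw : w.1 ∈ polyLayer (p := p) g s (p - 1))
  have hP0 : P = 0 := by
    refine eq_zero_of_natDegree_lt_card_of_eval_eq_zero P (f := fun t : ZMod p => t)
      Function.injective_id (fun t => ?_) (by rw [ZMod.card]; omega)
    obtain ⟨-, m, hm1, hm2⟩ := hPG t
    have hwt : w.1.1 t ∈ lcsT G p := by
      have := congrArg (fun k : ↥K0 => k.1.1 t) huw
      change (g ^ t.val * s) ^ p = (g ^ t.val) ^ p * s ^ p * (u.1.1 t * w.1.1 t)
        at this
      have h1 : (g ^ t.val) ^ p * s ^ p * (u.1.1 t * w.1.1 t) ∈ lcsT G p :=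
        this ▸ hexp _
      exact (mul_mem_cancel_left (hu.1 t)).1
        ((mul_mem_cancel_left (mul_mem (hexp _) (hexp _))).1 h1)
    have hbot : lcsT G (p - 1 + 1) = lcsT G p := by rw [show p - 1 + 1 = p by omega]
    rw [(QuotientGroup.eq_one_iff _).2 (hbot ▸ hwt)] at hm2
    rw [← hm1, ZMod.intCast_zmod_eq_zero_iff_dvd]
    have hne : (e (p - 1) : G ⧸ lcsT G (p - 1 + 1)) ≠ 1 := fun h =>
      henot (p - 1) (by omega) (by omega) ((QuotientGroup.eq_one_iff _).1 h)
    have hpow : (e (p - 1) : G ⧸ lcsT G (p - 1 + 1)) ^ p = 1 := by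
      rw [← QuotientGroup.mk_pow, QuotientGroup.eq_one_iff, hbot]
      exact hexp _
    rw [← orderOf_eq_prime hpow hne]
    exact orderOf_dvd_iff_zpow_eq_one.2 hm2.symm
  rw [hP0, coeff_zero, zero_smul, sub_zero, show p - 1 + 1 = p by omega, D_pow_prime,
    LinearMap.range_zero, Submodule.mem_bot] at hfr
  have h := congrArg (fun k : ↥K0 => k.1.2) huw
  change (tr p (b p) * sh p) ^ p = tr p (b p) ^ p * sh p ^ p * (u.1.2 * w.1.2) at h
  rw [hu.2, show w.1.2 = tr p f from hf, hfr, tr_zero, one_mul, mul_one, sh_pow, mul_one, tr_pow,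
    ← Nat.cast_smul_eq_nsmul (ZMod p), ZMod.natCast_self, zero_smul, tr_zero] at h
  have := pow_apply p
  rw [h] at this
  simp at this

end CfsgLib.PGroups.MaxClassPower
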