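import Mathlib
import Cfsg.Agent.Lib.PGroups.MaximalClassPower
import Cfsg.Agent.Lib.PGroups.MaximalClassExponent

/-!
# The two-step centralisers of a group of maximal class

In a group of maximal class of order `p ^ n` the two-step centralisers below the last one all
coincide with the first (Blackburn), and if the last one differs from them then `n` is even.
-/

set_option autoImplicit false
set_option linter.unusedSectionVars false

namespace CfsgLib.PGroups.TwoStepConst

open Subgroup CfsgLib.PLocal CfsgLib.PGroups.Pearl CfsgLib.PGroups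
open CfsgLib.FgsC.MaxClassSection CfsgLib.PGroups.MaxClassPower
open scoped commutatorElement

universe u

variable {G : Type u} [Group G] [Finite G] {p n : ℕ} [hp : Fact p.Prime]

omit [Finite G] hp in
theorem comm_succ {i : ℕ} {a : G} (ha : a ∈ lcsT G i) (y : G) : ⁅a, y⁆ ∈ lcsT G (i + 1) :=
  (Subgroup.lowerCentralSeries_succ _ _).ge (commutator_mem_commutator ha (mem_top y))

omit [Finite G] hp in
theorem comm_succ' {i : ℕ} {a : G} (ha : a ∈ lcsT G i) (y : G) : ⁅y, a⁆ ∈ lcsT G (i + 1) := by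
  rw [← commutatorElement_inv]
  exact inv_mem (comm_succ ha y)

omit [Finite G] hp in
theorem comm_add {i j k : ℕ} {a b : G} (ha : a ∈ lcsT G i) (hb : b ∈ lcsT G j)
    (hk : k ≤ i + j + 1) : ⁅a, b⁆ ∈ lcsT G k :=
  Subgroup.lowerCentralSeries_antitone _ hk
    (commutator_lowerCentralSeries_le _ _ (commutator_mem_commutator ha hb))

omit [Finite G] hp in
theorem mem_anti {i j : ℕ} {a : G} (h : j ≤ i) (ha : a ∈ lcsT G i) : a ∈ lcsT G j :=
  Subgroup.lowerCentralSeries_antitone _ h ha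

/-- The derived group centralises each layer. -/
theorem lcs_one_le (i : ℕ) : lcsT G 1 ≤ twoStepCentralizer G i := fun _ hx =>
  mem_twoStepCentralizer.2 fun _ ha => comm_add ha hx le_rfl

variable (H : MC G p n)
include H

theorem exists_layer {i : ℕ} (hi : i + 1 ≤ n - 1) : ∃ y ∈ lcsT G i, y ∉ lcsT G (i + 1) :=
  SetLike.not_le_iff_exists.1 fun h => (H.lcs_lt hi).not_ge h

/-- A two-step centraliser together with an element outside it gives everything. -/
theorem exists_mul_pow_mem {i : ℕ} (hi : 1 ≤ i) (hin : i + 2 ≤ n - 1) {g : G}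
    (hg : g ∉ twoStepCentralizer G i) (x : G) : ∃ k : ℕ, x * g ^ k ∈ twoStepCentralizer G i := by
  obtain ⟨y, hy, hy'⟩ := exists_layer H (i := i) (by omega)
  haveI : (lcsT G (i + 2)).Normal := lcsT_normal _
  set π := QuotientGroup.mk' (lcsT G (i + 2)) with hπ
  have hne : π ⁅y, g⁆ ≠ 1 := fun h =>
    H.layer_not_mem hi hin hg hy hy' ((QuotientGroup.eq_one_iff _).1 h)
  set L := (lcsT G (i + 1)).map π with hL
  have hLc : Nat.card L = p := by
    have h1 := H.layer_card (i := i + 1) (by omega) (by omega)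
    have h2 : Nat.card (lcsT G (i + 2)) * Nat.card L = Nat.card (lcsT G (i + 1)) := by
      have h3 := Subgroup.relIndex_mul_relIndex ⊥ (lcsT G (i + 2)) (lcsT G (i + 1)) bot_le
        (Subgroup.lowerCentralSeries_antitone _ (Nat.le_succ _))
      rw [Subgroup.relIndex_bot_left, Subgroup.relIndex_bot_left] at h3
      rwa [hL, ← Subgroup.relIndex_ker, hπ, QuotientGroup.ker_mk']
    exact Nat.eq_of_mul_eq_mul_left Nat.card_pos (h2.trans h1)
  have hgen : ∀ z ∈ lcsT G (i + 1), ∃ k : ℕ, π ⁅y, g⁆ ^ k = π z := fun z hz => by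
    have h1 : (⟨π z, ⟨z, hz, rfl⟩⟩ : L) ∈
        Subgroup.zpowers (⟨π ⁅y, g⁆, ⟨_, comm_succ hy g, rfl⟩⟩ : L) := by
      haveI : Fact (Nat.card L).Prime := ⟨by rw [hLc]; exact hp.1⟩
      rw [zpowers_eq_top_of_prime_card rfl (fun h => hne (congrArg Subtype.val h))]
      exact mem_top _
    obtain ⟨k, hk⟩ := mem_powers_iff_mem_zpowers.2 h1
    exact ⟨k, congrArg Subtype.val hk⟩
  obtain ⟨k, hk⟩ := hgen _ (inv_mem (comm_succ hy x))
  refine ⟨k, ?_⟩
  by_contra hxg
  refine H.layer_not_mem hi hin hxg hy hy' ((QuotientGroup.eq_one_iff _).1 ?_)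
  have h1 : π ⁅y, g ^ k⁆ = π ⁅y, g⁆ ^ k := comm_pow_right hy k
  have h2 : ⁅y, x * g ^ k⁆ = ⁅y, x⁆ * ⁅x, ⁅y, g ^ k⁆⁆ * ⁅y, g ^ k⁆ := by
    simp only [commutatorElement_def]; group
  show π ⁅y, x * g ^ k⁆ = 1
  rw [h2, map_mul, map_mul, h1, hk, show π ⁅x, ⁅y, g ^ k⁆⁆ = 1 from
    (QuotientGroup.eq_one_iff _).2 (comm_succ' (comm_succ hy _) x), mul_one, map_inv,
    mul_inv_cancel]

/-- A two-step centraliser has order `p ^ (n - 1)` at most and strictly contains `G'`. -/
theorem card_twoStep {i : ℕ} (hi : 1 ≤ i) (hin : i + 2 ≤ n - 1) :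
    Nat.card (twoStepCentralizer G i) = p ^ (n - 1) := by
  have hne := H.twoStep_ne_top (i := i) hin
  obtain ⟨g, hg⟩ : ∃ g, g ∉ twoStepCentralizer G i := by
    by_contra! h
    exact hne (eq_top_iff.2 fun g _ => h g)
  have hlt : lcsT G 1 < twoStepCentralizer G i := by
    refine lt_of_le_of_ne (lcs_one_le i) fun h => ?_
    have hcov : ∀ x : G, x ∈ lcsT G 1 ⊔ zpowers g := fun x => by
      obtain ⟨k, hk⟩ := exists_mul_pow_mem H hi hin hg x
      rw [← h] at hk
      have h2 := mul_mem (mem_sup_left hk : x * g ^ k ∈ lcsT G 1 ⊔ zpowers g)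
        (inv_mem (mem_sup_right (pow_mem (mem_zpowers g) k)))
      rwa [mul_inv_cancel_right] at h2
    have htop : zpowers g ⊔ commutator G = ⊤ := by
      rw [sup_comm, ← top_lowerCentralSeries_one, eq_top_iff]
      exact fun x _ => hcov x
    have hg1 : zpowers g = ⊤ := frattini_nongenerating (eq_top_iff.2 (htop.ge.trans
      (sup_le_sup_left (commutator_le_frattini (IsPGroup.of_card H.card)) _)))
    exact H.twoStep_ne_top (i := i) hin (eq_top_iff.2 fun x _ => by
      refine mem_twoStepCentralizer.2 fun a _ => ?_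
      obtain ⟨j, rfl⟩ := mem_zpowers_iff.1 (hg1.ge (mem_top x))
      obtain ⟨l, rfl⟩ := mem_zpowers_iff.1 (hg1.ge (mem_top a))
      rw [commutatorElement_eq_one_iff_commute.2 ((Commute.refl g).zpow_zpow l j)]
      exact one_mem _)
  obtain ⟨a, ha⟩ := card_subgroup_eq_pow (IsPGroup.of_card H.card) (twoStepCentralizer G i)
  have h1 : Nat.card (lcsT G 1) < Nat.card (twoStepCentralizer G i) :=
    lt_of_le_of_ne (card_le_of_le hlt.le) fun h => hlt.ne (eq_of_le_of_card_ge hlt.le h.ge)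
  have h2 : Nat.card (twoStepCentralizer G i) < Nat.card G :=
    lt_of_le_of_ne (card_le_card_group _) fun h => hne (card_eq_iff_eq_top _ |>.1 h)
  rw [ha, H.card_lcs le_rfl (by omega)] at h1
  rw [ha, H.card] at h2
  have h1' := (Nat.pow_lt_pow_iff_right hp.1.one_lt).1 h1
  have h2' := (Nat.pow_lt_pow_iff_right hp.1.one_lt).1 h2
  rw [ha, show a = n - 1 by omega]

theorem twoStep_eq_of_le {i j : ℕ} (hi : 1 ≤ i) (hin : i + 2 ≤ n - 1) (hj : 1 ≤ j)
    (hjn : j + 2 ≤ n - 1) (h : twoStepCentralizer G i ≤ twoStepCentralizer G j) :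
    twoStepCentralizer G i = twoStepCentralizer G j :=
  eq_of_le_of_card_ge h (by rw [card_twoStep H hi hin, card_twoStep H hj hjn])

/-- An element of two different two-step centralisers lies in `G'`. -/
theorem mem_lcs_one {i j : ℕ} (hi : 1 ≤ i) (hin : i + 2 ≤ n - 1) (hj : 1 ≤ j)
    (hjn : j + 2 ≤ n - 1) (hne : twoStepCentralizer G i ≠ twoStepCentralizer G j) {x : G}
    (h1 : x ∈ twoStepCentralizer G i) (h2 : x ∈ twoStepCentralizer G j) : x ∈ lcsT G 1 := by
  by_contra hx
  set K := twoStepCentralizer G i ⊓ twoStepCentralizer G j with hK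
  have hle : lcsT G 1 < K := lt_of_le_of_ne (le_inf (lcs_one_le i) (lcs_one_le j))
    fun h => hx (h ▸ ⟨h1, h2⟩)
  obtain ⟨a, ha⟩ := card_subgroup_eq_pow (IsPGroup.of_card H.card) K
  have h3 : Nat.card (lcsT G 1) < Nat.card K :=
    lt_of_le_of_ne (card_le_of_le hle.le) fun h => hle.ne (eq_of_le_of_card_ge hle.le h.ge)
  rw [ha, H.card_lcs le_rfl (by omega)] at h3
  have h3' := (Nat.pow_lt_pow_iff_right hp.1.one_lt).1 h3
  have h4 : ∀ l, 1 ≤ l → l + 2 ≤ n - 1 → K ≤ twoStepCentralizer G l →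
      K = twoStepCentralizer G l := fun l hl hln h =>
    eq_of_le_of_card_ge h (by
      rw [card_twoStep H hl hln, ha]
      exact Nat.pow_le_pow_right hp.1.pos (by omega))
  exact hne ((h4 i hi hin inf_le_left).symm.trans (h4 j hj hjn inf_le_right))

/-- The first two layers: an element `s` outside all centralisers and `t ∈ C₁` whose commutator
generates `G'` modulo the next term. -/
theorem exists_pair {s : G} (E : Elt p n s) (hn : 4 ≤ n) :
    ∃ t ∈ twoStepCentralizer G 1, t ∉ lcsT G 1 ∧ ⁅t, s⁆ ∈ lcsT G 1 ∧ ⁅t, s⁆ ∉ lcsT G 2 := by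
  obtain ⟨y, hy, hy'⟩ := exists_layer H (i := 1) (by omega)
  obtain ⟨g, hg⟩ := E.exists_conj hy
  have hs1 : s ∉ twoStepCentralizer G 1 := fun h =>
    E.layer le_rfl (by omega) hy hy' (mem_twoStepCentralizer.1 h y hy)
  obtain ⟨k, hk⟩ := exists_mul_pow_mem H le_rfl (by omega) hs1 g
  have hgy : ⁅g, s⁆ = y := by rw [commutatorElement_def, hg, mul_inv_cancel_right]
  have he : ⁅g * s ^ k, s⁆ = y := by
    rw [← hgy, commutatorElement_def, commutatorElement_def]
    calc g * s ^ k * s * (g * s ^ k)⁻¹ * s⁻¹ = g * (s ^ k * s * (s ^ k)⁻¹) * g⁻¹ * s⁻¹ := by group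
      _ = g * s * g⁻¹ * s⁻¹ := by rw [((Commute.refl s).pow_left k).eq, mul_inv_cancel_right]
  exact ⟨_, hk, fun h => hy' (he ▸ comm_succ h s), he ▸ hy, he ▸ hy'⟩

omit H in
/-- The chain `t, [t⁻¹, s], …` starting with a generator of `C₁`. -/
theorem exists_chain (H : MC G p n) (hn : 4 ≤ n) : ∃ (s : G) (t : ℕ → G), Elt p n s ∧
    t 0 ∈ twoStepCentralizer G 1 ∧ t 0 ∉ lcsT G 1 ∧
    (∀ i, t i ∈ lcsT G i) ∧ (∀ i, 1 ≤ i → i + 1 ≤ n - 1 → t i ∉ lcsT G (i + 1)) ∧
    ∀ i, s * t i * s⁻¹ = t i * t (i + 1) := by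
  obtain ⟨s, E⟩ := exists_elt n G H
  obtain ⟨g, hgA, hg1, hg2, hg3⟩ := exists_pair H E hn
  refine ⟨s, fun i => iterComm s g⁻¹ i, E, inv_mem hgA, fun h => hg1 (inv_mem_iff.1 h),
    fun i => mem_anti (by omega : i ≤ 0 + i) (iterComm_mem (by simp [lcsT]) i), fun i hi hin => ?_,
    fun i => ?_⟩
  · obtain ⟨j, rfl⟩ : ∃ j, i = j + 1 := ⟨i - 1, by omega⟩
    show iterComm s g⁻¹ (j + 1) ∉ _
    rw [iterComm, Function.iterate_succ_apply, inv_inv]
    have h := E.iterComm_not_mem le_rfl hg2 hg3 j (by omega)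
    rwa [show 1 + j + 1 = j + 1 + 1 by ring] at h
  · show _ = iterComm s g⁻¹ i * iterComm s g⁻¹ (i + 1)
    simp only [iterComm, Function.iterate_succ_apply']
    simp only [commutatorElement_def]
    group

omit H [Finite G] hp in
/-- Conjugating a commutator of two members of the chain. -/
theorem chain_rel {N : Subgroup G} [N.Normal] {s a b c d : G} (ha : s * a * s⁻¹ = a * b)
    (hc : s * c * s⁻¹ = c * d) (h1 : ∀ g, ⁅⁅a, d⁆, g⁆ ∈ N) (h2 : ∀ g, ⁅⁅b, c⁆, g⁆ ∈ N)
    (h3 : ⁅b, d⁆ ∈ N) :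
    QuotientGroup.mk' N (⁅a, c⁆⁻¹ * (s * ⁅a, c⁆ * s⁻¹)) =
      QuotientGroup.mk' N ⁅a, d⁆ * QuotientGroup.mk' N ⁅b, c⁆ := by
  set π := QuotientGroup.mk' N
  have hcen : ∀ {x : G}, (∀ g, ⁅x, g⁆ ∈ N) → ∀ g, π x * π g = π g * π x := fun hx g => by
    rw [← commutatorElement_eq_one_iff_mul_comm, ← map_commutatorElement]
    exact (QuotientGroup.eq_one_iff _).2 (hx g)
  have hx : s * ⁅a, c⁆ * s⁻¹ = ⁅a * b, c * d⁆ := by
    rw [← ha, ← hc]; simp only [commutatorElement_def]; group
  have h4 : ⁅a * b, c * d⁆ = a * (⁅b, c⁆ * (c * ⁅b, d⁆ * c⁻¹)) * a⁻¹ *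
      (⁅a, c⁆ * (c * ⁅a, d⁆ * c⁻¹)) := by
    simp only [commutatorElement_def]; group
  have hbd : π ⁅b, d⁆ = 1 := (QuotientGroup.eq_one_iff _).2 h3
  have e1 : π (c * ⁅b, d⁆ * c⁻¹) = 1 := by rw [map_mul, map_mul, hbd, mul_one, ← map_mul]; simp
  have e2 : π (c * ⁅a, d⁆ * c⁻¹) = π ⁅a, d⁆ := by
    rw [map_mul, map_mul, ← hcen h1 c, mul_assoc, ← map_mul π c, mul_inv_cancel, map_one, mul_one]
  have e3 : π (a * ⁅b, c⁆ * a⁻¹) = π ⁅b, c⁆ := by
    rw [map_mul, map_mul, ← hcen h2 a, mul_assoc, ← map_mul π a, mul_inv_cancel, map_one, mul_one]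
  have hy : π (s * ⁅a, c⁆ * s⁻¹) = π ⁅b, c⁆ * (π ⁅a, c⁆ * π ⁅a, d⁆) := by
    rw [hx, h4, map_mul, map_mul π ⁅a, c⁆, e2]
    congr 1
    rw [map_mul, map_mul, map_mul π ⁅b, c⁆, e1, mul_one, ← map_mul π a, ← map_mul, e3]
  rw [map_mul, map_inv, hy, ← mul_assoc, ← map_inv, ← hcen h2, map_inv, mul_assoc,
    inv_mul_cancel_left]
  exact hcen h2 _

variable {s : G} {t : ℕ → G}

/-- The commutators of the chain lie one step deeper while the centralisers agree. -/
theorem refine_chain (hA : t 0 ∈ twoStepCentralizer G 1) (hL : ∀ i, t i ∈ lcsT G i)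
    (hs : ∀ i, s * t i * s⁻¹ = t i * t (i + 1)) {J : ℕ}
    (hJ : ∀ j, 1 ≤ j → j ≤ J → twoStepCentralizer G j = twoStepCentralizer G 1) :
    ∀ i l, i + l ≤ J → ⁅t i, t l⁆ ∈ lcsT G (i + l + 2) := by
  intro i
  induction i with
  | zero =>
    intro l hl
    rcases Nat.eq_zero_or_pos l with rfl | hl0
    · rw [commutatorElement_self]; exact one_mem _
    · rw [← commutatorElement_inv, zero_add]
      exact inv_mem (mem_twoStepCentralizer.1 ((hJ l hl0 (by omega)).symm ▸ hA) _ (hL l))
  | succ i ih =>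
    intro l hl
    set N := lcsT G (i + 1 + l + 2)
    haveI : N.Normal := lcsT_normal _
    have h1 : ⁅t i, t (l + 1)⁆ ∈ N := by
      show _ ∈ lcsT G (i + 1 + l + 2)
      rw [show i + 1 + l + 2 = i + (l + 1) + 2 by ring]
      exact ih (l + 1) (by omega)
    have h2 : ∀ g, ⁅⁅t (i + 1), t l⁆, g⁆ ∈ N := fun g =>
      mem_anti (by omega) (comm_succ (comm_add (hL (i + 1)) (hL l) le_rfl) g)
    have h3 : ⁅t (i + 1), t (l + 1)⁆ ∈ N := comm_add (hL _) (hL _) (by omega)
    have hr := chain_rel (N := N) (hs i) (hs l)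
      (fun g => mem_anti (by omega) (comm_succ (comm_add (hL i) (hL (l + 1)) le_rfl) g)) h2 h3
    have hx : ⁅t i, t l⁆⁻¹ * (s * ⁅t i, t l⁆ * s⁻¹) ∈ N := by
      have h4 := comm_succ (inv_mem (ih l (by omega))) s
      rw [commutatorElement_def, inv_inv] at h4
      refine mem_anti (by omega : i + 1 + l + 2 ≤ i + l + 2 + 1) ?_
      simpa [mul_assoc] using h4
    rw [show QuotientGroup.mk' N (⁅t i, t l⁆⁻¹ * (s * ⁅t i, t l⁆ * s⁻¹)) = 1 from
      (QuotientGroup.eq_one_iff _).2 hx,
      show QuotientGroup.mk' N ⁅t i, t (l + 1)⁆ = 1 from (QuotientGroup.eq_one_iff _).2 h1,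
      one_mul] at hr
    exact (QuotientGroup.eq_one_iff _).1 hr.symm

/-- The recursion between the pairings into the last two layers. -/
theorem gamma_rel (hL : ∀ i, t i ∈ lcsT G i) (hs : ∀ i, s * t i * s⁻¹ = t i * t (i + 1))
    {i l : ℕ} (hil : i + l + 4 = n) :
    ⁅t i, t l⁆⁻¹ * (s * ⁅t i, t l⁆ * s⁻¹) = ⁅t i, t (l + 1)⁆ * ⁅t (i + 1), t l⁆ := by
  haveI : (⊥ : Subgroup G).Normal := inferInstance
  have h0 : ∀ {k : ℕ} {x : G}, n - 1 ≤ k → x ∈ lcsT G k → x ∈ (⊥ : Subgroup G) :=
    fun hk hx => H.lcs_eq_bot hk ▸ hx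
  have hr := chain_rel (N := (⊥ : Subgroup G)) (hs i) (hs l)
    (fun g => h0 (by omega) (comm_succ (comm_add (hL i) (hL (l + 1)) le_rfl) g))
    (fun g => h0 (by omega) (comm_succ (comm_add (hL (i + 1)) (hL l) le_rfl) g))
    (h0 (le_refl (n - 1)) (comm_add (hL _) (hL _) (by omega)))
  rw [← map_mul, QuotientGroup.mk'_apply, QuotientGroup.mk'_apply, QuotientGroup.eq, mem_bot,
    inv_mul_eq_one] at hr
  exact hr

/-- If the centralisers below the last agree with the first and the last does not, `n` is even. -/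
theorem even_of_ne (hn : 5 ≤ n)
    (hJ : ∀ j, 1 ≤ j → j + 4 ≤ n → twoStepCentralizer G j = twoStepCentralizer G 1)
    (hne : twoStepCentralizer G (n - 3) ≠ twoStepCentralizer G 1) : Even n := by
  by_contra ho
  obtain ⟨k, hk⟩ := Nat.not_even_iff_odd.1 ho
  obtain ⟨s, t, E, hA, hA', hL, hL', hs⟩ := exists_chain H (by omega)
  have hdeep : ∀ i l, i + l + 4 = n → ⁅t i, t (l + 1)⁆ * ⁅t (i + 1), t l⁆ = 1 := by
    intro i l hil
    rw [← gamma_rel H hL hs hil, ← mem_bot, ← H.lcs_eq_bot (i := n - 1) le_rfl]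
    have h4 := comm_succ (inv_mem (refine_chain H hA hL hs (J := n - 4)
      (fun j hj hj' => hJ j hj (by omega)) i l (by omega))) s
    rw [commutatorElement_def, inv_inv] at h4
    refine mem_anti (by omega : n - 1 ≤ i + l + 2 + 1) ?_
    simpa [mul_assoc] using h4
  -- all the pairings equal the first one or its inverse
  have hall : ∀ i, i ≤ k - 1 → (⁅t i, t (n - 3 - i)⁆ = 1 ↔ ⁅t 0, t (n - 3)⁆ = 1) := by
    intro i
    induction i with
    | zero => intro _; rw [Nat.sub_zero]
    | succ i ih =>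
      intro hi
      rw [← ih (by omega)]
      have h := hdeep i (n - 3 - (i + 1)) (by omega)
      rw [show n - 3 - (i + 1) + 1 = n - 3 - i by omega] at h
      constructor
      · intro h'; rwa [h', mul_one] at h
      · intro h'; rwa [h', one_mul] at h
  have h0 : ⁅t 0, t (n - 3)⁆ = 1 := by
    rw [← hall (k - 1) le_rfl, show n - 3 - (k - 1) = k - 1 by omega, commutatorElement_self]
  have hAM : t 0 ∉ twoStepCentralizer G (n - 3) := fun h =>
    hA' (mem_lcs_one H (by omega) (by omega) le_rfl (by omega) hne h hA)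
  refine H.layer_not_mem (by omega) (by omega) hAM (hL _) (hL' _ (by omega) (by omega)) ?_
  rw [← commutatorElement_inv, h0, inv_one]
  exact one_mem _

/-- The last but one centraliser equals the first if the earlier ones do. -/
theorem twoStep_last (hn : 6 ≤ n)
    (hJ : ∀ j, 1 ≤ j → j + 5 ≤ n → twoStepCentralizer G j = twoStepCentralizer G 1) :
    twoStepCentralizer G (n - 4) = twoStepCentralizer G 1 := by
  by_contra hne
  have hp2 := hp.1.two_le
  obtain ⟨s, t, E, hA, hA', hL, hL', hs⟩ := exists_chain H (by omega)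
  -- periodicity bounds the order
  have hbound : n ≤ p + 3 := by
    by_contra hb
    refine hne (twoStep_eq_of_le H le_rfl (by omega) (by omega) (by omega) ?_).symm
    have h := twoStep_le E (j := n - 3 - p) (by omega) (by omega)
    rwa [show n - 3 - p + p - 1 = n - 4 by omega, hJ (n - 3 - p) (by omega) (by omega)] at h
  set m := n - 3 with hm
  -- pairings into the layer `n - 3` alternate modulo the centre
  haveI hNZ : (lcsT G (n - 2)).Normal := lcsT_normal _
  have hβ : ∀ i l, i + l + 5 = n →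
      QuotientGroup.mk' (lcsT G (n - 2)) ⁅t i, t (l + 1)⁆ *
        QuotientGroup.mk' (lcsT G (n - 2)) ⁅t (i + 1), t l⁆ = 1 := by
    intro i l hil
    rw [← chain_rel (N := lcsT G (n - 2)) (hs i) (hs l)
      (fun g => mem_anti (by omega) (comm_succ (comm_add (hL i) (hL (l + 1)) le_rfl) g))
      (fun g => mem_anti (by omega) (comm_succ (comm_add (hL (i + 1)) (hL l) le_rfl) g))
      (comm_add (hL _) (hL _) (by omega))]
    refine (QuotientGroup.eq_one_iff _).2 ?_
    have h4 := comm_succ (inv_mem (refine_chain H hA hL hs (J := n - 5)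
      (fun j hj hj' => hJ j hj (by omega)) i l (by omega))) s
    rw [commutatorElement_def, inv_inv] at h4
    refine mem_anti (by omega : n - 2 ≤ i + l + 2 + 1) ?_
    simpa [mul_assoc] using h4
  -- the values one step deeper
  set δ : ℕ → G := fun i => ⁅t i, t (m - 1 - i)⁆⁻¹ * (s * ⁅t i, t (m - 1 - i)⁆ * s⁻¹) with hδ
  have hδγ : ∀ i, i + 1 ≤ m → δ i = ⁅t i, t (m - i)⁆ * ⁅t (i + 1), t (m - (i + 1))⁆ := by
    intro i hi
    rw [hδ]
    simp only
    rw [gamma_rel H hL hs (by omega), show m - 1 - i + 1 = m - i by omega,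
      show m - 1 - i = m - (i + 1) by omega]
  have hcenZ : ∀ z ∈ lcsT G (n - 2), ∀ g : G, g * z = z * g := fun z hz g => by
    refine (commutatorElement_eq_one_iff_mul_comm.1 ?_).symm
    rw [← mem_bot, ← H.lcs_eq_bot (i := n - 1) le_rfl]
    exact mem_anti (by omega) (comm_succ hz g)
  have hβmem : ∀ i, i + 1 ≤ m → ⁅t i, t (m - 1 - i)⁆ ∈ lcsT G (n - 3) := fun i hi =>
    comm_add (hL _) (hL _) (by omega)
  have hδZ : ∀ i, i + 1 ≤ m → δ i ∈ lcsT G (n - 2) := fun i hi => by
    have h4 := comm_succ (inv_mem (hβmem i hi)) s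
    rw [commutatorElement_def, inv_inv] at h4
    refine mem_anti (by omega : n - 2 ≤ n - 3 + 1) ?_
    simpa [hδ, mul_assoc] using h4
  have hδinv : ∀ i, i + 2 ≤ m → δ (i + 1) = (δ i)⁻¹ := by
    intro i hi
    set b := ⁅t i, t (m - 1 - i)⁆ with hb
    set c := ⁅t (i + 1), t (m - 1 - (i + 1))⁆ with hc
    have h := hβ i (m - 1 - (i + 1)) (by omega)
    rw [show m - 1 - (i + 1) + 1 = m - 1 - i by omega, ← map_mul] at h
    have hz : b * c ∈ lcsT G (n - 2) := (QuotientGroup.eq_one_iff _).1 h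
    show c⁻¹ * (s * c * s⁻¹) = (b⁻¹ * (s * b * s⁻¹))⁻¹
    have hsb : s * b * s⁻¹ = b * δ i := (mul_inv_cancel_left b _).symm
    have hbi : b⁻¹ * (s * b * s⁻¹) = δ i := by rw [hsb, inv_mul_cancel_left]
    have hci : c = b⁻¹ * (b * c) := by group
    have hdz := hcenZ _ (hδZ i (by omega))
    calc c⁻¹ * (s * c * s⁻¹) = (b * c)⁻¹ * b * (s * b⁻¹ * s⁻¹) * (s * (b * c) * s⁻¹) := by group
      _ = (b * c)⁻¹ * b * (s * b * s⁻¹)⁻¹ * (b * c) := by
        rw [show s * (b * c) * s⁻¹ = b * c by rw [hcenZ _ hz s, mul_inv_cancel_right]]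
        group
      _ = (b * c)⁻¹ * (b * (δ i)⁻¹ * b⁻¹) * (b * c) := by rw [hsb]; group
      _ = (δ i)⁻¹ := by
        rw [hcenZ _ (inv_mem (hδZ i (by omega))) b, mul_inv_cancel_right,
          hcenZ _ (inv_mem (hδZ i (by omega))) (b * c)⁻¹, inv_mul_cancel_right]
      _ = (b⁻¹ * (s * b * s⁻¹))⁻¹ := by rw [hbi]
  have hδ0 : δ 0 ≠ 1 := by
    have hAC : t 0 ∉ twoStepCentralizer G (n - 4) := fun h =>
      hA' (mem_lcs_one H (by omega) (by omega) le_rfl (by omega) hne h hA)
    have hb : ⁅t 0, t (m - 1 - 0)⁆ ∉ lcsT G (n - 2) := by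
      rw [show m - 1 - 0 = n - 4 by omega, ← commutatorElement_inv, inv_mem_iff]
      have := H.layer_not_mem (by omega) (by omega) hAC (hL _) (hL' (n - 4) (by omega) (by omega))
      rwa [show n - 4 + 2 = n - 2 by omega] at this
    intro h
    have h5 := E.layer (j := n - 3) (by omega) (by omega) (hβmem 0 (by omega))
      (by rwa [show n - 3 + 1 = n - 2 by omega])
    apply h5
    rw [show n - 3 + 2 = n - 1 by omega, H.lcs_eq_bot le_rfl, mem_bot,
      commutatorElement_eq_one_iff_mul_comm]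
    have h' : ⁅t 0, t (m - 1 - 0)⁆ = s * ⁅t 0, t (m - 1 - 0)⁆ * s⁻¹ := inv_mul_eq_one.1 h
    conv_lhs => rw [h']
    rw [inv_mul_cancel_right]
  have hδall : ∀ i, i + 1 ≤ m → δ i = δ 0 ^ ((-1 : ℤ) ^ i) := by
    intro i
    induction i with
    | zero => intro _; simp
    | succ i ih =>
      intro hi
      rw [hδinv i (by omega), ih (by omega), ← zpow_neg, pow_succ, mul_neg_one]
  rcases Nat.even_or_odd n with ⟨k, hk⟩ | ⟨k, hk⟩
  · -- `n` even
    have h := hδall (k - 2) (by omega)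
    have h1 : δ (k - 2) = 1 := by
      rw [hδ]
      simp only
      rw [show m - 1 - (k - 2) = k - 2 by omega, commutatorElement_self]
      simp
    rw [h1] at h
    rcases neg_one_pow_eq_or ℤ (k - 2) with e | e <;> rw [e] at h <;> simp at h <;>
      first | exact hδ0 h | exact hδ0 h.symm
  · -- `n` odd: the centraliser of the second centre is the first one
    have hsub : twoStepCentralizer G 1 ≤ twoStepCentralizer G (n - 3) := by
      intro x hx
      set b := ⁅t 1, t (m - 1 - 1)⁆ with hb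
      have hbC : b ∈ centralizer ({x} : Set G) := by
        rw [mem_centralizer_singleton_iff]
        have hu : (t 1)⁻¹ * (x * t 1 * x⁻¹) ∈ lcsT G 3 := by
          simpa [commutatorElement_def, mul_assoc] using
            mem_twoStepCentralizer.1 hx _ (inv_mem (hL 1))
        have hv : (t (n - 5))⁻¹ * (x * t (n - 5) * x⁻¹) ∈ lcsT G (n - 3) := by
          have hxC : x ∈ twoStepCentralizer G (n - 5) := (hJ (n - 5) (by omega) (by omega)).symm ▸ hx
          have h := mem_twoStepCentralizer.1 hxC _ (inv_mem (hL (n - 5)))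
          rw [show n - 5 + 2 = n - 3 by omega] at h
          simpa [commutatorElement_def, mul_assoc] using h
        rw [hb, show m - 1 - 1 = n - 5 by omega]
        set a := t 1
        set c := t (n - 5)
        set u := a⁻¹ * (x * a * x⁻¹)
        set v := c⁻¹ * (x * c * x⁻¹)
        have hbot : ∀ {i j : ℕ} {y z : G}, y ∈ lcsT G i → z ∈ lcsT G j → n - 1 ≤ i + j + 1 →
            Commute y z := fun hy hz hij => by
          rw [← commutatorElement_eq_one_iff_commute, ← mem_bot, ← H.lcs_eq_bot le_rfl]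
          exact comm_add hy hz hij
        have huc : Commute u c := hbot hu (hL (n - 5)) (by omega)
        have hav : Commute a v := hbot (hL 1) hv (by omega)
        have huv : Commute u v := hbot hu hv (by omega)
        have h1 : x * ⁅a, c⁆ * x⁻¹ = ⁅a * u, c * v⁆ := by
          simp only [u, v, mul_inv_cancel_left, commutatorElement_def]; group
        have h2 : ⁅a * u, c * v⁆ = ⁅a, c⁆ := by
          simp only [commutatorElement_def, mul_inv_rev]
          calc a * u * (c * v) * (u⁻¹ * a⁻¹) * (v⁻¹ * c⁻¹)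
              = a * (u * c) * v * u⁻¹ * a⁻¹ * v⁻¹ * c⁻¹ := by group
            _ = a * c * (u * v) * u⁻¹ * a⁻¹ * v⁻¹ * c⁻¹ := by rw [huc.eq]; group
            _ = a * c * (v * a⁻¹) * v⁻¹ * c⁻¹ := by rw [huv.eq]; group
            _ = a * c * a⁻¹ * c⁻¹ := by rw [← hav.inv_left.eq]; group
        rw [h2] at h1
        exact (mul_inv_eq_iff_eq_mul.1 h1).symm
      have hbn : b ∉ lcsT G (n - 2) := by
        intro hmem
        have h := hβ 0 (n - 5) (by omega)
        rw [zero_add, show n - 5 + 1 = n - 4 by omega,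
          show QuotientGroup.mk' (lcsT G (n - 2)) ⁅t 1, t (n - 5)⁆ = 1 from
            (QuotientGroup.eq_one_iff _).2 (by rwa [hb, show m - 1 - 1 = n - 5 by omega] at hmem),
          mul_one] at h
        have hAC : t 0 ∉ twoStepCentralizer G (n - 4) := fun h =>
          hA' (mem_lcs_one H (by omega) (by omega) le_rfl (by omega) hne h hA)
        have h6 := H.layer_not_mem (by omega) (by omega) hAC (hL _)
          (hL' (n - 4) (by omega) (by omega))
        rw [show n - 4 + 2 = n - 2 by omega, ← commutatorElement_inv, inv_mem_iff] at h6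
        exact h6 ((QuotientGroup.eq_one_iff _).1 h)
      have hle : lcsT G (n - 3) ≤ centralizer ({x} : Set G) := by
        refine H.layer_le (i := n - 3) (by omega) (by omega) ?_ (hβmem 1 (by omega))
          (by rwa [show n - 3 + 1 = n - 2 by omega]) hbC
        rw [show n - 3 + 1 = n - 2 by omega]
        exact fun z hz => mem_centralizer_singleton_iff.2 (hcenZ z hz x).symm
      refine mem_twoStepCentralizer.2 fun a ha => ?_
      rw [commutatorElement_eq_one_iff_mul_comm.2 (mem_centralizer_singleton_iff.1 (hle ha))]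
      exact one_mem _
    have hAM := twoStep_eq_of_le H le_rfl (by omega) (by omega) (by omega) hsub
    have hγ0 : ⁅t 0, t m⁆ = 1 := by
      rw [← commutatorElement_inv, inv_eq_one, ← mem_bot, ← H.lcs_eq_bot (i := n - 3 + 2) (by omega)]
      exact mem_twoStepCentralizer.1 (hAM ▸ hA) _ (hL _)
    have hγ : ∀ i, i ≤ m → ⁅t i, t (m - i)⁆ = δ 0 ^ ((-1 : ℤ) ^ (i + 1) * i) := by
      intro i
      induction i with
      | zero => intro _; simp [hγ0]
      | succ i ih =>
        intro hi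
        have h := hδγ i (by omega)
        rw [hδall i (by omega), ih (by omega), ← inv_mul_eq_iff_eq_mul] at h
        rw [← h, ← zpow_neg, ← zpow_add]
        congr 1
        push_cast
        ring
    have hk' := hγ (k - 1) (by omega)
    rw [show m - (k - 1) = k - 1 by omega, commutatorElement_self] at hk'
    have hp' : δ 0 ^ p = 1 := by
      have h1 : (⟨δ 0, hδZ 0 (by omega)⟩ : lcsT G (n - 2)) ^ p = 1 := by
        have hc : Nat.card (lcsT G (n - 2)) = p := by
          rw [H.card_lcs (by omega) (by omega), show n - 1 - (n - 2) = 1 by omega, pow_one]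
        conv_lhs => arg 2; rw [← hc]
        exact pow_card_eq_one'
      exact congrArg Subtype.val h1
    have hord : orderOf (δ 0) = p := orderOf_eq_prime hp' hδ0
    have hdvd := orderOf_dvd_iff_zpow_eq_one.2 hk'.symm
    rw [hord] at hdvd
    have h3 : (p : ℤ) ∣ ((k - 1 : ℕ) : ℤ) := by
      rcases neg_one_pow_eq_or ℤ (k - 1 + 1) with e | e <;> rw [e] at hdvd <;> simpa using hdvd
    have := Nat.le_of_dvd (by omega) (Int.natCast_dvd_natCast.1 h3)
    omega

omit H in
/-- Two-step centralisers of a quotient by a term of the lower central series. -/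
theorem mem_twoStep_quot {k j : ℕ} (hj : j + 2 ≤ k) [(lcsT G k).Normal] (x : G) :
    QuotientGroup.mk' (lcsT G k) x ∈ twoStepCentralizer (G ⧸ lcsT G k) j ↔
      x ∈ twoStepCentralizer G j := by
  rw [mem_twoStepCentralizer, mem_twoStepCentralizer]
  constructor
  · intro h a ha
    have h1 := h (QuotientGroup.mk' _ a) (by
      show _ ∈ lcsT (G ⧸ lcsT G k) j
      rw [lcsT_quot]; exact ⟨a, ha, rfl⟩)
    rw [← map_commutatorElement] at h1
    refine mem_of_map hj ?_
    rw [← lcsT_quot]; exact h1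
  · intro h a' ha'
    change a' ∈ lcsT (G ⧸ lcsT G k) j at ha'
    rw [lcsT_quot] at ha'
    obtain ⟨a, ha, rfl⟩ := ha'
    rw [← map_commutatorElement]
    show _ ∈ lcsT (G ⧸ lcsT G k) (j + 2)
    rw [lcsT_quot]
    exact ⟨_, h a ha, rfl⟩

omit H in
/-- **Blackburn**: below the last one, the two-step centralisers all agree with the first. -/
theorem twoStep_const : ∀ (i : ℕ) {n : ℕ} {G : Type u} [Group G] [Finite G],
    MC G p n → 1 ≤ i → i + 4 ≤ n → twoStepCentralizer G i = twoStepCentralizer G 1 := by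
  intro i
  induction i using Nat.strong_induction_on with
  | _ i ih =>
    intro n G _ _ H hi hin
    rcases Nat.lt_or_ge i 2 with h | h
    · rw [show i = 1 by omega]
    haveI : (lcsT G (i + 3)).Normal := lcsT_normal _
    have HQ := mc_quot H (k := i + 3) (by omega) (by omega)
    have h1 := twoStep_last HQ (by omega) fun j hj hj' => ih j (by omega) HQ hj (by omega)
    rw [show i + 3 + 1 - 4 = i by omega] at h1
    ext x
    rw [← mem_twoStep_quot (k := i + 3) (by omega), h1, mem_twoStep_quot (by omega)]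

/-- The last two-step centraliser differs from the first only for `n` even. -/
theorem even_of_twoStep_ne (hn : 5 ≤ n)
    (hne : twoStepCentralizer G (n - 3) ≠ twoStepCentralizer G 1) : Even n :=
  even_of_ne H hn (fun j hj hj' => twoStep_const j H hj hj') hne

end CfsgLib.PGroups.TwoStepConst
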