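import Mathlib
import Cfsg.Agent.Lib.PGroups.TwoStepConstant

/-!
# Weights of an automorphism on the layers of a group of maximal class
-/

set_option autoImplicit false
set_option linter.unusedSectionVars false

namespace CfsgLib.PGroups.MaxClassWeights

open Subgroup CfsgLib.PLocal CfsgLib.PGroups.Pearl CfsgLib.PGroups
open CfsgLib.FgsC.MaxClassSection CfsgLib.PGroups.MaxClassPower CfsgLib.PGroups.TwoStepConst
open scoped commutatorElement

universe u

variable {G : Type u} [Group G] [Finite G] {p n : ℕ} [hp : Fact p.Prime]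

/-- `ψ` acts on the layer `i` as the power `a`. -/
def Wt (ψ : MulAut G) (i : ℕ) (a : ℤ) : Prop :=
  ∀ y ∈ lcsT G i, (y ^ a)⁻¹ * ψ y ∈ lcsT G (i + 1)

omit [Finite G] hp in
theorem map_lcs (ψ : MulAut G) {i : ℕ} {y : G} (hy : y ∈ lcsT G i) : ψ y ∈ lcsT G i := by
  have h : (lcsT G i).map ψ.toMonoidHom = lcsT G i := by
    rw [lcsT, map_lowerCentralSeries, Subgroup.map_top_of_surjective _ ψ.surjective]
  exact h ▸ ⟨y, hy, rfl⟩

theorem map_twoStep (ψ : MulAut G) {i : ℕ} {x : G} (hx : x ∈ twoStepCentralizer G i) :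
    ψ x ∈ twoStepCentralizer G i := by
  refine mem_twoStepCentralizer.2 fun a ha => ?_
  obtain ⟨b, rfl⟩ := ψ.surjective a
  rw [← map_commutatorElement]
  refine map_lcs ψ (mem_twoStepCentralizer.1 hx b ?_)
  have h := map_lcs ψ⁻¹ ha
  rwa [MulAut.inv_apply_self] at h

variable (H : MC G p n)
include H

/-- A layer has order `p`. -/
theorem layer_map_card {i : ℕ} (hi : 1 ≤ i) (hin : i + 1 ≤ n - 1) [(lcsT G (i + 1)).Normal] :
    Nat.card ((lcsT G i).map (QuotientGroup.mk' (lcsT G (i + 1)))) = p := by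
  have h3 := Subgroup.relIndex_mul_relIndex ⊥ (lcsT G (i + 1)) (lcsT G i) bot_le
    (Subgroup.lowerCentralSeries_antitone _ (Nat.le_succ _))
  rw [Subgroup.relIndex_bot_left, Subgroup.relIndex_bot_left, H.layer_card hi hin] at h3
  rw [← Subgroup.relIndex_ker, QuotientGroup.ker_mk']
  exact Nat.eq_of_mul_eq_mul_left Nat.card_pos h3

/-- The weight of a layer is unique modulo `p`. -/
theorem wt_congr {ψ : MulAut G} {i : ℕ} (hi : 1 ≤ i) (hin : i + 1 ≤ n - 1) {a b : ℤ}
    (ha : Wt ψ i a) (hb : Wt ψ i b) : (a : ZMod p) = b := by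
  haveI : (lcsT G (i + 1)).Normal := lcsT_normal _
  obtain ⟨y, hy, hy'⟩ := exists_layer H (i := i) hin
  set π := QuotientGroup.mk' (lcsT G (i + 1))
  have hc := layer_map_card H hi hin
  have h1 : (⟨π y, ⟨y, hy, rfl⟩⟩ : (lcsT G i).map π) ^ p = 1 := by
    conv_lhs => arg 2; rw [← hc]
    exact pow_card_eq_one'
  have hord : orderOf (π y) = p := orderOf_eq_prime (congrArg Subtype.val h1)
    fun h => hy' ((QuotientGroup.eq_one_iff _).1 h)
  have h2 : ∀ {a : ℤ}, Wt ψ i a → π y ^ a = π (ψ y) := fun h => by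
    rw [← map_zpow]
    exact QuotientGroup.eq.2 (h y hy)
  rw [ZMod.intCast_eq_intCast_iff_dvd_sub, ← hord]
  rw [orderOf_dvd_iff_zpow_eq_one, zpow_sub, h2 hb, h2 ha, mul_inv_cancel]

/-- A commutator carries the product of the weights. -/
theorem wt_step {ψ : MulAut G} {i u : ℕ} (hin : i + 2 ≤ n - 1) {a : ℤ} {y g c : G}
    (hy : y ∈ lcsT G i) (hya : (y ^ a)⁻¹ * ψ y ∈ lcsT G (i + 1)) (hg : ψ g = g ^ u * c)
    (hc : ∀ z ∈ lcsT G i, ⁅z, c⁆ ∈ lcsT G (i + 2)) (hne : ⁅y, g⁆ ∉ lcsT G (i + 2)) :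
    Wt ψ (i + 1) (a * u) := by
  haveI : (lcsT G (i + 2)).Normal := lcsT_normal _
  haveI : (lcsT G (i + 1)).Normal := lcsT_normal _
  set π := QuotientGroup.mk' (lcsT G (i + 2))
  have hcen : ∀ z ∈ lcsT G (i + 1), ∀ w : G, π z * π w = π w * π z := fun z hz w => by
    rw [← commutatorElement_eq_one_iff_mul_comm, ← map_commutatorElement]
    exact (QuotientGroup.eq_one_iff _).2 (comm_succ hz w)
  have hψy : ψ y ∈ lcsT G i := map_lcs ψ hy
  have h0 : π ⁅ψ y, ψ g⁆ = π ⁅y, g⁆ ^ (a * u) := by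
    have e1 : ⁅ψ y, g ^ u * c⁆ = ⁅ψ y, g ^ u⁆ * (g ^ u * ⁅ψ y, c⁆ * (g ^ u)⁻¹) := by
      simp only [commutatorElement_def]; group
    have e2 : π (g ^ u * ⁅ψ y, c⁆ * (g ^ u)⁻¹) = 1 :=
      (QuotientGroup.eq_one_iff _).2 ((lcsT_normal _).conj_mem _ (hc _ hψy) _)
    have e3 : π ⁅ψ y, g⁆ = π ⁅y, g⁆ ^ a := by
      refine comm_zpow_left hψy hy ?_
      rw [← QuotientGroup.mk_zpow]
      exact (QuotientGroup.eq.2 hya).symm
    rw [hg, e1, map_mul, e2, mul_one,
      show π ⁅ψ y, g ^ u⁆ = π ⁅ψ y, g⁆ ^ u from comm_pow_right hψy u, e3, zpow_mul, zpow_natCast]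
  let φ₁ : ↥(lcsT G (i + 1)) →* G ⧸ lcsT G (i + 2) :=
    (π.comp ψ.toMonoidHom).comp (lcsT G (i + 1)).subtype
  let φ₂ : ↥(lcsT G (i + 1)) →* G ⧸ lcsT G (i + 2) :=
    MonoidHom.mk' (fun z => π (z : G) ^ (a * u)) fun z w => by
      rw [Subgroup.coe_mul, map_mul, Commute.mul_zpow (hcen _ z.2 _)]
  have hle : lcsT G (i + 1) ≤ (MonoidHom.eqLocus φ₁ φ₂).map (lcsT G (i + 1)).subtype := by
    refine H.layer_le (i := i + 1) (by omega) (by omega) ?_ (comm_succ hy g) hne ?_
    · intro z hz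
      have hz' : z ∈ lcsT G (i + 1) := mem_anti (by omega) hz
      refine ⟨⟨z, hz'⟩, ?_, rfl⟩
      show π (ψ z) = π z ^ (a * (u : ℤ))
      rw [show π (ψ z) = 1 from (QuotientGroup.eq_one_iff _).2 (map_lcs ψ hz),
        show π z = 1 from (QuotientGroup.eq_one_iff _).2 hz, one_zpow]
    · refine ⟨⟨_, comm_succ hy g⟩, ?_, rfl⟩
      show π (ψ ⁅y, g⁆) = π ⁅y, g⁆ ^ (a * (u : ℤ))
      rw [map_commutatorElement, h0]
  intro z hz
  obtain ⟨w, hw, rfl⟩ := hle hz
  have hw' : π (ψ (w : G)) = π (w : G) ^ (a * (u : ℤ)) := hw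
  rw [← map_zpow] at hw'
  exact QuotientGroup.eq.1 hw'.symm

/-- An automorphism acts on the quotient by a two-step centraliser as a power. -/
theorem exists_pow {ψ : MulAut G} {i : ℕ} (hi : 1 ≤ i) (hin : i + 2 ≤ n - 1) {g : G}
    (hg : g ∉ twoStepCentralizer G i) :
    ∃ u : ℕ, ∃ c ∈ twoStepCentralizer G i, ψ g = g ^ u * c := by
  obtain ⟨u, hu⟩ := exists_mul_pow_mem H hi hin hg (ψ g)⁻¹
  refine ⟨u, _, inv_mem hu, ?_⟩
  rw [mul_inv_rev, inv_inv, mul_inv_cancel_left]

/-- No automorphism has weights `1, 1, -1` or (when the last centraliser is exceptional)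
`1, -1, 1` on the three bottom layers. -/
theorem weights_false (hp2 : p ≠ 2) (hn : 5 ≤ n) (ψ : MulAut G) {a₃ a₂ a₁ : ℤ}
    (h₃ : Wt ψ (n - 4) a₃) (h₂ : Wt ψ (n - 3) a₂) (h₁ : Wt ψ (n - 2) a₁)
    (hw : (a₃ = 1 ∧ a₂ = 1 ∧ a₁ = -1) ∨ (a₃ = 1 ∧ a₂ = -1 ∧ a₁ = 1 ∧
      twoStepCentralizer G (n - 3) ≠ twoStepCentralizer G 1 ∧ 6 ≤ n)) : False := by
  have h2ne : (1 : ZMod p) ≠ -1 := by
    intro h
    have h2 : ((2 : ℕ) : ZMod p) = 0 := by
      rw [Nat.cast_ofNat, ← one_add_one_eq_two]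
      exact eq_neg_iff_add_eq_zero.1 h
    rw [ZMod.natCast_eq_zero_iff] at h2
    exact hp2 ((Nat.prime_dvd_prime_iff_eq hp.1 Nat.prime_two).1 h2)
  have hA : ∀ j, 1 ≤ j → j + 4 ≤ n → twoStepCentralizer G j = twoStepCentralizer G 1 :=
    fun j hj hj' => twoStep_const j H hj hj'
  obtain ⟨y, hy, hy'⟩ := exists_layer H (i := n - 4) (by omega)
  obtain ⟨z, hz, hz'⟩ := exists_layer H (i := n - 3) (by omega)
  -- the top step by a mover outside a centraliser
  have step : ∀ {i : ℕ} {a : ℤ}, 1 ≤ i → i + 2 ≤ n - 1 → Wt ψ i a → ∀ {g c : G} {u : ℕ},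
      g ∉ twoStepCentralizer G i → c ∈ twoStepCentralizer G i → ψ g = g ^ u * c →
      Wt ψ (i + 1) (a * u) := by
    intro i a hi hin hwt g c u hg hc hgu
    obtain ⟨y, hy, hy'⟩ := exists_layer H (i := i) (by omega)
    exact wt_step H hin hy (hwt y hy) hgu (fun z hz => mem_twoStepCentralizer.1 hc z hz)
      (H.layer_not_mem hi hin hg hy hy')
  by_cases hAM : twoStepCentralizer G (n - 3) = twoStepCentralizer G 1
  · rcases hw with ⟨rfl, rfl, rfl⟩ | ⟨-, -, -, h, -⟩
    swap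
    · exact h hAM
    obtain ⟨g, hg⟩ : ∃ g, g ∉ twoStepCentralizer G 1 := by
      by_contra! h
      exact H.twoStep_ne_top (i := 1) (by omega) (eq_top_iff.2 fun g _ => h g)
    obtain ⟨u, c, hc, hgu⟩ := exists_pow H (ψ := ψ) le_rfl (by omega) hg
    have hC := hA (n - 4) (by omega) (by omega)
    have e1 := step (i := n - 4) (by omega) (by omega) h₃ (hC.symm ▸ hg) (hC.symm ▸ hc) hgu
    rw [show n - 4 + 1 = n - 3 by omega] at e1
    have e2 := step (i := n - 3) (by omega) (by omega) h₂ (hAM.symm ▸ hg) (hAM.symm ▸ hc) hgu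
    rw [show n - 3 + 1 = n - 2 by omega] at e2
    have f1 := wt_congr H (by omega) (by omega) h₂ e1
    have f2 := wt_congr H (by omega) (by omega) h₁ e2
    push_cast at f1 f2
    rw [one_mul] at f1 f2
    exact h2ne (f1.trans f2.symm)
  · obtain ⟨s, E⟩ := exists_elt n G H
    obtain ⟨t, ht, ht1, hts, hts'⟩ := exists_pair H E (by omega)
    have htM : t ∉ twoStepCentralizer G (n - 3) := fun h =>
      ht1 (mem_lcs_one H (by omega) (by omega) le_rfl (by omega) hAM h ht)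
    obtain ⟨k, hk⟩ := exists_mul_pow_mem H (by omega) (by omega) htM s
    set g := s * t ^ k with hg
    have hgA : g ∉ twoStepCentralizer G 1 := fun h => by
      obtain ⟨z, hz, hz'⟩ := exists_layer H (i := 1) (by omega)
      exact E.layer le_rfl (by omega) hz hz'
        (mem_twoStepCentralizer.1 ((mul_mem_cancel_right (pow_mem ht k)).1 h) z hz)
    have htg : ⁅t, g⁆ = ⁅t, s⁆ := by
      rw [hg, commutatorElement_def, commutatorElement_def, mul_inv_rev]
      calc t * (s * t ^ k) * t⁻¹ * ((t ^ k)⁻¹ * s⁻¹)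
          = t * s * (t ^ k * t⁻¹) * (t ^ k)⁻¹ * s⁻¹ := by group
        _ = t * s * t⁻¹ * s⁻¹ := by
          rw [((Commute.refl t).inv_left.pow_right k).eq.symm]; group
    obtain ⟨u, c, hc, hgu⟩ := exists_pow H (ψ := ψ) le_rfl (by omega) hgA
    obtain ⟨v, d, hd, htv⟩ := exists_pow H (ψ := ψ) (by omega) (by omega) htM
    have hcL : c ∈ lcsT G 1 := by
      refine mem_lcs_one H (by omega) (by omega) le_rfl (by omega) hAM ?_ hc
      have : c = (g ^ u)⁻¹ * ψ g := by rw [hgu, inv_mul_cancel_left]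
      rw [this]
      exact mul_mem (inv_mem (pow_mem hk u)) (map_twoStep ψ hk)
    have hdL : d ∈ lcsT G 1 := by
      refine mem_lcs_one H (by omega) (by omega) le_rfl (by omega) hAM hd ?_
      have : d = (t ^ v)⁻¹ * ψ t := by rw [htv, inv_mul_cancel_left]
      rw [this]
      exact mul_mem (inv_mem (pow_mem ht v)) (map_twoStep ψ ht)
    have chain : ∀ j, j + 4 ≤ n → Wt ψ (j + 1) (v * (u : ℤ) ^ (j + 1)) := by
      intro j
      induction j with
      | zero =>
        intro _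
        rw [zero_add, pow_one]
        refine wt_step H (i := 0) (by omega) (y := t) (by simp [lcsT]) ?_ hgu
          (fun z _ => comm_succ' hcL z) (by rw [htg]; exact hts')
        rw [zpow_natCast, htv, inv_mul_cancel_left]
        exact hdL
      | succ j ih =>
        intro hj
        rw [show (v : ℤ) * u ^ (j + 1 + 1) = v * u ^ (j + 1) * u by ring]
        refine step (by omega) (by omega) (ih (by omega)) ?_ (lcs_one_le _ hcL) hgu
        rw [hA (j + 1) (by omega) (by omega)]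
        exact hgA
    have c2 := chain (n - 4) (by omega)
    rw [show n - 4 + 1 = n - 3 by omega] at c2
    have e1 := step (i := n - 4) (by omega) (by omega) h₃
      (g := g) (by rw [hA _ (by omega) (by omega)]; exact hgA) (lcs_one_le _ hcL) hgu
    rw [show n - 4 + 1 = n - 3 by omega] at e1
    have e2 := step (i := n - 3) (by omega) (by omega) h₂ htM (lcs_one_le _ hdL) htv
    rw [show n - 3 + 1 = n - 2 by omega] at e2
    have f1 := wt_congr H (by omega) (by omega) h₂ e1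
    have f2 := wt_congr H (by omega) (by omega) h₁ e2
    have f3 := wt_congr H (by omega) (by omega) h₂ c2
    push_cast at f1 f2 f3
    rcases hw with ⟨rfl, rfl, rfl⟩ | ⟨rfl, rfl, rfl, -, hn6⟩
    · push_cast at f1 f2 f3
      rw [one_mul] at f1 f2
      rw [← f1, one_pow, mul_one, ← f2] at f3
      exact h2ne f3
    · push_cast at f1 f2 f3
      rw [one_mul] at f1
      rw [neg_one_mul, eq_neg_iff_add_eq_zero, ← eq_neg_iff_add_eq_zero] at f2
      have hv : (v : ZMod p) = -1 := by linear_combination f2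
      obtain ⟨k', hk'⟩ := even_of_twoStep_ne H hn hAM
      have hodd : Odd (n - 3) := ⟨k' - 2, by omega⟩
      rw [← f1, hv, hodd.neg_one_pow, neg_one_mul, neg_neg] at f3
      exact h2ne f3.symm

end CfsgLib.PGroups.MaxClassWeights
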