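import Cfsg.Agent.Lib.FgsB.Basic
import Cfsg.Agent.Lib.FgsB.CoprimeFixProduct
import Cfsg.Agent.Lib.Involutions.CentricFusion
import Cfsg.Agent.Lib.LocalEven.PReduced2
import Cfsg.Agent.Lib.PGroups.Basic

/-!
A normal subgroup containing a non-central Sylow subgroup, whose elements have `G`-class sizes
`1` or `m`, is nilpotent.

If it is not, the centraliser in `N` of a non-central element of order prime to `r` is abelian.
A group acting semiregularly outside the centre on such a centraliser cannot have order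
divisible by two of its primes; so a Sylow subgroup for the second prime is abelian, and a
central element of a Sylow subgroup of `G` in `N ∩ N'` then has class size prime to that prime.
-/

set_option autoImplicit false

namespace CfsgLib.PGroups.TwoSizesSylow

open Subgroup
open scoped commutatorElement

/-- An element whose prime-power powers lie in a subgroup lies in it. -/
theorem mem_of_primePow_parts {H : Type*} [Group H] [Finite H] (Z : Subgroup H) (a : H)
    (h : ∀ k : ℕ, (∃ p n : ℕ, p.Prime ∧ orderOf (a ^ k) = p ^ n) → a ^ k ∈ Z) : a ∈ Z := by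
  obtain ⟨n, hn⟩ : ∃ n, orderOf a = n := ⟨_, rfl⟩
  induction n using Nat.recOnPrimeCoprime generalizing a with
  | zero => exact absurd hn (orderOf_pos a).ne'
  | prime_pow p n hp => simpa using h 1 ⟨p, n, hp, by rw [pow_one, hn]⟩
  | coprime u v hu hv huv ihu ihv =>
    have h1 : orderOf (a ^ u) = v := by
      rw [orderOf_pow, hn, Nat.gcd_eq_right (dvd_mul_right u v), Nat.mul_div_cancel_left _ (by omega)]
    have h2 : orderOf (a ^ v) = u := by
      rw [orderOf_pow, hn, Nat.gcd_eq_right (dvd_mul_left v u), Nat.mul_div_cancel _ (by omega)]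
    have ha : a ^ u ∈ Z := ihv _ (fun k hk => by rw [← pow_mul]; exact h _ (by rwa [← pow_mul] at hk)) h1
    have hb : a ^ v ∈ Z := ihu _ (fun k hk => by rw [← pow_mul]; exact h _ (by rwa [← pow_mul] at hk)) h2
    have hg := Nat.gcd_eq_gcd_ab u v
    rw [huv.gcd_eq_one] at hg
    have : a = (a ^ u) ^ (Nat.gcdA u v) * (a ^ v) ^ (Nat.gcdB u v) := by
      rw [← zpow_natCast, ← zpow_natCast, ← zpow_mul, ← zpow_mul, ← zpow_add, ← hg, Nat.cast_one,
        zpow_one]
    rw [this]
    exact mul_mem (zpow_mem ha _) (zpow_mem hb _)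

section Semiregular

variable {L A : Type*} [Group L] [Finite L] [CommGroup A] [Finite A] (φ : L →* MulAut A)
  (Z : Subgroup A)

/-- No element of prime order `t ≠ q` normalises a nontrivial `q`-subgroup, when the action is
semiregular outside `Z` and two primes occur outside `Z`. -/
theorem no_normalizing (hfix : ∀ l : L, ∀ a ∈ Z, φ l a = a)
    (hsemi : ∀ l : L, ∀ a, a ∉ Z → φ l a = a → l = 1) {q u : ℕ} [hq : Fact q.Prime] [Fact u.Prime]
    (hqu : q ≠ u) {y x : A} (hy : ∃ k, orderOf y = q ^ k) (hyZ : y ∉ Z)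
    (hx : ∃ k, orderOf x = u ^ k) (hxZ : x ∉ Z)
    (S : Subgroup L) (hS : IsPGroup q S) (hS1 : S ≠ ⊥) (g : L) {t : ℕ} (ht : t.Prime) (hg : orderOf g = t)
    (htq : t ≠ q) (hgS : ∀ s ∈ S, g * s * g⁻¹ ∈ S) : False := by
  classical
  have hg1 : g ≠ 1 := fun h => ht.ne_one (by rw [← hg, h, orderOf_one])
  have hmul : ∀ (l l' : L) (a : A), φ (l * l') a = φ l (φ l' a) := fun l l' a => by
    rw [map_mul]; rfl
  by_cases hc : ∃ s ∈ S, s ≠ 1 ∧ g * s = s * g
  · obtain ⟨s, hsS, hs1, hgs⟩ := hc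
    -- the `q`-part of `[A, g]` avoids `Z` and has a fixed point under `s`
    let δ : A →* A := (φ g).toMonoidHom / MonoidHom.id A
    let Q : Subgroup A := CommGroup.primaryComponent A q
    let D : Subgroup A := Q.map δ
    have hQ : IsPGroup q Q := CommGroup.primaryComponent.isPGroup
    have hD : IsPGroup q D := hQ.map δ
    have hiter : ∀ a z : A, z ∈ Z → φ g a = a * z → ∀ i : ℕ, φ (g ^ i) a = a * z ^ i := by
      intro a z hz hga i
      induction i with
      | zero => simp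
      | succ i ih => rw [pow_succ', hmul, ih, map_mul, hga, hfix g _ (pow_mem hz i), pow_succ', mul_assoc]
    have hDZ : ∀ d ∈ D, d ∈ Z → d = 1 := by
      intro d hd hdZ
      obtain ⟨k, hk⟩ := hD ⟨d, hd⟩
      have hk' : d ^ q ^ k = 1 := congrArg Subtype.val hk
      obtain ⟨a, -, had⟩ := hd
      have hga : φ g a = a * d := by rw [← had]; simp [δ]
      have h1 := hiter a d hdZ hga t
      rw [← hg, pow_orderOf_eq_one, map_one, hg] at h1
      have h2 : d ^ t = 1 := left_eq_mul.1 h1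
      refine orderOf_eq_one_iff.1 (Nat.eq_one_of_dvd_coprimes ?_ (orderOf_dvd_of_pow_eq_one h2)
        (orderOf_dvd_of_pow_eq_one hk'))
      exact Nat.Coprime.pow_right k ((Nat.coprime_primes ht hq.out).2 htq)
    have hD1 : D ≠ ⊥ := by
      intro h
      obtain ⟨k, hk⟩ := hy
      have hyQ : y ∈ Q := ⟨k, by rw [← hk, pow_orderOf_eq_one]⟩
      have hδ : δ y = 1 := by rw [← mem_bot, ← h]; exact ⟨y, hyQ, rfl⟩
      exact hg1 (hsemi g y hyZ (by simpa [δ, div_eq_one] using hδ))
    have hsD : ∀ l ∈ zpowers s, ∀ d ∈ D, φ l d ∈ D := by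
      rintro l hl _ ⟨a, ha, rfl⟩
      have hlg : g * l = l * g := by
        obtain ⟨k, rfl⟩ := mem_zpowers_iff.1 hl
        exact ((show Commute g s from hgs).zpow_right k).eq
      obtain ⟨k, hk⟩ := ha
      refine ⟨φ l a, ⟨k, by rw [← map_pow, hk, map_one]⟩, ?_⟩
      simp only [δ, MonoidHom.div_apply, MonoidHom.id_apply, MulEquiv.coe_toMonoidHom, map_div]
      rw [← hmul, hlg, hmul]
    letI : MulAction (zpowers s) D :=
      { smul := fun l d => ⟨φ l d, hsD l l.2 d d.2⟩
        one_smul := fun d => Subtype.ext (by show φ ((1 : zpowers s) : L) (d : A) = d; simp)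
        mul_smul := fun l l' d => Subtype.ext (hmul l l' d) }
    have hsp : IsPGroup q (zpowers s) := hS.to_le (zpowers_le.2 hsS)
    have hdvd : q ∣ Nat.card D := by
      haveI := (nontrivial_iff_ne_bot D).2 hD1
      obtain ⟨j, hj, hcard⟩ := (IsPGroup.nontrivial_iff_card hD).1 inferInstance
      exact hcard ▸ dvd_pow_self q (Nat.pos_iff_ne_zero.1 hj)
    obtain ⟨d, hd, hd1⟩ := hsp.exists_fixed_point_of_prime_dvd_card_of_fixed_point D hdvd
      (a := 1) (fun l => Subtype.ext (map_one (φ (l : L))))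
    have hdf : φ s d = d := congrArg Subtype.val (hd ⟨s, mem_zpowers s⟩)
    have hdZ : (d : A) ∉ Z := fun h => hd1 (Subtype.ext (hDZ d d.2 h).symm)
    exact hs1 (hsemi s d hdZ hdf)
  · push Not at hc
    haveI : Fintype S := Fintype.ofFinite _
    have hgi : ∀ i : ℕ, ∀ s ∈ S, g ^ i * s * (g ^ i)⁻¹ ∈ S := by
      intro i
      induction i with
      | zero => simp
      | succ i ih =>
        intro s hs
        have := hgS _ (ih s hs)
        rwa [show g * (g ^ i * s * (g ^ i)⁻¹) * g⁻¹ = g ^ (i + 1) * s * (g ^ (i + 1))⁻¹ by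
          rw [pow_succ']; group] at this
    -- sums over `S` and over `⟨g⟩` lie in `Z`
    obtain ⟨s₀, hs₀, hs₀1⟩ := (Subgroup.ne_bot_iff_exists_ne_one).1 hS1 |>.elim
      fun s hs => (⟨s.1, s.2, fun h => hs (Subtype.ext h)⟩ : ∃ s, s ∈ S ∧ s ≠ 1)
    let F : A → A := fun b => ∏ s : S, φ s b
    let O : A → A := fun b => ∏ i ∈ Finset.range t, φ (g ^ i) b
    have hF : ∀ b, F b ∈ Z := by
      intro b
      by_contra hb
      refine hs₀1 (hsemi s₀ (F b) hb ?_)
      simp only [F, map_prod, ← hmul]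
      exact Fintype.prod_equiv (Equiv.mulLeft (⟨s₀, hs₀⟩ : S)) _ _ (fun s => rfl)
    have hO : ∀ b, O b ∈ Z := by
      intro b
      by_contra hb
      refine hg1 (hsemi g (O b) hb ?_)
      simp only [O, map_prod, ← hmul, ← pow_succ']
      have h0 : φ (g ^ t) b = φ (g ^ 0) b := by rw [← hg, pow_orderOf_eq_one, pow_zero]
      rw [← mul_left_inj (φ (g ^ 0) b), ← Finset.prod_range_succ' (fun i => φ (g ^ i) b),
        Finset.prod_range_succ, h0]
    have hmain : ∏ i ∈ Finset.range t, ∏ s : S, φ ((s : L) * g ^ i * (s : L)⁻¹) x ∈ Z := by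
      rw [Finset.prod_comm]
      refine prod_mem fun s _ => ?_
      have h1 : ∏ i ∈ Finset.range t, φ ((s : L) * g ^ i * (s : L)⁻¹) x = φ s (O (φ (s : L)⁻¹ x)) := by
        simp only [O, map_prod, ← hmul, mul_assoc]
      rw [h1, hfix _ _ (hO _)]
      exact hO _
    have hrest : ∀ i ∈ Finset.range t, i ≠ 0 → ∏ s : S, φ ((s : L) * g ^ i * (s : L)⁻¹) x ∈ Z := by
      intro i hi hi0
      let e : S → S := fun s => ⟨(s : L) * (g ^ i * (s : L)⁻¹ * (g ^ i)⁻¹),
        mul_mem s.2 (hgi i _ (inv_mem s.2))⟩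
      have he : Function.Injective e := by
        intro a b hab
        have h : (a : L) * (g ^ i * (a : L)⁻¹ * (g ^ i)⁻¹) = b * (g ^ i * (b : L)⁻¹ * (g ^ i)⁻¹) :=
          congrArg Subtype.val hab
        by_contra hne
        have hne' : (b : L)⁻¹ * a ≠ 1 := fun h1 => hne (Subtype.ext (inv_mul_eq_one.1 h1).symm)
        refine hc _ (mul_mem (inv_mem b.2) a.2) hne' ?_
        have hcomm : Commute (g ^ i) ((b : L)⁻¹ * a) := by
          show g ^ i * ((b : L)⁻¹ * a) = (b : L)⁻¹ * a * g ^ i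
          calc g ^ i * ((b : L)⁻¹ * a)
              = (b : L)⁻¹ * ((b : L) * (g ^ i * (b : L)⁻¹ * (g ^ i)⁻¹)) * g ^ i * a := by group
            _ = (b : L)⁻¹ * a * g ^ i := by rw [← h]; group
        obtain ⟨j, -, hj⟩ := Nat.exists_mul_mod_eq_one_of_coprime
          ((Nat.coprime_primes ht ht |>.not).2 (by simp) |> fun _ =>
            (ht.coprime_iff_not_dvd.2 (Nat.not_dvd_of_pos_of_lt (Nat.pos_of_ne_zero hi0)
              (Finset.mem_range.1 hi))).symm) ht.one_lt
        have hgj : (g ^ i) ^ j = g := by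
          rw [← pow_mul, ← pow_mod_orderOf, hg, hj, pow_one]
        exact ((hgj ▸ hcomm.pow_left j : Commute g ((b : L)⁻¹ * a))).eq
      have h1 : ∏ s : S, φ ((s : L) * g ^ i * (s : L)⁻¹) x = F (φ (g ^ i) x) := by
        simp only [F, ← hmul]
        refine Fintype.prod_equiv (Equiv.ofBijective e (Finite.injective_iff_bijective.1 he)) _ _
          fun s => ?_
        congr 2
        show (s : L) * g ^ i * (s : L)⁻¹ = (s : L) * (g ^ i * (s : L)⁻¹ * (g ^ i)⁻¹) * g ^ i
        group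
      rw [h1]
      exact hF _
    rw [← Finset.mul_prod_erase _ _ (Finset.mem_range.2 ht.pos)] at hmain
    have h0 : (∏ s : S, φ ((s : L) * g ^ 0 * (s : L)⁻¹) x) ∈ Z := by
      refine (mul_mem_cancel_right (prod_mem fun i hi => ?_)).1 hmain
      exact hrest i (Finset.mem_of_mem_erase hi) (Finset.ne_of_mem_erase hi)
    simp only [pow_zero, mul_one, mul_inv_cancel, map_one, MulAut.one_apply, Finset.prod_const,
      Finset.card_univ, ← Nat.card_eq_fintype_card] at h0
    obtain ⟨k, hk⟩ := hx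
    obtain ⟨j, hj⟩ := IsPGroup.iff_card.1 hS
    have hcop : (q ^ j).Coprime (orderOf x) := by
      rw [hk]
      exact Nat.coprime_pow_primes _ _ hq.out Fact.out hqu
    obtain ⟨l, hl⟩ := exists_pow_eq_self_of_coprime hcop
    rw [hj] at h0
    exact hxZ (hl ▸ pow_mem h0 l)

/-- A semiregular group cannot have order divisible by two primes occurring outside `Z`. -/
theorem semiregular_false (hfix : ∀ l : L, ∀ a ∈ Z, φ l a = a)
    (hsemi : ∀ l : L, ∀ a, a ∉ Z → φ l a = a → l = 1) {q r : ℕ} [hq : Fact q.Prime] [hr : Fact r.Prime]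
    (hqr : q ≠ r) {y x : A} (hy : ∃ k, orderOf y = q ^ k) (hyZ : y ∉ Z)
    (hx : ∃ k, orderOf x = r ^ k) (hxZ : x ∉ Z) (hLq : q ∣ Nat.card L) (hLr : r ∣ Nat.card L) : False := by
  classical
  let P : Sylow q L := default
  have hP1 : (P : Subgroup L) ≠ ⊥ := P.ne_bot_of_dvd_card hLq
  have hcompl : Cfsg.HasNormalPComplement q L := by
    refine CfsgLib.Involutions.hasNormalPComplement_of_centric P fun D hD w hw hwq a ha => ?_
    by_cases hw1 : w = 1
    · subst hw1; exact Commute.one_left a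
    exfalso
    have hD1 : D ≠ ⊥ := by
      rintro rfl
      refine hP1 (eq_bot_iff.2 fun s hs => hD.2 s hs ?_)
      rw [mem_centralizer_iff]
      rintro z hz
      rw [SetLike.mem_coe, mem_bot] at hz
      simp [hz]
    obtain ⟨t, ht, htd⟩ := Nat.exists_prime_and_dvd (fun h => hw1 (orderOf_eq_one_iff.1 h))
    refine no_normalizing φ Z hfix hsemi hqr hy hyZ hx hxZ D (P.2.to_le hD.1) hD1
      (w ^ (orderOf w / t)) ht (orderOf_pow_orderOf_div (orderOf_pos w).ne' htd) ?_ ?_
    · rintro rfl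
      exact Nat.Prime.not_dvd_one ht (hwq ▸ Nat.dvd_gcd htd dvd_rfl)
    · intro s hs
      exact ((mem_normalizer_iff (H := D)).1 (pow_mem hw _) s).1 hs
  obtain ⟨P', M, hM, hMP⟩ := hcompl
  haveI := hM
  have hMq : ¬ q ∣ Nat.card M := by
    rw [← hMP.index_eq_card]
    exact P'.not_dvd_index
  have hMr : r ∣ Nat.card M := by
    refine ((Nat.Coprime.dvd_mul_right ?_).1 (hMP.card_mul ▸ hLr))
    obtain ⟨j, hj⟩ := IsPGroup.iff_card.1 P'.2
    rw [hj]
    exact Nat.Coprime.pow_right j ((Nat.coprime_primes hr.out hq.out).2 (Ne.symm hqr))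
  let ψ : (P' : Subgroup L) →* MulAut M := MulAut.conjNormal.comp (P' : Subgroup L).subtype
  obtain ⟨S, hS⟩ := CfsgLib.FixProduct.exists_invariant_sylow (q := r) ψ P'.2 hMq ⊤
  obtain ⟨w, hwo⟩ := exists_prime_orderOf_dvd_card' (G := (P' : Subgroup L)) q
    (P'.dvd_card_of_dvd_card hLq)
  refine no_normalizing φ Z hfix hsemi (Ne.symm hqr) hx hxZ hy hyZ ((S : Subgroup M).map M.subtype)
    (S.2.map _) ?_ (w : L) hq.out (by rw [Subgroup.orderOf_coe, hwo]) hqr ?_
  · intro h
    exact S.ne_bot_of_dvd_card hMr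
      ((Subgroup.map_eq_bot_iff_of_injective _ M.subtype_injective).1 h)
  · rintro _ ⟨s, hs, rfl⟩
    exact ⟨ψ w s, hS w (mem_top w) s hs, rfl⟩

end Semiregular

variable {G : Type*} [Group G] [Finite G] {N : Subgroup G} [N.Normal]

/-- The hypothesis on class sizes. -/
abbrev TwoSizes (N : Subgroup G) (m : ℕ) : Prop :=
  ∀ x ∈ N, (centralizer ({x} : Set G)).index = 1 ∨ (centralizer ({x} : Set G)).index = m

omit [N.Normal] in
theorem index_eq {m : ℕ} (h : TwoSizes N m) {x : G} (hx : x ∈ N) (hxz : x ∉ center G) :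
    (centralizer ({x} : Set G)).index = m := by
  refine (h x hx).resolve_left fun h1 => hxz ?_
  rw [index_eq_one] at h1
  rw [mem_center_iff]
  exact fun g => mem_centralizer_singleton_iff.1 (h1 ▸ mem_top g)

omit [N.Normal] in
/-- Comparable centralisers of non-central elements coincide. -/
theorem eq_of_le {m : ℕ} (h : TwoSizes N m) {x y : G} (hx : x ∈ N) (hxz : x ∉ center G) (hy : y ∈ N)
    (hyz : y ∉ center G) (hle : centralizer ({x} : Set G) ≤ centralizer ({y} : Set G)) :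
    centralizer ({x} : Set G) = centralizer ({y} : Set G) := by
  refine eq_of_le_of_card_ge hle (le_of_eq ?_)
  have h1 := (centralizer ({x} : Set G)).card_mul_index
  rw [← (centralizer ({y} : Set G)).card_mul_index, index_eq h hx hxz, index_eq h hy hyz] at h1
  have hm : m ≠ 0 := index_eq h hx hxz ▸ index_ne_zero_of_finite
  exact (Nat.eq_of_mul_eq_mul_right (Nat.pos_of_ne_zero hm) h1).symm

omit [Finite G] in
theorem centralizer_pow_ge (a : G) (k : ℕ) :
    centralizer ({a} : Set G) ≤ centralizer ({a ^ k} : Set G) := fun g hg =>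
  mem_centralizer_singleton_iff.2 ((show Commute g a from mem_centralizer_singleton_iff.1 hg).pow_right k).eq

omit [N.Normal] in
/-- Commuting non-central elements of coprime orders have the same centraliser. -/
theorem eq_of_coprime {m : ℕ} (h : TwoSizes N m) {x y : G} (hx : x ∈ N) (hxz : x ∉ center G) (hy : y ∈ N)
    (hyz : y ∉ center G) (hc : Commute x y) (hcop : (orderOf x).Coprime (orderOf y)) :
    centralizer ({x} : Set G) = centralizer ({y} : Set G) := by
  obtain ⟨i, hi⟩ := exists_pow_eq_self_of_coprime hcop.symm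
  obtain ⟨j, hj⟩ := exists_pow_eq_self_of_coprime hcop
  have h1 : ((x * y) ^ orderOf y) ^ i = x := by
    rw [hc.mul_pow, pow_orderOf_eq_one, mul_one, hi]
  have h2 : ((x * y) ^ orderOf x) ^ j = y := by
    rw [hc.mul_pow, pow_orderOf_eq_one, one_mul, hj]
  have hxy : x * y ∉ center G := fun hz => hxz (h1 ▸ pow_mem (pow_mem hz _) _)
  have e1 := eq_of_le h (mul_mem hx hy) hxy hx hxz (by
    have := centralizer_pow_ge (x * y) (orderOf y * i)
    rwa [pow_mul, h1] at this)
  have e2 := eq_of_le h (mul_mem hx hy) hxy hy hyz (by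
    have := centralizer_pow_ge (x * y) (orderOf x * j)
    rwa [pow_mul, h2] at this)
  rw [← e1, e2]

theorem coprime_of_pow {p q : ℕ} (hp : p.Prime) (hq : q.Prime) (hpq : p ≠ q) {x y : G}
    (hx : ∃ k, orderOf x = p ^ k) (hy : ∃ k, orderOf y = q ^ k) : (orderOf x).Coprime (orderOf y) := by
  obtain ⟨a, ha⟩ := hx
  obtain ⟨b, hb⟩ := hy
  rw [ha, hb]
  exact Nat.coprime_pow_primes _ _ hp hq hpq

variable {r : ℕ} [hr : Fact r.Prime]

theorem mem_of_r_element (R : Sylow r G) (hRN : (R : Subgroup G) ≤ N) {x : G}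
    (hx : ∃ k, orderOf x = r ^ k) : x ∈ N := by
  obtain ⟨k, hk⟩ := hx
  obtain ⟨S, hS⟩ := (IsPGroup.of_card (n := k) (G := zpowers x) (by rw [Nat.card_zpowers, hk])).exists_le_sylow
  obtain ⟨g, hg⟩ := MulAction.exists_smul_eq G R S
  have : x ∈ (S : Subgroup G) := hS (mem_zpowers x)
  rw [← hg, Sylow.coe_subgroup_smul, mem_pointwise_smul_iff_inv_smul_mem] at this
  have h1 := ‹N.Normal›.conj_mem _ (hRN this) g
  simpa [MulAut.smul_def, mul_assoc] using h1

/-- Every non-central element of `N` commutes with a non-central `r`-element. -/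
theorem exists_r_element {m : ℕ} (h : TwoSizes N m) (R : Sylow r G) (hRN : (R : Subgroup G) ≤ N)
    (hR : ¬ (R : Subgroup G) ≤ center G) {n : G} (hn : n ∈ N) (hnz : n ∉ center G) :
    ∃ x ∈ N, x ∉ center G ∧ (∃ k, orderOf x = r ^ k) ∧ Commute x n := by
  obtain ⟨x₀, hx₀R, hx₀z⟩ := SetLike.not_le_iff_exists.1 hR
  by_contra hno
  push Not at hno
  let C := centralizer ({n} : Set G)
  let C' := centralizer ({x₀} : Set G)
  let S : Sylow r C := default
  have hScen : ((S : Subgroup C).map C.subtype) ≤ center G := by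
    rintro _ ⟨s, hs, rfl⟩
    by_contra hsz
    obtain ⟨k, hk⟩ := IsPGroup.iff_orderOf.1 S.2 ⟨s, hs⟩
    have hk' : orderOf (C.subtype s) = r ^ k := by
      rw [Subgroup.orderOf_mk, ← Subgroup.orderOf_coe] at hk
      exact hk
    exact hno _ (mem_of_r_element R hRN ⟨k, hk'⟩) hsz ⟨k, hk'⟩ (mem_centralizer_singleton_iff.1 s.2)
  have hle : ((S : Subgroup C).map C.subtype) ≤ C' := hScen.trans (center_le_centralizer _)
  let T := ((S : Subgroup C).map C.subtype).subgroupOf C'
  have hcardC : Nat.card C' = Nat.card C := by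
    have h1 := C.card_mul_index
    rw [← C'.card_mul_index, index_eq h hn hnz, index_eq h (hRN hx₀R) hx₀z] at h1
    have hm : m ≠ 0 := index_eq h hn hnz ▸ index_ne_zero_of_finite
    exact (Nat.eq_of_mul_eq_mul_right (Nat.pos_of_ne_zero hm) h1).symm
  have hTcard : Nat.card T = r ^ (Nat.card C').factorization r := by
    rw [hcardC, ← S.card_eq_multiplicity,
      Nat.card_congr (subgroupOfEquivOfLe hle).toEquiv, card_map_of_injective C.subtype_injective]
  let S' : Sylow r C' := Sylow.ofCard T hTcard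
  haveI : T.Normal := ⟨fun a ha g => by
    have : g * a * g⁻¹ = a := Subtype.ext (by
      have h2 : (a : G) ∈ center G := hScen ha
      show (g : G) * a * (g : G)⁻¹ = a
      rw [mem_center_iff.1 h2 g, mul_inv_cancel_right])
    rwa [this]⟩
  obtain ⟨k, hk⟩ := CfsgLib.FgsB.exists_orderOf_eq_pow_of_mem R.2 hx₀R
  have hx' : x₀ ∈ C' := mem_centralizer_singleton_iff.2 rfl
  obtain ⟨S'', hS''⟩ := (IsPGroup.of_card (n := k) (G := zpowers (⟨x₀, hx'⟩ : C'))
    (by rw [Nat.card_zpowers, Subgroup.orderOf_mk, hk])).exists_le_sylow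
  have hmem : (⟨x₀, hx'⟩ : C') ∈ T := by
    have h1 := hS'' (mem_zpowers _)
    have hle' : T ≤ (S'' : Subgroup C') :=
      IsPGroup.le_sylow_of_normal (IsPGroup.of_card hTcard) S''
    rwa [show (S'' : Subgroup C') = T from S'.3 S''.2 hle'] at h1
  exact hx₀z (hScen hmem)

/-- A structured centraliser: all its non-central elements of `N` have the same centraliser. -/
abbrev Flat (N : Subgroup G) (z : G) : Prop :=
  ∀ a ∈ N, a ∈ centralizer ({z} : Set G) → a ∉ center G →
    centralizer ({a} : Set G) = centralizer ({z} : Set G)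

/-- Centralisers of non-central elements of order prime to `r` are flat. -/
theorem flat_of_ne {m : ℕ} (h : TwoSizes N m) (R : Sylow r G) (hRN : (R : Subgroup G) ≤ N)
    (hR : ¬ (R : Subgroup G) ≤ center G) {q : ℕ} (hq : q.Prime) (hqr : q ≠ r) {y : G} (hy : y ∈ N)
    (hyz : y ∉ center G) (hyq : ∃ k, orderOf y = q ^ k) : Flat N y := by
  obtain ⟨x, hx, hxz, hxr, hxy⟩ := exists_r_element h R hRN hR hy hyz
  have hxy' := eq_of_coprime h hx hxz hy hyz hxy (coprime_of_pow hr.out hq (Ne.symm hqr) hxr hyq)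
  intro a ha hac haz
  obtain ⟨k, ⟨p, n, hp, hpn⟩, hkz⟩ : ∃ k, (∃ p n : ℕ, p.Prime ∧ orderOf (a ^ k) = p ^ n) ∧
      a ^ k ∉ center G := by
    by_contra hno
    push Not at hno
    exact haz (mem_of_primePow_parts _ a fun k hk => hno k hk)
  have hakC : a ^ k ∈ centralizer ({y} : Set G) := pow_mem hac k
  have e : centralizer ({a ^ k} : Set G) = centralizer ({y} : Set G) := by
    by_cases hpr : p = r
    · exact eq_of_coprime h (pow_mem ha k) hkz hy hyz (mem_centralizer_singleton_iff.1 hakC)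
        (coprime_of_pow hp hq (hpr ▸ Ne.symm hqr) ⟨n, hpn⟩ hyq)
    · rw [← hxy'] at hakC ⊢
      exact eq_of_coprime h (pow_mem ha k) hkz hx hxz (mem_centralizer_singleton_iff.1 hakC)
        (coprime_of_pow hp hr.out hpr ⟨n, hpn⟩ hxr)
  rw [← e]
  exact eq_of_le h ha haz (pow_mem ha k) hkz (centralizer_pow_ge a k)

omit [N.Normal] in
theorem commute_of_flat {z : G} (hf : Flat N z) {a b : G} (ha : a ∈ N) (hac : a ∈ centralizer ({z} : Set G))
    (hbc : b ∈ centralizer ({z} : Set G)) : Commute a b := by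
  by_cases haz : a ∈ center G
  · exact ((mem_center_iff.1 haz) b).symm
  · have := (hf a ha hac haz).symm ▸ hbc
    exact (mem_centralizer_singleton_iff.1 this : b * a = a * b).symm

/-- A flat centraliser containing a Sylow subgroup of `G` forces `N` to be abelian. -/
theorem abelian_of_full {m : ℕ} (h : TwoSizes N m) {z : G} (hz : z ∈ N) (hzz : z ∉ center G)
    (hf : Flat N z) {q : ℕ} [Fact q.Prime] (hzq : ∃ k, orderOf z = q ^ k) (P : Sylow q G)
    (hP : (P : Subgroup G) ≤ centralizer ({z} : Set G)) : ∀ a ∈ N, ∀ b ∈ N, Commute a b := by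
  have hzP : z ∈ (P : Subgroup G) := by
    obtain ⟨k, hk⟩ := hzq
    have hsup : IsPGroup q ↥((P : Subgroup G) ⊔ zpowers z) :=
      P.2.to_sup_of_normal_right' (IsPGroup.of_card (n := k) (by rw [Nat.card_zpowers, hk]))
        (fun g hg => mem_normalizer_fintype fun _ hw => by
          obtain ⟨j, rfl⟩ := mem_zpowers_iff.1 hw
          rw [((show Commute g z from mem_centralizer_singleton_iff.1 (hP hg)).zpow_right j).eq,
            mul_inv_cancel_right]
          exact zpow_mem (mem_zpowers z) j)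
    rw [← P.3 hsup le_sup_left]
    exact mem_sup_right (mem_zpowers z)
  obtain ⟨Q, hQ⟩ := CfsgLib.LocalEven.exists_sylow_inf_eq P (N := ⊤) (C := N) le_top le_top
    (by rw [Subgroup.normalizer_eq_top_iff.2 inferInstance])
  let A := centralizer ({z} : Set G) ⊓ N
  have hzQ : z ∈ (Q : Subgroup N).map N.subtype := by rw [hQ]; exact ⟨hzP, hz⟩
  have hQA : (Q : Subgroup N).map N.subtype ≤ A := by rw [hQ]; exact le_inf (inf_le_left.trans hP) inf_le_right
  have hmq : ¬ q ∣ m := fun hd =>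
    P.not_dvd_index ((hd.trans (index_eq h hz hzz ▸ dvd_rfl)).trans (index_dvd_of_le hP))
  -- every element of `N` is conjugate into `A`
  have hcov : ∀ n ∈ N, ∃ g : G, g⁻¹ * n * g ∈ A := by
    intro n hn
    by_cases hnz : n ∈ center G
    · exact ⟨1, by simpa using ⟨center_le_centralizer _ hnz, hn⟩⟩
    let C := centralizer ({n} : Set G)
    let S : Sylow q C := default
    have hcard : Nat.card ((S : Subgroup C).map C.subtype) = q ^ (Nat.card G).factorization q := by
      rw [card_map_of_injective C.subtype_injective, S.card_eq_multiplicity, ← C.card_mul_index,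
        index_eq h hn hnz, Nat.factorization_mul Nat.card_pos.ne'
          (index_eq h hn hnz ▸ index_ne_zero_of_finite), Finsupp.add_apply,
        Nat.factorization_eq_zero_of_not_dvd hmq, add_zero]
    obtain ⟨g, hg⟩ := MulAction.exists_smul_eq G P (Sylow.ofCard _ hcard)
    have hgz : g * z * g⁻¹ ∈ C := by
      have h1 : g * z * g⁻¹ ∈ ((g • P : Sylow q G) : Subgroup G) := by
        rw [Sylow.coe_subgroup_smul, mem_pointwise_smul_iff_inv_smul_mem]
        simpa [MulAut.smul_def, mul_assoc] using hzP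
      rw [hg, Sylow.coe_ofCard] at h1
      obtain ⟨s, -, hs⟩ := h1
      rw [← hs]
      exact s.2
    refine ⟨g, mem_centralizer_singleton_iff.2 ?_, by
      simpa using ‹N.Normal›.conj_mem n hn g⁻¹⟩
    have h2 : g * z * g⁻¹ * n = n * (g * z * g⁻¹) := mem_centralizer_singleton_iff.1 hgz
    calc g⁻¹ * n * g * z = g⁻¹ * (n * (g * z * g⁻¹)) * g := by group
      _ = g⁻¹ * (g * z * g⁻¹ * n) * g := by rw [h2]
      _ = z * (g⁻¹ * n * g) := by group
  -- the conjugating element may be taken in `N`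
  have hcov' : ∀ n : N, ∃ g : N, g⁻¹ * n * g ∈ A.subgroupOf N := by
    intro n
    obtain ⟨g, hgA⟩ := hcov n n.2
    have hg : g ∈ N ⊔ normalizer (((Q : Subgroup N).map N.subtype : Subgroup G) : Set G) := by
      rw [sup_comm, Sylow.normalizer_sup_eq_top]; exact mem_top g
    obtain ⟨b, hb, k, hk, rfl⟩ := mem_sup_of_normal_left.1 hg
    refine ⟨⟨b, hb⟩, mem_subgroupOf.2 ?_⟩
    show b⁻¹ * (n : G) * b ∈ A
    have hkz : k * z * k⁻¹ ∈ (Q : Subgroup N).map N.subtype :=
      ((mem_normalizer_iff (H := (Q : Subgroup N).map N.subtype)).1 hk z).1 hzQ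
    have e : centralizer ({k * z * k⁻¹} : Set G) = centralizer ({z} : Set G) :=
      hf _ (hQA hkz).2 (hQA hkz).1 fun hc => hzz (by
        have := (inferInstance : (center G).Normal).conj_mem _ hc k⁻¹
        simpa [mul_assoc] using this)
    refine ⟨?_, by simpa using ‹N.Normal›.conj_mem _ n.2 b⁻¹⟩
    rw [← e]
    refine mem_centralizer_singleton_iff.2 ?_
    have h2 : (b * k)⁻¹ * n * (b * k) * z = z * ((b * k)⁻¹ * n * (b * k)) :=
      mem_centralizer_singleton_iff.1 hgA.1
    calc b⁻¹ * (n : G) * b * (k * z * k⁻¹) = k * ((b * k)⁻¹ * n * (b * k) * z) * k⁻¹ := by group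
      _ = k * (z * ((b * k)⁻¹ * n * (b * k))) * k⁻¹ := by rw [h2]
      _ = k * z * k⁻¹ * (b⁻¹ * (n : G) * b) := by group
  have htop := CfsgLib.FgsB.eq_top_of_forall_exists_conj_mem hcov'
  have hmem : ∀ a ∈ N, a ∈ centralizer ({z} : Set G) := fun a ha =>
    (show a ∈ A from mem_subgroupOf.1 (htop ▸ mem_top (⟨a, ha⟩ : N))).1
  exact fun a ha b hb => commute_of_flat hf ha (hmem a ha) (hmem b hb)

/-- The `s`-elements of an abelian subgroup. -/
def primePart (A : Subgroup G) (hA : ∀ a ∈ A, ∀ b ∈ A, Commute a b) (s : ℕ) : Subgroup G where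
  carrier := {a | a ∈ A ∧ ∃ k, a ^ s ^ k = 1}
  one_mem' := ⟨A.one_mem, 0, one_pow _⟩
  mul_mem' := by
    rintro a b ⟨ha, i, hi⟩ ⟨hb, j, hj⟩
    refine ⟨A.mul_mem ha hb, i + j, ?_⟩
    rw [(hA a ha b hb).mul_pow, pow_add, pow_mul, hi, one_pow, one_mul, mul_comm, pow_mul, hj, one_pow]
  inv_mem' := by
    rintro a ⟨ha, i, hi⟩
    exact ⟨A.inv_mem ha, i, by rw [inv_pow, hi, inv_one]⟩

omit [Finite G] in
theorem primePart_isPGroup (A : Subgroup G) (hA : ∀ a ∈ A, ∀ b ∈ A, Commute a b) (s : ℕ) :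
    IsPGroup s (primePart A hA s) := fun ⟨_, _, k, hk⟩ => ⟨k, Subtype.ext hk⟩

/-- Either the `s`-part of a maximal flat centraliser is a Sylow subgroup of `N`, or an `s`-element
outside it normalises it. -/
theorem sylow_or_normalising {y : G} (hfy : Flat N y) (hA : ∀ a ∈ centralizer ({y} : Set G) ⊓ N,
    ∀ b ∈ centralizer ({y} : Set G) ⊓ N, Commute a b) {s : ℕ} [Fact s.Prime] {a : G}
    (ha : a ∈ centralizer ({y} : Set G) ⊓ N) (haz : a ∉ center G) (has : ∃ k, orderOf a = s ^ k) :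
    (∃ S : Sylow s N, (S : Subgroup N).map N.subtype = primePart _ hA s) ∨
      ∃ w ∈ N, w ∉ centralizer ({y} : Set G) ∧ (∃ k, orderOf w = s ^ k) ∧
        ∀ b ∈ centralizer ({y} : Set G) ⊓ N, w * b * w⁻¹ ∈ centralizer ({y} : Set G) ⊓ N := by
  set A := centralizer ({y} : Set G) ⊓ N with hAdef
  set T := primePart A hA s
  have haT : a ∈ T := by
    obtain ⟨k, hk⟩ := has
    exact ⟨ha, k, by rw [← hk, pow_orderOf_eq_one]⟩
  have hTN : T ≤ N := fun _ hb => hb.1.2
  obtain ⟨S, hS⟩ := ((primePart_isPGroup A hA s).comap_subtype (K := N)).exists_le_sylow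
  by_cases hST : (S : Subgroup N) ≤ T.subgroupOf N
  · refine Or.inl ⟨S, ?_⟩
    rw [le_antisymm hST hS, subgroupOf_map_subtype, inf_of_le_left hTN]
  refine Or.inr ?_
  have hlt : (T.subgroupOf N).subgroupOf S < ⊤ :=
    lt_top_iff_ne_top.2 fun htop => hST (subgroupOf_eq_top.1 htop)
  obtain ⟨w, hw, hwT⟩ := SetLike.exists_of_lt (Group.normalizerCondition_of_isNilpotent (h := S.2.isNilpotent) _ hlt)
  have hws : ∃ k, orderOf ((w : N) : G) = s ^ k := by
    obtain ⟨k, hk⟩ := CfsgLib.FgsB.exists_orderOf_eq_pow_of_mem S.2 w.2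
    exact ⟨k, by rw [Subgroup.orderOf_coe, hk]⟩
  refine ⟨((w : N) : G), (w : N).2, fun hwy => hwT ?_, hws, fun b hb => ?_⟩
  · obtain ⟨k, hk⟩ := hws
    exact ⟨⟨hwy, (w : N).2⟩, k, by
      show ((w : N) : G) ^ s ^ k = 1
      rw [← hk, pow_orderOf_eq_one]⟩
  have haS : (⟨a, hTN haT⟩ : N) ∈ (S : Subgroup N) := hS haT
  have hwa : ((w : N) : G) * a * ((w : N) : G)⁻¹ ∈ T :=
    ((mem_normalizer_iff (H := (T.subgroupOf N).subgroupOf S)).1 hw ⟨_, haS⟩).1 haT
  have hwaz : ((w : N) : G) * a * ((w : N) : G)⁻¹ ∉ center G := fun hc => haz (by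
    have := (inferInstance : (center G).Normal).conj_mem _ hc ((w : N) : G)⁻¹
    simpa [mul_assoc] using this)
  have hbN : ((w : N) : G) * b * ((w : N) : G)⁻¹ ∈ N := ‹N.Normal›.conj_mem b hb.2 _
  refine ⟨?_, hbN⟩
  rw [← hfy _ hwa.1.2 hwa.1.1 hwaz]
  refine mem_centralizer_singleton_iff.2 ?_
  calc ((w : N) : G) * b * ((w : N) : G)⁻¹ * (((w : N) : G) * a * ((w : N) : G)⁻¹)
      = ((w : N) : G) * (b * a) * ((w : N) : G)⁻¹ := by group
    _ = ((w : N) : G) * (a * b) * ((w : N) : G)⁻¹ := by rw [(hA b hb a ha).eq]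
    _ = _ := by group

/-- A central element of an abelian Sylow subgroup lying in the commutator subgroup is trivial. -/
theorem eq_one_of_mem_commutator {H : Type*} [Group H] [Finite H] {q : ℕ} [Fact q.Prime]
    (Q : Sylow q H) (hQ : ∀ a ∈ (Q : Subgroup H), ∀ b ∈ (Q : Subgroup H), Commute a b) {z : H}
    (hzQ : z ∈ (Q : Subgroup H)) (hzc : z ∈ center H) (hz : z ∈ commutator H) : z = 1 := by
  let : CommGroup (Q : Subgroup H) :=
    { (inferInstance : Group (Q : Subgroup H)) with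
      mul_comm := fun a b => Subtype.ext (hQ a a.2 b b.2) }
  let τ := MonoidHom.transfer (MonoidHom.id (Q : Subgroup H))
  have hkey : ∀ (k : ℕ) (g₀ : H), g₀⁻¹ * z ^ k * g₀ ∈ (Q : Subgroup H) → g₀⁻¹ * z ^ k * g₀ = z ^ k := by
    intro k g₀ _
    rw [mul_assoc, ← mem_center_iff.1 (pow_mem hzc k) g₀, inv_mul_cancel_left]
  have h1 : τ z = 1 := MonoidHom.mem_ker.1 ((Abelianization.commutator_subset_ker τ) hz)
  rw [MonoidHom.transfer_eq_pow _ z hkey] at h1
  have h2 : z ^ (Q : Subgroup H).index = 1 := congrArg Subtype.val h1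
  obtain ⟨k, hk⟩ := CfsgLib.FgsB.exists_orderOf_eq_pow_of_mem Q.2 hzQ
  refine orderOf_eq_one_iff.1 (Nat.eq_one_of_dvd_coprimes ?_ (orderOf_dvd_of_pow_eq_one h2)
    (hk ▸ dvd_rfl : orderOf z ∣ q ^ k))
  exact Nat.Coprime.pow_right k ((Nat.Prime.coprime_iff_not_dvd Fact.out).2 Q.not_dvd_index).symm

omit [Finite G] [N.Normal] in
/-- The conjugation action of the normaliser of a flat centraliser in `N`. -/
theorem semiregular_action_false [Finite G] {y : G} {q s : ℕ} [Fact q.Prime] [Fact s.Prime] (hqs : q ≠ s)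
    (A : Subgroup G) (hA : ∀ a ∈ A, ∀ b ∈ A, Commute a b) (hAN : A ≤ N)
    (hself : ∀ a ∈ A, a ∉ center G → ∀ g ∈ N, Commute g a → g ∈ A)
    {x : G} (hy : y ∈ A) (hyz : y ∉ center G) (hyq : ∃ k, orderOf y = q ^ k)
    (hx : x ∈ A) (hxz : x ∉ center G) (hxs : ∃ k, orderOf x = s ^ k)
    {w v : G} (hw : w ∈ N) (hwA : w ∉ A) (hwq : ∃ k, orderOf w = q ^ k) (hwn : ∀ b ∈ A, w * b * w⁻¹ ∈ A)
    (hv : v ∈ N) (hvA : v ∉ A) (hvs : ∃ k, orderOf v = s ^ k) (hvn : ∀ b ∈ A, v * b * v⁻¹ ∈ A) : False := by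
  let K := normalizer (A : Set G) ⊓ N
  have hmemK : ∀ g ∈ N, (∀ b ∈ A, g * b * g⁻¹ ∈ A) → g ∈ K := fun g hg hn =>
    ⟨Subgroup.mem_normalizer_fintype hn, hg⟩
  have hAK : A ≤ K := le_inf le_normalizer hAN
  let A' := A.subgroupOf K
  haveI : A'.Normal := (normal_subgroupOf_iff_le_normalizer hAK).2 inf_le_left
  let : CommGroup A' :=
    { (inferInstance : Group A') with
      mul_comm := fun a b => Subtype.ext (Subtype.ext (hA _ a.2 _ b.2)) }
  let ψ : K →* MulAut A' := MulAut.conjNormal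
  have hψ : A' ≤ ψ.ker := fun k hk => MonoidHom.mem_ker.2 <| MulEquiv.ext fun a => Subtype.ext <| by
    rw [MulAut.conjNormal_apply, MulAut.one_apply]
    refine Subtype.ext ?_
    have h3 : (k : G) * ((a : K) : G) = ((a : K) : G) * k := hA _ hk _ a.2
    show (k : G) * (a : K) * (k : G)⁻¹ = ((a : K) : G)
    rw [h3, mul_inv_cancel_right]
  let φ : K ⧸ A' →* MulAut A' := QuotientGroup.lift A' ψ hψ
  let Z : Subgroup A' := ((center G).subgroupOf K).subgroupOf A'
  have hfix : ∀ l, ∀ a ∈ Z, φ l a = a := by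
    intro l a ha
    obtain ⟨k, rfl⟩ := QuotientGroup.mk_surjective l
    refine Subtype.ext (Subtype.ext ?_)
    have h3 : (k : G) * ((a : K) : G) = ((a : K) : G) * k := mem_center_iff.1 ha (k : G)
    show (k : G) * ((a : K) : G) * (k : G)⁻¹ = ((a : K) : G)
    rw [h3, mul_inv_cancel_right]
  have hsemi : ∀ l, ∀ a, a ∉ Z → φ l a = a → l = 1 := by
    intro l a ha hla
    obtain ⟨k, rfl⟩ := QuotientGroup.mk_surjective l
    rw [QuotientGroup.eq_one_iff]
    have h1 : (k : G) * ((a : K) : G) * (k : G)⁻¹ = ((a : K) : G) :=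
      congrArg Subtype.val (congrArg Subtype.val hla)
    exact hself _ a.2 ha _ k.2.2 (mul_inv_eq_iff_eq_mul.1 h1)
  have hdvd : ∀ (p : ℕ), p.Prime → ∀ g ∈ N, g ∉ A → (∃ k, orderOf g = p ^ k) →
      (∀ b ∈ A, g * b * g⁻¹ ∈ A) → p ∣ Nat.card (K ⧸ A') := by
    intro p hp g hg hgA ⟨k, hk⟩ hn
    let l : K ⧸ A' := QuotientGroup.mk ⟨g, hmemK g hg hn⟩
    have hl : l ≠ 1 := fun h => hgA ((QuotientGroup.eq_one_iff (N := A') (⟨g, hmemK g hg hn⟩ : K)).1 h)
    have hd : orderOf l ∣ p ^ k := hk ▸ (orderOf_map_dvd (QuotientGroup.mk' A') _).trans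
      (Subgroup.orderOf_mk g (hmemK g hg hn)).dvd
    obtain ⟨i, -, hi⟩ := (Nat.dvd_prime_pow hp).1 hd
    have hi0 : i ≠ 0 := fun h0 => hl (orderOf_eq_one_iff.1 (by rw [hi, h0, pow_zero]))
    exact (dvd_pow_self p hi0).trans (hi ▸ orderOf_dvd_natCard l)
  have hord : ∀ (g : G) (hg : g ∈ A), orderOf (⟨⟨g, hAK hg⟩, hg⟩ : A') = orderOf g := fun g hg => by
    rw [← Subgroup.orderOf_coe, ← Subgroup.orderOf_coe]
  exact semiregular_false φ Z hfix hsemi hqs (y := ⟨⟨y, hAK hy⟩, hy⟩) (x := ⟨⟨x, hAK hx⟩, hx⟩)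
    (by rw [hord]; exact hyq) hyz (by rw [hord]; exact hxs) hxz
    (hdvd q Fact.out w hw hwA hwq hwn) (hdvd s Fact.out v hv hvA hvs hvn)

/-- **The nilpotency theorem.** -/
theorem isNilpotent {m : ℕ} (h : TwoSizes N m) (R : Sylow r G) (hRN : (R : Subgroup G) ≤ N)
    (hR : ¬ (R : Subgroup G) ≤ center G) : Group.IsNilpotent N := by
  by_contra hnil
  have hna : ¬ ∀ a ∈ N, ∀ b ∈ N, Commute a b := by
    intro hab
    let : CommGroup N :=
      { (inferInstance : Group N) with mul_comm := fun a b => Subtype.ext (hab a a.2 b b.2) }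
    exact hnil CommGroup.isNilpotent
  obtain ⟨q, hq, hqr, y, hy, hyz, hyq⟩ : ∃ q, q.Prime ∧ q ≠ r ∧ ∃ y ∈ N, y ∉ center G ∧
      ∃ k, orderOf y = q ^ k := by
    by_contra hno
    push Not at hno
    refine hnil (Group.of_quotient_center_nilpotent (G := N) (h := ?_))
    refine IsPGroup.isNilpotent (p := r) ?_
    intro l
    obtain ⟨a, rfl⟩ := QuotientGroup.mk_surjective l
    obtain ⟨e, v, hv, hav⟩ := Nat.exists_eq_pow_mul_and_not_dvd (orderOf_pos (a : G)).ne' r hr.out.ne_one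
    refine ⟨e, ?_⟩
    rw [← QuotientGroup.mk_pow, QuotientGroup.eq_one_iff]
    have hb : orderOf ((a : G) ^ r ^ e) = v := by
      rw [orderOf_pow_of_dvd (pow_ne_zero _ hr.out.ne_zero) ⟨v, hav⟩, hav,
        Nat.mul_div_cancel_left _ (pow_pos hr.out.pos e)]
    have hcen : (a : G) ^ r ^ e ∈ center G := by
      refine mem_of_primePow_parts _ _ fun k ⟨p, n, hp, hpn⟩ => ?_
      by_cases hpr : p = r
      · by_cases hn0 : n = 0
        · rw [hn0, pow_zero, orderOf_eq_one_iff] at hpn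
          rw [hpn]; exact one_mem _
        · exfalso
          refine hv ((hpr ▸ dvd_pow_self p hn0).trans ?_)
          rw [← hpr, ← hpn, ← hb]
          exact orderOf_pow_dvd k
      · by_contra hz
        exact hno p hp hpr _ (pow_mem (pow_mem a.2 _) k) hz n hpn
    refine mem_center_iff.2 fun g => Subtype.ext ?_
    simpa using mem_center_iff.1 hcen (g : G)
  haveI : Fact q.Prime := ⟨hq⟩
  obtain ⟨x, hx, hxz, hxr, hxy⟩ := exists_r_element h R hRN hR hy hyz
  have hxy' := eq_of_coprime h hx hxz hy hyz hxy (coprime_of_pow hr.out hq (Ne.symm hqr) hxr hyq)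
  have hfy : Flat N y := flat_of_ne h R hRN hR hq hqr hy hyz hyq
  have hfx : Flat N x := by intro a ha hac haz; rw [hxy'] at hac ⊢; exact hfy a ha hac haz
  set A := centralizer ({y} : Set G) ⊓ N with hAdef
  have hA : ∀ a ∈ A, ∀ b ∈ A, Commute a b := fun a ha b hb => commute_of_flat hfy ha.2 ha.1 hb.1
  have hyA : y ∈ A := ⟨mem_centralizer_singleton_iff.2 rfl, hy⟩
  have hxA : x ∈ A := ⟨hxy' ▸ mem_centralizer_singleton_iff.2 rfl, hx⟩
  have hself : ∀ a ∈ A, a ∉ center G → ∀ g ∈ N, Commute g a → g ∈ A := fun a ha haz g hg hga =>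
    ⟨hfy a ha.2 ha.1 haz ▸ mem_centralizer_singleton_iff.2 hga, hg⟩
  -- an `r`-element normalising `A`
  obtain ⟨v, hv, hvy, hvr, hvn⟩ := (sylow_or_normalising hfy hA hxA hxz hxr).resolve_left (by
    rintro ⟨S, hS⟩
    have hcard : Nat.card (primePart A hA r) = r ^ (Nat.card G).factorization r := by
      rw [← hS, card_map_of_injective N.subtype_injective, ← R.card_eq_multiplicity,
        S.card_eq_multiplicity, ← (R.subtype hRN).card_eq_multiplicity, Sylow.coe_subtype,
        Nat.card_congr (subgroupOfEquivOfLe hRN).toEquiv]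
    exact hna (abelian_of_full h hx hxz hfx hxr (Sylow.ofCard _ hcard) fun g hg => by
      rw [Sylow.coe_ofCard] at hg
      rw [hxy']
      exact hg.1.1))
  -- so the `q`-part of `A` is a Sylow subgroup of `N`
  obtain ⟨Q, hQ⟩ := (sylow_or_normalising hfy hA hyA hyz hyq).resolve_right (by
    rintro ⟨w, hw, hwy, hwq, hwn⟩
    exact semiregular_action_false (N := N) hqr A hA inf_le_right hself hyA hyz hyq hxA hxz hxr
      hw (fun hwA => hwy hwA.1) hwq hwn hv (fun hvA => hvy hvA.1) hvr hvn)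
  set T := primePart A hA q with hT
  have hyT : y ∈ T := by
    obtain ⟨k, hk⟩ := hyq
    exact ⟨hyA, k, by rw [← hk, pow_orderOf_eq_one]⟩
  have hvT : v * y⁻¹ * v⁻¹ ∈ T := by
    obtain ⟨hyA', k, hk⟩ := inv_mem hyT
    exact ⟨hvn _ hyA', k, by rw [← MulAut.conj_apply, ← map_pow, hk, map_one]⟩
  have hTN : T ≤ N := fun _ hb => hb.1.2
  obtain ⟨P, hP⟩ := (primePart_isPGroup A hA q).exists_le_sylow
  have hPN : (P : Subgroup G) ⊓ N = T := by
    refine le_antisymm ?_ (le_inf hP hTN)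
    have hle : (Q : Subgroup N) ≤ (P : Subgroup G).subgroupOf N := fun a ha => by
      have h1 := mem_map_of_mem N.subtype ha
      rw [hQ] at h1
      exact hP h1
    rintro a ⟨haP, haN⟩
    have : (⟨a, haN⟩ : N) ∈ (Q : Subgroup N) := Q.3 (P.2.comap_subtype) hle ▸ haP
    exact hQ ▸ mem_map_of_mem N.subtype this
  let D : Subgroup (P : Subgroup G) := (T ⊓ ⁅N, N⁆).subgroupOf P
  haveI : D.Normal := ⟨fun d hd g => by
    have h1 : (g : G) * d * (g : G)⁻¹ ∈ (P : Subgroup G) ⊓ N :=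
      ⟨mul_mem (mul_mem g.2 d.2) (inv_mem g.2 : ((g : G))⁻¹ ∈ (P : Subgroup G)), ‹N.Normal›.conj_mem _ (hTN hd.1) _⟩
    exact ⟨hPN ▸ h1, (inferInstance : (⁅N, N⁆).Normal).conj_mem _ hd.2 _⟩⟩
  have hD : D ≠ ⊥ := by
    intro hbot
    have hc : ⁅y, v⁆ ∈ T ⊓ ⁅N, N⁆ := ⟨by
      rw [commutatorElement_def, mul_assoc, mul_assoc, ← mul_assoc v]
      exact mul_mem hyT hvT, commutator_mem_commutator hy hv⟩
    have : (⟨⁅y, v⁆, hP hc.1⟩ : (P : Subgroup G)) ∈ D := hc
    rw [hbot, mem_bot] at this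
    refine hvy (mem_centralizer_singleton_iff.2 ?_)
    exact (commutatorElement_eq_one_iff_mul_comm.1 (congrArg Subtype.val this)).symm
  obtain ⟨⟨z', hz'D, hz'c⟩, hz'1⟩ := ne_bot_iff_exists_ne_one.1
    (CfsgLib.PGroups.inf_center_ne_bot P.2 hD)
  set z : G := (z' : G) with hz
  have hzT : z ∈ T := hz'D.1
  have hPz : (P : Subgroup G) ≤ centralizer ({z} : Set G) := fun g hg =>
    mem_centralizer_singleton_iff.2 (congrArg Subtype.val (mem_center_iff.1 hz'c ⟨g, hg⟩))
  by_cases hzc : z ∈ center G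
  · refine hz'1 (Subtype.ext (Subtype.ext ?_))
    have hzN : (⟨z, hTN hzT⟩ : N) = 1 := by
      refine eq_one_of_mem_commutator Q ?_ ?_ ?_ ?_
      · intro a ha b hb
        have ha' := hQ ▸ mem_map_of_mem N.subtype ha
        have hb' := hQ ▸ mem_map_of_mem N.subtype hb
        exact Subtype.ext (hA _ ha'.1 _ hb'.1).eq
      · obtain ⟨a, ha, hae⟩ := (hQ ▸ hzT : z ∈ (Q : Subgroup N).map N.subtype)
        have : a = ⟨z, hTN hzT⟩ := Subtype.ext hae
        exact this ▸ ha
      · exact mem_center_iff.2 fun g => Subtype.ext (mem_center_iff.1 hzc (g : G))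
      · have h2 : z ∈ (commutator N).map N.subtype := by
          rw [map_subtype_commutator]; exact hz'D.2
        obtain ⟨a, ha, hae⟩ := h2
        have : a = ⟨z, hTN hzT⟩ := Subtype.ext hae
        exact this ▸ ha
    have h3 : z = ((1 : N) : G) := congrArg Subtype.val hzN
    exact h3
  · have hzq : ∃ k, orderOf z = q ^ k := by
      obtain ⟨k, hk⟩ := IsPGroup.iff_orderOf.1 (primePart_isPGroup A hA q) ⟨z, hzT⟩
      exact ⟨k, by rw [← hk, Subgroup.orderOf_mk]⟩
    have e : centralizer ({z} : Set G) = centralizer ({y} : Set G) := hfy z (hTN hzT) hzT.1.1 hzc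
    have hfz : Flat N z := by intro a ha hac haz; rw [e] at hac ⊢; exact hfy a ha hac haz
    exact hna (abelian_of_full h (hTN hzT) hzc hfz hzq P hPz)

end CfsgLib.PGroups.TwoSizesSylow
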