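import Cfsg.Prelude.Def_KGroupFacts
import Cfsg.Agent.Lib.PGroups.Critical
import Cfsg.Agent.Lib.PGroups.Commutator
import Cfsg.Agent.Lib.Fusion.SmallElements
import Cfsg.Agent.Lib.Transfer.NormalPComplement

/-!
# Invariant critical subgroups inside `[P, O^p(G)]`
-/

set_option autoImplicit false
set_option linter.unusedSectionVars false

namespace CfsgLib.PGroups.InvariantCritical

open Cfsg Subgroup
open scoped commutatorElement

universe u

variable {P : Type u} [Group P] [Finite P] {p : ℕ} [hp : Fact p.Prime]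

/-- An automorphism of order prime to `p` fixes `x` once it fixes `x⁻¹ α(x)`. -/
theorem eq_of_fixed_div (hP : IsPGroup p P) {α : MulAut P} (hα : (orderOf α).Coprime p) {x : P}
    (h : α (x⁻¹ * α x) = x⁻¹ * α x) : α x = x := by
  have hpow : ∀ n : ℕ, (α ^ n) x = x * (x⁻¹ * α x) ^ n := by
    intro n
    induction n with
    | zero => simp
    | succ n ih =>
      rw [pow_succ', MulAut.mul_apply, ih, map_mul, map_pow, h, pow_succ' (x⁻¹ * α x), ← mul_assoc,
        ← mul_assoc, mul_inv_cancel, one_mul]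
  have h4 := hpow (orderOf α)
  rw [pow_orderOf_eq_one, MulAut.one_apply, left_eq_mul] at h4
  obtain ⟨k, hk⟩ := hP (x⁻¹ * α x)
  have h5 : x⁻¹ * α x = 1 := orderOf_eq_one_iff.mp (Nat.eq_one_of_dvd_coprimes (hα.pow_right k)
    (orderOf_dvd_of_pow_eq_one h4) (orderOf_dvd_of_pow_eq_one hk))
  exact (inv_mul_eq_one.mp h5).symm

variable (G : Subgroup (MulAut P))

/-- A subgroup invariant under `G`. -/
def Inv (D : Subgroup P) : Prop := ∀ α ∈ G, D.map α.toMonoidHom = D

theorem Inv.of_le {D : Subgroup P} (h : ∀ α ∈ G, ∀ x ∈ D, α x ∈ D) : Inv G D := fun α hα => by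
  refine le_antisymm (map_le_iff_le_comap.mpr fun x hx => h α hα x hx) fun x hx => ?_
  exact ⟨α⁻¹ x, h _ (inv_mem hα) x hx, MulAut.apply_inv_self P α x⟩

theorem Inv.mem {D : Subgroup P} (h : Inv G D) {α : MulAut P} (hα : α ∈ G) {x : P} (hx : x ∈ D) :
    α x ∈ D := (h α hα).le ⟨x, hx, rfl⟩

theorem Inv.normal (hG : Inn P ≤ G) {D : Subgroup P} (h : Inv G D) : D.Normal :=
  ⟨fun x hx g => h.mem G (hG ⟨g, rfl⟩) hx⟩

theorem Inv.inf {D E : Subgroup P} (h : Inv G D) (h' : Inv G E) : Inv G (D ⊓ E) :=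
  Inv.of_le G fun _ hα _ hx => ⟨h.mem G hα hx.1, h'.mem G hα hx.2⟩

theorem Inv.centralizer {D : Subgroup P} (h : Inv G D) : Inv G (centralizer (D : Set P)) :=
  Inv.of_le G fun α hα c hc => mem_centralizer_iff.mpr fun d hd => by
    have h1 := congrArg α (mem_centralizer_iff.mp hc _ (h.mem G (inv_mem hα) hd))
    rwa [map_mul, map_mul, MulAut.apply_inv_self] at h1

/-- The subgroup `[P, O^p(G)]`. -/
def comK (p : ℕ) : Subgroup P :=
  closure {y : P | ∃ α ∈ Cfsg.pResidual p ↥G, ∃ x : P, y = x⁻¹ * (α : MulAut P) x}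

theorem inv_comK : Inv G (comK G p) := by
  refine Inv.of_le G fun α hα x hx => ?_
  suffices h : comK G p ≤ (comK G p).comap α.toMonoidHom from h hx
  refine (closure_le _).mpr ?_
  rintro _ ⟨β, hβ, z, rfl⟩
  refine subset_closure ⟨⟨α, hα⟩ * β * ⟨α, hα⟩⁻¹,
    (CfsgLib.Transfer.pResidual_normal (G := ↥G) (p := p)).conj_mem β hβ _, α z, ?_⟩
  simp [MulAut.inv_apply_self]

theorem mem_comK {α : MulAut P} (hα : α ∈ G) (hcop : (orderOf α).Coprime p) (x : P) :
    x⁻¹ * α x ∈ comK G p :=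
  subset_closure ⟨⟨α, hα⟩, CfsgLib.Transfer.mem_pResidual_of_coprime
    (by rwa [← Subgroup.orderOf_coe]), x, rfl⟩

variable {G}

theorem detect_of_self_centralizing (hG : Inn P ≤ G) (hP : IsPGroup p P) {H : Subgroup P}
    (hH : Inv G H) (hHK : H ≤ comK G p) (hC : comK G p ⊓ Subgroup.centralizer (H : Set P) ≤ H)
    {α : MulAut P} (hα : α ∈ G) (hcop : (orderOf α).Coprime p) (hfix : ∀ h ∈ H, α h = h) :
    α = 1 := by
  have hn := hH.normal G hG
  have hK : ∀ x ∈ comK G p, α x = x := fun x hx => by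
    refine eq_of_fixed_div hP hcop (hfix _ (hC ⟨mem_comK G hα hcop x, ?_⟩))
    show x⁻¹ * α x ∈ Subgroup.centralizer (H : Set P)
    rw [mem_centralizer_iff]
    intro c hc
    have h3 := hfix _ (hn.conj_mem c hc x)
    rw [map_mul, map_mul, map_inv, hfix c hc] at h3
    calc c * (x⁻¹ * α x) = x⁻¹ * (x * c * x⁻¹) * α x := by group
      _ = x⁻¹ * (α x * c * (α x)⁻¹) * α x := by rw [h3]
      _ = _ := by group
  exact MulEquiv.ext fun x => eq_of_fixed_div hP hcop (hK _ (mem_comK G hα hcop x))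

theorem exists_critical (hG : Inn P ≤ G) (hP : IsPGroup p P) :
    ∃ H : Subgroup P, Inv G H ∧ H ≤ comK G p ∧
      comK G p ⊓ Subgroup.centralizer (H : Set P) ≤ H ∧
      (∀ h ∈ H, h ^ p ∈ Subgroup.centralizer (H : Set P)) ∧
      ∀ h ∈ H, ∀ g : P, ⁅g, h⁆ ∈ H ⊓ Subgroup.centralizer (H : Set P) := by
  obtain ⟨D, hD⟩ := Set.Finite.exists_maximal
    (s := {D : Subgroup P | Inv G D ∧ D ≤ comK G p ∧ D ≤ Subgroup.centralizer (D : Set P)})
    (Set.toFinite _) ⟨⊥, fun α _ => Subgroup.map_bot _, bot_le, bot_le⟩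
  obtain ⟨hDc, hDK, hDab⟩ := hD.1
  haveI := hDc.normal G hG
  set C := comK G p ⊓ Subgroup.centralizer (D : Set P) with hC
  have hCi : Inv G C := (inv_comK G).inf G (hDc.centralizer G)
  let H : Subgroup P :=
    { carrier := {h : P | h ∈ C ∧ h ^ p ∈ D ∧ ∀ g : P, ⁅g, h⁆ ∈ D}
      one_mem' := ⟨one_mem _, by simp, fun g => by simp⟩
      mul_mem' := by
        rintro a b ⟨ha, hap, hac⟩ ⟨hb, hbp, hbc⟩
        refine ⟨mul_mem ha hb, ?_, ?_⟩
        · rw [← QuotientGroup.eq_one_iff] at hap hbp ⊢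
          have hcomm : Commute (a : P ⧸ D) (b : P ⧸ D) := by
            rw [← commutatorElement_eq_one_iff_commute, ← QuotientGroup.mk'_apply D,
              ← QuotientGroup.mk'_apply D, ← map_commutatorElement, QuotientGroup.mk'_apply,
              QuotientGroup.eq_one_iff]
            exact hbc a
          rw [QuotientGroup.mk_pow, QuotientGroup.mk_mul, hcomm.mul_pow, ← QuotientGroup.mk_pow,
            ← QuotientGroup.mk_pow, hap, hbp, one_mul]
        · intro g
          rw [commutatorElement_mul_right_eq_mul_conj]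
          simpa [mul_assoc] using mul_mem (hac g) (Subgroup.Normal.conj_mem inferInstance _ (hbc g) a)
      inv_mem' := by
        rintro a ⟨ha, hap, hac⟩
        refine ⟨inv_mem ha, by rw [inv_pow]; exact inv_mem hap, fun g => ?_⟩
        rw [commutatorElement_inv_right, ← commutatorElement_inv g a]
        exact Subgroup.Normal.conj_mem' inferInstance _ (inv_mem (hac g)) a }
  have hHc : Inv G H := by
    refine Inv.of_le G fun φ hφ h hh => ?_
    obtain ⟨h1, h2, h3⟩ := hh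
    refine ⟨hCi.mem G hφ h1, map_pow φ h p ▸ hDc.mem G hφ h2, fun g => ?_⟩
    have hg := hDc.mem G hφ (h3 (φ⁻¹ g))
    rwa [← MulEquiv.coe_toMonoidHom, map_commutatorElement, MulEquiv.coe_toMonoidHom,
      MulAut.apply_inv_self] at hg
  have hDH : D ≤ H := fun d hd => ⟨⟨hDK hd, hDab hd⟩, pow_mem hd p, fun g =>
    commutator_le_right ⊤ D (commutator_mem_commutator (mem_top g) hd)⟩
  have hHK : H ≤ comK G p := fun _ hh => hh.1.1
  have hDC : D ≤ Subgroup.centralizer (H : Set P) :=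
    Subgroup.le_centralizer_iff.mp fun _ hh => hh.1.2
  have hZ : H ⊓ Subgroup.centralizer (H : Set P) ≤ D :=
    hD.2 ⟨hHc.inf G (hHc.centralizer G), inf_le_left.trans hHK, fun x hx y hy => hx.2 y hy.1⟩
      (le_inf hDH hDC)
  refine ⟨H, hHc, hHK, ?_, fun h hh => hDC hh.2.1,
    fun h hh g => ⟨hDH (hh.2.2 g), hDC (hh.2.2 g)⟩⟩
  by_contra hnot
  haveI : (comK G p ⊓ Subgroup.centralizer (H : Set P)).Normal :=
    ((inv_comK G).inf G (hHc.centralizer G)).normal G hG
  have hQ : D < comK G p ⊓ Subgroup.centralizer (H : Set P) :=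
    lt_of_le_not_ge (le_inf hDK hDC) fun hle => hnot (hle.trans hDH)
  obtain ⟨K, hK, hDK', hKQ, hrel, hcent⟩ := exists_normal_index_prime hP hQ
  obtain ⟨k, hkK, hkD⟩ : ∃ k ∈ K, k ∉ D := by
    refine SetLike.not_le_iff_exists.mp fun hle => ?_
    rw [Subgroup.relIndex_eq_one.mpr hle] at hrel
    exact hp.out.ne_one hrel.symm
  have hkp : k ^ p ∈ D := by
    haveI : (D.subgroupOf K).Normal := inferInstance
    have := Subgroup.pow_index_mem (D.subgroupOf K) ⟨k, hkK⟩
    rw [show (D.subgroupOf K).index = p from hrel] at this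
    exact this
  have hkH : k ∈ H := ⟨⟨(hKQ hkK).1, centralizer_le hDH (hKQ hkK).2⟩, hkp, hcent k hkK⟩
  exact hkD (hZ ⟨hkH, (hKQ hkK).2⟩)

theorem main (hP : IsPGroup p P) (hG : Inn P ≤ G) :
    ∃ D : Subgroup P,
      (∀ α ∈ G, D.map α.toMonoidHom = D) ∧
      D ≤ comK G p ∧
      (∀ d ∈ D, d ^ p = 1 ∨ (p = 2 ∧ d ^ 4 = 1)) ∧
      ⁅D, (⊤ : Subgroup P)⁆ ≤ D ⊓ Subgroup.centralizer (D : Set P) ∧
      (∀ α ∈ G, (orderOf α).Coprime p → (∀ d ∈ D, α d = d) → α = 1) ∧
      ∀ A : Subgroup P, A ≤ D → IsMulCommutative ↥A →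
        (∀ B : Subgroup P, A ≤ B → B ≤ D → IsMulCommutative ↥B → B = A) →
        A.Normal ∧ ∀ α ∈ G, (∀ a ∈ A, α a = a) → ∃ k : ℕ, orderOf α = p ^ k := by
  classical
  obtain ⟨C, hCi, hCK, hcen, hpow, hcomm⟩ := exists_critical hG hP
  have hcc : ∀ a b : C, ⁅a, b⁆ ∈ center C := fun a b => by
    rw [mem_center_iff]
    intro g
    exact Subtype.ext (mem_centralizer_iff.mp (hcomm b b.2 a).2 g g.2)
  have hpc : ∀ a : C, a ^ p ∈ center C := fun a => by
    rw [mem_center_iff]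
    intro g
    exact Subtype.ext (mem_centralizer_iff.mp (hpow a a.2) g g.2)
  have hcp : ∀ a b : C, ⁅a, b⁆ ^ p = 1 := fun a b => by
    rw [← commutator_pow_right_of_central (hcc a b) p, commutatorElement_eq_one_iff_commute]
    exact mem_center_iff.mp (hpc b) a
  have hsmall : ∀ a : C, Fusion.Small p a ↔ Fusion.Small p (a : P) := fun a =>
    or_congr (Subtype.ext_iff.trans (by simp)) (and_congr Iff.rfl (Subtype.ext_iff.trans (by simp)))
  have hmul : ∀ a b : C, Fusion.Small p a → Fusion.Small p b → Fusion.Small p (a * b) := by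
    intro a b ha hb
    have h := mul_pow_of_central (hcc b a) p
    rcases hp.out.eq_two_or_odd' with h2 | hodd
    · subst h2
      rw [show Nat.choose 2 2 = 1 from rfl, pow_one] at h
      have h4 : ∀ c : C, Fusion.Small 2 c → c ^ 4 = 1 := fun c hc => hc.elim
        (fun e => by rw [show (4 : ℕ) = 2 * 2 from rfl, pow_mul, e, one_pow]) (·.2)
      refine Or.inr ⟨rfl, ?_⟩
      have hc1 : Commute (a ^ 2) (b ^ 2) := mem_center_iff.mp (hpc b) _
      have hc2 : Commute (a ^ 2 * b ^ 2) ⁅b, a⁆ := mem_center_iff.mp (hcc b a) _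
      rw [show (4 : ℕ) = 2 * 2 from rfl, pow_mul, h, hc2.mul_pow, hc1.mul_pow, ← pow_mul, ← pow_mul,
        show 2 * 2 = 4 from rfl, h4 a ha, h4 b hb, hcp, mul_one, one_mul]
    · have hne : p ≠ 2 := fun e => by rw [e] at hodd; exact absurd hodd (by decide)
      refine Or.inl ?_
      obtain ⟨k, hk⟩ : p ∣ Nat.choose p 2 := hp.out.dvd_choose_self two_ne_zero
        (lt_of_le_of_ne hp.out.two_le (Ne.symm hne))
      rw [h, ha.resolve_right fun e => hne e.1, hb.resolve_right fun e => hne e.1, hk, pow_mul, hcp,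
        one_pow, mul_one, mul_one]
  let D : Subgroup P :=
    { carrier := {x | x ∈ C ∧ Fusion.Small p x}
      one_mem' := ⟨C.one_mem, Or.inl (one_pow _)⟩
      mul_mem' := fun {a b} ha hb => ⟨C.mul_mem ha.1 hb.1, (hsmall ⟨_, C.mul_mem ha.1 hb.1⟩).mp
        (hmul ⟨a, ha.1⟩ ⟨b, hb.1⟩ ((hsmall _).mpr ha.2) ((hsmall _).mpr hb.2))⟩
      inv_mem' := fun {a} ha => ⟨C.inv_mem ha.1, ha.2.imp (fun e => by rw [inv_pow, e, inv_one])
        (fun e => ⟨e.1, by rw [inv_pow, e.2, inv_one]⟩)⟩ }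
  have hDi : Inv G D := Inv.of_le G fun α hα x hx => ⟨hCi.mem G hα hx.1,
    hx.2.imp (fun e => by rw [← map_pow, e, map_one]) fun e => ⟨e.1, by rw [← map_pow, e.2, map_one]⟩⟩
  have hDn := hDi.normal G hG
  have hDC : D ≤ C := fun _ hx => hx.1
  have hcD : ∀ d ∈ D, ∀ g : P, ⁅g, d⁆ ∈ D ⊓ Subgroup.centralizer (D : Set P) := fun d hd g =>
    ⟨show ⁅g, d⁆ ∈ D by rw [commutatorElement_def]; exact mul_mem (hDn.conj_mem d hd g) (inv_mem hd),
      centralizer_le hDC (hcomm d (hDC hd) g).2⟩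
  have hdet : ∀ α ∈ G, (orderOf α).Coprime p → (∀ d ∈ D, α d = d) → α = 1 := by
    intro α hα hcop hfix
    refine detect_of_self_centralizing hG hP hCi hCK hcen hα hcop fun c hc => ?_
    let αC : MulAut C := (α.subgroupMap C).trans (MulEquiv.subgroupCongr (hCi α hα))
    have hval : ∀ c : C, ((αC c : C) : P) = α c := fun c => rfl
    have hdvd : orderOf αC ∣ orderOf α := by
      refine orderOf_dvd_of_pow_eq_one (MulEquiv.ext fun c => Subtype.ext ?_)
      have : ∀ n : ℕ, (((αC ^ n) c : C) : P) = (α ^ n) c := fun n => by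
        induction n with
        | zero => rfl
        | succ n ih => rw [pow_succ', pow_succ', MulAut.mul_apply, MulAut.mul_apply, hval, ih]
      rw [this, pow_orderOf_eq_one]
      rfl
    have h1 := Fusion.mulAut_eq_one_of_small (hP.to_subgroup C) (β := αC)
      (Nat.Coprime.coprime_dvd_left hdvd hcop)
      fun c hc => Subtype.ext (hfix c ⟨c.2, (hsmall c).mp hc⟩)
    have h2 := hval ⟨c, hc⟩
    rw [h1] at h2
    exact h2.symm
  refine ⟨D, hDi, hDC.trans hCK, fun d hd => hd.2, ?_, hdet, fun A hAD hA hmax => ?_⟩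
  · rw [Subgroup.commutator_comm, commutator_le]
    exact fun g _ d hd => hcD d hd g
  have hAc : ∀ a ∈ A, ∀ b ∈ A, a * b = b * a := fun a ha b hb =>
    congrArg Subtype.val (hA.is_comm.comm (⟨a, ha⟩ : A) ⟨b, hb⟩)
  have hsup : ∀ c ∈ D, (∀ a ∈ A, a * c = c * a) → c ∈ A := fun c hc hcomm' => by
    have hle : A ⊔ zpowers c ≤ D := sup_le hAD (zpowers_le.mpr hc)
    haveI : IsMulCommutative ↥(A ⊔ zpowers c) := by
      rw [← closure_eq A, zpowers_eq_closure, ← Subgroup.closure_union]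
      refine Subgroup.isMulCommutative_closure ?_
      rintro x (hx | hx) y (hy | hy)
      · exact hAc x hx y hy
      · rw [Set.mem_singleton_iff.mp hy]; exact hcomm' x hx
      · rw [Set.mem_singleton_iff.mp hx]; exact (hcomm' y hy).symm
      · rw [Set.mem_singleton_iff.mp hx, Set.mem_singleton_iff.mp hy]
    exact (hmax _ le_sup_left hle inferInstance).le (mem_sup_right (mem_zpowers c))
  have hAn : A.Normal := ⟨fun a ha g => by
    have h1 := hcD a (hAD ha) g
    rw [show g * a * g⁻¹ = ⁅g, a⁆ * a by rw [commutatorElement_def]; group]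
    exact mul_mem (hsup _ h1.1 fun b hb => mem_centralizer_iff.mp h1.2 b (hAD hb)) ha⟩
  refine ⟨hAn, fun α hα hfix => ?_⟩
  obtain ⟨a, -, b, hbz, hab, ⟨k, hk⟩, hbp⟩ :=
    CfsgLib.Transfer.exists_pPart_mul (p := p) (⟨α, hα⟩ : ↥G)
  have hbfix : ∀ x ∈ A, (b : MulAut P) x = x := by
    intro x hx
    obtain ⟨i, rfl⟩ := mem_zpowers_iff.mp hbz
    rw [SubgroupClass.coe_zpow]
    have : zpowers α ≤ (MulAction.stabilizer (MulAut P) x) := zpowers_le.mpr (hfix x hx)
    exact this ⟨i, rfl⟩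
  have hb1 : (b : MulAut P) = 1 := by
    refine hdet _ b.2 (by rwa [Subgroup.orderOf_coe]) fun d hd => ?_
    refine eq_of_fixed_div hP (by rwa [Subgroup.orderOf_coe]) (hbfix _ (hsup _
      (mul_mem (inv_mem hd) (hDi.mem G b.2 hd)) fun c hc => ?_))
    have h3 := hbfix _ (hAn.conj_mem c hc d)
    rw [map_mul, map_mul, map_inv, hbfix c hc] at h3
    calc c * (d⁻¹ * (b : MulAut P) d) = d⁻¹ * (d * c * d⁻¹) * (b : MulAut P) d := by group
      _ = d⁻¹ * ((b : MulAut P) d * c * ((b : MulAut P) d)⁻¹) * (b : MulAut P) d := by rw [h3]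
      _ = _ := by group
  obtain ⟨i, -, hi⟩ := (Nat.dvd_prime_pow hp.out).mp hk
  refine ⟨i, ?_⟩
  rw [← hi, ← Subgroup.orderOf_coe a]
  congr 1
  have h := congrArg Subtype.val hab
  rw [Subgroup.coe_mul, hb1, mul_one] at h
  exact h.symm

end CfsgLib.PGroups.InvariantCritical
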