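import Mathlib
import Cfsg.Prelude.Def_Transfer
import Cfsg.Agent.Lib.PGroups.Basic
import Cfsg.Agent.Lib.PGroups.Commutator
import Cfsg.Agent.Lib.Base.Transport

/-!
# Two-groups of class two and exponent four whose involutions form a subgroup

Higman's bound `|G| ≤ |N| ^ 3`, via the Chevalley–Warning theorem.
-/

set_option linter.style.haveILetI false
set_option linter.unusedSectionVars false
set_option autoImplicit false

namespace CfsgLib.PGroups

open scoped commutatorElement

section Quadratic

variable {V W : Type*} [AddCommGroup V] [Module (ZMod 2) V] [Finite V]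
  [AddCommGroup W] [Module (ZMod 2) W] [Finite W]

theorem finrank_le_two_mul_of_quadratic (q : V → W) (β : V → V → W)
    (hadd : ∀ u v, q (u + v) = q u + q v + β u v)
    (hr : ∀ u v w, β u (v + w) = β u v + β u w)
    (hinj : ∀ v, q v = 0 → v = 0) :
    Module.finrank (ZMod 2) V ≤ 2 * Module.finrank (ZMod 2) W := by
  classical
  set b := Module.finBasis (ZMod 2) V
  set c := Module.finBasis (ZMod 2) W
  set n := Module.finrank (ZMod 2) V
  set m := Module.finrank (ZMod 2) W
  have hr0 : ∀ u, β u 0 = 0 := fun u => by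
    have h := hr u 0 0
    rw [add_zero] at h
    exact left_eq_add.mp h
  have hq0 : q 0 = 0 := by
    have h := hadd 0 0
    rw [add_zero, hr0, add_zero] at h
    exact left_eq_add.mp h
  have hcases : ∀ t : ZMod 2, t = 0 ∨ t = 1 := by decide
  -- a polynomial for each coordinate
  have hpoly : ∀ (k : Fin m) (s : Finset (Fin n)), ∃ P : MvPolynomial (Fin n) (ZMod 2),
      P.totalDegree ≤ 2 ∧ ∀ e : Fin n → ZMod 2,
        MvPolynomial.eval e P = c.repr (q (∑ i ∈ s, e i • b i)) k := by
    intro k s
    induction s using Finset.induction_on with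
    | empty => exact ⟨0, by simp, fun e => by simp [hq0]⟩
    | @insert j s hj ih =>
      obtain ⟨P, hP, hPe⟩ := ih
      let l : MvPolynomial (Fin n) (ZMod 2) :=
        ∑ i ∈ s, MvPolynomial.C (c.repr (β (b j) (b i)) k) * MvPolynomial.X i
      refine ⟨P + MvPolynomial.C (c.repr (q (b j)) k) * MvPolynomial.X j + MvPolynomial.X j * l,
        ?_, fun e => ?_⟩
      · have hl : l.totalDegree ≤ 1 := by
          refine MvPolynomial.totalDegree_finsetSum_le fun i _ => ?_
          refine (MvPolynomial.totalDegree_mul _ _).trans ?_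
          rw [MvPolynomial.totalDegree_C, MvPolynomial.totalDegree_X, zero_add]
        refine (MvPolynomial.totalDegree_add _ _).trans (max_le ?_ ?_)
        · refine (MvPolynomial.totalDegree_add _ _).trans (max_le hP ?_)
          refine (MvPolynomial.totalDegree_mul _ _).trans ?_
          rw [MvPolynomial.totalDegree_C, MvPolynomial.totalDegree_X]
          norm_num
        · refine (MvPolynomial.totalDegree_mul _ _).trans ?_
          rw [MvPolynomial.totalDegree_X]
          omega
      · simp only [map_add, map_mul, MvPolynomial.eval_C, MvPolynomial.eval_X, l, map_sum, hPe]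
        rw [Finset.sum_insert hj]
        rcases hcases (e j) with he | he
        · simp [he]
        · have hsum : β (b j) (∑ i ∈ s, e i • b i) = ∑ i ∈ s, e i • β (b j) (b i) := by
            let B : V →+ W := AddMonoidHom.mk' (β (b j)) (hr (b j))
            show B (∑ i ∈ s, e i • b i) = _
            rw [map_sum]
            exact Finset.sum_congr rfl fun i _ => ZMod.map_smul B (e i) (b i)
          rw [he, one_smul, hadd, hsum]
          simp only [map_add, map_sum, map_smul, Finsupp.coe_add, Pi.add_apply,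
            Finsupp.coe_finsetSum, Finset.sum_apply, Finsupp.coe_smul, Pi.smul_apply, smul_eq_mul,
            one_mul, mul_one]
          rw [Finset.sum_congr rfl fun i _ => mul_comm (e i) (c.repr (β (b j) (b i)) k)]
          abel
  choose P hP hPe using fun k => hpoly k Finset.univ
  by_contra hlt
  push Not at hlt
  have hdeg : (∑ k, (P k).totalDegree) < Fintype.card (Fin n) := by
    rw [Fintype.card_fin]
    calc ∑ k, (P k).totalDegree ≤ ∑ _k : Fin m, 2 := Finset.sum_le_sum fun k _ => hP k
      _ = 2 * m := by simp [mul_comm]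
      _ < n := hlt
  have hdvd : 2 ∣ Nat.card {x : Fin n → ZMod 2 // ∀ k, MvPolynomial.eval x (P k) = 0} := by
    rw [Nat.card_eq_fintype_card]
    convert char_dvd_card_solutions_of_fintype_sum_lt 2 hdeg
  have hone : Nat.card {x : Fin n → ZMod 2 // ∀ k, MvPolynomial.eval x (P k) = 0} = 1 := by
    rw [Nat.card_eq_one_iff_unique]
    refine ⟨⟨fun x y => ?_⟩, ⟨⟨0, fun k => by rw [hPe]; simp [hq0]⟩⟩⟩
    have key : ∀ z : {x : Fin n → ZMod 2 // ∀ k, MvPolynomial.eval x (P k) = 0}, z.1 = 0 := by
      intro z
      have h1 : q (∑ i, z.1 i • b i) = 0 :=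
        c.repr.injective (Finsupp.ext fun k => by simpa using (hPe k z.1).symm.trans (z.2 k))
      funext i
      exact Fintype.linearIndependent_iff.mp b.linearIndependent z.1 (hinj _ h1) i
    exact Subtype.ext ((key x).trans (key y).symm)
  rw [hone] at hdvd
  exact absurd (Nat.le_of_dvd one_pos hdvd) (by norm_num)

/-- The strict bound in case of a nonzero element orthogonal to the whole space, or of a proper
subspace containing the values of the bilinear part. -/
theorem finrank_lt_two_mul_of_quadratic (q : V → W) (β : V → V → W)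
    (hadd : ∀ u v, q (u + v) = q u + q v + β u v)
    (hr : ∀ u v w, β u (v + w) = β u v + β u w)
    (hinj : ∀ v, q v = 0 → v = 0)
    (hdeg : (∃ y, y ≠ 0 ∧ ∀ v, β v y = 0) ∨ ∃ U : Submodule (ZMod 2) W, U ≠ ⊤ ∧ ∀ u v, β u v ∈ U) :
    Module.finrank (ZMod 2) V < 2 * Module.finrank (ZMod 2) W := by
  classical
  have hcases : ∀ t : ZMod 2, t = 0 ∨ t = 1 := by decide
  have hself : ∀ w : W, w + w = 0 := fun w => by
    rw [← two_smul (ZMod 2) w, show (2 : ZMod 2) = 0 from rfl, zero_smul]
  rcases hdeg with ⟨y, hy, hyorth⟩ | ⟨U, hU, hUmem⟩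
  · obtain ⟨V', hV'⟩ := Submodule.exists_isCompl (Submodule.span (ZMod 2) {y})
    set S := Submodule.span (ZMod 2) {q y}
    have hqy : q y ≠ 0 := fun h => hy (hinj y h)
    haveI : Finite (W ⧸ S) := Finite.of_surjective _ (Submodule.mkQ_surjective S)
    have h := finrank_le_two_mul_of_quadratic (V := V') (W := W ⧸ S)
      (fun v => Submodule.Quotient.mk (q v)) (fun u v => Submodule.Quotient.mk (β u v))
      (fun u v => by simp only [Submodule.coe_add, hadd, Submodule.Quotient.mk_add])
      (fun u v w => by simp only [Submodule.coe_add, hr, Submodule.Quotient.mk_add])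
      (fun v hv => by
        rw [Submodule.Quotient.mk_eq_zero, Submodule.mem_span_singleton] at hv
        obtain ⟨t, ht⟩ := hv
        rcases hcases t with rfl | rfl
        · exact Subtype.ext (hinj _ (by rw [← ht, zero_smul]))
        · rw [one_smul] at ht
          have h0 : (v : V) + y = 0 := hinj _ (by rw [hadd, hyorth, ← ht, add_zero, hself])
          have hmem : (v : V) ∈ Submodule.span (ZMod 2) {y} := by
            rw [eq_neg_of_add_eq_zero_left h0]
            exact Submodule.neg_mem _ (Submodule.mem_span_singleton_self y)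
          have : (v : V) ∈ (⊥ : Submodule (ZMod 2) V) := hV'.disjoint.le_bot ⟨hmem, v.2⟩
          exact Subtype.ext ((Submodule.mem_bot _).mp this))
    have h1 := Submodule.finrank_add_eq_of_isCompl hV'
    have h2 := Submodule.finrank_quotient_add_finrank S
    rw [finrank_span_singleton hy] at h1
    rw [finrank_span_singleton hqy] at h2
    omega
  · obtain ⟨lam, hlam, hU'⟩ := Submodule.exists_le_ker_of_lt_top U (lt_top_iff_ne_top.mpr hU)
    let L : V →+ ZMod 2 := AddMonoidHom.mk' (fun v => lam (q v)) fun u v => by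
      rw [hadd, map_add, map_add, LinearMap.mem_ker.mp (hU' (hUmem u v)), add_zero]
    let L' : V →ₗ[ZMod 2] ZMod 2 := L.toZModLinearMap 2
    have h := finrank_le_two_mul_of_quadratic (V := LinearMap.ker L') (W := LinearMap.ker lam)
      (fun v => ⟨q v, v.2⟩) (fun u v => ⟨β u v, hU' (hUmem u v)⟩)
      (fun u v => Subtype.ext (by simp [hadd]))
      (fun u v w => Subtype.ext (by simp [hr]))
      (fun v hv => Subtype.ext (hinj _ (congrArg Subtype.val hv)))
    have h1 := L'.finrank_range_add_finrank_ker
    have h2 := lam.finrank_range_add_finrank_ker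
    have h3 : Module.finrank (ZMod 2) (LinearMap.range L') ≤ 1 :=
      (Submodule.finrank_le _).trans (Module.finrank_self (ZMod 2)).le
    have h4 : Module.finrank (ZMod 2) (LinearMap.range lam) = 1 := by
      rw [LinearMap.range_eq_top.mpr (LinearMap.surjective hlam), finrank_top, Module.finrank_self]
    omega

end Quadratic

variable {G : Type*} [Group G] [Finite G]

/-- Higman's bound. -/
theorem card_le_involutions_cube (hG : IsPGroup 2 G)
    (hcl : (⊤ : Subgroup G).lowerCentralSeries 2 = ⊥) (hexp : ∀ x : G, x ^ 4 = 1)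
    (hN : ∀ x y : G, x ^ 2 = 1 → y ^ 2 = 1 → (x * y) ^ 2 = 1) :
    Nat.card G ≤ Nat.card {x : G // x ^ 2 = 1} ^ 3 ∧
      (¬ Cfsg.IsSpecial 2 G → Nat.card G < Nat.card {x : G // x ^ 2 = 1} ^ 3) := by
  classical
  haveI : Fact (Nat.Prime 2) := ⟨Nat.prime_two⟩
  -- commutators are central
  have hcen : ∀ a b : G, ⁅a, b⁆ ∈ Subgroup.center G := by
    intro a b
    rw [Subgroup.mem_center_iff]
    intro g
    have h : ⁅⁅a, b⁆, g⁆ ∈ (⊤ : Subgroup G).lowerCentralSeries 2 := by
      rw [Subgroup.lowerCentralSeries_succ, Subgroup.lowerCentralSeries_succ,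
        Subgroup.lowerCentralSeries_zero]
      exact Subgroup.commutator_mem_commutator
        (Subgroup.commutator_mem_commutator (Subgroup.mem_top a) (Subgroup.mem_top b))
        (Subgroup.mem_top g)
    rw [hcl, Subgroup.mem_bot] at h
    exact (commutatorElement_eq_one_iff_mul_comm.mp h).symm
  let N : Subgroup G :=
    { carrier := {x | x ^ 2 = 1}
      mul_mem' := fun {a b} ha hb => hN a b ha hb
      one_mem' := one_pow 2
      inv_mem' := fun {a} ha => by
        show a⁻¹ ^ 2 = 1
        rw [inv_pow, show a ^ 2 = 1 from ha, inv_one] }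
  haveI hNn : N.Normal := ⟨fun a ha g => by
    show (g * a * g⁻¹) ^ 2 = 1
    rw [conj_pow, show a ^ 2 = 1 from ha, mul_one, mul_inv_cancel]⟩
  have hcomm2 : ∀ a b : G, ⁅a, b⁆ ^ 2 = 1 := by
    intro a b
    have h6 := mul_pow_of_central (hcen a b) (a := b) (b := a) 4
    rw [hexp, hexp, hexp, one_mul, one_mul, show Nat.choose 4 2 = 4 + 2 from rfl, pow_add,
      hexp, one_mul] at h6
    exact h6.symm
  have hsqcen : ∀ a : G, a ^ 2 ∈ Subgroup.center G := fun a => by
    rw [Subgroup.mem_center_iff]
    intro g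
    have h : ⁅a ^ 2, g⁆ = 1 := by rw [commutator_pow_left_of_central (hcen a g), hcomm2]
    exact (commutatorElement_eq_one_iff_mul_comm.mp h).symm
  set Z0 := Subgroup.closure (Set.range fun x : G => x ^ 2) with hZ0
  have hsqmem : ∀ a : G, a ^ 2 ∈ Z0 := fun a => Subgroup.subset_closure ⟨a, rfl⟩
  have hZcen : Z0 ≤ Subgroup.center G :=
    (Subgroup.closure_le _).mpr (by rintro _ ⟨a, rfl⟩; exact hsqcen a)
  have hZN : Z0 ≤ N := (Subgroup.closure_le _).mpr (by
    rintro _ ⟨a, rfl⟩
    show (a ^ 2) ^ 2 = 1
    rw [← pow_mul, hexp])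
  have hswap : ∀ a b : G, ⁅b, a⁆ = ⁅a, b⁆ := fun a b => by
    rw [commutator_swap_inv]
    exact inv_eq_of_mul_eq_one_right (by rw [← sq, hcomm2])
  have hmulsq : ∀ a b : G, (a * b) ^ 2 = a ^ 2 * b ^ 2 * ⁅a, b⁆ := fun a b => by
    rw [mul_pow_of_central (hcen b a), Nat.choose_self, pow_one, hswap]
  have hcommZ : ∀ a b : G, ⁅a, b⁆ ∈ Z0 := fun a b => by
    have h : ⁅a, b⁆ = (a ^ 2 * b ^ 2)⁻¹ * (a * b) ^ 2 := by rw [hmulsq, inv_mul_cancel_left]
    rw [h]
    exact mul_mem (inv_mem (mul_mem (hsqmem a) (hsqmem b))) (hsqmem _)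
  haveI hZn : Z0.Normal := normal_of_le_center hZcen
  letI : AddCommGroup (Additive (G ⧸ Z0)) :=
    { (inferInstance : AddGroup (Additive (G ⧸ Z0))) with
      add_comm := by
        intro u v
        obtain ⟨a, ha⟩ := QuotientGroup.mk_surjective (Additive.toMul u)
        obtain ⟨b, hb⟩ := QuotientGroup.mk_surjective (Additive.toMul v)
        apply Additive.toMul.injective
        show Additive.toMul u * Additive.toMul v = Additive.toMul v * Additive.toMul u
        rw [← ha, ← hb, ← QuotientGroup.mk_mul, ← QuotientGroup.mk_mul, QuotientGroup.eq,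
          show (a * b)⁻¹ * (b * a) = ⁅b⁻¹, a⁻¹⁆ by simp [commutatorElement_def, mul_assoc]]
        exact hcommZ _ _ }
  letI : CommGroup Z0 := { (inferInstance : Group Z0) with
    mul_comm := fun u v => Subtype.ext (Subgroup.mem_center_iff.mp (hZcen v.2) u) }
  letI : Module (ZMod 2) (Additive (G ⧸ Z0)) := AddCommGroup.zmodModule fun u => by
    obtain ⟨a, ha⟩ := QuotientGroup.mk_surjective (Additive.toMul u)
    apply Additive.toMul.injective
    rw [toMul_nsmul, toMul_zero, ← ha, ← QuotientGroup.mk_pow, QuotientGroup.eq_one_iff]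
    exact hsqmem a
  letI : Module (ZMod 2) (Additive Z0) := AddCommGroup.zmodModule fun u => by
    apply Additive.toMul.injective
    rw [toMul_nsmul, toMul_zero]
    exact Subtype.ext (hZN (Additive.toMul u).2)
  let cls : G → Additive (G ⧸ Z0) := fun a => Additive.ofMul (a : G ⧸ Z0)
  have hsurj : ∀ u, ∃ a, cls a = u := fun u => by
    obtain ⟨a, ha⟩ := QuotientGroup.mk_surjective (Additive.toMul u)
    exact ⟨a, congrArg Additive.ofMul ha⟩
  let val : G → Additive Z0 := fun a => Additive.ofMul ⟨a ^ 2, hsqmem a⟩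
  have hwell : ∀ a a', cls a = cls a' → a ^ 2 = a' ^ 2 := by
    intro a a' h
    have h1 : a⁻¹ * a' ∈ Z0 := QuotientGroup.eq.mp (Additive.ofMul.injective h)
    rw [show a' = a * (a⁻¹ * a') by group, hmulsq, show (a⁻¹ * a') ^ 2 = 1 from hZN h1, mul_one,
      commutatorElement_eq_one_iff_mul_comm.mpr (Subgroup.mem_center_iff.mp (hZcen h1) a), mul_one]
  let sec : Additive (G ⧸ Z0) → G := fun u => (hsurj u).choose
  have hsec : ∀ u, cls (sec u) = u := fun u => (hsurj u).choose_spec
  let q : Additive (G ⧸ Z0) → Additive Z0 := fun u => val (sec u)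
  let β : Additive (G ⧸ Z0) → Additive (G ⧸ Z0) → Additive Z0 :=
    fun u v => Additive.ofMul ⟨⁅sec u, sec v⁆, hcommZ _ _⟩
  have hqcls : ∀ a, q (cls a) = val a := fun a =>
    congrArg Additive.ofMul (Subtype.ext (hwell _ _ (hsec (cls a))))
  have hβcls : ∀ a b, β (cls a) (cls b) = Additive.ofMul ⟨⁅a, b⁆, hcommZ _ _⟩ := by
    intro a b
    have hmove : ∀ x x' y : G, cls x = cls x' → ⁅x, y⁆ = ⁅x', y⁆ := by
      intro x x' y h
      have h1 : x⁻¹ * x' ∈ Z0 := QuotientGroup.eq.mp (Additive.ofMul.injective h)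
      rw [show x' = x * (x⁻¹ * x') by group, commutator_mul_left_of_central (hcen _ _),
        commutatorElement_eq_one_iff_mul_comm.mpr (Subgroup.mem_center_iff.mp (hZcen h1) y).symm,
        mul_one]
    refine congrArg Additive.ofMul (Subtype.ext ?_)
    show ⁅sec (cls a), sec (cls b)⁆ = ⁅a, b⁆
    rw [hmove _ a _ (hsec _), hswap _ a, hmove _ b _ (hsec _), ← hswap b a]
  have hadd : ∀ u v, q (u + v) = q u + q v + β u v := by
    intro u v
    obtain ⟨a, rfl⟩ := hsurj u
    obtain ⟨b, rfl⟩ := hsurj v
    rw [show cls a + cls b = cls (a * b) from rfl, hqcls, hqcls, hqcls, hβcls]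
    exact congrArg Additive.ofMul (Subtype.ext (hmulsq a b))
  have hr : ∀ u v w, β u (v + w) = β u v + β u w := by
    intro u v w
    obtain ⟨a, rfl⟩ := hsurj u
    obtain ⟨b, rfl⟩ := hsurj v
    obtain ⟨c, rfl⟩ := hsurj w
    rw [show cls b + cls c = cls (b * c) from rfl, hβcls, hβcls, hβcls]
    exact congrArg Additive.ofMul (Subtype.ext (commutator_mul_right_of_central (hcen a c)))
  -- a complement to the classes of involutions
  let NV : Submodule (ZMod 2) (Additive (G ⧸ Z0)) :=
    AddSubgroup.toZModSubmodule 2 (Subgroup.toAddSubgroup (N.map (QuotientGroup.mk' Z0)))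
  have hNV : ∀ a, cls a ∈ NV ↔ a ^ 2 = 1 := by
    intro a
    show (QuotientGroup.mk' Z0 a) ∈ N.map (QuotientGroup.mk' Z0) ↔ _
    constructor
    · rintro ⟨w, hw, h⟩
      rw [← hwell w a (congrArg Additive.ofMul h)]
      exact hw
    · exact fun h => ⟨a, h, rfl⟩
  obtain ⟨V', hV'⟩ := Submodule.exists_isCompl NV
  have hinj : ∀ v : V', q (v : Additive (G ⧸ Z0)) = 0 → v = 0 := by
    intro v hv
    obtain ⟨a, ha⟩ := hsurj (v : Additive (G ⧸ Z0))
    rw [← ha, hqcls] at hv
    have h1 : (v : Additive (G ⧸ Z0)) ∈ NV :=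
      ha ▸ (hNV a).mpr (congrArg Subtype.val (Additive.ofMul.injective hv))
    exact Subtype.ext ((Submodule.mem_bot _).mp (hV'.disjoint.le_bot ⟨h1, v.2⟩))
  have hbound := finrank_le_two_mul_of_quadratic (V := V') (fun v => q v) (fun u v => β u v)
    (fun u v => hadd u v) (fun u v w => hr u v w) hinj
  have h2N : Nat.card {x : G // x ^ 2 = 1} = Nat.card N := rfl
  rw [h2N]
  have hW : Nat.card Z0 = 2 ^ Module.finrank (ZMod 2) (Additive Z0) := by
    rw [show Nat.card Z0 = Nat.card (Additive Z0) from Nat.card_congr Additive.ofMul,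
      Module.natCard_eq_pow_finrank (K := ZMod 2), Nat.card_zmod]
  have hNVcard : Nat.card N = Nat.card NV * Nat.card Z0 := by
    rw [show Nat.card NV = Nat.card (N.map (QuotientGroup.mk' Z0)) from
      Nat.card_congr (Equiv.subtypeEquiv Additive.toMul (fun _ => Iff.rfl))]
    set f := (QuotientGroup.mk' Z0).comp N.subtype with hf
    have hrange : f.range = N.map (QuotientGroup.mk' Z0) := by
      rw [hf, MonoidHom.range_comp, Subgroup.range_subtype]
    have hker : f.ker = Z0.subgroupOf N := by
      rw [hf, ← MonoidHom.comap_ker, QuotientGroup.ker_mk']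
      rfl
    rw [← f.ker.index_mul_card, Subgroup.index_ker, hrange, hker, CfsgLib.Base.card_subgroupOf hZN]
  have hV : Nat.card G = 2 ^ Module.finrank (ZMod 2) V' * Nat.card N := by
    have h1 := Submodule.finrank_add_eq_of_isCompl hV'
    rw [← Z0.index_mul_card, Subgroup.index_eq_card,
      show Nat.card (G ⧸ Z0) = Nat.card (Additive (G ⧸ Z0)) from Nat.card_congr Additive.ofMul,
      Module.natCard_eq_pow_finrank (K := ZMod 2), Nat.card_zmod, ← h1, pow_add, hNVcard,
      Module.natCard_eq_pow_finrank (K := ZMod 2) (V := NV), Nat.card_zmod]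
    ring
  have hle : Nat.card Z0 ≤ Nat.card N := Subgroup.card_le_of_le hZN
  have hpos : 0 < Nat.card N := Nat.card_pos
  refine ⟨?_, fun hns => ?_⟩
  · rw [hV]
    calc 2 ^ Module.finrank (ZMod 2) V' * Nat.card N ≤ (Nat.card Z0) ^ 2 * Nat.card N := by
          refine Nat.mul_le_mul_right _ ?_
          rw [hW, ← pow_mul, mul_comm]
          exact Nat.pow_le_pow_right two_pos hbound
      _ ≤ _ := by
          rw [pow_succ]
          exact Nat.mul_le_mul_right _ (Nat.pow_le_pow_left hle 2)
  have hlt : Module.finrank (ZMod 2) V' < 2 * Module.finrank (ZMod 2) (Additive Z0) ∨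
      Nat.card Z0 < Nat.card N := by
    rcases hle.lt_or_eq with h | h
    · exact Or.inr h
    refine Or.inl (finrank_lt_two_mul_of_quadratic (V := V') (fun v => q v) (fun u v => β u v)
      (fun u v => hadd u v) (fun u v w => hr u v w) hinj ?_)
    have hNZ : Z0 = N := Subgroup.eq_of_le_of_card_ge hZN h.ge
    have hall : ∀ u, u ∈ V' := by
      intro u
      have hbot : NV = ⊥ := by
        rw [eq_bot_iff]
        intro v hv
        obtain ⟨a, rfl⟩ := hsurj v
        have ha : a ∈ Z0 := hNZ ▸ ((hNV a).mp hv : a ∈ N)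
        exact (Submodule.mem_bot _).mpr (congrArg Additive.ofMul ((QuotientGroup.eq_one_iff a).mpr ha))
      have htop : V' = ⊤ := by
        have h2 := hV'.sup_eq_top
        rwa [hbot, bot_sup_eq] at h2
      rw [htop]; trivial
    by_contra hcon
    push Not at hcon
    obtain ⟨hc1, hc2⟩ := hcon
    apply hns
    have hcenter : Subgroup.center G = Z0 := by
      refine le_antisymm (fun a ha => ?_) hZcen
      by_contra haZ
      obtain ⟨v, hv⟩ := hc1 ⟨cls a, hall _⟩ fun h0 =>
        haZ ((QuotientGroup.eq_one_iff a).mp (Additive.ofMul.injective (congrArg Subtype.val h0)))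
      apply hv
      obtain ⟨b, hb⟩ := hsurj (v : Additive (G ⧸ Z0))
      show β (v : Additive (G ⧸ Z0)) (cls a) = 0
      rw [← hb, hβcls]
      exact congrArg Additive.ofMul (Subtype.ext
        (commutatorElement_eq_one_iff_mul_comm.mpr (Subgroup.mem_center_iff.mp ha b)))
    have hderle : commutator G ≤ Z0 := by
      rw [commutator_def, Subgroup.commutator_le]
      exact fun a _ b _ => hcommZ a b
    have hder : commutator G = Z0 := by
      refine le_antisymm hderle ?_
      by_contra hne
      let U : Submodule (ZMod 2) (Additive Z0) :=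
        AddSubgroup.toZModSubmodule 2 (Subgroup.toAddSubgroup ((commutator G).subgroupOf Z0))
      obtain ⟨u, v, huv⟩ := hc2 U (fun htop => hne fun z hz => by
        have : Additive.ofMul (⟨z, hz⟩ : Z0) ∈ U := htop ▸ Submodule.mem_top
        exact this)
      exact huv (by
        show ⁅sec (u : Additive (G ⧸ Z0)), sec (v : Additive (G ⧸ Z0))⁆ ∈ commutator G
        rw [commutator_def]
        exact Subgroup.commutator_mem_commutator (Subgroup.mem_top _) (Subgroup.mem_top _))
    refine ⟨hG, ?_, hder.trans hcenter.symm⟩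
    rw [hcenter, frattini_eq_derivedPow hG]
    refine le_antisymm (sup_le hderle ((Subgroup.closure_le _).mpr ?_)) (hder.ge.trans le_sup_left)
    rintro _ ⟨a, rfl⟩
    exact hsqmem a
  rw [hV]
  rcases hlt with h | h
  · calc 2 ^ Module.finrank (ZMod 2) V' * Nat.card N < (Nat.card Z0) ^ 2 * Nat.card N := by
          refine Nat.mul_lt_mul_of_pos_right ?_ hpos
          rw [hW, ← pow_mul, mul_comm (Module.finrank (ZMod 2) (Additive Z0))]
          exact Nat.pow_lt_pow_right one_lt_two h
      _ ≤ _ := by
          rw [pow_succ]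
          exact Nat.mul_le_mul_right _ (Nat.pow_le_pow_left hle 2)
  · calc 2 ^ Module.finrank (ZMod 2) V' * Nat.card N ≤ (Nat.card Z0) ^ 2 * Nat.card N := by
          refine Nat.mul_le_mul_right _ ?_
          rw [hW, ← pow_mul, mul_comm]
          exact Nat.pow_le_pow_right two_pos hbound
      _ < _ := by
          rw [pow_succ]
          exact Nat.mul_lt_mul_of_pos_right (Nat.pow_lt_pow_left h two_ne_zero) hpos

end CfsgLib.PGroups
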