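import Cfsg.Agent.Lib.PGroups.SmallCharSeries
import Cfsg.Agent.Lib.PGroups.MaximalClass

/-!
# Characteristic series with factors of order `p` in groups of order `p ^ 4`
-/

set_option autoImplicit false
set_option linter.unusedSectionVars false
set_option linter.style.haveILetI false

namespace CfsgLib.PGroups.SmallSeries

open Subgroup
open scoped commutatorElement

universe u

variable {p : ℕ} [hp : Fact p.Prime] {G : Type u} [Group G] [Finite G]

theorem charLineSeries_four {A B C : Subgroup G} (hG : Nat.card G = p ^ 4)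
    (hA : Nat.card A = p) (hB : Nat.card B = p ^ 2) (hC : Nat.card C = p ^ 3)
    (hAB : A ≤ B) (hBC : B ≤ C) (hAα : ∀ (α : MulAut G), ∀ x ∈ A, α x ∈ A)
    (hBα : ∀ (α : MulAut G), ∀ x ∈ B, α x ∈ B) (hCα : ∀ (α : MulAut G), ∀ x ∈ C, α x ∈ C) :
    CharLineSeries p G := by
  refine ⟨4, fun i => if i = 0 then ⊥ else if i = 1 then A else if i = 2 then B else
    if i = 3 then C else ⊤, by simp, by simp, fun i hi => ?_, fun α i x hx => ?_⟩
  · interval_cases i
    · simpa using hA.le
    · simpa [hA, hB, sq] using hAB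
    · simpa [hB, hC, ← pow_succ'] using hBC
    · simp [hG, hC, ← pow_succ']
  · by_cases h0 : i = 0
    · subst h0
      simp only [if_true, mem_bot] at hx ⊢
      rw [hx, map_one]
    by_cases h1 : i = 1
    · subst h1
      simpa using hAα α x (by simpa using hx)
    by_cases h2 : i = 2
    · subst h2
      simpa using hBα α x (by simpa using hx)
    by_cases h3 : i = 3
    · subst h3
      simpa using hCα α x (by simpa using hx)
    simp [h0, h1, h2, h3]

theorem commutator_invariant (α : MulAut G) {x : G} (hx : x ∈ commutator G) :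
    α x ∈ commutator G :=
  (Subgroup.characteristic_iff_map_eq.1 (inferInstance : (commutator G).Characteristic) α).le
    ⟨x, hx, rfl⟩

theorem card_eq_of_relIndex {H : Subgroup G} {n i : ℕ} (hG : Nat.card G = p ^ n)
    (hH : H.index = p ^ i) (hi : i ≤ n) : Nat.card H = p ^ (n - i) := by
  refine Nat.eq_of_mul_eq_mul_right (pow_pos hp.1.pos i) ?_
  rw [← pow_add, Nat.sub_add_cancel hi, ← hG, ← hH, Subgroup.card_mul_index]

theorem card_eq_sq_or (hG : Nat.card G = p ^ 4) (hna : ¬ IsMulCommutative G) :
    Nat.card (center G) = p ∨ Nat.card (center G) = p ^ 2 := by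
  have hP := IsPGroup.of_card hG
  have h2 := CfsgLib.PGroups.sq_le_index_center hP hna
  have hmul := (center G).card_mul_index
  obtain ⟨k, hk⟩ := card_subgroup_eq_pow hP (center G)
  obtain ⟨l, hl⟩ := hP.index (center G)
  rw [hl] at h2
  rw [hk, hl, hG, ← pow_add] at hmul
  have hkl := Nat.pow_right_injective hp.1.two_le hmul
  have hl2 := (Nat.pow_le_pow_iff_right hp.1.one_lt).mp h2
  haveI : Nontrivial G := Finite.one_lt_card_iff_nontrivial.mp
    (hG ▸ Nat.one_lt_pow four_ne_zero hp.1.one_lt)
  have hk0 : k ≠ 0 := fun h => by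
    rw [h, pow_zero, Subgroup.card_eq_one] at hk
    exact (Subgroup.nontrivial_iff_ne_bot _).1 hP.center_nontrivial hk
  rcases (show k = 1 ∨ k = 2 by omega) with rfl | rfl
  · exact Or.inl (hk.trans (pow_one p))
  · exact Or.inr hk

/-- Centre of order `p`: the series `Z < G' < C(G')`. -/
theorem series_of_card_center (hG : Nat.card G = p ^ 4) (hna : ¬ IsMulCommutative G)
    (hZ : Nat.card (center G) = p) : CharLineSeries p G := by
  have hP := IsPGroup.of_card hG
  have hpp : p.Prime := hp.1
  have hnot : ¬ commutator G ≤ center G := by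
    intro hle
    have hcz : ∀ x y : G, ⁅x, y⁆ ∈ center G := fun x y =>
      hle (commutator_mem_commutator (mem_top x) (mem_top y))
    obtain ⟨a, b, hab⟩ : ∃ a b : G, a * b ≠ b * a := by
      by_contra h
      push Not at h
      exact hna ⟨⟨h⟩⟩
    have hidx : ∀ g : G, (centralizer ({g} : Set G)).index ≤ p := fun g => by
      rw [Subgroup.index_eq_card, ← hZ]
      refine Nat.card_le_card_of_injective (fun q : G ⧸ centralizer ({g} : Set G) =>
        (⟨⁅q.out, g⁆, hcz _ _⟩ : center G)) fun q₁ q₂ h => ?_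
      have h' : q₁.out * g * q₁.out⁻¹ = q₂.out * g * q₂.out⁻¹ :=
        mul_right_cancel (congrArg Subtype.val h)
      rw [← q₁.out_eq, ← q₂.out_eq]
      refine QuotientGroup.eq.mpr (mem_centralizer_singleton_iff.mpr ?_)
      calc q₁.out⁻¹ * q₂.out * g = q₁.out⁻¹ * (q₂.out * g * q₂.out⁻¹) * q₂.out := by group
        _ = _ := by rw [← h']; group
    set N : Subgroup G := centralizer ({a} : Set G) ⊓ centralizer ({b} : Set G) with hN
    have hNidx : N.index ≤ p * p :=
      Subgroup.index_inf_le.trans (Nat.mul_le_mul (hidx a) (hidx b))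
    have hNcard : p ^ 2 ≤ Nat.card N := by
      refine Nat.le_of_mul_le_mul_right (c := p ^ 2) ?_ (pow_pos hpp.pos 2)
      rw [← pow_add, ← hG, ← N.card_mul_index, sq]
      exact Nat.mul_le_mul_left _ hNidx
    obtain ⟨n, hn, hnZ⟩ : ∃ n ∈ N, n ∉ center G := SetLike.not_le_iff_exists.mp fun h => by
      have := hNcard.trans (Subgroup.card_le_of_le h)
      rw [hZ] at this
      nlinarith [hpp.two_le]
    have haN : a ∉ N := fun h => hab (mem_centralizer_singleton_iff.mp h.2)
    have hCa : Nat.card (centralizer ({a} : Set G)) = p ^ 3 := by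
      obtain ⟨e, he⟩ := hP.index (centralizer ({a} : Set G))
      have h1 := hidx a
      rw [he] at h1
      have h2 : e ≤ 1 := (Nat.pow_le_pow_iff_right hpp.one_lt).mp (h1.trans (pow_one p).ge)
      have h3 : e ≠ 0 := fun h => hab (by
        rw [h, pow_zero, Subgroup.index_eq_one] at he
        exact (mem_centralizer_singleton_iff.mp (he ▸ mem_top b)).symm)
      exact card_eq_of_relIndex hG (show _ = p ^ 1 by rw [he, show e = 1 by omega]) (by omega)
    have hNab : Nat.card N = p ^ 2 := by
      have hlt : Nat.card N < p ^ 3 := hCa ▸ lt_of_le_of_ne (Subgroup.card_le_of_le inf_le_left)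
        fun h => haN ((Subgroup.eq_of_le_of_card_ge inf_le_left h.ge).ge
          (mem_centralizer_singleton_iff.mpr rfl))
      obtain ⟨e, he⟩ := card_subgroup_eq_pow hP N
      rw [he] at hlt hNcard ⊢
      have := (Nat.pow_lt_pow_iff_right hpp.one_lt).mp hlt
      have := (Nat.pow_le_pow_iff_right hpp.one_lt).mp hNcard
      rw [show e = 2 by omega]
    have hna' : n * a = a * n := mem_centralizer_singleton_iff.mp hn.1
    have hnb : n * b = b * n := mem_centralizer_singleton_iff.mp hn.2
    have hle' : centralizer ({a} : Set G) ≤ centralizer ({n} : Set G) := by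
      have hs : N ⊔ zpowers a = centralizer ({a} : Set G) := by
        refine Subgroup.eq_of_le_of_card_ge (sup_le inf_le_left
          (zpowers_le.mpr (mem_centralizer_singleton_iff.mpr rfl))) ?_
        obtain ⟨e, he⟩ := card_subgroup_eq_pow hP (N ⊔ zpowers a)
        have hlt : Nat.card N < Nat.card ↥(N ⊔ zpowers a) :=
          lt_of_le_of_ne (Subgroup.card_le_of_le le_sup_left) fun h => haN
            ((Subgroup.eq_of_le_of_card_ge le_sup_left h.ge).ge
              (mem_sup_right (mem_zpowers a)))
        rw [hNab, he] at hlt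
        rw [hCa, he]
        exact Nat.pow_le_pow_right hpp.pos (by
          have := (Nat.pow_lt_pow_iff_right hpp.one_lt).mp hlt; omega)
      rw [← hs]
      refine sup_le (fun m hm => mem_centralizer_singleton_iff.mpr ?_)
        (zpowers_le.mpr (mem_centralizer_singleton_iff.mpr hna'.symm))
      exact congrArg Subtype.val
        (IsPGroup.commutative_of_card_eq_prime_sq (p := p) hNab ⟨m, hm⟩ ⟨n, hn⟩)
    refine hnZ (Subgroup.mem_center_iff.mpr fun g => ?_)
    have hb' : b ∉ centralizer ({a} : Set G) := fun h =>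
      hab (mem_centralizer_singleton_iff.mp h).symm
    have htop : centralizer ({n} : Set G) = ⊤ := Subgroup.eq_top_of_le_card _ (by
      obtain ⟨e, he⟩ := card_subgroup_eq_pow hP (centralizer ({n} : Set G))
      have hlt : Nat.card (centralizer ({a} : Set G)) < Nat.card (centralizer ({n} : Set G)) :=
        lt_of_le_of_ne (Subgroup.card_le_of_le hle') fun h => hb'
          ((Subgroup.eq_of_le_of_card_ge hle' h.ge).ge
            (mem_centralizer_singleton_iff.mpr hnb.symm))
      rw [hCa, he] at hlt
      rw [hG, he]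
      exact Nat.pow_le_pow_right hpp.pos (by
        have := (Nat.pow_lt_pow_iff_right hpp.one_lt).mp hlt; omega))
    exact mem_centralizer_singleton_iff.mp (htop ▸ mem_top g)
  haveI : (commutator G).Normal := inferInstance
  have hne : commutator G ≠ ⊥ := fun h => hnot (h ▸ bot_le)
  have hZle : center G ≤ commutator G := by
    have h1 := inf_center_ne_bot hP hne
    have h2 : commutator G ⊓ center G = center G := Subgroup.eq_of_le_of_card_ge inf_le_right
      (hZ ▸ Nat.le_of_dvd Nat.card_pos (dvd_card_of_ne_bot hP h1))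
    exact h2 ▸ inf_le_left
  have hidx2 := CfsgLib.PGroups.sq_le_index_commutator hP hna
  have hcard : Nat.card (commutator G) = p ^ 2 := by
    obtain ⟨e, he⟩ := card_subgroup_eq_pow hP (commutator G)
    have hlt : Nat.card (center G) < Nat.card (commutator G) :=
      lt_of_le_of_ne (Subgroup.card_le_of_le hZle) fun h =>
        hnot (Subgroup.eq_of_le_of_card_ge hZle h.ge).ge
    rw [hZ, he] at hlt
    have h1 : 1 < e := (Nat.pow_lt_pow_iff_right hpp.one_lt).mp ((pow_one p).symm ▸ hlt)
    have hmul := (commutator G).card_mul_index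
    rw [he, hG] at hmul
    have h3 : p ^ e * p ^ 2 ≤ p ^ 4 := hmul ▸ Nat.mul_le_mul_left _ hidx2
    rw [← pow_add] at h3
    have := (Nat.pow_le_pow_iff_right hpp.one_lt).mp h3
    rw [he, show e = 2 by omega]
  obtain ⟨d, hd, hdZ⟩ := SetLike.not_le_iff_exists.mp hnot
  have hdcomm : ∀ x : G, ⁅x, d⁆ ∈ center G := by
    intro x
    haveI : (⁅commutator G, (⊤ : Subgroup G)⁆).Normal := inferInstance
    have hlt := commutator_top_lt hP hne
    obtain ⟨e, he⟩ := card_subgroup_eq_pow hP ⁅commutator G, (⊤ : Subgroup G)⁆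
    have hle : Nat.card ↥⁅commutator G, (⊤ : Subgroup G)⁆ ≤ p := by
      have h := lt_of_le_of_ne (Subgroup.card_le_of_le hlt.le) fun h =>
        hlt.ne (Subgroup.eq_of_le_of_card_ge hlt.le h.ge)
      rw [hcard, he] at h
      rw [he]
      exact (Nat.pow_le_pow_right hpp.pos
        (by have := (Nat.pow_lt_pow_iff_right hpp.one_lt).mp h; omega)).trans (pow_one p).le
    have hmem : ⁅d, x⁆ ∈ ⁅commutator G, (⊤ : Subgroup G)⁆ :=
      commutator_mem_commutator hd (mem_top x)
    rw [← inv_mem_iff, commutatorElement_inv]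
    rcases eq_or_ne ⁅commutator G, (⊤ : Subgroup G)⁆ ⊥ with hb | hb
    · rw [hb, mem_bot] at hmem
      rw [hmem]; exact one_mem _
    · have h1 := inf_center_ne_bot hP hb
      have h2 : ⁅commutator G, (⊤ : Subgroup G)⁆ ⊓ center G = ⁅commutator G, (⊤ : Subgroup G)⁆ :=
        Subgroup.eq_of_le_of_card_ge inf_le_left
          (hle.trans (Nat.le_of_dvd Nat.card_pos (dvd_card_of_ne_bot hP h1)))
      exact (h2.symm ▸ hmem : ⁅d, x⁆ ∈ ⁅commutator G, (⊤ : Subgroup G)⁆ ⊓ center G).2
  have hgen : zpowers d ⊔ center G = commutator G := by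
    refine Subgroup.eq_of_le_of_card_ge (sup_le (zpowers_le.mpr hd) hZle) ?_
    obtain ⟨e, he⟩ := card_subgroup_eq_pow hP (zpowers d ⊔ center G)
    have hlt : Nat.card (center G) < Nat.card ↥(zpowers d ⊔ center G) :=
      lt_of_le_of_ne (Subgroup.card_le_of_le le_sup_right) fun h => hdZ
        ((Subgroup.eq_of_le_of_card_ge le_sup_right h.ge).ge (mem_sup_left (mem_zpowers d)))
    rw [hZ, he] at hlt
    rw [hcard, he]
    exact Nat.pow_le_pow_right hpp.pos ((Nat.pow_lt_pow_iff_right hpp.one_lt).mp ((pow_one p).symm ▸ hlt))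
  set C : Subgroup G := centralizer ({d} : Set G) with hCdef
  have hCidx : C.index = p := by
    obtain ⟨e, he⟩ := hP.index C
    have h1 : C.index ≤ p := by
      rw [Subgroup.index_eq_card, ← hZ]
      refine Nat.card_le_card_of_injective (fun q : G ⧸ C => (⟨⁅q.out, d⁆, hdcomm _⟩ : center G))
        fun q₁ q₂ h => ?_
      have h' : q₁.out * d * q₁.out⁻¹ = q₂.out * d * q₂.out⁻¹ :=
        mul_right_cancel (congrArg Subtype.val h)
      rw [← q₁.out_eq, ← q₂.out_eq]
      refine QuotientGroup.eq.mpr (mem_centralizer_singleton_iff.mpr ?_)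
      calc q₁.out⁻¹ * q₂.out * d = q₁.out⁻¹ * (q₂.out * d * q₂.out⁻¹) * q₂.out := by group
        _ = _ := by rw [← h']; group
    rw [he] at h1 ⊢
    have h2 : e ≤ 1 := (Nat.pow_le_pow_iff_right hpp.one_lt).mp (h1.trans (pow_one p).ge)
    have h3 : e ≠ 0 := fun h => hdZ (Subgroup.mem_center_iff.mpr fun g => by
      rw [h, pow_zero, Subgroup.index_eq_one] at he
      exact mem_centralizer_singleton_iff.mp (he.ge (mem_top g)))
    rw [show e = 1 by omega, pow_one]
  refine charLineSeries_four (A := center G) (B := commutator G) (C := C) hG hZ hcard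
    (card_eq_of_relIndex hG (hCidx.trans (pow_one p).symm) (by omega)) hZle ?_
    (fun α x hx => center_invariant α hx) (fun α x hx => commutator_invariant α hx) ?_
  · rw [← hgen]
    exact sup_le (zpowers_le.mpr (mem_centralizer_singleton_iff.mpr rfl))
      fun z hz => mem_centralizer_singleton_iff.mpr (Subgroup.mem_center_iff.mp hz d).symm
  · intro α x hx
    have hall : commutator G ≤ centralizer ({x} : Set G) := by
      rw [← hgen]
      exact sup_le (zpowers_le.mpr (mem_centralizer_singleton_iff.mpr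
        (mem_centralizer_singleton_iff.mp hx).symm))
        fun z hz => mem_centralizer_singleton_iff.mpr (Subgroup.mem_center_iff.mp hz x).symm
    have h := mem_centralizer_singleton_iff.mp (hall (commutator_invariant α⁻¹ hd))
    have h' := congrArg α h
    rw [map_mul, map_mul, MulAut.apply_inv_self] at h'
    exact mem_centralizer_singleton_iff.mpr h'.symm

/-- An abelian subgroup generated by the centre and one element outside it. -/
theorem card_sup_center (hG : Nat.card G = p ^ 4) (hna : ¬ IsMulCommutative G)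
    (hZ : Nat.card (center G) = p ^ 2) {r : G} (hr : r ∉ center G) :
    Nat.card ↥(zpowers r ⊔ center G) = p ^ 3 := by
  have hP := IsPGroup.of_card hG
  obtain ⟨e, he⟩ := card_subgroup_eq_pow hP (zpowers r ⊔ center G)
  have hlt : Nat.card (center G) < Nat.card ↥(zpowers r ⊔ center G) :=
    lt_of_le_of_ne (Subgroup.card_le_of_le le_sup_right) fun h => hr
      ((Subgroup.eq_of_le_of_card_ge le_sup_right h.ge).ge (mem_sup_left (mem_zpowers r)))
  rw [hZ, he] at hlt
  have h2 := (Nat.pow_lt_pow_iff_right hp.1.one_lt).mp hlt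
  have hle : zpowers r ⊔ center G ≤ centralizer ({r} : Set G) :=
    sup_le (zpowers_le.mpr (mem_centralizer_singleton_iff.mpr rfl))
      fun z hz => mem_centralizer_singleton_iff.mpr (Subgroup.mem_center_iff.mp hz r).symm
  have h4 : e < 4 := by
    by_contra h
    refine hr (Subgroup.mem_center_iff.mpr fun g => mem_centralizer_singleton_iff.mp (hle ?_))
    rw [Subgroup.eq_top_of_le_card (zpowers r ⊔ center G) (by
      rw [hG, he]; exact Nat.pow_le_pow_right hp.1.pos (by omega))]
    exact mem_top g
  rw [he, show e = 3 by omega]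

theorem exists_iso_of_complement (hG : Nat.card G = p ^ 4) (hna : ¬ IsMulCommutative G) {w : G}
    (hw : w ∈ center G) (hwp : w ^ p = 1) (hwF : w ∉ frattini G) :
    ∃ M : Subgroup G, Nat.card M = p ^ 3 ∧ (∃ a b : M, a * b ≠ b * a) ∧
      Nonempty (G ≃* M × Multiplicative (ZMod p)) := by
  have hP := IsPGroup.of_card hG
  obtain ⟨M, hM, hwM⟩ : ∃ M : Subgroup G, IsCoatom M ∧ w ∉ M := by
    by_contra h
    push Not at h
    exact hwF (mem_frattini_iff.mpr h)
  have hMc : Nat.card M = p ^ 3 :=
    card_eq_of_relIndex hG ((index_eq_of_isCoatom hP hM).trans (pow_one p).symm) (by omega)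
  have hwo : orderOf w = p := orderOf_eq_prime hwp fun h => hwM (h ▸ M.one_mem)
  let g : Multiplicative (ZMod p) →* G :=
    AddMonoidHom.toMultiplicativeLeft
      (ZMod.lift p ⟨zmultiplesHom (Additive G) (Additive.ofMul w), by
        show (p : ℤ) • Additive.ofMul w = 0
        rw [natCast_zsmul, ← ofMul_pow, hwp, ofMul_one]⟩)
  have hg1 : g (Multiplicative.ofAdd 1) = w := by
    show Additive.toMul (ZMod.lift p _ (1 : ZMod p)) = w
    rw [← Int.cast_one, ZMod.lift_coe]
    simp
  have hgw : ∀ x : Multiplicative (ZMod p), g x ∈ zpowers w := by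
    intro x
    obtain ⟨i, hi⟩ := ZMod.intCast_surjective (Multiplicative.toAdd x)
    refine mem_zpowers_iff.mpr ⟨i, ?_⟩
    rw [← hg1, ← map_zpow]
    congr 1
    apply Multiplicative.toAdd.injective
    rw [toAdd_zpow, toAdd_ofAdd, zsmul_one, hi]
  let ψ : M × Multiplicative (ZMod p) →* G :=
    MonoidHom.noncommCoprod M.subtype g fun m x =>
      (Subgroup.mem_center_iff.mp (zpowers_le.mpr hw (hgw x)) (m : G))
  have hψ : Function.Surjective ψ := by
    rw [← MonoidHom.range_eq_top]
    refine hM.2 _ (lt_of_le_not_ge (fun m hm => ⟨(⟨m, hm⟩, 1), ?_⟩) fun h => hwM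
      (h ⟨(1, Multiplicative.ofAdd 1), ?_⟩))
    · show m * g 1 = m
      rw [map_one, mul_one]
    · show (1 : G) * g (Multiplicative.ofAdd 1) = w
      rw [hg1, one_mul]
  have hb : Function.Bijective ψ := (Nat.bijective_iff_surjective_and_card ψ).mpr ⟨hψ, by
    rw [Nat.card_prod, hMc, hG, Nat.card_congr Multiplicative.toAdd, Nat.card_zmod, ← pow_succ]⟩
  refine ⟨M, hMc, ?_, ⟨(MulEquiv.ofBijective ψ hb).symm⟩⟩
  by_contra h
  push Not at h
  refine hna ⟨⟨fun x y => ?_⟩⟩
  obtain ⟨⟨m, i⟩, rfl⟩ := hψ x
  obtain ⟨⟨m', i'⟩, rfl⟩ := hψ y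
  rw [← map_mul, ← map_mul, Prod.mk_mul_mk, Prod.mk_mul_mk, h m m', mul_comm i i']

/-- Centre of order `p ^ 2`. -/
theorem order_p4_class_two (hG : Nat.card G = p ^ 4) (hna : ¬ IsMulCommutative G)
    (hZ : Nat.card (center G) = p ^ 2) :
    CharLineSeries p G ∨
      (Odd p ∧ ∃ (E : Type) (_ : Group E) (_ : Finite E), Cfsg.IsExtraspecial p E ∧
        Nat.card E = p ^ 3 ∧ (∀ x : E, x ^ p = 1) ∧ Nonempty (G ≃* E × Multiplicative (ZMod p))) ∨
      (p = 2 ∧ Nonempty (G ≃* QuaternionGroup 2 × Multiplicative (ZMod 2))) ∨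
      ((∀ x : G, x ^ (p ^ 2) = 1) ∧ IsCyclic (center G)) := by
  have hP := IsPGroup.of_card hG
  have hpp : p.Prime := hp.1
  have hQ2 : Nat.card (G ⧸ center G) = p ^ 2 := by
    have h := (center G).card_mul_index
    rw [hZ, hG, show p ^ 4 = p ^ 2 * p ^ 2 by ring] at h
    exact Nat.eq_of_mul_eq_mul_left (pow_pos hpp.pos 2) h
  have hcen : ∀ x y : G, ⁅x, y⁆ ∈ center G := fun x y => by
    rw [← QuotientGroup.eq_one_iff]
    show QuotientGroup.mk' (center G) ⁅x, y⁆ = 1
    rw [map_commutatorElement, commutatorElement_eq_one_iff_mul_comm]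
    exact IsPGroup.commutative_of_card_eq_prime_sq (p := p) hQ2 _ _
  have hpowc : ∀ x : G, x ^ p ∈ center G := by
    intro x
    rw [← QuotientGroup.eq_one_iff, QuotientGroup.mk_pow]
    by_contra hne
    have hord : orderOf (x : G ⧸ center G) = p ^ 2 := by
      obtain ⟨e, he, he'⟩ := (Nat.dvd_prime_pow hpp).1 (hQ2 ▸ orderOf_dvd_natCard (x : G ⧸ center G))
      interval_cases e
      · exact absurd (by rw [orderOf_eq_one_iff.1 he', one_pow]) hne
      · exact absurd (by rw [← pow_orderOf_eq_one (x : G ⧸ center G), he', pow_one]) hne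
      · exact he'
    haveI := isCyclic_of_orderOf_eq_card (x : G ⧸ center G) (hord.trans hQ2.symm)
    exact hna ⟨⟨commutative_of_cyclic_center_quotient (QuotientGroup.mk' (center G))
      (by rw [QuotientGroup.ker_mk'])⟩⟩
  have hcp : ∀ x y : G, ⁅x, y⁆ ^ p = 1 := fun x y => by
    rw [← commutator_pow_left_of_central (hcen x y), commutatorElement_eq_one_iff_mul_comm]
    exact (Subgroup.mem_center_iff.mp (hpowc x) y).symm
  obtain ⟨a, b, hab⟩ : ∃ a b : G, a * b ≠ b * a := by
    by_contra h
    push Not at h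
    exact hna ⟨⟨h⟩⟩
  have haZ : a ∉ center G := fun h => hab (Subgroup.mem_center_iff.mp h b).symm
  have hbA : b ∉ zpowers a ⊔ center G := fun h => hab (mem_centralizer_singleton_iff.mp
    ((sup_le (zpowers_le.mpr (mem_centralizer_singleton_iff.mpr rfl))
      fun z hz => mem_centralizer_singleton_iff.mpr (Subgroup.mem_center_iff.mp hz a).symm :
        zpowers a ⊔ center G ≤ centralizer ({a} : Set G)) h)).symm
  have hgen : zpowers b ⊔ (zpowers a ⊔ center G) = ⊤ := by
    refine Subgroup.eq_top_of_le_card _ ?_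
    obtain ⟨e, he⟩ := card_subgroup_eq_pow hP (zpowers b ⊔ (zpowers a ⊔ center G))
    have hlt : Nat.card ↥(zpowers a ⊔ center G) <
        Nat.card ↥(zpowers b ⊔ (zpowers a ⊔ center G)) :=
      lt_of_le_of_ne (Subgroup.card_le_of_le le_sup_right) fun h => hbA
        ((Subgroup.eq_of_le_of_card_ge le_sup_right h.ge).ge (mem_sup_left (mem_zpowers b)))
    rw [card_sup_center hG hna hZ haZ, he] at hlt
    rw [hG, he]
    exact Nat.pow_le_pow_right hpp.pos ((Nat.pow_lt_pow_iff_right hpp.one_lt).mp hlt)
  set c := ⁅a, b⁆ with hc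
  have hc1 : c ≠ 1 := fun h => hab (commutatorElement_eq_one_iff_mul_comm.mp h)
  haveI hcn : (zpowers c).Normal := normal_of_le_center (zpowers_le.mpr (hcen a b))
  have hcomm : commutator G = zpowers c := by
    refine le_antisymm ?_ (zpowers_le.mpr (commutator_mem_commutator (mem_top a) (mem_top b)))
    set π := QuotientGroup.mk' (zpowers c)
    have hab' : π a * π b = π b * π a := by
      rw [← commutatorElement_eq_one_iff_mul_comm, ← map_commutatorElement]
      exact (QuotientGroup.eq_one_iff _).mpr (mem_zpowers c)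
    have hz : ∀ z ∈ center G, ∀ g, π g * π z = π z * π g := fun z hz g => by
      rw [← map_mul, ← map_mul, Subgroup.mem_center_iff.mp hz g]
    have key : ∀ u : G, π u * π a = π a * π u → π u * π b = π b * π u →
        ∀ g, π u * π g = π g * π u := by
      intro u h1 h2 g
      have hle : zpowers b ⊔ (zpowers a ⊔ center G) ≤ (centralizer {π u}).comap π :=
        sup_le (zpowers_le.mpr (mem_centralizer_singleton_iff.mpr h2.symm))
          (sup_le (zpowers_le.mpr (mem_centralizer_singleton_iff.mpr h1.symm))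
            fun z hz' => mem_centralizer_singleton_iff.mpr (hz z hz' u).symm)
      exact (mem_centralizer_singleton_iff.mp (hle (hgen ▸ mem_top g))).symm
    have ha' := key a rfl hab'
    have hb' := key b hab'.symm rfl
    rw [← QuotientGroup.ker_mk' (zpowers c), ← Subgroup.map_eq_bot_iff, commutator_def,
      Subgroup.map_commutator, commutator_eq_bot_iff_le_centralizer]
    rintro _ ⟨u, -, rfl⟩
    rw [mem_centralizer_iff]
    rintro _ ⟨v, -, rfl⟩
    exact (key u (ha' u).symm (hb' u).symm v).symm
  have hcard' : Nat.card (commutator G) = p := by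
    rw [hcomm, Nat.card_zpowers, orderOf_eq_prime (hcp a b) hc1]
  have hcle : commutator G ≤ center G := by
    rw [hcomm]; exact zpowers_le.mpr (hcen a b)
  have series : ∀ C : Subgroup G, Nat.card C = p ^ 3 → center G ≤ C →
      (∀ (α : MulAut G), ∀ x ∈ C, α x ∈ C) → CharLineSeries p G := fun C h1 h2 h3 =>
    charLineSeries_four hG hcard' hZ h1 hcle h2 (fun α x hx => commutator_invariant α hx)
      (fun α x hx => center_invariant α hx) h3
  have hchoose : ∀ n : ℕ, p ∣ n.choose 2 → ∀ x y : G, (x * y) ^ n = x ^ n * y ^ n :=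
    fun n hn x y => by
      rw [mul_pow_of_central (hcen y x)]
      obtain ⟨q, hq⟩ := hn
      rw [hq, pow_mul, hcp, one_pow, mul_one]
  by_cases hcyc : IsCyclic (center G)
  · by_cases hexp : ∀ x : G, x ^ (p ^ 2) = 1
    · exact Or.inr (Or.inr (Or.inr ⟨hexp, hcyc⟩))
    left
    push Not at hexp
    obtain ⟨x₀, hx₀⟩ := hexp
    let f : G →* G := MonoidHom.mk' (fun y => y ^ (p ^ 2)) (hchoose _
      (hpp.dvd_choose_pow (by omega) (by have := Nat.pow_le_pow_left hpp.two_le 2; omega)))
    obtain ⟨hmul, hk, -⟩ : Nat.card f.ker * Nat.card f.range = Nat.card G ∧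
        (∀ α : MulAut G, ∀ x ∈ f.ker, α x ∈ f.ker) ∧ True := by
      refine ⟨by rw [← Subgroup.index_ker, Subgroup.card_mul_index], fun α x hx => ?_, trivial⟩
      rw [MonoidHom.mem_ker] at hx ⊢
      show (α x) ^ (p ^ 2) = 1
      rw [← map_pow, show x ^ (p ^ 2) = 1 from hx, map_one]
    obtain ⟨z, hz⟩ := IsCyclic.exists_generator (α := center G)
    have hzo : orderOf z = p ^ 2 := (orderOf_eq_card_of_forall_mem_zpowers hz).trans hZ
    have hrange : f.range ≤ zpowers ((z : G) ^ p) := by
      rintro _ ⟨y, rfl⟩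
      obtain ⟨i, hi⟩ := mem_zpowers_iff.mp (hz ⟨y ^ p, hpowc y⟩)
      refine mem_zpowers_iff.mpr ⟨i, ?_⟩
      show ((z : G) ^ p) ^ i = y ^ (p ^ 2)
      rw [← zpow_natCast, ← zpow_mul, mul_comm, zpow_mul, zpow_natCast,
        show (z : G) ^ i = y ^ p by simpa using congrArg Subtype.val hi, ← pow_mul, sq]
    have hr : Nat.card f.range = p := by
      obtain ⟨e, he⟩ := card_subgroup_eq_pow hP f.range
      have h1 := Subgroup.card_le_of_le hrange
      rw [he, Nat.card_zpowers, orderOf_pow' _ hpp.ne_zero, Subgroup.orderOf_coe, hzo,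
        Nat.gcd_eq_right (dvd_pow_self p two_ne_zero), sq, Nat.mul_div_cancel _ hpp.pos] at h1
      have h2 : e ≤ 1 := (Nat.pow_le_pow_iff_right hpp.one_lt).mp (h1.trans (pow_one p).ge)
      have h3 : e ≠ 0 := fun h => hx₀ (by
        rw [h, pow_zero, Subgroup.card_eq_one] at he
        exact mem_bot.mp (he ▸ ⟨x₀, rfl⟩))
      rw [he, show e = 1 by omega, pow_one]
    rw [hr, hG, pow_succ] at hmul
    refine series f.ker (Nat.eq_of_mul_eq_mul_right hpp.pos hmul) (fun w hw => ?_) hk
    show w ^ (p ^ 2) = 1
    rw [← hZ]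
    exact congrArg Subtype.val (pow_card_eq_one' (x := (⟨w, hw⟩ : center G)))
  have hZe : ∀ w ∈ center G, w ^ p = 1 := by
    intro w hw
    by_contra hne
    refine hcyc (isCyclic_of_orderOf_eq_card (⟨w, hw⟩ : center G) ?_)
    obtain ⟨e, he, he'⟩ := (Nat.dvd_prime_pow hpp).1
      (hZ ▸ orderOf_dvd_natCard (⟨w, hw⟩ : center G))
    rw [hZ, he']
    interval_cases e
    · refine absurd ?_ hne
      rw [show w = 1 from congrArg Subtype.val (orderOf_eq_one_iff.1 he'), one_pow]
    · refine absurd ?_ hne
      rw [pow_one] at he'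
      exact congrArg Subtype.val (he' ▸ pow_orderOf_eq_one (⟨w, hw⟩ : center G))
    · rfl
  -- a central element off the Frattini subgroup, when all p-th powers lie in `G'`
  have hexists : (∀ x : G, x ^ p ∈ commutator G) →
      ∃ w ∈ center G, w ^ p = 1 ∧ w ∉ frattini G := by
    intro hall
    have hF : frattini G ≤ commutator G := frattini_le_of_elementary_quotient le_rfl hall
    obtain ⟨w, hw, hwc⟩ := SetLike.not_le_iff_exists.mp fun h : center G ≤ commutator G => by
      have := Subgroup.card_le_of_le h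
      rw [hZ, hcard'] at this
      nlinarith [hpp.two_le]
    exact ⟨w, hw, hZe w hw, fun h => hwc (hF h)⟩
  rcases hpp.eq_two_or_odd' with rfl | hodd
  · -- p = 2
    have hsq : ∀ x y : G, (x * y) ^ 2 = x ^ 2 * y ^ 2 * ⁅y, x⁆ := fun x y => by
      rw [mul_pow_of_central (hcen y x), Nat.choose_self, pow_one]
    by_cases hall : ∀ x : G, x ^ 2 ∈ commutator G
    · have hval : ∀ x : G, x ^ 2 = 1 ∨ x ^ 2 = c := fun x => by
        obtain ⟨i, hi⟩ := mem_zpowers_iff.mp (hcomm ▸ hall x)
        rcases Int.emod_two_eq_zero_or_one i with h | h <;>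
          rw [← hi, ← zpow_mod_orderOf, orderOf_eq_prime (hcp a b) hc1, Nat.cast_ofNat, h]
        · exact Or.inl (zpow_zero c)
        · exact Or.inr (zpow_one c)
      have hzz : ∀ z ∈ center G, ∀ x : G, (x * z) ^ 2 = x ^ 2 := fun z hz x => by
        rw [hsq, hZe z hz, mul_one, commutatorElement_eq_one_iff_mul_comm.mpr
          (Subgroup.mem_center_iff.mp hz x).symm, mul_one]
      have hc2 : c * c = 1 := by rw [← sq]; exact hcp a b
      have hba : ⁅b, a⁆ = c := by
        rw [commutator_swap_inv, ← hc, inv_eq_of_mul_eq_one_right hc2]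
      have hab2 : (a * b) ^ 2 = a ^ 2 * b ^ 2 * c := by rw [hsq, hba]
      haveI : (center G).Normal := inferInstance
      have hcoset : ∀ x : G, ∃ z ∈ center G, x = z ∨ x = a * z ∨ x = b * z ∨ x = a * b * z := by
        intro x
        obtain ⟨u, hu, v, hv, rfl⟩ : ∃ u ∈ zpowers b, ∃ v ∈ zpowers a ⊔ center G, x = u * v := by
          have hN : (zpowers a ⊔ center G).Normal := ⟨fun v hv g => by
            have h1 : ⁅g, v⁆ * v ∈ zpowers a ⊔ center G := mul_mem (mem_sup_right (hcen g v)) hv
            rwa [commutatorElement_def, inv_mul_cancel_right] at h1⟩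
          have hx : x ∈ zpowers b ⊔ (zpowers a ⊔ center G) := hgen ▸ mem_top x
          obtain ⟨u, hu, v, hv, e⟩ := Subgroup.mem_sup_of_normal_right.mp hx
          exact ⟨u, hu, v, hv, e.symm⟩
        obtain ⟨v₁, hv₁, v₂, hv₂, rfl⟩ := Subgroup.mem_sup_of_normal_right.mp hv
        obtain ⟨j, rfl⟩ := mem_zpowers_iff.mp hu
        obtain ⟨i, rfl⟩ := mem_zpowers_iff.mp hv₁
        obtain ⟨i', rfl | rfl⟩ := Int.even_or_odd' i <;>
        obtain ⟨j', rfl | rfl⟩ := Int.even_or_odd' j
        all_goals
          have hA : a ^ (2 * i') ∈ center G := by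
            rw [zpow_mul]; exact zpow_mem (by rw [zpow_two, ← sq]; exact hpowc a) i'
          have hB : b ^ (2 * j') ∈ center G := by
            rw [zpow_mul]; exact zpow_mem (by rw [zpow_two, ← sq]; exact hpowc b) j'
        · exact ⟨_, mul_mem hB (mul_mem hA hv₂), Or.inl rfl⟩
        · refine ⟨b ^ (2 * j') * (a ^ (2 * i') * v₂), mul_mem hB (mul_mem hA hv₂),
            Or.inr (Or.inr (Or.inl ?_))⟩
          rw [zpow_add_one, ← Subgroup.mem_center_iff.mp hB b, mul_assoc]
        · refine ⟨b ^ (2 * j') * (a ^ (2 * i') * v₂), mul_mem hB (mul_mem hA hv₂),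
            Or.inr (Or.inl ?_)⟩
          rw [zpow_add_one, ← Subgroup.mem_center_iff.mp hA a, ← mul_assoc a (b ^ (2 * j')),
            Subgroup.mem_center_iff.mp hB a]
          simp only [mul_assoc]
        · refine ⟨⁅b, a⁆ * (b ^ (2 * j') * (a ^ (2 * i') * v₂)),
            mul_mem (hcen b a) (mul_mem hB (mul_mem hA hv₂)), Or.inr (Or.inr (Or.inr ?_))⟩
          have e1 : b * a = a * b * ⁅b, a⁆ := by
            rw [Subgroup.mem_center_iff.mp (hcen b a) (a * b), commutatorElement_def]; group
          rw [zpow_add_one, zpow_add_one, ← Subgroup.mem_center_iff.mp hB b,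
            ← Subgroup.mem_center_iff.mp hA a]
          calc b * b ^ (2 * j') * (a * a ^ (2 * i') * v₂)
              = b * (b ^ (2 * j') * a) * a ^ (2 * i') * v₂ := by simp only [mul_assoc]
            _ = b * (a * b ^ (2 * j')) * a ^ (2 * i') * v₂ := by
                rw [Subgroup.mem_center_iff.mp hB a]
            _ = b * a * (b ^ (2 * j') * (a ^ (2 * i') * v₂)) := by simp only [mul_assoc]
            _ = _ := by rw [e1]; simp only [mul_assoc]
      by_cases hQ : a ^ 2 = c ∧ b ^ 2 = c
      · right; right; left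
        refine ⟨rfl, ?_⟩
        obtain ⟨w, hw, hwp, hwF⟩ := hexists hall
        obtain ⟨M, hMc, ⟨m₁, m₂, hm⟩, ⟨e⟩⟩ := exists_iso_of_complement hG hna hw hwp hwF
        have hinv : ∀ y : G, y ^ 2 = 1 → y ∈ center G := by
          intro y hy
          obtain ⟨z, hz, rfl | rfl | rfl | rfl⟩ := hcoset y
          · exact hz
          · rw [hzz z hz, hQ.1] at hy; exact absurd hy hc1
          · rw [hzz z hz, hQ.2] at hy; exact absurd hy hc1
          · rw [hzz z hz, hab2, hQ.1, hQ.2, hc2, one_mul] at hy; exact absurd hy hc1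
        have hMP : IsPGroup 2 M := hP.to_subgroup M
        obtain ⟨z, hz⟩ := exists_prime_orderOf_dvd_card' 2 (G := M) (hMc ▸ dvd_pow_self 2 three_ne_zero)
        rcases isCyclic_or_quaternion_of_unique hMP (by rw [← hz]; exact pow_orderOf_eq_one z)
          (fun y hy => by
            have hyc := hinv y (by simpa using congrArg Subtype.val hy)
            by_contra hyz
            -- two central elements of order two in `M` would make it central
            have hzc := hinv z (by
              have := pow_orderOf_eq_one z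
              rw [hz] at this
              simpa using congrArg Subtype.val this)
            set Z' : Subgroup M := (center G).subgroupOf M with hZ'
            have hlt : Nat.card (zpowers z) < Nat.card Z' := by
              have hle : zpowers z ≤ Z' := zpowers_le.mpr hzc
              refine lt_of_le_of_ne (Subgroup.card_le_of_le hle) fun h => hyz ?_
              exact (Subgroup.eq_of_le_of_card_ge hle h.ge).ge hyc
            rw [Nat.card_zpowers, hz] at hlt
            have hle2 : center G ≤ M := by
              have h1 : Nat.card Z' = Nat.card ↥(center G ⊓ M) := by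
                rw [hZ', ← Subgroup.inf_subgroupOf_right,
                  Nat.card_congr (Subgroup.subgroupOfEquivOfLe inf_le_right).toEquiv]
              obtain ⟨k, hk⟩ := card_subgroup_eq_pow hP (center G ⊓ M)
              have h3 : 2 ^ 1 < 2 ^ k := by rw [pow_one, ← hk, ← h1]; exact hlt
              have h4 := (Nat.pow_lt_pow_iff_right (by norm_num : 1 < 2)).mp h3
              have h2 : center G ⊓ M = center G := Subgroup.eq_of_le_of_card_ge inf_le_left (by
                rw [hZ, hk]; exact Nat.pow_le_pow_right (by norm_num) h4)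
              exact h2 ▸ inf_le_right
            have hcy : IsCyclic (M ⧸ Z') := by
              refine isCyclic_of_prime_card (p := 2) ?_
              have hZc : Nat.card Z' = 2 ^ 2 := by
                rw [← hZ]
                exact Nat.card_congr (Subgroup.subgroupOfEquivOfLe hle2).toEquiv
              have h := Z'.card_mul_index
              rw [hZc, hMc] at h
              rw [← Subgroup.index_eq_card]
              exact Nat.eq_of_mul_eq_mul_left (by norm_num : 0 < 2 ^ 2) (h.trans (by norm_num))
            exact hm (commutative_of_cyclic_center_quotient (QuotientGroup.mk' Z')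
              (by
                rw [QuotientGroup.ker_mk']
                exact fun u hu => Subgroup.mem_center_iff.mpr fun v =>
                  Subtype.ext (Subgroup.mem_center_iff.mp hu v)) m₁ m₂)) with hc' | ⟨-, m, hm', ⟨q⟩⟩
        · exact absurd ((IsCyclic.isMulCommutative (α := M)).is_comm.comm m₁ m₂) hm
        · have h8 := Nat.card_congr q.toEquiv
          rw [hMc, Nat.card_eq_fintype_card, QuaternionGroup.card,
            show (2 : ℕ) ^ 3 = 4 * 2 ^ 1 by norm_num] at h8
          obtain rfl : 1 = m :=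
            Nat.pow_right_injective le_rfl (Nat.eq_of_mul_eq_mul_left four_pos h8)
          exact ⟨e.trans (MulEquiv.prodCongr q (MulEquiv.refl _))⟩
      · left
        -- exactly one coset of the centre has nontrivial squares
        obtain ⟨r, hrZ, hr2, hother⟩ : ∃ r : G, r ∉ center G ∧ r ^ 2 ≠ 1 ∧
            ∀ x : G, x ^ 2 ≠ 1 → x ∈ zpowers r ⊔ center G := by
          have habZ : a * b ∉ center G := fun h => hab (by
            have h1 := Subgroup.mem_center_iff.mp h a
            have h2 := mul_left_cancel (h1.trans (mul_assoc a b a))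
            exact h2)
          have hbZ : b ∉ center G := fun h => hab (Subgroup.mem_center_iff.mp h a)
          rcases hval a with ha | ha <;> rcases hval b with hb | hb
          · refine ⟨a * b, habZ, by rw [hab2, ha, hb, one_mul, one_mul]; exact hc1, fun x hx => ?_⟩
            obtain ⟨z, hz, rfl | rfl | rfl | rfl⟩ := hcoset x
            · exact absurd (hZe x hz) hx
            · rw [hzz z hz, ha] at hx; exact absurd rfl hx
            · rw [hzz z hz, hb] at hx; exact absurd rfl hx
            · exact mul_mem (mem_sup_left (mem_zpowers _)) (mem_sup_right hz)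
          · refine ⟨b, hbZ, by rw [hb]; exact hc1, fun x hx => ?_⟩
            obtain ⟨z, hz, rfl | rfl | rfl | rfl⟩ := hcoset x
            · exact absurd (hZe x hz) hx
            · rw [hzz z hz, ha] at hx; exact absurd rfl hx
            · exact mul_mem (mem_sup_left (mem_zpowers _)) (mem_sup_right hz)
            · rw [hzz z hz, hab2, ha, hb, one_mul, hc2] at hx; exact absurd rfl hx
          · refine ⟨a, haZ, by rw [ha]; exact hc1, fun x hx => ?_⟩
            obtain ⟨z, hz, rfl | rfl | rfl | rfl⟩ := hcoset x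
            · exact absurd (hZe x hz) hx
            · exact mul_mem (mem_sup_left (mem_zpowers _)) (mem_sup_right hz)
            · rw [hzz z hz, hb] at hx; exact absurd rfl hx
            · rw [hzz z hz, hab2, ha, hb, mul_one, hc2] at hx; exact absurd rfl hx
          · exact absurd ⟨ha, hb⟩ hQ
        set C := closure {x : G | x ^ 2 ≠ 1} with hCdef
        have hrC : r ∈ C := subset_closure hr2
        have hZC : center G ≤ C := fun z hz => by
          have h1 : r * z ∈ C :=
            subset_closure (show (r * z) ^ 2 ≠ 1 by rw [hzz z hz]; exact hr2)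
          simpa using mul_mem (inv_mem hrC) h1
        have hCeq : C = zpowers r ⊔ center G :=
          le_antisymm ((closure_le _).mpr hother) (sup_le (zpowers_le.mpr hrC) hZC)
        refine series C (hCeq ▸ card_sup_center hG hna hZ hrZ) hZC fun α x hx => ?_
        induction hx using closure_induction with
        | mem y hy =>
          exact subset_closure fun h => hy (by rwa [← map_pow, MulEquiv.map_eq_one_iff] at h)
        | one => rw [map_one]; exact C.one_mem
        | mul u v _ _ h1 h2 => rw [map_mul]; exact C.mul_mem h1 h2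
        | inv u _ h1 => rw [map_inv]; exact C.inv_mem h1
    · left
      push Not at hall
      obtain ⟨x₀, hx₀⟩ := hall
      let f : G →* G ⧸ commutator G := MonoidHom.mk' (fun x => ((x ^ 2 : G) : G ⧸ commutator G))
        fun x y => by
          rw [← QuotientGroup.mk_mul, hsq, QuotientGroup.mk_mul,
            (QuotientGroup.eq_one_iff (N := commutator G) ⁅y, x⁆).mpr (commutator_mem_commutator (mem_top y) (mem_top x)),
            mul_one]
      have hmul : Nat.card f.ker * Nat.card f.range = Nat.card G := by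
        rw [← Subgroup.index_ker, Subgroup.card_mul_index]
      have hr : Nat.card f.range = 2 := by
        have h1 : f.range ≤ (center G).map (QuotientGroup.mk' (commutator G)) := by
          rintro _ ⟨y, rfl⟩; exact ⟨y ^ 2, hpowc y, rfl⟩
        have h2 : Nat.card ((center G).map (QuotientGroup.mk' (commutator G))) = 2 := by
          have h := Subgroup.relIndex_ker (QuotientGroup.mk' (commutator G)) (K := center G)
          rw [QuotientGroup.ker_mk'] at h
          have h3 := ((commutator G).subgroupOf (center G)).card_mul_index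
          rw [Nat.card_congr (Subgroup.subgroupOfEquivOfLe hcle).toEquiv, hcard', hZ] at h3
          rw [← h, Subgroup.relIndex]
          omega
        refine le_antisymm ((Subgroup.card_le_of_le h1).trans h2.le)
          (Subgroup.one_lt_card_iff_ne_bot _ |>.mpr fun h => hx₀ ?_)
        exact (QuotientGroup.eq_one_iff _).mp (mem_bot.mp (h ▸ ⟨x₀, rfl⟩))
      rw [hr, hG] at hmul
      refine series f.ker (by omega) (fun w hw => ?_) fun α x hx => ?_
      · show ((w ^ 2 : G) : G ⧸ commutator G) = 1
        rw [hZe w hw, QuotientGroup.mk_one]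
      · have hx' : x ^ 2 ∈ commutator G := (QuotientGroup.eq_one_iff _).mp hx
        show ((α x) ^ 2 : G ⧸ commutator G) = 1
        rw [← QuotientGroup.mk_pow, ← map_pow]
        exact (QuotientGroup.eq_one_iff _).mpr (commutator_invariant α hx')
  · -- p odd
    let f : G →* G := MonoidHom.mk' (fun x => x ^ p) (hchoose p
      (hpp.dvd_choose_self two_ne_zero (by
        rcases hpp.two_le.lt_or_eq with h | h
        · exact h
        · exact absurd (h ▸ hodd) (by decide))))
    obtain ⟨hmul, hk, -⟩ := pow_ker_range f fun _ => rfl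
    have hrle : f.range ≤ center G := by rintro _ ⟨x, rfl⟩; exact hpowc x
    have hZk : center G ≤ f.ker := fun w hw => hZe w hw
    obtain ⟨i, hi⟩ := card_subgroup_eq_pow hP f.range
    have hi2 : i ≤ 2 := (Nat.pow_le_pow_iff_right hpp.one_lt).mp
      (hi ▸ hZ ▸ Subgroup.card_le_of_le hrle)
    rw [hi, hG] at hmul
    interval_cases i
    · right; left
      rw [pow_zero, Subgroup.card_eq_one] at hi
      have hexp : ∀ x : G, x ^ p = 1 := fun x => mem_bot.mp (hi ▸ ⟨x, rfl⟩)
      obtain ⟨w, hw, hwp, hwF⟩ := hexists fun x => by rw [hexp]; exact one_mem _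
      obtain ⟨M, hMc, ⟨m₁, m₂, hm⟩, ⟨e⟩⟩ := exists_iso_of_complement hG hna hw hwp hwF
      let φ : Shrink.{0} M ≃* M := Shrink.mulEquiv
      have hE : Nat.card (Shrink.{0} M) = p ^ 3 := (Nat.card_congr φ.toEquiv).trans hMc
      haveI : Finite (Shrink.{0} M) := Finite.of_equiv _ φ.symm.toEquiv
      have hEexp : ∀ x : Shrink.{0} M, x ^ p = 1 := fun x => φ.injective (by
        rw [map_pow, map_one]; exact Subtype.ext (by simpa using hexp (φ x : G)))
      rcases order_p3_nonab (G := Shrink.{0} M) hE
          ⟨φ.symm m₁, φ.symm m₂, fun h => hm (by simpa using congrArg φ h)⟩ with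
        h | ⟨h2, -⟩ | ⟨-, x, hx⟩
      · exact ⟨hodd, Shrink.{0} M, inferInstance, inferInstance, h.2.1, hE, hEexp,
          ⟨e.trans (MulEquiv.prodCongr φ.symm (MulEquiv.refl _))⟩⟩
      · exact absurd (h2 ▸ hodd) (by decide)
      · exact absurd (hEexp x) hx
    · left
      rw [pow_one, pow_succ p 3] at hmul
      exact series f.ker (Nat.eq_of_mul_eq_mul_right hpp.pos hmul) hZk hk
    · left
      have hreq : f.range = center G := Subgroup.eq_of_le_of_card_ge hrle (by rw [hi, hZ])
      have hker : Nat.card f.ker = p ^ 2 :=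
        Nat.eq_of_mul_eq_mul_right (pow_pos hpp.pos 2) (by rw [hmul]; ring)
      set C : Subgroup G := (commutator G).comap f with hC
      have hCc : Nat.card C = p ^ 3 := by
        have hkC : f.ker ≤ C := fun x hx => by
          rw [hC, mem_comap, MonoidHom.mem_ker.mp hx]; exact one_mem _
        have h := (f.ker.subgroupOf C).card_mul_index
        rw [Nat.card_congr (Subgroup.subgroupOfEquivOfLe hkC).toEquiv, hker,
          ← Subgroup.relIndex, Subgroup.relIndex_ker, hC,
          Subgroup.map_comap_eq_self (hreq ▸ hcle), hcard'] at h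
        rw [hC, ← h]; ring
      refine series C hCc (fun w hw => by
        rw [hC, mem_comap, show f w = 1 from hZe w hw]; exact one_mem _) fun α x hx => ?_
      rw [hC, mem_comap] at hx ⊢
      show (α x) ^ p ∈ commutator G
      rw [← map_pow]
      exact commutator_invariant α hx

/-- An abelian group of order `p ^ 4` with p-th powers of order `p` has type `(2, 1, 1)`. -/
theorem nonempty_iso_of_pow_range {H : Type u} [CommGroup H] [Finite H] (hG : Nat.card H = p ^ 4)
    (hr : Nat.card (powMonoidHom (α := H) p).range = p) :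
    Nonempty (H ≃* Multiplicative (ZMod (p ^ 2) × ZMod p × ZMod p)) := by
  have hpp : p.Prime := hp.1
  set f := powMonoidHom (α := H) p with hf
  have hker : Nat.card f.ker = p ^ 3 := by
    have h := f.ker.card_mul_index
    rw [Subgroup.index_ker, hr, hG, pow_succ p 3] at h
    exact Nat.eq_of_mul_eq_mul_right hpp.pos h
  have hP := IsPGroup.of_card hG
  have h2 : ∀ x : H, x ^ p ^ 2 = 1 := fun x => by
    have h := pow_card_eq_one' (x := (⟨f x, x, rfl⟩ : f.range))
    rw [hr] at h
    have h' : (x ^ p) ^ p = 1 := by simpa [hf] using congrArg Subtype.val h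
    rwa [← pow_mul, ← sq] at h'
  obtain ⟨a, ha⟩ : ∃ a : H, a ^ p ≠ 1 := by
    by_contra h
    push Not at h
    have : f.range = ⊥ := by
      rw [eq_bot_iff]
      rintro _ ⟨x, rfl⟩
      exact mem_bot.mpr (h x)
    rw [this, Subgroup.card_bot] at hr
    exact hpp.ne_one hr.symm
  have hap : a ^ p ∈ f.ker := by
    show (a ^ p) ^ p = 1
    rw [← pow_mul, ← sq]; exact h2 a
  have hexK : ∀ K : Subgroup H, Nat.card K < p ^ 3 → ∃ b ∈ f.ker, b ∉ K := fun K hK =>
    SetLike.not_le_iff_exists.mp fun h => (hker ▸ Subgroup.card_le_of_le h).not_gt hK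
  have hzp : ∀ x ∈ f.ker, x ≠ 1 → Nat.card (zpowers x) = p := fun x hx h1 => by
    rw [Nat.card_zpowers, orderOf_eq_prime hx h1]
  obtain ⟨b, hb, hb'⟩ := hexK (zpowers (a ^ p)) (by
    rw [hzp _ hap ha]; exact lt_self_pow₀ hpp.one_lt (by norm_num))
  have hb1 : b ≠ 1 := fun h => hb' (h ▸ one_mem _)
  have hsup : Nat.card ↥(zpowers (a ^ p) ⊔ zpowers b) ≤ p ^ 2 := by
    let μ : zpowers (a ^ p) × zpowers b →* H :=
      (zpowers (a ^ p)).subtype.coprod (zpowers b).subtype
    have hle : zpowers (a ^ p) ⊔ zpowers b ≤ μ.range := sup_le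
      (fun x hx => ⟨(⟨x, hx⟩, 1), by simp [μ]⟩) fun x hx => ⟨(1, ⟨x, hx⟩), by simp [μ]⟩
    refine (Subgroup.card_le_of_le hle).trans ((Nat.card_le_card_of_surjective _
      μ.rangeRestrict_surjective).trans ?_)
    rw [Nat.card_prod, hzp _ hap ha, hzp _ hb hb1, sq]
  obtain ⟨c, hc, hc'⟩ := hexK (zpowers (a ^ p) ⊔ zpowers b)
    (hsup.trans_lt (Nat.pow_lt_pow_right hpp.one_lt (by norm_num)))
  let la : ∀ (n : ℕ) (x : H), x ^ n = 1 → (ZMod n →+ Additive H) := fun n x hx =>
    ZMod.lift n ⟨zmultiplesHom (Additive H) (Additive.ofMul x), by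
      show (n : ℤ) • Additive.ofMul x = 0
      rw [natCast_zsmul, ← ofMul_pow, hx, ofMul_one]⟩
  have hla : ∀ n x hx, la n x hx 1 = Additive.ofMul x := fun n x hx => by
    show ZMod.lift n _ 1 = _
    rw [← Int.cast_one, ZMod.lift_coe]; simp
  let ψ : Multiplicative (ZMod (p ^ 2) × ZMod p × ZMod p) →* H :=
    AddMonoidHom.toMultiplicativeLeft
      ((la _ a (h2 a)).coprod ((la _ b hb).coprod (la _ c hc)))
  have ha_mem : a ∈ ψ.range := ⟨Multiplicative.ofAdd (1, 0, 0), by
    show Additive.toMul ((la _ a (h2 a)).coprod ((la _ b hb).coprod (la _ c hc)) (1, 0, 0)) = a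
    simp only [AddMonoidHom.coprod_apply, map_zero, add_zero, zero_add]
    rw [hla _ a (h2 a)]; rfl⟩
  have hb_mem : b ∈ ψ.range := ⟨Multiplicative.ofAdd (0, 1, 0), by
    show Additive.toMul ((la _ a (h2 a)).coprod ((la _ b hb).coprod (la _ c hc)) (0, 1, 0)) = b
    simp only [AddMonoidHom.coprod_apply, map_zero, add_zero, zero_add]
    erw [hla _ b hb]; rfl⟩
  have hc_mem : c ∈ ψ.range := ⟨Multiplicative.ofAdd (0, 0, 1), by
    show Additive.toMul ((la _ a (h2 a)).coprod ((la _ b hb).coprod (la _ c hc)) (0, 0, 1)) = c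
    simp only [AddMonoidHom.coprod_apply, map_zero, add_zero, zero_add]
    erw [hla _ c hc]; rfl⟩
  have hK : zpowers (a ^ p) ⊔ zpowers b ⊔ zpowers c = f.ker := by
    refine Subgroup.eq_of_le_of_card_ge (sup_le (sup_le (zpowers_le.mpr hap) (zpowers_le.mpr hb))
      (zpowers_le.mpr hc)) ?_
    obtain ⟨e₁, he₁⟩ := card_subgroup_eq_pow hP (zpowers (a ^ p) ⊔ zpowers b)
    obtain ⟨e₂, he₂⟩ := card_subgroup_eq_pow hP (zpowers (a ^ p) ⊔ zpowers b ⊔ zpowers c)
    have l1 : Nat.card (zpowers (a ^ p)) < Nat.card ↥(zpowers (a ^ p) ⊔ zpowers b) :=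
      lt_of_le_of_ne (Subgroup.card_le_of_le le_sup_left) fun h => hb'
        ((Subgroup.eq_of_le_of_card_ge le_sup_left h.ge).ge (mem_sup_right (mem_zpowers b)))
    have l2 : Nat.card ↥(zpowers (a ^ p) ⊔ zpowers b) <
        Nat.card ↥(zpowers (a ^ p) ⊔ zpowers b ⊔ zpowers c) :=
      lt_of_le_of_ne (Subgroup.card_le_of_le le_sup_left) fun h => hc'
        ((Subgroup.eq_of_le_of_card_ge le_sup_left h.ge).ge (mem_sup_right (mem_zpowers c)))
    rw [hzp _ hap ha, he₁] at l1
    rw [he₁, he₂] at l2
    rw [hker, he₂]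
    have : 1 < e₁ := (Nat.pow_lt_pow_iff_right hpp.one_lt).mp (lt_of_eq_of_lt (pow_one p) l1)
    have := (Nat.pow_lt_pow_iff_right hpp.one_lt).mp l2
    exact Nat.pow_le_pow_right hpp.pos (by omega)
  have hsurj : ψ.range = ⊤ := by
    refine Subgroup.eq_top_of_le_card _ ?_
    obtain ⟨e, he⟩ := card_subgroup_eq_pow hP ψ.range
    have hle : f.ker ≤ ψ.range := hK ▸ sup_le (sup_le (zpowers_le.mpr (pow_mem ha_mem p))
      (zpowers_le.mpr hb_mem)) (zpowers_le.mpr hc_mem)
    have hlt : Nat.card f.ker < Nat.card ψ.range :=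
      lt_of_le_of_ne (Subgroup.card_le_of_le hle) fun h =>
        ha ((Subgroup.eq_of_le_of_card_ge hle h.ge).ge ha_mem)
    rw [hker, he] at hlt
    rw [hG, he]
    exact Nat.pow_le_pow_right hpp.pos ((Nat.pow_lt_pow_iff_right hpp.one_lt).mp hlt)
  have hb' : Function.Bijective ψ := (Nat.bijective_iff_surjective_and_card ψ).mpr
    ⟨MonoidHom.range_eq_top.mp hsurj, by
      rw [Nat.card_congr Multiplicative.toAdd, Nat.card_prod, Nat.card_prod, Nat.card_zmod,
        Nat.card_zmod, hG]
      ring⟩
  exact ⟨(MulEquiv.ofBijective ψ hb').symm⟩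

end CfsgLib.PGroups.SmallSeries
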