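import Mathlib
import Cfsg.Agent.Lib.PGroups.UniqueOrderP

/-!
# A torus cannot act on a non-metacyclic group of rank two
-/

set_option autoImplicit false

namespace CfsgLib.PGroups.RankTwoWeights

open Subgroup

universe u

theorem zmod_two_sq : ∀ a : ZMod 2, a ≠ 0 → a ^ 2 = 1 := by decide

variable {p : ℕ} [hp : Fact p.Prime] {G : Type u} [Group G]

theorem pow_eq_of_cast_eq {x : G} (hx : x ^ p = 1) {a b : ℕ} (h : (a : ZMod p) = b) :
    x ^ a = x ^ b := by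
  rw [pow_eq_pow_mod a hx, pow_eq_pow_mod b hx, (ZMod.natCast_eq_natCast_iff' a b p).1 h]

theorem cast_eq_of_pow_eq {x : G} (hx : x ^ p = 1) (h1 : x ≠ 1) {a b : ℕ} (h : x ^ a = x ^ b) :
    (a : ZMod p) = b := by
  rw [ZMod.natCast_eq_natCast_iff, ← orderOf_eq_prime hx h1]
  exact pow_eq_pow_iff_modEq.1 h

variable [Finite G]

/-- Let `U` be elementary of order `p ^ 2` and contain all elements of order `p` of `C ≤ C(U)`,
let `e` of order `p` and `s ∈ C` satisfy `[e, s] = u`, `[e, u] = z ≠ 1`. Then no automorphism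
multiplies the classes of `e` and `u` by scalars `k`, `l` with `k ^ 2 ≠ 1` and `l ≠ k`. -/
theorem weights_false (hG : IsPGroup p G) {C U : Subgroup G} (hUC : U ≤ C)
    (hcu : ∀ c ∈ C, ∀ v ∈ U, c * v = v * c) (hΩ : ∀ c ∈ C, c ^ p = 1 → c ∈ U)
    (hUp : ∀ v ∈ U, v ^ p = 1) (hU : Nat.card U = p ^ 2) {e s u z : G} (hep : e ^ p = 1)
    (hs : s ∈ C) (hu : u ∈ U) (hes : e * s * e⁻¹ = u * s) (hz : e * u * e⁻¹ = z * u)
    (hz1 : z ≠ 1) (hzU : z ∈ U) (hzc : ∀ g : G, g * z = z * g) (β : MulAut G) {k l : ℕ} {w : G}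
    (hw : w ∈ U) (hβe : β e = e ^ k * w) {i₀ : ℤ} (hβu : β u = z ^ i₀ * u ^ l)
    (hC : ∀ c ∈ C, β c ∈ C) (hk : ¬ p ∣ k) (hk2 : (k : ZMod p) ^ 2 ≠ 1)
    (hlk : (l : ZMod p) ≠ k) : False := by
  classical
  have hzp := hUp z hzU
  have hup := hUp u hu
  have hzC : ∀ (m : ℤ) (g : G), Commute (z ^ m) g := fun m g =>
    (show Commute z g from (hzc g).symm).zpow_left m
  have huz : u ∉ zpowers z := fun h => hz1 (by
    obtain ⟨a, rfl⟩ := mem_zpowers_iff.1 h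
    rw [← (hzC a e).eq, mul_inv_cancel_right, right_eq_mul] at hz
    exact hz)
  -- powers of `e` acting on `u` and `s`
  have conjU : ∀ n : ℕ, e ^ n * u * (e ^ n)⁻¹ = z ^ n * u := by
    intro n
    induction n with
    | zero => simp
    | succ n ih =>
      calc e ^ (n + 1) * u * (e ^ (n + 1))⁻¹ = e * (e ^ n * u * (e ^ n)⁻¹) * e⁻¹ := by
            rw [pow_succ']; group
        _ = (e * z ^ n * e⁻¹) * (e * u * e⁻¹) := by rw [ih]; group
        _ = z ^ (n + 1) * u := by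
          rw [← zpow_natCast z n, ← (hzC n e).eq, hz, mul_inv_cancel_right, zpow_natCast,
            ← mul_assoc, ← pow_succ]
  have conjS : ∀ n : ℕ, ∃ i : ℤ, e ^ n * s * (e ^ n)⁻¹ = z ^ i * (u ^ n * s) := by
    intro n
    induction n with
    | zero => exact ⟨0, by simp⟩
    | succ n ih =>
      obtain ⟨i, hi⟩ := ih
      refine ⟨i + (n : ℤ), ?_⟩
      calc e ^ (n + 1) * s * (e ^ (n + 1))⁻¹ = e * (e ^ n * s * (e ^ n)⁻¹) * e⁻¹ := by
            rw [pow_succ']; group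
        _ = (e * z ^ i * e⁻¹) * (e * u * e⁻¹) ^ n * (e * s * e⁻¹) := by rw [hi, conj_pow]; group
        _ = z ^ (i + (n : ℤ)) * (u ^ (n + 1) * s) := by
          rw [← (hzC i e).eq, mul_inv_cancel_right, hz, hes,
            (show Commute z u from (hzc u).symm).mul_pow, zpow_add, zpow_natCast, pow_succ]
          group
  obtain ⟨m₀, hm₀⟩ := conjS k
  -- the image of `z`
  have hβz : β z = z ^ (k * l) := by
    have h1 := congrArg β hz
    rw [map_mul, map_mul, map_mul, map_inv, hβe, hβu] at h1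
    have hv : z ^ i₀ * u ^ l ∈ U := U.mul_mem (U.zpow_mem hzU _) (U.pow_mem hu l)
    have h2 : w * (z ^ i₀ * u ^ l) = z ^ i₀ * u ^ l * w := hcu w (hUC hw) _ hv
    have h3 : e ^ k * w * (z ^ i₀ * u ^ l) * (e ^ k * w)⁻¹ =
        z ^ (k * l) * (z ^ i₀ * u ^ l) := by
      calc e ^ k * w * (z ^ i₀ * u ^ l) * (e ^ k * w)⁻¹
          = e ^ k * (w * (z ^ i₀ * u ^ l)) * w⁻¹ * (e ^ k)⁻¹ := by group
        _ = (e ^ k * z ^ i₀ * (e ^ k)⁻¹) * (e ^ k * u * (e ^ k)⁻¹) ^ l := by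
          rw [h2, conj_pow]; group
        _ = z ^ (k * l) * (z ^ i₀ * u ^ l) := by
          rw [← (hzC i₀ (e ^ k)).eq, mul_inv_cancel_right, conjU,
            ((show Commute z u from (hzc u).symm).pow_left k).mul_pow, ← pow_mul, ← mul_assoc,
            ← mul_assoc, (hzC i₀ (z ^ (k * l))).eq]
    rw [h3] at h1
    exact (mul_right_cancel h1).symm
  have hk0 : (k : ZMod p) ≠ 0 := fun h => hk ((ZMod.natCast_eq_zero_iff k p).1 h)
  have hl0 : (l : ZMod p) ≠ 0 := by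
    intro h
    apply hz1
    apply β.injective
    rw [hβz, map_one, pow_mul, ← pow_zero (z ^ k)]
    exact pow_eq_of_cast_eq (by rw [← pow_mul, mul_comm, pow_mul, hzp, one_pow])
      (by rw [h, Nat.cast_zero])
  set j := ((l : ZMod p) / k).val with hj
  have hjk : ((j * k : ℕ) : ZMod p) = l := by
    rw [Nat.cast_mul, hj, ZMod.natCast_zmod_val, div_mul_cancel₀ _ hk0]
  have hj1 : ((j : ℤ) - 1 : ℤ) = 0 → False := fun h => hlk (by
    rw [← hjk, show j = 1 by omega, one_mul])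
  have hjp : ¬ (p : ℤ) ∣ (j : ℤ) - 1 := by
    intro h
    have h1 : ((j : ℤ) : ZMod p) = 1 := by
      rw [← sub_eq_zero, ← Int.cast_one, ← Int.cast_sub]
      exact (ZMod.intCast_zmod_eq_zero_iff_dvd _ p).2 h
    rw [Int.cast_natCast] at h1
    exact hlk (by rw [← hjk, Nat.cast_mul, h1, one_mul])
  have huC := hUC hu
  have hsu : Commute s u := hcu s hs u hu
  -- the image of `s`
  set x := (s ^ j)⁻¹ * β s with hx
  have hβs : β s ∈ C := hC s hs
  have hxC : x ∈ C := C.mul_mem (C.inv_mem (C.pow_mem hs j)) hβs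
  obtain ⟨m, hm⟩ : ∃ m : ℤ, e ^ k * x * (e ^ k)⁻¹ = z ^ m * x := by
    have h1 := congrArg β hes
    rw [map_mul, map_mul, map_mul, map_inv, hβe, hβu] at h1
    have h2 : e ^ k * β s * (e ^ k)⁻¹ = z ^ i₀ * u ^ l * β s := by
      rw [← h1]
      calc e ^ k * β s * (e ^ k)⁻¹ = e ^ k * (β s * w) * w⁻¹ * (e ^ k)⁻¹ := by group
        _ = _ := by rw [hcu (β s) hβs w hw]; group
    have h3 : e ^ k * s ^ j * (e ^ k)⁻¹ = z ^ (m₀ * j) * (u ^ l * s ^ j) := by
      rw [← conj_pow, hm₀, (hzC m₀ _).mul_pow, (hsu.symm.pow_left k).mul_pow, ← zpow_natCast,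
        ← zpow_mul, ← pow_mul]
      congr 2
      exact pow_eq_of_cast_eq hup (by rw [mul_comm, hjk])
    refine ⟨i₀ - m₀ * j, ?_⟩
    calc e ^ k * x * (e ^ k)⁻¹
        = (e ^ k * s ^ j * (e ^ k)⁻¹)⁻¹ * (e ^ k * β s * (e ^ k)⁻¹) := by rw [hx]; group
      _ = (s ^ j)⁻¹ * (u ^ l)⁻¹ * ((z ^ (m₀ * j))⁻¹ * z ^ i₀) * u ^ l * β s := by
          rw [h2, h3]; group
      _ = z ^ (i₀ - m₀ * j) * x := by
          rw [← zpow_neg, ← zpow_add, mul_assoc _ (z ^ _) (u ^ l), (hzC _ _).eq,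
            show -(m₀ * (j : ℤ)) + i₀ = i₀ - m₀ * j by ring, ← mul_assoc, inv_mul_cancel_right,
            hx, ← mul_assoc, (hzC _ _).eq]
  obtain ⟨n, hn⟩ : ∃ n : ℕ, e ^ (k * n) = e := by
    refine ⟨((k : ZMod p)⁻¹).val, ?_⟩
    conv_rhs => rw [← pow_one e]
    exact pow_eq_of_cast_eq hep (by
      rw [Nat.cast_mul, ZMod.natCast_zmod_val, mul_inv_cancel₀ hk0, Nat.cast_one])
  have hex : e * x * e⁻¹ = z ^ (m * n) * x := by
    have key : ∀ a : ℕ, e ^ (k * a) * x * (e ^ (k * a))⁻¹ = z ^ (m * a) * x := by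
      intro a
      induction a with
      | zero => simp
      | succ a ih =>
        calc e ^ (k * (a + 1)) * x * (e ^ (k * (a + 1)))⁻¹
            = e ^ k * (e ^ (k * a) * x * (e ^ (k * a))⁻¹) * (e ^ k)⁻¹ := by
              rw [Nat.mul_succ, Nat.add_comm, pow_add]; group
          _ = (e ^ k * z ^ (m * a) * (e ^ k)⁻¹) * (e ^ k * x * (e ^ k)⁻¹) := by rw [ih]; group
          _ = z ^ (m * (a + 1 : ℕ)) * x := by
            rw [← (hzC _ (e ^ k)).eq, mul_inv_cancel_right, hm, ← mul_assoc, ← zpow_add]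
            push_cast
            ring_nf
    have := key n
    rwa [hn] at this
  -- the cyclic subgroup `D`
  set D := C ⊓ centralizer ({e} : Set G) with hD
  have hmemD : ∀ g : G, g ∈ D ↔ g ∈ C ∧ e * g * e⁻¹ = g := fun g => by
    rw [hD, mem_inf, mem_centralizer_singleton_iff, mul_inv_eq_iff_eq_mul]
    exact and_congr_right fun _ => eq_comm
  set d₀ := x * u ^ (-(m * n)) with hd₀
  have hd₀D : d₀ ∈ D := (hmemD _).2 ⟨C.mul_mem hxC (C.zpow_mem huC _), by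
    calc e * d₀ * e⁻¹ = (e * x * e⁻¹) * (e * u * e⁻¹) ^ (-(m * (n : ℤ))) := by
          rw [hd₀, conj_zpow]; group
      _ = d₀ := by
        rw [hex, hz, (show Commute z u from (hzc u).symm).mul_zpow, ← mul_assoc,
          mul_assoc _ x, ← (hzC _ x).eq, ← mul_assoc, ← zpow_add, add_neg_cancel, zpow_zero,
          one_mul]⟩
  have hUdec : ∀ v ∈ U, ∃ a b : ℤ, v = z ^ a * u ^ b := by
    intro v hv
    have hle : zpowers z ⊔ zpowers u = U := by
      refine eq_of_le_of_card_ge (sup_le (zpowers_le.2 hzU) (zpowers_le.2 hu)) ?_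
      obtain ⟨i, -, hi⟩ := (Nat.dvd_prime_pow hp.1).1
        (hU ▸ card_dvd_of_le (sup_le (zpowers_le.2 hzU) (zpowers_le.2 hu) :
          zpowers z ⊔ zpowers u ≤ U))
      have h1 : Nat.card (zpowers z) < Nat.card ↥(zpowers z ⊔ zpowers u) :=
        lt_of_le_of_ne (card_le_of_le le_sup_left) fun h => huz (by
          rw [eq_of_le_of_card_ge (le_sup_left : zpowers z ≤ _ ⊔ zpowers u) h.ge]
          exact mem_sup_right (mem_zpowers u))
      rw [Nat.card_zpowers, orderOf_eq_prime hzp hz1, hi] at h1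
      rw [hU, hi]
      refine Nat.pow_le_pow_right hp.1.pos ((Nat.pow_lt_pow_iff_right hp.1.one_lt).1 ?_)
      rwa [pow_one]
    rw [← hle] at hv
    haveI : (zpowers z).Normal := ⟨fun a ha g => by
      obtain ⟨i, rfl⟩ := mem_zpowers_iff.1 ha
      rw [← (hzC i g).eq, mul_inv_cancel_right]
      exact zpow_mem (mem_zpowers z) i⟩
    obtain ⟨a, ha, b, hb, rfl⟩ := mem_sup_of_normal_left.1 hv
    obtain ⟨a, rfl⟩ := mem_zpowers_iff.1 ha
    obtain ⟨b, rfl⟩ := mem_zpowers_iff.1 hb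
    exact ⟨a, b, rfl⟩
  have hDU : ∀ v ∈ U, v ∈ D → v ∈ zpowers z := by
    intro v hv hvD
    obtain ⟨a, b, rfl⟩ := hUdec v hv
    have h1 := ((hmemD _).1 hvD).2
    rw [show e * (z ^ a * u ^ b) * e⁻¹ = (e * z ^ a * e⁻¹) * (e * u * e⁻¹) ^ b by
      rw [conj_zpow]; group, ← (hzC a e).eq, mul_inv_cancel_right, hz,
      (show Commute z u from (hzc u).symm).mul_zpow, mul_right_inj, mul_eq_right] at h1
    have h2 : (p : ℤ) ∣ b := by
      rw [← orderOf_eq_prime hzp hz1]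
      exact orderOf_dvd_iff_zpow_eq_one.2 h1
    obtain ⟨c, rfl⟩ := h2
    rw [zpow_mul u, zpow_natCast, hup, one_zpow, mul_one]
    exact zpow_mem (mem_zpowers z) a
  have hDcyc : IsCyclic D := by
    have hp2 : p ≠ 2 := fun h => by
      subst h
      exact hk2 (zmod_two_sq _ hk0)
    refine (CfsgLib.PGroups.isCyclic_or_quaternion_of_unique (hG.to_subgroup D)
      (z := ⟨z, (hmemD z).2 ⟨hUC hzU, by rw [hzc e, mul_inv_cancel_right]⟩⟩)
      (Subtype.ext (by simpa using hzp)) ?_).resolve_right fun h => hp2 h.1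
    intro a ha
    have hap : (a : G) ^ p = 1 := by simpa using congrArg Subtype.val ha
    obtain ⟨i, hi⟩ := mem_zpowers_iff.1 (hDU _ (hΩ _ a.2.1 hap) a.2)
    exact mem_zpowers_iff.2 ⟨i, Subtype.ext (by simpa using hi)⟩
  obtain ⟨⟨g₀, hg₀⟩, hgen⟩ := hDcyc.exists_generator
  have hgen' : ∀ g ∈ D, ∃ i : ℤ, g₀ ^ i = g := fun g hg => by
    obtain ⟨i, hi⟩ := mem_zpowers_iff.1 (hgen ⟨g, hg⟩)
    exact ⟨i, by simpa using congrArg Subtype.val hi⟩
  have hβD : ∀ g ∈ D, β g ∈ D := by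
    intro g hg
    obtain ⟨hgC, hge⟩ := (hmemD g).1 hg
    have hc := hC g hgC
    have h1 := congrArg β hge
    rw [map_mul, map_mul, map_inv, hβe,
      show e ^ k * w * β g * (e ^ k * w)⁻¹ = e ^ k * (w * β g) * w⁻¹ * (e ^ k)⁻¹ by group,
      ← hcu _ hc w hw, show e ^ k * (β g * w) * w⁻¹ * (e ^ k)⁻¹ = e ^ k * β g * (e ^ k)⁻¹ by group,
      mul_inv_eq_iff_eq_mul] at h1
    have h2 : Commute (e ^ (k * n)) (β g) := by
      rw [pow_mul]
      exact Commute.pow_left h1 n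
    rw [hn] at h2
    exact (hmemD _).2 ⟨hc, by rw [h2.eq, mul_inv_cancel_right]⟩
  have hcommD : ∀ a ∈ D, ∀ b ∈ D, Commute a b := by
    intro a ha b hb
    obtain ⟨i, rfl⟩ := hgen' a ha
    obtain ⟨i', rfl⟩ := hgen' b hb
    exact (Commute.refl g₀).zpow_zpow i i'
  set y := β g₀ with hy
  have hyD := hβD g₀ hg₀
  have hβs' : β s = s ^ j * (d₀ * u ^ (m * n : ℤ)) := by
    rw [hd₀, mul_assoc x, ← zpow_add, neg_add_cancel, zpow_zero, mul_one, hx, mul_inv_cancel_left]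
  have hnormD : ∀ g ∈ D, s * g * s⁻¹ ∈ D := by
    intro g hg
    obtain ⟨hgC, hge⟩ := (hmemD g).1 hg
    have hc : s * g * s⁻¹ ∈ C := C.mul_mem (C.mul_mem hs hgC) (C.inv_mem hs)
    refine (hmemD _).2 ⟨hc, ?_⟩
    calc e * (s * g * s⁻¹) * e⁻¹ = (e * s * e⁻¹) * (e * g * e⁻¹) * (e * s * e⁻¹)⁻¹ := by group
      _ = u * (s * g * s⁻¹) * u⁻¹ := by rw [hes, hge]; group
      _ = s * g * s⁻¹ := by rw [← hcu _ hc u hu, mul_inv_cancel_right]
  obtain ⟨a, ha⟩ := hgen' _ (hnormD g₀ hg₀)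
  have hsy : Commute s y := by
    obtain ⟨b, hb⟩ := hgen' y hyD
    have h1 : s * y * s⁻¹ = y ^ a := by
      rw [← hb, ← conj_zpow, ← ha, ← zpow_mul, ← zpow_mul, mul_comm]
    have h2 : s ^ j * y * (s ^ j)⁻¹ = y ^ a := by
      have h3 := congrArg β ha
      rw [map_zpow, map_mul, map_mul, map_inv, hβs', ← hy] at h3
      have h4 : Commute (d₀ * u ^ (m * n : ℤ)) y :=
        (hcommD _ hd₀D _ hyD).mul_left
          ((show Commute u y from (hcu y hyD.1 u hu).symm).zpow_left _)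
      rw [h3]
      calc s ^ j * y * (s ^ j)⁻¹
          = s ^ j * (y * (d₀ * u ^ (m * n : ℤ))) * (d₀ * u ^ (m * n : ℤ))⁻¹ * (s ^ j)⁻¹ := by group
        _ = _ := by rw [← h4.eq]; group
    have h5 : Commute (s ^ ((j : ℤ) - 1)) y := by
      refine mul_inv_eq_iff_eq_mul.1 ?_
      calc s ^ ((j : ℤ) - 1) * y * (s ^ ((j : ℤ) - 1))⁻¹
          = s⁻¹ * (s ^ j * y * (s ^ j)⁻¹) * s := by
            rw [sub_eq_neg_add, zpow_add, zpow_natCast, zpow_neg_one]; group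
        _ = y := by rw [h2, ← h1]; group
    obtain ⟨r, hr⟩ := hG s
    obtain ⟨c, d, hcd⟩ : IsCoprime ((j : ℤ) - 1) ((p ^ r : ℕ) : ℤ) := by
      push_cast
      exact ((Nat.prime_iff_prime_int.1 hp.1).coprime_iff_not_dvd.2 hjp).symm.pow_right
    have h6 : s = (s ^ ((j : ℤ) - 1)) ^ c := by
      conv_lhs => rw [← zpow_one s, ← hcd]
      rw [zpow_add, mul_comm c, zpow_mul, mul_comm d, zpow_mul, zpow_natCast, hr, one_zpow,
        mul_one]
    rw [h6]
    exact h5.zpow_left c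
  have hsD : ∀ g ∈ D, Commute s g := by
    have hsurj : ∀ g ∈ D, ∃ g' ∈ D, β g' = g := by
      intro g hg
      have hmap : D.map β.toMonoidHom = D := eq_of_le_of_card_ge
        (by rintro _ ⟨v, hv, rfl⟩; exact hβD v hv)
        (card_map_of_injective β.injective).ge
      obtain ⟨v, hv, rfl⟩ := hmap.ge hg
      exact ⟨v, hv, rfl⟩
    intro g hg
    obtain ⟨g', hg', rfl⟩ := hsurj g hg
    obtain ⟨b, rfl⟩ := hgen' g' hg'
    rw [map_zpow]
    exact hsy.zpow_right b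
  -- `s ^ p` generates `D`
  set d := s ^ p with hd
  have hdD : d ∈ D := (hmemD _).2 ⟨C.pow_mem hs p, by
    rw [hd, ← conj_pow, hes, (hsu.symm).mul_pow, hup, one_mul]⟩
  have hnp : ∀ d' ∈ D, d' ^ p ≠ d := by
    intro d' hd' h
    have h1 : (s * d'⁻¹) ^ p = 1 := by
      rw [(hsD d' hd').inv_right.mul_pow, inv_pow, h, hd, mul_inv_cancel]
    have h2 : s * d'⁻¹ ∈ U := hΩ _ (C.mul_mem hs (C.inv_mem hd'.1)) h1
    have h3 : e * (s * d'⁻¹) * e⁻¹ = u * (s * d'⁻¹) := by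
      rw [show e * (s * d'⁻¹) * e⁻¹ = (e * s * e⁻¹) * (e * d' * e⁻¹)⁻¹ by group, hes,
        ((hmemD d').1 hd').2, mul_assoc]
    obtain ⟨a, b, hab⟩ := hUdec _ h2
    rw [hab, show e * (z ^ a * u ^ b) * e⁻¹ = (e * z ^ a * e⁻¹) * (e * u * e⁻¹) ^ b by
      rw [conj_zpow]; group, ← (hzC a e).eq, mul_inv_cancel_right, hz,
      (show Commute z u from (hzc u).symm).mul_zpow] at h3
    refine huz (mem_zpowers_iff.2 ⟨b, ?_⟩)
    have h4 : z ^ b * (z ^ a * u ^ b) = u * (z ^ a * u ^ b) := by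
      rw [← h3, ← mul_assoc, ← mul_assoc, ← zpow_add, ← zpow_add, add_comm]
    exact mul_right_cancel h4
  have hdgen : ∀ g ∈ D, ∃ i : ℤ, d ^ i = g := by
    obtain ⟨a, ha⟩ := hgen' d hdD
    have hap : ¬ (p : ℤ) ∣ a := by
      rintro ⟨b, rfl⟩
      exact hnp _ (D.zpow_mem hg₀ b) (by rw [← ha, ← zpow_natCast, ← zpow_mul, mul_comm])
    obtain ⟨r, hr⟩ := hG g₀
    obtain ⟨c, f, hcf⟩ : IsCoprime a ((p ^ r : ℕ) : ℤ) := by
      push_cast
      exact ((Nat.prime_iff_prime_int.1 hp.1).coprime_iff_not_dvd.2 hap).symm.pow_right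
    intro g hg
    obtain ⟨i, rfl⟩ := hgen' g hg
    refine ⟨c * i, ?_⟩
    rw [← ha, ← zpow_mul, ← mul_assoc, zpow_mul]
    congr 1
    conv_rhs => rw [← zpow_one g₀, ← hcf]
    rw [zpow_add, mul_comm c, mul_comm f, zpow_mul g₀ _ f, zpow_natCast, hr, one_zpow, mul_one]
  obtain ⟨i, hi⟩ := hdgen d₀ hd₀D
  have hβd : β d = d ^ ((j : ℤ) + p * i) := by
    have h1 : Commute (s ^ j) (d₀ * u ^ (m * n : ℤ)) :=
      ((hsD _ hd₀D).mul_right (hsu.zpow_right _)).pow_left j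
    have h2 : Commute d₀ (u ^ (m * n : ℤ)) :=
      (show Commute d₀ u from hcu d₀ hd₀D.1 u hu).zpow_right _
    rw [hd, map_pow, hβs', h1.mul_pow, h2.mul_pow, hUp _ (U.zpow_mem hu _), mul_one, ← pow_mul,
      mul_comm j p, pow_mul, ← hd, ← hi, zpow_add, zpow_natCast, mul_comm (p : ℤ), zpow_mul,
      zpow_natCast]
  obtain ⟨t, ht⟩ := hdgen z ((hmemD z).2 ⟨hUC hzU, by rw [hzc e, mul_inv_cancel_right]⟩)
  have h1 : z ^ j = z ^ (k * l) := by
    rw [← hβz]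
    conv_rhs => rw [← ht, map_zpow, hβd, ← zpow_mul, mul_comm, zpow_mul, ht, zpow_add,
      zpow_natCast, zpow_mul, zpow_natCast, hzp, one_zpow, mul_one]
  have h2 := cast_eq_of_pow_eq hzp hz1 h1
  rw [Nat.cast_mul, hj, ZMod.natCast_zmod_val, div_eq_iff hk0] at h2
  apply hk2
  have h3 : (l : ZMod p) * 1 = (l : ZMod p) * (k : ZMod p) ^ 2 := by
    rw [mul_one]
    conv_lhs => rw [h2]
    ring
  exact (mul_left_cancel₀ hl0 h3).symm

end CfsgLib.PGroups.RankTwoWeights
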