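import Mathlib
import Cfsg.Agent.Lib.Fusion.MetacyclicClosed
import Cfsg.Agent.Lib.PGroups.RankTwoWeights

/-!
# Tori generated by two transvections of a plane
-/

set_option autoImplicit false

namespace CfsgLib.PGroups.PlaneTorus

open CfsgLib.Fusion.Metacyclic CfsgLib.PGroups.RankTwoWeights

variable {p : ℕ} [hp : Fact p.Prime] {A : Type*} [CommGroup A] [Finite A]

/-- Two transvections with different centres generate every torus element of determinant one. -/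
theorem exists_torus (hA : ∀ x : A, x ^ p = 1) (hc : Nat.card A = p ^ 2) (H : Subgroup (MulAut A))
    {τ α : MulAut A} (hτ : τ ∈ H) (hα : α ∈ H) {e : A} (he : e ≠ 1) (hfix : τ e = e)
    (hmov : ∀ x, x⁻¹ * τ x ∈ Subgroup.zpowers e) (hne : τ ≠ 1)
    (hnot : α e ∉ Subgroup.zpowers e) {f : A} (hf : f ∉ Subgroup.zpowers e) {k l : ℕ}
    (hkl : ((k * l : ℕ) : ZMod p) = 1) : ∃ θ ∈ H, θ e = e ^ k ∧ θ f = f ^ l := by
  have hf1 : f ≠ 1 := fun h => hf (h ▸ Subgroup.one_mem _)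
  -- a conjugate of `τ` with centre `f`
  obtain ⟨a, ha, b, hb, hab⟩ := Subgroup.mem_sup.1
    ((sup_zpowers_eq_top hA hc he hnot).ge (Subgroup.mem_top f))
  obtain ⟨j, rfl⟩ := Subgroup.mem_zpowers_iff.1 hb
  have hf2 : α e ^ j ∉ Subgroup.zpowers e := fun h => hf (hab ▸ Subgroup.mul_mem _ ha h)
  obtain ⟨n, hn1, hn2⟩ := exists_pow_transvection hA hc he hf2 hfix hmov hne ha
  set β := τ ^ n * α with hβ
  have hβej : β (e ^ j) = f := by
    rw [hβ, MulAut.mul_apply, map_zpow, hn2, mul_comm, hab]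
  have hej1 : e ^ j ≠ 1 := fun h => hf1 (by rw [← hβej, h, map_one])
  have hline : Subgroup.zpowers f = Subgroup.zpowers (β e) := by
    refine zpowers_eq_of_mem hA (fun h => he (β.injective (h.trans (map_one β).symm))) hf1 ?_
    rw [← hβej, map_zpow]
    exact Subgroup.zpow_mem _ (Subgroup.mem_zpowers _) j
  set σ := β * τ * β⁻¹ with hσ
  have hσH : σ ∈ H := H.mul_mem (H.mul_mem (H.mul_mem (H.pow_mem hτ n) hα) hτ)
    (H.inv_mem (H.mul_mem (H.pow_mem hτ n) hα))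
  have hσfix : σ f = f := by
    rw [hσ, MulAut.mul_apply, MulAut.mul_apply, ← hβej, MulAut.inv_apply_self, map_zpow τ, hfix]
  have hσmov : ∀ x, x⁻¹ * σ x ∈ Subgroup.zpowers f := by
    intro x
    obtain ⟨i, hi⟩ := Subgroup.mem_zpowers_iff.1 (hmov (β⁻¹ x))
    rw [hline]
    refine Subgroup.mem_zpowers_iff.2 ⟨i, ?_⟩
    rw [← map_zpow, hi, map_mul, map_inv, MulAut.apply_inv_self]
    rfl
  have hσne : σ ≠ 1 := fun h => hne (conj_eq_one_iff.1 h)
  have hef : e ∉ Subgroup.zpowers f := fun h =>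
    hf ((zpowers_eq_of_mem hA hf1 he h).ge (Subgroup.mem_zpowers f))
  -- the element interchanging the two lines
  have hW : ∀ a b : ℕ, ((a * b : ℕ) : ZMod p) = -1 →
      ∃ W ∈ H, W e = f ^ b ∧ W f = e ^ a := by
    intro a b hab
    obtain ⟨i, hie, hif⟩ := exists_pow_transvection hA hc he hf hfix hmov hne
      (Subgroup.pow_mem _ (Subgroup.mem_zpowers e) a)
    obtain ⟨i', hjf, hje⟩ := exists_pow_transvection hA hc hf1 hef hσfix hσmov hσne
      (Subgroup.pow_mem _ (Subgroup.mem_zpowers f) b)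
    have hone : ∀ x : A, x * x ^ (a * b) = 1 := fun x => by
      rw [← pow_succ', pow_eq_of_cast_eq (p := p) (hA x) (a := a * b + 1) (b := 0)
        (by rw [Nat.cast_add, hab, Nat.cast_one, Nat.cast_zero, neg_add_cancel]), pow_zero]
    refine ⟨τ ^ i * σ ^ i' * τ ^ i, H.mul_mem (H.mul_mem (H.pow_mem hτ i) (H.pow_mem hσH i'))
      (H.pow_mem hτ i), ?_, ?_⟩
    · rw [MulAut.mul_apply, hie, MulAut.mul_apply, hje, map_mul, hie, map_pow, hif, mul_pow,
        ← pow_mul, mul_left_comm, hone, mul_one]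
    · rw [MulAut.mul_apply, hif, MulAut.mul_apply, map_mul, hjf, map_pow, hje, mul_pow,
        ← pow_mul, mul_comm b, mul_left_comm, hone, mul_one, map_pow, hie]
  set q := ((-1 : ZMod p)).val with hq
  have hqc : (q : ZMod p) = -1 := ZMod.natCast_zmod_val _
  obtain ⟨W₁, hW₁H, hW₁e, hW₁f⟩ := hW 1 q (by rw [one_mul, hqc])
  obtain ⟨W₂, hW₂H, hW₂e, hW₂f⟩ := hW (q * k) l (by
    rw [mul_assoc, Nat.cast_mul, hqc, hkl, mul_one])
  refine ⟨W₂ * W₁, H.mul_mem hW₂H hW₁H, ?_, ?_⟩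
  · rw [MulAut.mul_apply, hW₁e, map_pow, hW₂f, ← pow_mul]
    exact pow_eq_of_cast_eq (p := p) (hA e) (by rw [Nat.cast_mul, Nat.cast_mul, hqc]; ring)
  · rw [MulAut.mul_apply, hW₁f, pow_one, hW₂e]

/-- In a group acting on a plane with `p`-group kernel and without normal `p`-subgroups outside
`I`, an element outside `I` fixing the line `⟨e⟩` and trivial modulo it is a transvection, and some
element moves the line. -/
theorem exists_moving {Γ : Type*} [Group Γ] (hA : ∀ x : A, x ^ p = 1) (hc : Nat.card A = p ^ 2)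
    (ρ : Γ →* MulAut A) (hker : IsPGroup p ρ.ker) (I : Subgroup Γ)
    (hI : ∀ N : Subgroup Γ, N.Normal → IsPGroup p N → N ≤ I) {g : Γ} (hgI : g ∉ I) {e : A}
    (he : e ≠ 1) (hfix : ρ g e = e) (hmov : ∀ x, x⁻¹ * ρ g x ∈ Subgroup.zpowers e) :
    ρ g ≠ 1 ∧ ∃ α, ρ α e ∉ Subgroup.zpowers e := by
  refine ⟨fun h => hgI (hI _ inferInstance hker h), ?_⟩
  by_contra hno
  push Not at hno
  let M : Subgroup Γ :=
  { carrier := {γ | ρ γ e = e ∧ ∀ x, x⁻¹ * ρ γ x ∈ Subgroup.zpowers e}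
    one_mem' := ⟨by simp, fun x => by simp⟩
    mul_mem' := by
      rintro a b ⟨ha, ha'⟩ ⟨hb, hb'⟩
      refine ⟨by rw [map_mul, MulAut.mul_apply, hb, ha], fun x => ?_⟩
      have h : x⁻¹ * ρ (a * b) x = (x⁻¹ * ρ b x) * ((ρ b x)⁻¹ * ρ a (ρ b x)) := by
        rw [map_mul, MulAut.mul_apply, mul_assoc x⁻¹, mul_inv_cancel_left]
      rw [h]
      exact Subgroup.mul_mem _ (hb' x) (ha' _)
    inv_mem' := by
      rintro a ⟨ha, ha'⟩
      refine ⟨by conv_lhs => rw [← ha, map_inv, MulAut.inv_apply_self], fun x => ?_⟩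
      have h := Subgroup.inv_mem _ (ha' (ρ a⁻¹ x))
      rw [map_inv ρ a] at h ⊢
      rwa [MulAut.apply_inv_self, mul_inv_rev, inv_inv] at h }
  have hMn : M.Normal := by
    refine ⟨fun m ⟨hm, hm'⟩ c => ⟨?_, fun x => ?_⟩⟩
    · obtain ⟨i, hi⟩ := Subgroup.mem_zpowers_iff.1 (hno c⁻¹)
      rw [map_mul, map_mul, MulAut.mul_apply, MulAut.mul_apply, ← hi, map_zpow (ρ m), hm, hi,
        map_inv, MulAut.apply_inv_self]
    · obtain ⟨i, hi⟩ := Subgroup.mem_zpowers_iff.1 (hm' (ρ c⁻¹ x))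
      obtain ⟨j, hj⟩ := Subgroup.mem_zpowers_iff.1 (hno c)
      have h : x⁻¹ * ρ (c * m * c⁻¹) x = ρ c ((ρ c⁻¹ x)⁻¹ * ρ m (ρ c⁻¹ x)) := by
        rw [map_mul (ρ c), map_inv (ρ c), map_mul ρ (c * m), map_mul ρ c m, MulAut.mul_apply,
          MulAut.mul_apply, map_inv ρ c, MulAut.apply_inv_self]
      rw [h, ← hi, map_zpow, ← hj, ← zpow_mul]
      exact Subgroup.zpow_mem _ (Subgroup.mem_zpowers e) _
  refine hgI (hI M hMn ?_ ⟨hfix, hmov⟩)
  rintro ⟨γ, hγ, hγ'⟩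
  have hpow : ρ (γ ^ p) = 1 := by
    refine MulEquiv.ext fun x => ?_
    rw [map_pow]
    have key : ∀ m : ℕ, (ρ γ ^ m) x = x * (x⁻¹ * ρ γ x) ^ m := by
      intro m
      induction m with
      | zero => simp
      | succ m ih =>
        have hd : ρ γ (x⁻¹ * ρ γ x) = x⁻¹ * ρ γ x := by
          obtain ⟨j, hj⟩ := Subgroup.mem_zpowers_iff.1 (hγ' x)
          rw [← hj, map_zpow, hγ]
        rw [pow_succ', MulAut.mul_apply, ih, map_mul, map_pow, hd, pow_succ', ← mul_assoc,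
          mul_inv_cancel_left]
    rw [key p, hA, mul_one]
    rfl
  obtain ⟨r, hr⟩ := hker ⟨γ ^ p, hpow⟩
  refine ⟨r + 1, Subtype.ext ?_⟩
  have h1 := congrArg Subtype.val hr
  simp only [SubmonoidClass.coe_pow, OneMemClass.coe_one] at h1 ⊢
  rwa [pow_succ', pow_mul]

end CfsgLib.PGroups.PlaneTorus
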