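import Mathlib
import Cfsg.Prelude
import Cfsg.Agent.Lib.PGroups.Basic

/-!
# `G = [G, A]` and `A` trivial on characteristic abelian subgroups: `G` is special
-/

set_option autoImplicit false

namespace CfsgLib.PGroups.TrivialOnCharAbelian

open Subgroup
open scoped commutatorElement

variable {G : Type*} [Group G] (A : Subgroup (MulAut G))

theorem le_center_of_char (hGA : Subgroup.closure {x : G | ∃ g : G, ∃ a ∈ A, x = g⁻¹ * a g} = ⊤)
    (hchar : ∀ H : Subgroup G, H.Characteristic → IsMulCommutative H → ∀ a ∈ A, ∀ h ∈ H, a h = h)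
    {H : Subgroup G} (hH : H.Characteristic) (hab : IsMulCommutative H) :
    H ≤ center G := by
  haveI := hH
  intro h hh
  rw [Subgroup.mem_center_iff]
  intro g
  have hle : (⊤ : Subgroup G) ≤ centralizer ({h} : Set G) := by
    rw [← hGA, closure_le]
    rintro _ ⟨g, a, ha, rfl⟩
    have e := hchar H hH hab a ha (g * h * g⁻¹) ((inferInstance : H.Normal).conj_mem h hh g)
    rw [map_mul, map_mul, map_inv, hchar H hH hab a ha h hh] at e
    refine mem_centralizer_singleton_iff.2 ?_
    calc g⁻¹ * a g * h = g⁻¹ * (a g * h * (a g)⁻¹) * a g := by group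
      _ = g⁻¹ * (g * h * g⁻¹) * a g := by rw [e]
      _ = h * (g⁻¹ * a g) := by group
  exact mem_centralizer_singleton_iff.1 (hle (mem_top g))

/-- The fixed points lie in the commutator subgroup, by coprime action on the abelianization. -/
theorem mem_commutator_of_fixed [Finite G] {p : ℕ} [Fact p.Prime] (hG : IsPGroup p G)
    (hA : Nat.Coprime (Nat.card A) p)
    (hGA : Subgroup.closure {x : G | ∃ g : G, ∃ a ∈ A, x = g⁻¹ * a g} = ⊤)
    {g : G} (hg : ∀ a ∈ A, a g = g) : g ∈ commutator G := by
  classical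
  haveI : Finite (MulAut G) := Finite.of_injective (fun a => (a : G → G)) DFunLike.coe_injective
  letI := Fintype.ofFinite A
  let φ : G →* Abelianization G := Abelianization.of
  let Nm : G →* Abelianization G :=
    ∏ a : A, φ.comp ((a : MulAut G).toMonoidHom)
  have hNm : ∀ x, Nm x = ∏ a : A, φ ((a : MulAut G) x) := fun x => by
    simp [Nm, MonoidHom.finsetProd_apply]
  have h1 : Subgroup.closure {x : G | ∃ g : G, ∃ a ∈ A, x = g⁻¹ * a g} ≤ Nm.ker := by
    rw [closure_le]
    rintro _ ⟨x, b, hb, rfl⟩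
    have hinv : Nm (b x) = Nm x := by
      rw [hNm, hNm]
      exact Fintype.prod_equiv (Equiv.mulRight (⟨b, hb⟩ : A)) _ _ fun a => rfl
    show Nm (x⁻¹ * b x) = 1
    rw [map_mul, map_inv, hinv, inv_mul_cancel]
  have h2 : Nm g = 1 := h1 (hGA ▸ mem_top g)
  rw [hNm, Finset.prod_congr rfl (fun a _ => by rw [hg a a.2]), Finset.prod_const,
    Finset.card_univ, ← Nat.card_eq_fintype_card] at h2
  obtain ⟨k, hk⟩ := hG g
  have h3 : φ g ^ p ^ k = 1 := by rw [← map_pow, hk, map_one]
  have h4 : φ g = 1 := by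
    rw [← orderOf_eq_one_iff]
    exact Nat.eq_one_of_dvd_coprimes (hA.pow_right k) (orderOf_dvd_of_pow_eq_one h2)
      (orderOf_dvd_of_pow_eq_one h3)
  rwa [← MonoidHom.mem_ker, Abelianization.ker_of] at h4

theorem commutator_pow_left (hc : commutator G ≤ center G) (x y : G) :
    ∀ n : ℕ, ⁅x ^ n, y⁆ = ⁅x, y⁆ ^ n := by
  have hz : ∀ a b g : G, Commute ⁅a, b⁆ g := fun a b g =>
    (Subgroup.mem_center_iff.1 (hc (commutator_mem_commutator (mem_top a) (mem_top b))) g).symm
  intro n
  induction n with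
  | zero => simp
  | succ n ih =>
    calc ⁅x ^ (n + 1), y⁆ = x * ⁅x ^ n, y⁆ * x⁻¹ * ⁅x, y⁆ := by
          rw [pow_succ']; simp only [commutatorElement_def]; group
      _ = ⁅x, y⁆ ^ (n + 1) := by
          rw [((hz (x ^ n) y x).symm).eq, mul_inv_cancel_right, ih, pow_succ]

theorem isSpecial [Finite G] {p : ℕ} [Fact p.Prime] (hG : IsPGroup p G)
    (hA : Nat.Coprime (Nat.card A) p)
    (hGA : Subgroup.closure {x : G | ∃ g : G, ∃ a ∈ A, x = g⁻¹ * a g} = ⊤)
    (hchar : ∀ H : Subgroup G, H.Characteristic → IsMulCommutative H → ∀ a ∈ A, ∀ h ∈ H, a h = h) :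
    Cfsg.IsSpecial p G ∧ (∀ g : G, (g ∈ center G ↔ ∀ a ∈ A, a g = g)) := by
  have hfix : ∀ g ∈ center G, ∀ a ∈ A, a g = g := fun g hg a ha =>
    hchar (center G) inferInstance inferInstance a ha g hg
  have hrot : ⁅⁅(⊤ : Subgroup G), (⊤ : Subgroup G)⁆, Subgroup.upperCentralSeries G 2⁆ = ⊥ := by
    have h : ⁅⁅Subgroup.upperCentralSeries G 2, (⊤ : Subgroup G)⁆, (⊤ : Subgroup G)⁆ = ⊥ :=
      le_bot_iff.1 ((commutator_mono (Subgroup.commutator_upperCentralSeries_top_le G 1) le_rfl).trans
        ((Subgroup.commutator_upperCentralSeries_top_le G 0).trans_eq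
          (Subgroup.upperCentralSeries_zero G)))
    exact commutator_commutator_eq_bot_of_rotate (by rwa [commutator_comm ⊤]) h
  -- class at most two
  have hc : commutator G ≤ center G := by
    by_contra hne
    set π := QuotientGroup.mk' (center G)
    haveI hN : ((commutator G).map π).Normal :=
      Subgroup.Normal.map inferInstance π (QuotientGroup.mk'_surjective _)
    have hN0 : (commutator G).map π ≠ ⊥ := fun h => hne (by
      rwa [Subgroup.map_eq_bot_iff, QuotientGroup.ker_mk'] at h)
    obtain ⟨q, hq, hq1⟩ := (Subgroup.ne_bot_iff_exists_ne_one).1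
      (inf_center_ne_bot (hG.to_quotient _) hN0) |> fun ⟨⟨q, hq⟩, h1⟩ =>
        (⟨q, hq, fun h => h1 (Subtype.ext h)⟩ : ∃ q, q ∈ (commutator G).map π ⊓ center _ ∧ q ≠ 1)
    obtain ⟨g, hg, rfl⟩ := hq.1
    have hg2 : g ∈ Subgroup.upperCentralSeries G 2 := by
      rw [Subgroup.mem_upperCentralSeries_succ_iff]
      intro y
      rw [Subgroup.upperCentralSeries_one, ← QuotientGroup.eq_one_iff]
      show π ⁅g, y⁆ = 1
      rw [map_commutatorElement]
      exact commutatorElement_eq_one_iff_commute.2 (Subgroup.mem_center_iff.1 hq.2 (π y)).symm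
    have hch : (commutator G ⊓ Subgroup.upperCentralSeries G 2).Characteristic :=
      characteristic_iff_comap_eq.2 fun φ => by
        rw [comap_inf, characteristic_iff_comap_eq.1 inferInstance φ,
          characteristic_iff_comap_eq.1 inferInstance φ]
    have hab : IsMulCommutative ↥(commutator G ⊓ Subgroup.upperCentralSeries G 2) :=
      ⟨⟨fun a b => Subtype.ext (commutatorElement_eq_one_iff_commute.1 (by
        rw [← Subgroup.mem_bot, ← hrot]
        exact commutator_mem_commutator a.2.1 b.2.2)).eq⟩⟩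
    exact hq1 ((QuotientGroup.eq_one_iff g).2 (le_center_of_char A hGA hchar hch hab ⟨hg, hg2⟩))
  -- the commutators have order dividing `p`
  have hexp : ∀ x y : G, ⁅x, y⁆ ^ p = 1 := by
    obtain ⟨n, hn⟩ := IsPGroup.iff_card.1 hG
    have step : ∀ k : ℕ, (∀ x y : G, ⁅x, y⁆ ^ p ^ (k + k) = 1) → ∀ x y : G, ⁅x, y⁆ ^ p ^ k = 1 := by
      intro k hk x y
      set S := Set.range fun g : G => g ^ p ^ k
      have hch : (Subgroup.closure S).Characteristic :=
        characteristic_iff_map_le.2 fun φ => by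
          rw [MonoidHom.map_closure, closure_le]
          rintro _ ⟨_, ⟨g, rfl⟩, rfl⟩
          exact subset_closure ⟨φ g, (map_pow φ g _).symm⟩
      have hcomm : S ⊆ centralizer (S : Set G) := by
        rintro _ ⟨g, rfl⟩
        refine mem_centralizer_iff.2 ?_
        rintro _ ⟨h, rfl⟩
        refine commutatorElement_eq_one_iff_commute.1 ?_
        rw [commutator_pow_left hc, ← commutatorElement_inv, commutator_pow_left hc, ← inv_pow,
          commutatorElement_inv, ← pow_mul, ← pow_add]
        exact hk _ _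
      have hab : IsMulCommutative ↥(Subgroup.closure S) := by
        rw [← le_centralizer_iff_isMulCommutative, centralizer_closure, closure_le]
        exact hcomm
      have h := le_center_of_char A hGA hchar hch hab (Subgroup.subset_closure (show x ^ p ^ k ∈ S from ⟨x, rfl⟩))
      rw [← commutator_pow_left hc]
      exact commutatorElement_eq_one_iff_commute.2 (Subgroup.mem_center_iff.1 h y).symm
    have hex : ∃ k, ∀ x y : G, ⁅x, y⁆ ^ p ^ k = 1 :=
      ⟨n, fun x y => by rw [← hn]; exact pow_card_eq_one'⟩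
    classical
    have he := Nat.find_spec hex
    intro x y
    by_cases h2 : Nat.find hex ≤ 1
    · obtain ⟨j, hj⟩ : p ^ Nat.find hex ∣ p ^ 1 := pow_dvd_pow p h2
      rw [← pow_one p, hj, pow_mul, he, one_pow]
    · exfalso
      refine Nat.find_min hex (show Nat.find hex - 1 < Nat.find hex by omega) (step _ fun x y => ?_)
      obtain ⟨j, hj⟩ : p ^ Nat.find hex ∣ p ^ (Nat.find hex - 1 + (Nat.find hex - 1)) :=
        pow_dvd_pow p (by omega)
      rw [hj, pow_mul, he, one_pow]
  have hpow : ∀ x : G, x ^ p ∈ center G := fun x => Subgroup.mem_center_iff.2 fun y =>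
    (commutatorElement_eq_one_iff_commute.1
      ((commutator_pow_left hc x y p).trans (hexp x y))).symm
  have hZle : center G ≤ commutator G := fun g hg =>
    mem_commutator_of_fixed A hG hA hGA (hfix g hg)
  refine ⟨⟨hG, le_antisymm (frattini_le_of_elementary_quotient hc hpow)
    (hZle.trans (commutator_le_frattini hG)), le_antisymm hc hZle⟩, fun g => ⟨hfix g, fun h => ?_⟩⟩
  exact hc (mem_commutator_of_fixed A hG hA hGA h)

end CfsgLib.PGroups.TrivialOnCharAbelian
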