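import Mathlib
import Cfsg.Prelude.Def_Transfer
import Cfsg.Agent.Lib.PGroups.Basic
import Cfsg.Agent.Lib.PGroups.Commutator
import Cfsg.Agent.Lib.Coprime.Action
import Cfsg.Agent.Lib.Base.Transport

/-!
# Minimal nontrivial coprime action on a `p`-group
-/

set_option linter.style.haveILetI false
set_option autoImplicit false

namespace CfsgLib.PGroups

open Cfsg
open scoped commutatorElement

variable {X : Type*} [Group X] [Finite X]

/-- Conjugation by an element of the normalizer, on the subgroup. -/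
def normConj (P : Subgroup X) {a : X} (ha : a ∈ Subgroup.normalizer (P : Set X)) : P →* P where
  toFun x := ⟨a * x * a⁻¹, (Subgroup.mem_normalizer_iff.mp ha x).mp x.2⟩
  map_one' := Subtype.ext (by simp)
  map_mul' x y := Subtype.ext (by simp [mul_assoc])

theorem hom_eq_one_of_commutator_eq {A P : Subgroup X}
    (hAP : A ≤ Subgroup.normalizer (P : Set X)) (hPA : ⁅P, A⁆ = P)
    {M : Type*} [CommGroup M] (f : P →* M)
    (hf : ∀ (a : X) (ha : a ∈ A) (x : P), f (normConj P (hAP ha) x) = f x) (x : P) : f x = 1 := by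
  have h : ⁅P, A⁆ ≤ f.ker.map P.subtype := by
    rw [Subgroup.commutator_le]
    intro y hy a ha
    refine ⟨⟨y, hy⟩ * normConj P (hAP ha) ⟨y⁻¹, P.inv_mem hy⟩, ?_, ?_⟩
    · rw [SetLike.mem_coe, MonoidHom.mem_ker, map_mul, hf a ha, ← map_mul,
        show (⟨y, hy⟩ : P) * ⟨y⁻¹, P.inv_mem hy⟩ = 1 from Subtype.ext (mul_inv_cancel y), map_one]
    · show y * (a * y⁻¹ * a⁻¹) = ⁅y, a⁆
      simp [commutatorElement_def, mul_assoc]
  obtain ⟨y, hy, e⟩ := h (hPA.symm ▸ x.2 : (x : X) ∈ ⁅P, A⁆)
  rw [← show y = x from Subtype.ext e]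
  exact hy

/-- With `[P, A] = P` the fixed points of a coprime `A` lie in the derived subgroup. -/
theorem mem_commutator_of_centralizes {A P : Subgroup X}
    (hAP : A ≤ Subgroup.normalizer (P : Set X)) (hPA : ⁅P, A⁆ = P)
    (hcop : (Nat.card A).Coprime (Nat.card P)) {c : P} (hc : ∀ a ∈ A, a * c = c * a) :
    c ∈ commutator P := by
  classical
  haveI := Fintype.ofFinite A
  let ν : P →* Abelianization P :=
    MonoidHom.mk' (fun x => ∏ a : A, Abelianization.of (normConj P (hAP a.2) x))
      fun x y => by simp [map_mul, Finset.prod_mul_distrib]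
  have hν : ∀ x, ν x = 1 := by
    refine hom_eq_one_of_commutator_eq hAP hPA ν fun b hb x => ?_
    show ∏ a : A, _ = ∏ a : A, _
    refine Fintype.prod_equiv (Equiv.mulRight (⟨b, hb⟩ : A)) _ _ fun a => ?_
    congr 1
    refine Subtype.ext ?_
    show (a : X) * (b * (x : X) * b⁻¹) * (a : X)⁻¹ = ((a : X) * b) * x * ((a : X) * b)⁻¹
    simp [mul_assoc]
  have h1 : Abelianization.of c ^ Nat.card A = 1 := by
    refine Eq.trans ?_ (hν c)
    show _ = ∏ a : A, Abelianization.of (normConj P (hAP a.2) c)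
    have h2 : ∀ a : A, normConj P (hAP a.2) c = c := fun a =>
      Subtype.ext (mul_inv_eq_iff_eq_mul.mpr (hc a a.2))
    simp only [h2, Finset.prod_const, Finset.card_univ, Nat.card_eq_fintype_card]
  have h3 : orderOf (Abelianization.of c) = 1 := Nat.eq_one_of_dvd_coprimes hcop
    (orderOf_dvd_of_pow_eq_one h1) ((orderOf_map_dvd _ c).trans (orderOf_dvd_natCard c))
  rw [orderOf_eq_one_iff] at h3
  exact (QuotientGroup.eq_one_iff c).mp h3

/-- The Hall–Higman reduction. -/
theorem minimal_action {p : ℕ} [Fact p.Prime] (B A P : Subgroup X) (hP : IsPGroup p P)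
    (hBP : B ≤ Subgroup.normalizer (P : Set X)) (hAB : A ≤ B)
    (hAn : B ≤ Subgroup.normalizer (A : Set X)) (hAp : (Nat.card A).Coprime p) (hnt : ⁅P, A⁆ ≠ ⊥)
    (hmin : ∀ U : Subgroup X, U < P → B ≤ Subgroup.normalizer (U : Set X) → ⁅U, A⁆ = ⊥) :
    ⁅P, A⁆ = P ∧ (Cfsg.IsElementaryAbelian p P ∨ Cfsg.IsSpecial p ↥P) ∧
      (∀ U : Subgroup X, (frattini ↥P).map P.subtype ≤ U → U ≤ P →
        B ≤ Subgroup.normalizer (U : Set X) → U = (frattini ↥P).map P.subtype ∨ U = P) ∧
      (p ≠ 2 → ∀ x ∈ P, x ^ p = 1) := by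
  classical
  have hp : p.Prime := Fact.out
  have hAP : A ≤ Subgroup.normalizer (P : Set X) := hAB.trans hBP
  have hcop : (Nat.card A).Coprime (Nat.card P) := by
    obtain ⟨k, hk⟩ := IsPGroup.iff_card.mp hP
    rw [hk]
    exact hAp.pow_right k
  haveI := hP.isNilpotent
  have hsolv : Group.IsSolvable A ∨ Group.IsSolvable P := Or.inr inferInstance
  have hPA : ⁅P, A⁆ = P := by
    rcases (CfsgLib.Coprime.commutator_le_of_le_normalizer hAP).lt_or_eq with h | h
    · exfalso
      have hB : B ≤ Subgroup.normalizer ((⁅P, A⁆ : Subgroup X) : Set X) := by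
        intro g hg
        rw [← CfsgLib.Base.map_conj_eq_self_iff, Subgroup.map_commutator,
          CfsgLib.Base.map_conj_eq_self_iff.2 (hBP hg), CfsgLib.Base.map_conj_eq_self_iff.2 (hAn hg)]
      have h1 := hmin _ h hB
      rw [CfsgLib.Coprime.commutator_commutator_eq hAP hcop hsolv] at h1
      exact hnt h1
    · exact h
  refine ⟨hPA, ?_⟩
  -- proper invariant subgroups are fixed, hence inside the derived subgroup
  have hfix : ∀ U : Subgroup P, U ≠ ⊤ → B ≤ Subgroup.normalizer ((U.map P.subtype : Subgroup X) : Set X) →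
      ∀ x ∈ U, ∀ a ∈ A, a * (x : X) = x * a := by
    intro U hU hB x hx a ha
    have hlt : U.map P.subtype < P := by
      refine lt_of_le_of_ne (Subgroup.map_subtype_le U) fun h => hU ?_
      rw [eq_top_iff]
      intro y _
      obtain ⟨z, hz, e⟩ := (h.symm ▸ y.2 : (y : X) ∈ U.map P.subtype)
      rwa [← show z = y from Subtype.ext e]
    have h1 := Subgroup.commutator_eq_bot_iff_le_centralizer.mp (hmin _ hlt hB) ⟨x, hx, rfl⟩
    exact Subgroup.mem_centralizer_iff.mp h1 a ha
  have hsmall : ∀ U : Subgroup P, U ≠ ⊤ → B ≤ Subgroup.normalizer ((U.map P.subtype : Subgroup X) : Set X) →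
      U ≤ commutator P := fun U hU hB x hx =>
    mem_commutator_of_centralizes hAP hPA hcop fun a ha => hfix U hU hB x hx a ha
  have hchar : ∀ U : Subgroup P, U.Characteristic →
      B ≤ Subgroup.normalizer ((U.map P.subtype : Subgroup X) : Set X) := fun U _ =>
    hBP.trans (CfsgLib.Base.normalizer_le_normalizer_map_subtype P U)
  haveI hPne : Nontrivial P := (Subgroup.nontrivial_iff_ne_bot P).mpr fun h => hnt (by
    rw [h, Subgroup.commutator_bot_left])
  have hΦtop : frattini P ≠ ⊤ := frattini_ne_top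
  have hΦder : frattini P = commutator P :=
    le_antisymm (hsmall _ hΦtop (hchar _ inferInstance)) (commutator_le_frattini hP)
  -- the three subgroup lemma
  have hΦZ : frattini P ≤ Subgroup.center P := by
    set Φ' := (frattini P).map P.subtype with hΦ'
    have h1 : ⁅Φ', A⁆ = ⊥ := by
      rw [Subgroup.commutator_eq_bot_iff_le_centralizer]
      rintro _ ⟨x, hx, rfl⟩
      exact Subgroup.mem_centralizer_iff.mpr fun a ha =>
        hfix _ hΦtop (hchar _ inferInstance) x hx a ha
    have hPΦ : P ≤ Subgroup.normalizer (Φ' : Set X) :=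
      Subgroup.le_normalizer.trans (CfsgLib.Base.normalizer_le_normalizer_map_subtype P _)
    have h2 : ⁅⁅P, A⁆, Φ'⁆ = ⊥ := by
      refine Subgroup.commutator_commutator_eq_bot_of_rotate ?_ ?_
      · rw [Subgroup.commutator_comm A, h1, Subgroup.commutator_bot_left]
      · exact le_bot_iff.mp ((Subgroup.commutator_mono
          (CfsgLib.Coprime.commutator_le_of_le_normalizer hPΦ) le_rfl).trans h1.le)
    rw [hPA] at h2
    intro x hx
    rw [Subgroup.mem_center_iff]
    intro y
    exact Subtype.ext (Subgroup.mem_centralizer_iff.mp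
      (Subgroup.commutator_eq_bot_iff_le_centralizer.mp h2 y.2) (x : X) ⟨x, hx, rfl⟩).symm
  refine ⟨?_, ?_, ?_⟩
  · by_cases hab : IsMulCommutative P
    · left
      refine ⟨hab, ?_⟩
      have hbot : commutator P = ⊥ := by
        rw [commutator_def, Subgroup.commutator_eq_bot_iff_le_centralizer]
        intro a _
        rw [Subgroup.mem_centralizer_iff]
        exact fun b _ => hab.is_comm.comm b a
      intro x hx
      have h1 : (⟨x, hx⟩ : P) ^ p ∈ frattini P := pow_mem_frattini hP _
      rw [hΦder, hbot, Subgroup.mem_bot] at h1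
      exact congrArg Subtype.val h1
    · right
      have hZtop : Subgroup.center P ≠ ⊤ := fun h => hab
        ⟨⟨fun a b => (Subgroup.mem_center_iff.mp (h ▸ Subgroup.mem_top a) b).symm⟩⟩
      have hZle : Subgroup.center P ≤ commutator P := hsmall _ hZtop (hchar _ inferInstance)
      have hZΦ : Subgroup.center P ≤ frattini P := hΦder ▸ hZle
      exact ⟨hP, le_antisymm hΦZ hZΦ, le_antisymm (hΦder ▸ hΦZ) hZle⟩
  · intro U hle hUP hB
    by_cases hU : U.subgroupOf P = ⊤
    · exact Or.inr (le_antisymm hUP (Subgroup.subgroupOf_eq_top.mp hU))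
    · refine Or.inl (le_antisymm ?_ hle)
      have h := hsmall (U.subgroupOf P) hU (by rwa [Subgroup.map_subgroupOf_eq_of_le hUP])
      intro x hx
      exact ⟨⟨x, hUP hx⟩, hΦder ▸ h (show (⟨x, hUP hx⟩ : P) ∈ U.subgroupOf P from hx), rfl⟩
  · intro hp2 x hx
    have hodd : Odd p := hp.odd_of_ne_two hp2
    -- commutators are central and killed by `p`
    have hcc : ∀ a b : P, ⁅a, b⁆ ∈ Subgroup.center P ∧ ⁅a, b⁆ ^ p = 1 := by
      intro a b
      have hab' : ⁅a, b⁆ ∈ Subgroup.center P := hΦZ (commutator_le_frattini hP (by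
        rw [commutator_def]
        exact Subgroup.commutator_mem_commutator (Subgroup.mem_top a) (Subgroup.mem_top b)))
      refine ⟨hab', ?_⟩
      rw [← commutator_pow_left_of_central hab', commutatorElement_eq_one_iff_mul_comm]
      exact (Subgroup.mem_center_iff.mp (hΦZ (pow_mem_frattini hP a)) b).symm
    have hmul : ∀ a b : P, (a * b) ^ p = a ^ p * b ^ p := fun a b => by
      rw [mul_pow_of_central (hcc b a).1]
      obtain ⟨k, hk⟩ := hodd
      have h1 : p ∣ p.choose 2 := hp.dvd_choose_self two_ne_zero (by have := hp.two_le; omega)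
      obtain ⟨j, hj⟩ := h1
      rw [hj, pow_mul, (hcc b a).2, one_pow, mul_one]
    have hmemΦ : ∀ a : P, a ^ p ∈ frattini P := pow_mem_frattini hP
    letI : CommGroup (frattini P) :=
      { (inferInstance : Group (frattini P)) with
        mul_comm := fun u v => Subtype.ext (Subgroup.mem_center_iff.mp (hΦZ v.2) u) }
    let π : P →* frattini P := MonoidHom.mk' (fun a => ⟨a ^ p, hmemΦ a⟩) fun a b =>
      Subtype.ext (hmul a b)
    have h := hom_eq_one_of_commutator_eq hAP hPA π (fun a ha y => by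
      refine Subtype.ext (Subtype.ext ?_)
      show (a * (y : X) * a⁻¹) ^ p = ((y : X)) ^ p
      rw [conj_pow]
      have hc := hfix _ hΦtop (hchar _ inferInstance) (y ^ p) (hmemΦ y) a ha
      rw [Subgroup.coe_pow] at hc
      rw [hc, mul_inv_cancel_right]) ⟨x, hx⟩
    exact congrArg (fun z : frattini P => ((z : P) : X)) h

end CfsgLib.PGroups
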