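import Cfsg.Agent.Lib.PLocal.PowerIndexMetacyclic
import Cfsg.Agent.Lib.PLocal.CyclicMaxApps
import Cfsg.Agent.Lib.OddOrder.RankTwoStructure
import Cfsg.Agent.Lib.PGroups.MaximalClass

/-!
# Blackburn: p-groups of rank at most two, `p` odd

`G` has a normal elementary plane `E`, whose centralizer `C` has index at most `p` and has all its
elements of order `p` in `E`.  If `|G : ℧₁(G)| > p ^ 2` then either some element outside `C` has
order `p`, or `p = 3` and there are `g ∉ C`, `v ∈ C` with `g^p, v^p, ⁅g, v⁆ ∈ E` and `⁅g, v⁆` not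
central, which forces maximal class.  If an element `g ∉ C` has order `p`, the same data exist when
`C / E` is noncyclic, and otherwise `G` belongs to one of Blackburn's two families.
-/

set_option autoImplicit false
set_option linter.unusedSectionVars false
set_option linter.style.haveILetI false

namespace CfsgLib.PGroups.Blackburn

open Cfsg Subgroup
open scoped commutatorElement

variable {G : Type*} [Group G] {p : ℕ} [Fact p.Prime]

theorem dvd_of_zpow_mem_of_pow_mem {H : Subgroup G} {c : G} {i : ℤ} (hp : c ^ p ∈ H)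
    (hi : c ^ i ∈ H) (hc : c ∉ H) : (p : ℤ) ∣ i := by
  by_contra h
  obtain ⟨a, b, hab⟩ : IsCoprime (p : ℤ) i :=
    (Prime.coprime_iff_not_dvd (Nat.prime_iff_prime_int.1 Fact.out)).2 h
  refine hc ?_
  rw [← zpow_one c, ← hab, zpow_add, mul_comm a, mul_comm b, zpow_mul, zpow_mul, zpow_natCast]
  exact mul_mem (zpow_mem hp _) (zpow_mem hi _)

/-- Iterated conjugation when the iterated commutators commute. -/
theorem conj_iterate {g a b c d : G} (ha : g * a * g⁻¹ = b * a) (hb : g * b * g⁻¹ = c * b)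
    (hc : g * c * g⁻¹ = d * c) (hd : g * d * g⁻¹ = d) (hcb : Commute c b) (hdc : Commute d c) :
    ∀ n : ℕ, g ^ n * a * (g ^ n)⁻¹ = d ^ n.choose 3 * c ^ n.choose 2 * b ^ n * a := by
  intro n
  induction n with
  | zero => simp
  | succ n ih =>
    calc g ^ (n + 1) * a * (g ^ (n + 1))⁻¹
        = g * (d ^ n.choose 3 * c ^ n.choose 2 * b ^ n * a) * g⁻¹ := by rw [← ih, pow_succ']; group
      _ = (g * d * g⁻¹) ^ n.choose 3 * (g * c * g⁻¹) ^ n.choose 2 * (g * b * g⁻¹) ^ n *
            (g * a * g⁻¹) := by rw [conj_pow, conj_pow, conj_pow]; group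
      _ = d ^ n.choose 3 * (d ^ n.choose 2 * c ^ n.choose 2) * (c ^ n * b ^ n) * (b * a) := by
            rw [hd, hc, hb, ha, hdc.mul_pow, hcb.mul_pow]
      _ = d ^ (n + 1).choose 3 * c ^ (n + 1).choose 2 * b ^ (n + 1) * a := by
            rw [Nat.choose_succ_succ n 2, Nat.choose_succ_succ n 1, Nat.choose_one_right,
              Nat.add_comm (n.choose 2), Nat.add_comm n (n.choose 2), pow_add d, pow_add c,
              pow_succ b]
            simp only [mul_assoc]

/-- The `n`-th power of `u * x` when the iterated commutators commute with `u`. -/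
theorem mul_pow_iterate {x u δ ζ : G} (h1 : x * u * x⁻¹ = δ * u) (h2 : x * δ * x⁻¹ = ζ * δ)
    (h3 : x * ζ * x⁻¹ = ζ) (hδu : Commute δ u) (hζu : Commute ζ u) (hζδ : Commute ζ δ) :
    ∀ n : ℕ, (u * x) ^ n = u ^ n * δ ^ n.choose 2 * ζ ^ n.choose 3 * x ^ n := by
  intro n
  induction n with
  | zero => simp
  | succ n ih =>
    calc (u * x) ^ (n + 1)
        = u * (x * (u ^ n * δ ^ n.choose 2 * ζ ^ n.choose 3) * x⁻¹) * (x * x ^ n) := by
          rw [pow_succ', ih]; group
      _ = u * ((x * u * x⁻¹) ^ n * (x * δ * x⁻¹) ^ n.choose 2 * (x * ζ * x⁻¹) ^ n.choose 3) *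
            (x * x ^ n) := by rw [conj_pow, conj_pow, conj_pow]; group
      _ = u * (δ ^ n * u ^ n * (ζ ^ n.choose 2 * δ ^ n.choose 2) * ζ ^ n.choose 3) * (x * x ^ n) := by
          rw [h1, h2, h3, hδu.mul_pow, hζδ.mul_pow]
      _ = u ^ (n + 1) * (δ ^ n * δ ^ n.choose 2) * (ζ ^ n.choose 2 * ζ ^ n.choose 3) *
            (x * x ^ n) := by
          rw [(hδu.pow_pow n n).eq, (hζδ.pow_pow (n.choose 2) (n.choose 2)).eq, pow_succ' u]
          simp only [mul_assoc]
      _ = u ^ (n + 1) * δ ^ (n + 1).choose 2 * ζ ^ (n + 1).choose 3 * x ^ (n + 1) := by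
          rw [show (n + 1).choose 2 = n + n.choose 2 by rw [Nat.choose_succ_succ, Nat.choose_one_right],
            show (n + 1).choose 3 = n.choose 2 + n.choose 3 from Nat.choose_succ_succ n 2,
            pow_add δ, pow_add ζ, pow_succ' x]

/-- A normal elementary plane with centralizer of index `p` containing only its elements of order
`p`. -/
structure Frame (p : ℕ) (E C : Subgroup G) : Prop where
  normal : E.Normal
  cnormal : C.Normal
  card : Nat.card E = p ^ 2
  le : E ≤ C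
  pow : ∀ e ∈ E, e ^ p = 1
  comm : ∀ c ∈ C, ∀ e ∈ E, Commute c e
  omega : ∀ c ∈ C, c ^ p = 1 → c ∈ E
  index : C.index = p
  mem : ∀ u : G, (∀ e ∈ E, Commute u e) → u ∈ C

/-- The configuration forcing maximal class. -/
def Special (p : ℕ) (E C : Subgroup G) : Prop :=
  p = 3 ∧ ∃ g, g ∉ C ∧ ∃ v ∈ C, g ^ p ∈ E ∧ v ^ p ∈ E ∧ ⁅g, v⁆ ∈ E ∧ ⁅g, v⁆ ∉ center G

variable {E C : Subgroup G} (F : Frame p E C)
include F

theorem sup_zpowers_eq_top [Finite G] {g : G} (hg : g ∉ C) : C ⊔ zpowers g = ⊤ := by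
  have hlt : C < C ⊔ zpowers g := left_lt_sup.2 fun h => hg (h (mem_zpowers g))
  refine index_eq_one.1 (((Nat.dvd_prime Fact.out).1 (F.index ▸ index_dvd_of_le hlt.le)).resolve_right
    fun h1 => (index_strictAnti hlt).ne ?_)
  rw [h1, F.index]

theorem mem_center_of_commute [Finite G] {u g : G} (hg : g ∉ C) (hc : ∀ c ∈ C, Commute c u)
    (hgu : Commute g u) : u ∈ center G := by
  rw [mem_center_iff]
  intro v
  have h : C ⊔ zpowers g ≤ centralizer ({u} : Set G) :=
    sup_le (fun c hc' => mem_centralizer_singleton_iff.2 (hc c hc').eq)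
      (zpowers_le.2 (mem_centralizer_singleton_iff.2 hgu.eq))
  exact mem_centralizer_singleton_iff.1 (h ((sup_zpowers_eq_top F hg).symm ▸ mem_top v))

theorem pow_comm_of_commutator_mem {g u : G} (hu : u ∈ C) (h : ⁅g, u⁆ ∈ E) :
    Commute g (u ^ p) := by
  have h1 : (g * u * g⁻¹) ^ p = u ^ p := by
    rw [show g * u * g⁻¹ = ⁅g, u⁆ * u by rw [commutatorElement_def]; group,
      (F.comm u hu _ h).symm.mul_pow, F.pow _ h, one_mul]
  rw [conj_pow] at h1
  exact (mul_inv_eq_iff_eq_mul.1 h1 : g * u ^ p = u ^ p * g)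

theorem root_unique [Finite G] (hp : p ≠ 2) (hG : IsPGroup p G) {a b : G} (ha : a ∈ C) (hb : b ∈ C)
    (h : a ^ p = b ^ p) : a⁻¹ * b ∈ E := by
  have h1 := CfsgLib.OddOrder.pow_eq_one_of_pow_eq_pow hp (hG.to_subgroup C)
    (fun z hz => mem_center_iff.2 fun v => Subtype.ext
      (F.comm v v.2 z (F.omega z z.2 (by simpa using congrArg Subtype.val hz))).eq)
    (x := ⟨a, ha⟩) (y := ⟨b, hb⟩) (Subtype.ext h)
  exact F.omega _ (mul_mem (inv_mem ha) hb) (by simpa using congrArg Subtype.val h1)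

theorem commutator_mem_of_pow_comm [Finite G] (hp : p ≠ 2) (hG : IsPGroup p G) {g u : G}
    (hu : u ∈ C) (h : Commute g (u ^ p)) : ⁅g, u⁆ ∈ E := by
  have := F.cnormal
  have hm := root_unique F hp hG hu (this.conj_mem _ hu g) (b := g * u * g⁻¹)
    (by rw [conj_pow, h.eq, mul_inv_cancel_right])
  rw [commutatorElement_def, show g * u * g⁻¹ * u⁻¹ = u * (u⁻¹ * (g * u * g⁻¹)) * u⁻¹ by group]
  exact F.normal.conj_mem _ hm u

theorem card_line [Finite G] (hG : IsPGroup p G) : Nat.card ↥(E ⊓ center G) = p := by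
  have hpp : p.Prime := Fact.out
  have := F.normal
  have hne : ¬ E ≤ center G := fun h => by
    have hC : C = ⊤ := eq_top_iff.2 fun u _ => F.mem u fun e he => mem_center_iff.1 (h he) u
    have := F.index
    rw [hC, index_top] at this
    exact hpp.ne_one this.symm
  obtain ⟨i, hi⟩ := IsPGroup.iff_card.mp (hG.to_subgroup (E ⊓ center G))
  have hi0 : i ≠ 0 := fun h => CfsgLib.PGroups.inf_center_ne_bot hG (N := E)
    (fun hb => by
      have := F.card
      rw [hb, card_bot] at this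
      exact (Nat.one_lt_pow two_ne_zero hpp.one_lt).ne this)
    (card_eq_one.1 (by rw [hi, h, pow_zero]))
  have hlt : E ⊓ center G < E := lt_of_le_of_ne inf_le_left fun h => hne (inf_eq_left.1 h)
  have h2 := CfsgLib.PLocal.card_lt_of_lt hlt
  rw [hi, F.card, Nat.pow_lt_pow_iff_right hpp.one_lt] at h2
  rw [hi, show i = 1 by omega, pow_one]

theorem zpowers_eq_line [Finite G] (hG : IsPGroup p G) {z : G} (hz : z ∈ E) (hz' : z ∈ center G)
    (h1 : z ≠ 1) : zpowers z = E ⊓ center G :=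
  eq_of_le_of_card_ge (zpowers_le.2 ⟨hz, hz'⟩)
    (by rw [card_line F hG, Nat.card_zpowers, orderOf_eq_prime (F.pow z hz) h1])

theorem commutator_mem_line [Finite G] (hG : IsPGroup p G) (g : G) {e : G} (he : e ∈ E) :
    ⁅g, e⁆ ∈ E ∧ ⁅g, e⁆ ∈ center G := by
  have := F.normal
  exact CfsgLib.OddOrder.commutator_mem_line
    (CfsgLib.Base.isElementaryAbelian_iff.2 ⟨fun a ha b hb => (F.comm a (F.le ha) b hb).eq, F.pow⟩)
    F.card inf_le_left (card_line F hG) (normalizer_eq_top E ▸ mem_top g) (hG.to_subgroup _)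
    (mem_centralizer_iff.2 fun v hv => (mem_center_iff.1 hv.2 g).symm) he

theorem exists_not_mem_center [Finite G] (hG : IsPGroup p G) : ∃ y ∈ E, y ∉ center G := by
  by_contra! h
  have h1 := card_line F hG
  rw [inf_eq_left.2 h, F.card] at h1
  exact (lt_self_pow₀ (Fact.out : p.Prime).one_lt one_lt_two).ne' h1

theorem commutator_ne_one [Finite G] {g y : G} (hg : g ∉ C) (hy : y ∈ E) (hyc : y ∉ center G) :
    ⁅g, y⁆ ≠ 1 :=
  fun h => hyc (mem_center_of_commute F hg (fun c hc => F.comm c hc y hy)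
    (commutatorElement_eq_one_iff_commute.1 h))

/-- If `|G : ℧₁(G)| > p ^ 2`, an element outside `C` has order `p`, or the special configuration
occurs. -/
theorem outside_or_special [Finite G] (hp : p ≠ 2) (hG : IsPGroup p G)
    (hidx : ¬ (powerClosure p 1 (⊤ : Subgroup G)).index ≤ p ^ 2) :
    (∃ g, g ∉ C ∧ g ^ p = 1) ∨ Special p E C := by
  classical
  have hpp : p.Prime := Fact.out
  set W := powerClosure p 1 (⊤ : Subgroup G)
  set T := Set.range (fun x : C => x ^ p)
  have hcount : Nat.card C ≤ p ^ 2 * Nat.card T := by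
    have h1 := CfsgLib.OddOrder.card_le_mul_card_range hp (hG.to_subgroup C) (U := E.subgroupOf C)
      (fun z hz => F.omega z z.2 (by simpa using congrArg Subtype.val hz))
      (fun u hu => mem_center_iff.2 fun v => Subtype.ext (F.comm v v.2 u hu).eq)
    rwa [CfsgLib.Base.card_subgroupOf F.le, F.card] at h1
  let incl : T → W := fun w => ⟨((w.1 : C) : G), by
    obtain ⟨y, hy⟩ := w.2
    exact subset_closure ⟨(y : G), mem_top _, by rw [← hy, pow_one]; rfl⟩⟩
  have hincl : Function.Injective incl := fun a b hab => by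
    have := congrArg Subtype.val hab
    exact Subtype.ext (Subtype.ext this)
  have hsurj : Function.Surjective incl := by
    obtain ⟨i, hi⟩ := hG.index W
    have hi3 : 3 ≤ i := by
      rw [hi, Nat.pow_le_pow_iff_right hpp.one_lt] at hidx; omega
    have hp3 : p ^ 3 ≤ W.index := hi ▸ Nat.pow_le_pow_right hpp.pos hi3
    have hge : Nat.card W ≤ Nat.card T := by
      refine Nat.le_of_mul_le_mul_right ?_ (pow_pos hpp.pos 3)
      calc Nat.card W * p ^ 3 ≤ Nat.card W * W.index := Nat.mul_le_mul_left _ hp3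
        _ = Nat.card C * C.index := W.card_mul_index.trans C.card_mul_index.symm
        _ ≤ p ^ 2 * Nat.card T * p := Nat.mul_le_mul hcount F.index.le
        _ = Nat.card T * p ^ 3 := by ring
    exact ((Nat.bijective_iff_injective_and_card incl).2
      ⟨hincl, le_antisymm (Nat.card_le_card_of_injective _ hincl) hge⟩).2
  obtain ⟨x, hx⟩ : ∃ x, x ∉ C := by
    by_contra! h
    have := F.index
    rw [(eq_top_iff' C).2 h, index_top] at this
    exact hpp.ne_one this.symm
  obtain ⟨⟨w, ⟨c, hc⟩⟩, hw⟩ := hsurj ⟨x ^ p, subset_closure ⟨x, mem_top _, by rw [pow_one]⟩⟩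
  have hcx : (c : G) ^ p = x ^ p := by
    have h1 : ((w : C) : G) = x ^ p := congrArg Subtype.val hw
    rw [show w = c ^ p from hc.symm] at h1
    simpa using h1
  set u : G := (c : G)⁻¹
  have huC : u ∈ C := inv_mem c.2
  have hup : u ^ p = (x ^ p)⁻¹ := by rw [inv_pow, hcx]
  have hxu : Commute x (u ^ p) := by
    rw [hup]; exact ((Commute.refl x).pow_right p).inv_right
  set δ := ⁅x, u⁆ with hδdef
  have hδ : δ ∈ E := commutator_mem_of_pow_comm F hp hG huC hxu
  obtain ⟨hζE, hζc⟩ := commutator_mem_line F hG x hδ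
  set ζ := ⁅x, δ⁆ with hζdef
  set g := u * x with hgdef
  have hgC : g ∉ C := fun h => hx ((C.mul_mem_cancel_left huC).1 h)
  have hgp : g ^ p = ζ ^ p.choose 3 := by
    obtain ⟨k, hk⟩ := hpp.dvd_choose_self two_ne_zero (lt_of_le_of_ne hpp.two_le (Ne.symm hp))
    rw [hgdef, mul_pow_iterate (δ := δ) (ζ := ζ) (by rw [hδdef, commutatorElement_def]; group)
      (by rw [hζdef, commutatorElement_def]; group)
      (by rw [mem_center_iff.1 hζc x, mul_inv_cancel_right])
      (F.comm u huC δ hδ).symm (mem_center_iff.1 hζc u).symm (mem_center_iff.1 hζc δ).symm p,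
      hk, pow_mul, F.pow δ hδ, one_pow, mul_one, mul_assoc,
      (mem_center_iff.1 (pow_mem hζc (p.choose 3)) (x ^ p)).symm, ← mul_assoc, hup, inv_mul_cancel,
      one_mul]
  by_cases hζ1 : ζ = 1
  · exact Or.inl ⟨g, hgC, by rw [hgp, hζ1, one_pow]⟩
  by_cases hp3 : p = 3
  swap
  · obtain ⟨k, hk⟩ := hpp.dvd_choose_self (k := 3) (by norm_num)
      (by have := hpp.two_le; omega)
    exact Or.inl ⟨g, hgC, by rw [hgp, hk, pow_mul, F.pow ζ hζE, one_pow]⟩
  have hgp' : g ^ p = ζ := by rw [hgp, hp3, Nat.choose_self, pow_one]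
  have hgu : ⁅g, u⁆ = δ := by
    rw [show ⁅g, u⁆ = u * δ * u⁻¹ by rw [hgdef, hδdef, commutatorElement_def, commutatorElement_def]; group,
      (F.comm u huC δ hδ).eq, mul_inv_cancel_right]
  by_cases hu3 : u ^ p ∈ E
  · refine Or.inr ⟨hp3, g, hgC, u, huC, hgp' ▸ hζE, hu3, hgu ▸ hδ, fun h => hζ1 ?_⟩
    rw [hgu] at h
    exact commutatorElement_eq_one_iff_commute.2 (mem_center_iff.1 h x)
  left
  have hgup : Commute g (u ^ p) := pow_comm_of_commutator_mem F huC (hgu ▸ hδ)
  obtain ⟨m, hm⟩ := IsPGroup.iff_orderOf.1 hG u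
  have hm3 : 3 ≤ m := by
    by_contra hlt
    refine hu3 (F.omega _ (pow_mem huC p) ?_)
    rw [← pow_mul, ← sq]
    exact orderOf_dvd_iff_pow_eq_one.1 (hm ▸ pow_dvd_pow p (by omega))
  obtain ⟨j, rfl⟩ : ∃ j, m = j + 3 := ⟨m - 3, by omega⟩
  set r := u ^ p ^ (j + 1) with hrdef
  have hgr : Commute g r := by
    rw [hrdef, pow_succ', pow_mul]; exact hgup.pow_right _
  have hrC : r ∈ C := pow_mem huC _
  set t := r ^ p with htdef
  have htpp : r ^ p = u ^ p ^ (j + 2) := by rw [hrdef, ← pow_mul, ← pow_succ]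
  have ht1 : t ≠ 1 := by
    rw [htdef, htpp]
    exact fun h => absurd (hm ▸ orderOf_dvd_of_pow_eq_one h)
      (fun hd => by rw [Nat.pow_dvd_pow_iff_le_right hpp.one_lt] at hd; omega)
  have htE : t ∈ E := F.omega _ (pow_mem hrC p) (by
    rw [htdef, htpp, ← pow_mul, ← pow_succ, ← hm, pow_orderOf_eq_one])
  have htc : t ∈ center G := mem_center_of_commute F hgC (fun c hc => F.comm c hc t htE)
    (hgr.pow_right p)
  have hζt : ζ ∈ zpowers t := by rw [zpowers_eq_line F hG htE htc ht1]; exact ⟨hζE, hζc⟩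
  obtain ⟨i, hi⟩ := mem_zpowers_iff.1 hζt
  refine ⟨r ^ (-i) * g, fun h => hgC ((C.mul_mem_cancel_left (zpow_mem hrC _)).1 h), ?_⟩
  rw [(hgr.symm.zpow_left (-i)).mul_pow, hgp', ← zpow_natCast, ← zpow_mul, mul_comm, zpow_mul,
    zpow_natCast, ← htdef, zpow_neg, hi, inv_mul_cancel]

/-- If `C / E` is not cyclic and some `g ∉ C` has `g ^ p ∈ E`, the special configuration occurs. -/
theorem special_of_not_isCyclic [Finite G] (hp : p ≠ 2) (hG : IsPGroup p G) {g : G} (hg : g ∉ C)
    (hgp : g ^ p ∈ E) (hcyc : haveI := F.normal; ¬ IsCyclic ↥(C.map (QuotientGroup.mk' E))) :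
    Special p E C := by
  classical
  have hpp : p.Prime := Fact.out
  haveI := F.normal
  haveI := F.cnormal
  set π := QuotientGroup.mk' E
  haveI : (C.map π).Normal := Subgroup.Normal.map inferInstance _ (QuotientGroup.mk'_surjective E)
  obtain ⟨A', hA'C, hA'n, hA'e, hA'2⟩ :=
    CfsgLib.PLocal.exists_normal_elementary_sq hp (hG.to_quotient E) (C.map π) hcyc
  obtain ⟨hA'c, hA'p⟩ := CfsgLib.Base.isElementaryAbelian_iff.1 hA'e
  set A := A'.comap π
  haveI : A.Normal := inferInstance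
  have hπ : ∀ u, π u = 1 ↔ u ∈ E := fun u => QuotientGroup.eq_one_iff u
  have hAC : A ≤ C := fun a ha => by
    obtain ⟨c, hc, hca⟩ := hA'C ha
    have : c⁻¹ * a ∈ E := (hπ _).1 (by rw [map_mul, map_inv, hca, inv_mul_cancel])
    simpa using mul_mem hc (F.le this)
  have hAp : ∀ a ∈ A, a ^ p ∈ E := fun a ha => (hπ _).1 (by rw [map_pow]; exact hA'p _ ha)
  have hAc : ∀ a ∈ A, ∀ b ∈ A, ⁅a, b⁆ ∈ E := fun a ha b hb => (hπ _).1 (by
    rw [map_commutatorElement, commutatorElement_eq_one_iff_mul_comm]; exact hA'c _ ha _ hb)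
  obtain ⟨y, hy, hyc⟩ := exists_not_mem_center F hG
  -- `p`-th powers identify `A / E` with `E`
  have hout : ∀ q : A', (q : G ⧸ E).out ∈ A := fun q => by
    change π _ ∈ A'
    rw [show π (q : G ⧸ E).out = q from QuotientGroup.out_eq' _]
    exact q.2
  let f : A' → E := fun q => ⟨(q : G ⧸ E).out ^ p, hAp _ (hout q)⟩
  have hf : Function.Injective f := fun q q' h => by
    have h1 := root_unique F hp hG (hAC (hout q)) (hAC (hout q')) (congrArg Subtype.val h)
    have h2 : ((q : G ⧸ E).out : G ⧸ E) = ((q' : G ⧸ E).out : G ⧸ E) := QuotientGroup.eq.2 h1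
    rw [QuotientGroup.out_eq', QuotientGroup.out_eq'] at h2
    exact Subtype.ext h2
  obtain ⟨q, hq⟩ := ((Nat.bijective_iff_injective_and_card f).2 ⟨hf, hA'2.trans F.card.symm⟩).2 ⟨y, hy⟩
  set a := (q : G ⧸ E).out
  have haA : a ∈ A := hout q
  have hay : a ^ p = y := congrArg Subtype.val hq
  set b := ⁅g, a⁆ with hbdef
  have hga : g * a * g⁻¹ = b * a := by rw [hbdef, commutatorElement_def]; group
  have hbA : b ∈ A := by
    rw [hbdef, commutatorElement_def]
    exact mul_mem (Subgroup.Normal.conj_mem inferInstance a haA g) (inv_mem haA)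
  have hbC := hAC hbA
  obtain ⟨k2, hk2⟩ := hpp.dvd_choose_self two_ne_zero (lt_of_le_of_ne hpp.two_le (Ne.symm hp))
  have hbp : b ^ p = ⁅g, y⁆ := by
    have h1 : (b * a) ^ p = b ^ p * a ^ p * ⁅a, b⁆ ^ p.choose 2 :=
      CfsgLib.PGroups.mul_pow_of_commute (F.comm b hbC _ (hAc a haA b hbA)).symm
        (F.comm a (hAC haA) _ (hAc a haA b hbA)).symm p
    rw [← hga, conj_pow, hk2, pow_mul, F.pow _ (hAc a haA b hbA), one_pow, mul_one, hay] at h1
    rw [commutatorElement_def, h1, mul_inv_cancel_right]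
  obtain ⟨hbpE, hbpc⟩ := commutator_mem_line F hG g hy
  have hbp1 : b ^ p ≠ 1 := hbp ▸ commutator_ne_one F hg hy hyc
  set c := ⁅g, b⁆ with hcdef
  have hcE : c ∈ E := commutator_mem_of_pow_comm F hp hG hbC (hbp ▸ mem_center_iff.1 hbpc g)
  obtain ⟨hdE, hdc⟩ := commutator_mem_line F hG g hcE
  set d := ⁅g, c⁆ with hddef
  have key := conj_iterate hga (c := c) (d := d) (by rw [hcdef, commutatorElement_def]; group)
    (by rw [hddef, commutatorElement_def]; group)
    (by rw [mem_center_iff.1 hdc g, mul_inv_cancel_right])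
    (F.comm b hbC c hcE).symm (mem_center_iff.1 hdc c).symm p
  rw [show g ^ p * a * (g ^ p)⁻¹ = a by
    rw [(F.comm a (hAC haA) _ hgp).symm.eq, mul_inv_cancel_right]] at key
  rw [right_eq_mul, hk2, pow_mul, F.pow c hcE, one_pow, mul_one] at key
  by_cases hp3 : p = 3
  swap
  · obtain ⟨k3, hk3⟩ := hpp.dvd_choose_self (k := 3) (by norm_num)
      (by have := hpp.two_le; omega)
    rw [hk3, pow_mul, F.pow d hdE, one_pow, one_mul] at key
    exact absurd key hbp1
  refine ⟨hp3, g, hg, b, hbC, hgp, hbp ▸ hbpE, hcE, fun h => hbp1 ?_⟩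
  rwa [show d = 1 from commutatorElement_eq_one_iff_commute.2 (mem_center_iff.1 h g), one_pow,
    one_mul] at key

/-- The special configuration forces maximal class. -/
theorem nilpotencyClass_of_special [Finite G] {n : ℕ} (hp : p ≠ 2) (hn : Nat.card G = p ^ n)
    (h : Special p E C) : Group.nilpotencyClass G = n - 1 := by
  classical
  have hpp : p.Prime := Fact.out
  have hG : IsPGroup p G := IsPGroup.of_card hn
  obtain ⟨-, g, hg, v, hv, hgp, hvp, hc, hcc⟩ := h
  set c := ⁅g, v⁆ with hcdef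
  have hvp1 : v ^ p ≠ 1 := fun h => hcc (commutator_mem_line F hG g (F.omega v hv h)).2
  have hvpc : v ^ p ∈ center G := mem_center_of_commute F hg (fun x hx => F.comm x hx _ hvp)
    (pow_comm_of_commutator_mem F hv hc)
  have hE : ∀ e ∈ E, Commute g e → e ∈ E ⊓ center G := fun e he h =>
    ⟨he, mem_center_of_commute F hg (fun x hx => F.comm x hx e he) h⟩
  have key : ∀ (j : ℕ), ∀ u ∈ C, u ^ p ^ j ∈ E → Commute g u → u ∈ E := by
    intro j
    induction j with
    | zero => intro u _ h _; simpa using h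
    | succ j ih =>
      intro u hu huj hgu
      have hupE : u ^ p ∈ E := ih _ (pow_mem hu p) (by rwa [← pow_mul, ← pow_succ'])
        (hgu.pow_right p)
      by_contra huE
      have hup : u ^ p ∈ zpowers (v ^ p) := by
        rw [zpowers_eq_line F hG hvp hvpc hvp1]; exact hE _ hupE (hgu.pow_right p)
      obtain ⟨i, hi⟩ := mem_zpowers_iff.1 hup
      set e := (v ^ i)⁻¹ * u with hedef
      have he : e ∈ E := root_unique F hp hG (zpow_mem hv i) hu (by
        rw [← hi, ← zpow_natCast, ← zpow_natCast, ← zpow_mul, ← zpow_mul, mul_comm])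
      have hci : c ^ i ∈ center G := by
        obtain ⟨-, he'⟩ := commutator_mem_line F hG g he
        have h1 : c ^ i * v ^ i * (g * e * g⁻¹) = v ^ i * e := by
          have h2 : g * (v ^ i * e) * g⁻¹ = v ^ i * e := by
            rw [show v ^ i * e = u by rw [hedef, mul_inv_cancel_left], hgu.eq, mul_inv_cancel_right]
          rw [← ((F.comm v hv c hc).symm).mul_zpow, show c * v = g * v * g⁻¹ by
            rw [hcdef, commutatorElement_def]; group, conj_zpow]
          rw [← h2]; group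
        have h3 : c ^ i = v ^ i * ⁅g, e⁆⁻¹ * (v ^ i)⁻¹ := by
          rw [eq_mul_inv_iff_mul_eq, eq_mul_inv_iff_mul_eq.2 h1, commutatorElement_def]; group
        rw [h3, mem_center_iff.1 (inv_mem he') (v ^ i), mul_inv_cancel_right]
        exact inv_mem he'
      obtain ⟨i', rfl⟩ := dvd_of_zpow_mem_of_pow_mem
        (by rw [F.pow c hc]; exact one_mem _) hci hcc
      refine huE (F.omega u hu ?_)
      rw [← hi, zpow_mul, zpow_natCast, F.pow _ hvp, one_zpow]
  -- the centralizer of `g` has order `p ^ 2`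
  set A := centralizer ({g} : Set G) with hAdef
  have hgA : g ∈ A := mem_centralizer_singleton_iff.2 rfl
  have hAC : A ⊓ C = E ⊓ center G := by
    refine le_antisymm ?_ fun u hu =>
      ⟨mem_centralizer_singleton_iff.2 (mem_center_iff.1 hu.2 g).symm, F.le hu.1⟩
    rintro u ⟨hu, huC⟩
    have hgu : Commute g u := (mem_centralizer_singleton_iff.1 hu).symm
    obtain ⟨j, hj⟩ := hG u
    exact hE u (key j u huC (by rw [hj]; exact one_mem E) hgu) hgu
  have hAcard : Nat.card A = p ^ 2 := by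
    haveI := F.cnormal
    have h1 := CfsgLib.Base.card_sup_mul_card_inf A C
    rw [hAC, card_line F hG, show A ⊔ C = ⊤ from top_le_iff.1 ((sup_zpowers_eq_top F hg).ge.trans
      (sup_le le_sup_right (zpowers_le.2 (mem_sup_left hgA)))), card_top,
      ← C.card_mul_index, F.index] at h1
    refine Nat.eq_of_mul_eq_mul_right (Nat.card_pos (α := C)) ?_
    rw [← h1]; ring
  haveI : IsMulCommutative A := IsPGroup.isMulCommutative_of_card_eq_prime_sq hAcard
  refine CfsgLib.PGroups.maximalClass_of_centralizer_eq (p := p) hn hAcard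
    (le_antisymm ?_ ((isMulCommutative_iff_le_centralizer A).1 inferInstance))
  exact centralizer_le (Set.singleton_subset_iff.2 hgA)

/-- If `C / E` is cyclic and some `g ∉ C` has order `p`, `G` lies in one of the two families. -/
theorem families_of_isCyclic [Finite G] {n : ℕ} (hp : p ≠ 2) (hn : Nat.card G = p ^ n) {g : G}
    (hg : g ∉ C) (hgp : g ^ p = 1)
    (hcyc : haveI := F.normal; IsCyclic ↥(C.map (QuotientGroup.mk' E))) :
    (3 ≤ n ∧ ∃ x y z : G, Subgroup.closure ({x, y, z} : Set G) = ⊤ ∧ x ^ p = 1 ∧ y ^ p = 1 ∧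
        z ^ p ^ (n - 2) = 1 ∧ x * z = z * x ∧ y * z = z * y ∧
        x⁻¹ * y * x = y * z ^ p ^ (n - 3)) ∨
    (4 ≤ n ∧ ∃ (s : ℕ) (x y z : G), (s = 1 ∨ ¬ IsSquare (s : ZMod p)) ∧
        Subgroup.closure ({x, y, z} : Set G) = ⊤ ∧ x ^ p = 1 ∧ y ^ p = 1 ∧ z ^ p ^ (n - 2) = 1 ∧
        y * z = z * y ∧ x⁻¹ * y * x = y * z ^ (s * p ^ (n - 3)) ∧ x⁻¹ * z * x = y * z) := by
  classical
  have hpp : p.Prime := Fact.out
  have hG : IsPGroup p G := IsPGroup.of_card hn
  haveI := F.normal
  haveI := F.cnormal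
  set π := QuotientGroup.mk' E
  have hπ : ∀ u, π u = 1 ↔ u ∈ E := fun u => QuotientGroup.eq_one_iff u
  obtain ⟨k, hk⟩ := IsPGroup.iff_card.1 ((hG.to_quotient E).to_subgroup (C.map π))
  have hCk : Nat.card C = p ^ (k + 2) := by
    have h1 := Subgroup.card_eq_card_quotient_mul_card_subgroup (E.subgroupOf C)
    have h2 : (E.subgroupOf C).index = p ^ k := by
      rw [← hk, ← relIndex_ker, QuotientGroup.ker_mk']
      rfl
    rw [← Subgroup.index_eq_card, h2, CfsgLib.Base.card_subgroupOf F.le, F.card] at h1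
    rw [h1, pow_add]
  have hnk : n = k + 3 := by
    have := C.card_mul_index
    rw [hCk, F.index, hn, ← pow_succ] at this
    exact (Nat.pow_right_injective hpp.two_le this).symm
  have hpk : ∀ u ∈ C, u ^ p ^ k ∈ E := fun u hu => (hπ _).1 (by
    have h1 : (⟨π u, mem_map_of_mem π hu⟩ : C.map π) ^ p ^ k = 1 := by
      rw [← hk]; exact pow_card_eq_one'
    simpa using congrArg Subtype.val h1)
  obtain ⟨w, hwC, hgen, hw0⟩ : ∃ w ∈ C, (∀ u ∈ C, ∃ e ∈ E, ∃ i : ℤ, u = e * w ^ i) ∧
      (k = 0 → w ∈ center G ∧ w ≠ 1) := by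
    rcases Nat.eq_zero_or_pos k with rfl | hk0
    · obtain ⟨z, hz, hz1⟩ : ∃ z ∈ E ⊓ center G, z ≠ (1 : G) := by
        by_contra! h
        have := card_line F hG
        rw [(eq_bot_iff_forall _).2 h, card_bot] at this
        exact hpp.ne_one this.symm
      exact ⟨z, F.le hz.1, fun u hu => ⟨u, by simpa using hpk u hu, 0, by simp⟩,
        fun _ => ⟨hz.2, hz1⟩⟩
    · obtain ⟨⟨_, w, hw, rfl⟩, hq⟩ := IsCyclic.exists_generator (α := C.map π)
      refine ⟨w, hw, fun u hu => ?_, fun h => absurd h hk0.ne'⟩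
      obtain ⟨i, hi⟩ := mem_zpowers_iff.1 (hq ⟨π u, mem_map_of_mem π hu⟩)
      have hi' : π w ^ i = π u := congrArg Subtype.val hi
      refine ⟨u * (w ^ i)⁻¹, (hπ _).1 ?_, i, by rw [inv_mul_cancel_right]⟩
      rw [map_mul, map_inv, map_zpow, hi', mul_inv_cancel]
  have hab : ∀ u ∈ C, ∀ u' ∈ C, Commute u u' := by
    intro u hu u' hu'
    obtain ⟨e, he, i, rfl⟩ := hgen u hu
    obtain ⟨e', he', i', rfl⟩ := hgen u' hu'
    exact Commute.mul_left
      (Commute.mul_right (F.comm e (F.le he) e' he') (F.comm _ (zpow_mem hwC i') e he).symm)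
      (Commute.mul_right (F.comm _ (zpow_mem hwC i) e' he')
        (((Commute.refl w).zpow_left i).zpow_right i'))
  -- the `p ^ k`-th power of `w` generates the central line
  have hw1 : w ^ p ^ k ≠ 1 := by
    rcases Nat.eq_zero_or_pos k with rfl | hk0
    · simpa using (hw0 rfl).2
    intro h
    obtain ⟨k', rfl⟩ : ∃ k', k = k' + 1 := ⟨k - 1, by omega⟩
    have h1 : w ^ p ^ k' ∈ E := F.omega _ (pow_mem hwC _) (by rw [← pow_mul, ← pow_succ, h])
    have h2 : Nat.card (C.map π) ≤ Nat.card (zpowers (π w)) := by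
      refine card_le_of_le ?_
      rintro _ ⟨u, hu, rfl⟩
      obtain ⟨e, he, i, rfl⟩ := hgen u hu
      exact mem_zpowers_iff.2 ⟨i, by rw [map_mul, (hπ e).2 he, one_mul, map_zpow]⟩
    rw [hk, Nat.card_zpowers] at h2
    have h3 := Nat.le_of_dvd (pow_pos hpp.pos _)
      (orderOf_dvd_of_pow_eq_one (by rw [← map_pow, (hπ _).2 h1] : π w ^ p ^ k' = 1))
    exact absurd (h2.trans h3) (not_le.2 (Nat.pow_lt_pow_right hpp.one_lt k'.lt_succ_self))
  set z0 := w ^ p ^ k with hz0
  have hz0E : z0 ∈ E := hpk w hwC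
  have hz0c : z0 ∈ center G := by
    rcases Nat.eq_zero_or_pos k with rfl | hk0
    · simpa [hz0] using (hw0 rfl).1
    by_contra hnc
    obtain ⟨e, he, i, hi⟩ := hgen _ (F.cnormal.conj_mem w hwC g)
    have h1 : g * z0 * g⁻¹ = z0 ^ i := by
      rw [hz0, ← conj_pow, hi, ((hab e (F.le he) _ hwC).zpow_right i).mul_pow,
        show e ^ p ^ k = 1 by
          obtain ⟨k', rfl⟩ : ∃ k', k = k' + 1 := ⟨k - 1, by omega⟩
          rw [pow_succ', pow_mul, F.pow e he, one_pow],
        one_mul, ← zpow_natCast, ← zpow_mul, ← zpow_natCast w (p ^ k), ← zpow_mul, mul_comm]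
    obtain ⟨-, h3⟩ := commutator_mem_line F hG g hz0E
    rw [show ⁅g, z0⁆ = z0 ^ (i - 1) by rw [commutatorElement_def, h1, zpow_sub_one]] at h3
    obtain ⟨j, hj⟩ := dvd_of_zpow_mem_of_pow_mem (by rw [F.pow _ hz0E]; exact one_mem _) h3 hnc
    refine hnc (mem_center_of_commute F hg (fun c hc => F.comm c hc _ hz0E) ?_)
    refine (mul_inv_eq_iff_eq_mul.1 (h1.trans ?_) : g * z0 = z0 * g)
    rw [show i = (p : ℤ) * j + 1 by omega, zpow_add, zpow_mul, zpow_natCast, F.pow _ hz0E, one_zpow,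
      one_mul, zpow_one]
  -- commutators with `g` fall into `E`
  have hmul : ∀ u ∈ C, ∀ u' ∈ C, ⁅g, u * u'⁆ = ⁅g, u⁆ * ⁅g, u'⁆ := by
    intro u hu u' hu'
    have h1 : ⁅g, u'⁆ ∈ C := by
      rw [commutatorElement_def]; exact mul_mem (F.cnormal.conj_mem u' hu' g) (inv_mem hu')
    rw [show ⁅g, u * u'⁆ = ⁅g, u⁆ * (u * ⁅g, u'⁆ * u⁻¹) by simp only [commutatorElement_def]; group,
      (hab u hu _ h1).eq, mul_inv_cancel_right]
  have hline : ∀ u ∈ C, u ^ p ∈ E → u ^ p ∈ zpowers z0 := by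
    intro u hu hup
    obtain ⟨e, he, i, rfl⟩ := hgen u hu
    rw [((hab e (F.le he) _ hwC).zpow_right i).mul_pow, F.pow e he, one_mul] at hup ⊢
    rcases Nat.eq_zero_or_pos k with rfl | hk0
    · rw [hz0, pow_zero, pow_one]
      exact pow_mem (zpow_mem (mem_zpowers w) i) p
    have h1 : π w ^ (i * p) = 1 := by
      rw [← map_zpow, zpow_mul, zpow_natCast, (hπ _).2 hup]
    have h2 : orderOf (π w) = p ^ k := by
      refine Nat.dvd_antisymm (orderOf_dvd_of_pow_eq_one (by
        rw [← map_pow]; exact (hπ _).2 (hpk w hwC))) ?_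
      rw [← hk, ← Nat.card_zpowers]
      refine card_dvd_of_le ?_
      rintro _ ⟨u, hu, rfl⟩
      obtain ⟨e, he, i, rfl⟩ := hgen u hu
      exact mem_zpowers_iff.2 ⟨i, by rw [map_mul, (hπ e).2 he, one_mul, map_zpow]⟩
    obtain ⟨j, hj⟩ := h2 ▸ orderOf_dvd_iff_zpow_eq_one.2 h1
    refine mem_zpowers_iff.2 ⟨j, ?_⟩
    rw [hz0, ← zpow_natCast, ← zpow_mul, ← hj, zpow_mul, zpow_natCast]
  have hhE : ∀ (j : ℕ), ∀ u ∈ C, u ^ p ^ j ∈ E → ⁅g, u⁆ ∈ E := by
    intro j
    induction j with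
    | zero => intro u _ h; exact (commutator_mem_line F hG g (by simpa using h)).1
    | succ j ih =>
      intro u hu huj
      by_cases huE : u ∈ E
      · exact (commutator_mem_line F hG g huE).1
      set b := ⁅g, u⁆ with hb
      have hbC : b ∈ C := by
        rw [hb, commutatorElement_def]; exact mul_mem (F.cnormal.conj_mem u hu g) (inv_mem hu)
      have hbp : b ^ p ∈ E := by
        have h1 : b ^ p = ⁅g, u ^ p⁆ := by
          rw [commutatorElement_def, ← conj_pow, ← inv_pow,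
            ← ((hab _ (F.cnormal.conj_mem u hu g) _ hu).inv_right).mul_pow, hb, commutatorElement_def]
        rw [h1]; exact ih _ (pow_mem hu p) (by rwa [← pow_mul, ← pow_succ'])
      have hbpc : b ^ p ∈ center G :=
        (zpowers_le.2 hz0c : zpowers z0 ≤ center G) (hline b hbC hbp)
      by_contra hbE
      set c := ⁅g, b⁆ with hc
      have hcE : c ∈ E := commutator_mem_of_pow_comm F hp hG hbC (mem_center_iff.1 hbpc g)
      -- `b` is a power of `u` modulo `E`
      obtain ⟨e, he, m, hbm⟩ : ∃ e ∈ E, ∃ m : ℤ, b = e * u ^ m := by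
        set q : C.map π := ⟨π u, mem_map_of_mem π hu⟩ with hqdef
        have hq1 : q ≠ 1 := fun h => huE ((hπ u).1 (congrArg Subtype.val h))
        obtain ⟨l, hl⟩ := IsPGroup.iff_orderOf.1 ((hG.to_quotient E).to_subgroup (C.map π)) q
        obtain ⟨l', rfl⟩ : ∃ l', l = l' + 1 := ⟨l - 1, by
          have : l ≠ 0 := fun h0 => hq1 (orderOf_eq_one_iff.1 (by rw [hl, h0, pow_zero]))
          omega⟩
        have hr : orderOf (q ^ p ^ l') = p := by
          rw [orderOf_pow' _ (pow_ne_zero _ hpp.ne_zero), hl,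
            Nat.gcd_eq_right (pow_dvd_pow p l'.le_succ), pow_succ,
            Nat.mul_div_cancel_left _ (pow_pos hpp.pos _)]
        obtain ⟨m, hm⟩ := mem_zpowers_iff.1
          (CfsgLib.PLocal.isCyclic_mem_zpowers_of_pow_eq_one ((hG.to_quotient E).to_subgroup _) hr
            (y := (⟨π b, mem_map_of_mem π hbC⟩ : C.map π))
            (Subtype.ext (by simpa using (hπ _).2 hbp)))
        rw [← zpow_natCast, ← zpow_mul] at hm
        have hm' : π u ^ (((p ^ l' : ℕ) : ℤ) * m) = π b := congrArg Subtype.val hm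
        refine ⟨b * (u ^ (((p ^ l' : ℕ) : ℤ) * m))⁻¹, (hπ _).1 ?_, _, by rw [inv_mul_cancel_right]⟩
        rw [map_mul, map_inv, map_zpow, hm', mul_inv_cancel]
      have hbz : ∀ i : ℤ, ⁅g, u ^ i⁆ = b ^ i := fun i => by
        rw [commutatorElement_def, ← conj_zpow, ← inv_zpow,
          ← ((hab _ (F.cnormal.conj_mem u hu g) _ hu).inv_right).mul_zpow, hb, commutatorElement_def]
      have hce : c = ⁅g, e⁆ * b ^ m := by
        rw [hc]; nth_rw 1 [hbm]
        rw [hmul e (F.le he) _ (zpow_mem hu m), hbz]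
      have hbmE : b ^ m ∈ E := by
        rw [show b ^ m = ⁅g, e⁆⁻¹ * c by rw [hce, inv_mul_cancel_left]]
        exact mul_mem (inv_mem (commutator_mem_line F hG g he).1) hcE
      obtain ⟨m', hm'⟩ := dvd_of_zpow_mem_of_pow_mem hbp hbmE hbE
      have hcc : c ∈ center G := by
        rw [hce, hm', zpow_mul, zpow_natCast]
        exact mul_mem (commutator_mem_line F hG g he).2 (zpow_mem hbpc _)
      obtain ⟨k2, hk2⟩ := hpp.dvd_choose_self two_ne_zero (lt_of_le_of_ne hpp.two_le (Ne.symm hp))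
      have key := conj_iterate (g := g) (a := u) (b := b) (c := c) (d := 1)
        (by rw [hb, commutatorElement_def]; group) (by rw [hc, commutatorElement_def]; group)
        (by rw [one_mul, mem_center_iff.1 hcc g, mul_inv_cancel_right]) (by group)
        (F.comm b hbC c hcE).symm (Commute.one_left c) p
      rw [hgp, one_mul, inv_one, mul_one, one_pow, one_mul, hk2, pow_mul, F.pow c hcE, one_pow,
        one_mul, right_eq_mul] at key
      exact hbE (F.omega b hbC key)
  set b := ⁅g, w⁆ with hb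
  have hbE : b ∈ E := hhE k w hwC (hpk w hwC)
  have hgw : g * w * g⁻¹ = b * w := by rw [hb, commutatorElement_def]; group
  have hordw : w ^ p ^ (k + 1) = 1 := by rw [pow_succ, pow_mul]; exact F.pow _ hz0E
  -- generation
  have hgenTop : ∀ (x y z : G), x ∉ C → y ∈ E → y ∉ center G → z0 ∈ zpowers z →
      (∃ i : ℤ, w ∈ zpowers z ⊔ zpowers y ∨ w = z * y ^ i) →
      Subgroup.closure ({x, y, z} : Set G) = ⊤ := by
    intro x y z hx hy hyc hz0z hwz
    set S := Subgroup.closure ({x, y, z} : Set G)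
    have hyS : y ∈ S := subset_closure (by simp)
    have hzS : z ∈ S := subset_closure (by simp)
    have hES : E ≤ S := by
      have hlt : zpowers z0 < zpowers z0 ⊔ zpowers y := left_lt_sup.2 fun h =>
        hyc ((zpowers_le.2 hz0c : zpowers z0 ≤ center G) (h (mem_zpowers y)))
      have hle : zpowers z0 ⊔ zpowers y ≤ E := sup_le (zpowers_le.2 hz0E) (zpowers_le.2 hy)
      have heq : zpowers z0 ⊔ zpowers y = E := by
        refine eq_of_le_of_card_ge hle ?_
        have h1 := CfsgLib.PLocal.card_lt_of_lt hlt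
        rw [Nat.card_zpowers, orderOf_eq_prime (F.pow _ hz0E) hw1] at h1
        obtain ⟨i, hi⟩ := IsPGroup.iff_card.mp (hG.to_subgroup (zpowers z0 ⊔ zpowers y))
        rw [hi, F.card]
        rw [hi] at h1
        exact Nat.pow_le_pow_right hpp.pos
          ((Nat.pow_lt_pow_iff_right hpp.one_lt).1 (by rwa [pow_one]))
      rw [← heq]
      exact sup_le (zpowers_le.2 ((zpowers_le.2 hzS : zpowers z ≤ S) hz0z)) (zpowers_le.2 hyS)
    have hwS : w ∈ S := by
      obtain ⟨i, h | rfl⟩ := hwz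
      · exact (sup_le (zpowers_le.2 hzS) (zpowers_le.2 hyS) : _ ≤ S) h
      · exact mul_mem hzS (zpow_mem hyS i)
    rw [eq_top_iff, ← sup_zpowers_eq_top F hx]
    refine sup_le (fun u hu => ?_) (zpowers_le.2 (subset_closure (by simp)))
    obtain ⟨e, he, i, rfl⟩ := hgen u hu
    exact mul_mem (hES he) (zpow_mem hwS i)
  by_cases hbc : b ∈ center G
  · left
    refine ⟨by omega, ?_⟩
    obtain ⟨y0, hy0, hy0c⟩ := exists_not_mem_center F hG
    obtain ⟨hs1, hs2⟩ := commutator_mem_line F hG g hy0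
    set s1 := ⁅g, y0⁆ with hs
    have hs0 : s1 ≠ 1 := commutator_ne_one F hg hy0 hy0c
    have hZ := zpowers_eq_line F hG hs1 hs2 hs0
    obtain ⟨j, hj⟩ := mem_zpowers_iff.1 (hZ.ge ⟨hz0E, hz0c⟩ : z0 ∈ zpowers s1)
    set y := y0 ^ j with hy
    have hgy : g * y * g⁻¹ = z0 * y := by
      rw [hy, ← conj_zpow, show g * y0 * g⁻¹ = s1 * y0 by rw [hs, commutatorElement_def]; group,
        (F.comm y0 (F.le hy0) s1 hs1).symm.mul_zpow, hj]
    have hyE : y ∈ E := zpow_mem hy0 j
    have hyc : y ∉ center G := fun h => hw1 (by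
      have := mem_center_iff.1 h g
      rw [this, mul_inv_cancel_right] at hgy
      exact right_eq_mul.1 hgy)
    obtain ⟨i, hi, hik⟩ : ∃ i : ℤ, z0 ^ i = b ∧ (y ^ i) ^ p ^ k = 1 := by
      rcases Nat.eq_zero_or_pos k with h0 | hk0
      · refine ⟨0, ?_, by simp⟩
        rw [zpow_zero, hb, commutatorElement_eq_one_iff_commute.2
          (mem_center_iff.1 (hw0 h0).1 g)]
      · obtain ⟨i, hi⟩ := mem_zpowers_iff.1
          ((zpowers_eq_line F hG hz0E hz0c hw1).ge ⟨hbE, hbc⟩ : b ∈ zpowers z0)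
        refine ⟨i, hi, ?_⟩
        obtain ⟨k', rfl⟩ : ∃ k', k = k' + 1 := ⟨k - 1, by omega⟩
        rw [pow_succ', pow_mul, F.pow _ (zpow_mem hyE i), one_pow]
    set z := w * (y ^ i)⁻¹ with hz
    have hzk : z ^ p ^ k = z0 := by
      rw [hz, (hab w hwC _ (inv_mem (zpow_mem (F.le hyE) i))).mul_pow, inv_pow, hik, inv_one,
        mul_one]
    have hgz : g * z * g⁻¹ = z := by
      calc g * z * g⁻¹ = g * w * g⁻¹ * ((g * y * g⁻¹) ^ i)⁻¹ := by rw [hz, conj_zpow]; group
        _ = b * w * (b * y ^ i)⁻¹ := by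
          rw [hgw, hgy, (Commute.symm (mem_center_iff.1 hz0c y)).mul_zpow, hi]
        _ = z := by
          rw [hz, mul_inv_rev, (mem_center_iff.1 hbc w).symm,
            (mem_center_iff.1 (inv_mem hbc) (y ^ i)⁻¹)]
          group
    refine ⟨g⁻¹, y, z, hgenTop _ y z (fun h => hg (inv_mem_iff.1 h)) hyE hyc
      (mem_zpowers_iff.2 ⟨((p ^ k : ℕ) : ℤ), by rw [zpow_natCast, hzk]⟩)
      ⟨i, Or.inr (by rw [hz, inv_mul_cancel_right])⟩,
      by rw [inv_pow, hgp, inv_one], F.pow y hyE, ?_, ?_,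
      (hab y (F.le hyE) z (mul_mem hwC (inv_mem (zpow_mem (F.le hyE) i)))).eq, ?_⟩
    · rw [show n - 2 = k + 1 by omega, pow_succ, pow_mul, hzk, F.pow _ hz0E]
    · exact (Commute.inv_left (mul_inv_eq_iff_eq_mul.1 hgz : g * z = z * g)).eq
    · rw [show n - 3 = k by omega, hzk, inv_inv, hgy, mem_center_iff.1 hz0c y]
  · right
    have hk1 : 1 ≤ k := by
      by_contra h0
      refine hbc ?_
      rw [hb, commutatorElement_eq_one_iff_commute.2 (mem_center_iff.1 (hw0 (by omega)).1 g)]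
      exact one_mem _
    refine ⟨by omega, ?_⟩
    obtain ⟨hcE, hcc⟩ := commutator_mem_line F hG g hbE
    set c := ⁅g, b⁆ with hc
    have hc1 : c ≠ 1 := commutator_ne_one F hg hbE hbc
    obtain ⟨s, hs⟩ : ∃ s : ℕ, z0 ^ s = c := by
      have : c ∈ zpowers z0 := (zpowers_eq_line F hG hz0E hz0c hw1).ge ⟨hcE, hcc⟩
      exact mem_powers_iff_mem_zpowers.2 this
    obtain ⟨m, s', hs', hm, hsm⟩ : ∃ m s' : ℕ, (s' = 1 ∨ ¬ IsSquare (s' : ZMod p)) ∧ ¬ p ∣ m ∧
        z0 ^ (s * (m * m)) = z0 ^ s' := by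
      by_cases hsq : IsSquare (s : ZMod p)
      · obtain ⟨r, hr⟩ := hsq
        have hs0 : (s : ZMod p) ≠ 0 := fun h => by
          rw [ZMod.natCast_eq_zero_iff] at h
          obtain ⟨s'', rfl⟩ := h
          exact hc1 (by rw [← hs, pow_mul, F.pow _ hz0E, one_pow])
        have hr0 : r ≠ 0 := fun h => hs0 (by rw [hr, h, mul_zero])
        refine ⟨(r⁻¹).val, 1, Or.inl rfl, fun h => inv_ne_zero hr0 ?_, ?_⟩
        · rw [← ZMod.natCast_zmod_val r⁻¹, (ZMod.natCast_eq_zero_iff _ _).2 h]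
        · rw [pow_eq_pow_iff_modEq, orderOf_eq_prime (F.pow _ hz0E) hw1,
            ← ZMod.natCast_eq_natCast_iff]
          push_cast
          rw [hr, ZMod.natCast_zmod_val]
          field_simp
      · exact ⟨1, s, Or.inr hsq, hpp.not_dvd_one, by simp⟩
    -- replace `g` by `g ^ m`
    have hpm : ∀ {H : Subgroup G} {u : G}, u ^ p ∈ H → u ^ m ∈ H → u ∈ H := by
      intro H u h1 h2
      by_contra hu
      exact hm (Int.natCast_dvd_natCast.1
        (dvd_of_zpow_mem_of_pow_mem h1 (by rwa [zpow_natCast]) hu))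
    have hgm : g ^ m ∉ C := fun h => hg (hpm (by rw [hgp]; exact one_mem C) h)
    have hgc : g * c * g⁻¹ = c := by rw [mem_center_iff.1 hcc g, mul_inv_cancel_right]
    have hgb : g * b * g⁻¹ = c * b := by rw [hc, commutatorElement_def]; group
    have e1 : g ^ m * w * (g ^ m)⁻¹ = c ^ m.choose 2 * b ^ m * w := by
      simpa using conj_iterate (d := (1 : G)) hgw hgb (by simpa using hgc) (by group)
        (F.comm b (F.le hbE) c hcE).symm (Commute.one_left c) m
    have e2 : g ^ m * b * (g ^ m)⁻¹ = c ^ m * b := by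
      simpa using conj_iterate (c := (1 : G)) (d := (1 : G)) hgb (by simpa using hgc) (by group)
        (by group) (Commute.one_left c) (Commute.one_left _) m
    have e3 : g ^ m * c * (g ^ m)⁻¹ = c := by
      rw [mem_center_iff.1 hcc (g ^ m), mul_inv_cancel_right]
    set y := c ^ m.choose 2 * b ^ m with hy
    have hyE : y ∈ E := mul_mem (pow_mem hcE _) (pow_mem hbE _)
    have hyc : y ∉ center G := fun h => hbc (hpm (by rw [F.pow b hbE]; exact one_mem _)
      (((center G).mul_mem_cancel_left (pow_mem hcc _)).1 h))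
    have e4 : g ^ m * y * (g ^ m)⁻¹ = z0 ^ s' * y := by
      calc g ^ m * y * (g ^ m)⁻¹
          = (g ^ m * c * (g ^ m)⁻¹) ^ m.choose 2 * (g ^ m * b * (g ^ m)⁻¹) ^ m := by
            rw [hy, conj_pow, conj_pow]; group
        _ = z0 ^ s' * y := by
            rw [e3, e2, (F.comm b (F.le hbE) c hcE).symm.pow_left m |>.mul_pow, ← hsm, pow_mul, hs, hy,
              ← pow_mul, ← mul_assoc, ← mul_assoc, ← pow_add, ← pow_add, add_comm]
    refine ⟨s', (g ^ m)⁻¹, y, w, hs',
      hgenTop _ y w (fun h => hgm (inv_mem_iff.1 h)) hyE hyc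
        (mem_zpowers_iff.2 ⟨((p ^ k : ℕ) : ℤ), by rw [zpow_natCast]⟩)
        ⟨0, Or.inl (mem_sup_left (mem_zpowers w))⟩,
      by rw [inv_pow, ← pow_mul, mul_comm, pow_mul, hgp, one_pow, inv_one], F.pow y hyE, ?_,
      (hab y (F.le hyE) w hwC).eq, ?_, ?_⟩
    · rw [show n - 2 = k + 1 by omega, hordw]
    · rw [show n - 3 = k by omega, mul_comm s', pow_mul, ← hz0, inv_inv, e4,
        mem_center_iff.1 (pow_mem hz0c s') y]
    · rw [inv_inv, e1]

/-- **Blackburn.** The `p`-groups of rank at most two, `p` odd, which are not metacyclic. -/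
theorem trichotomy [Finite G] {n : ℕ} (hp : p ≠ 2) (hn : Nat.card G = p ^ n)
    (hidx : ¬ (powerClosure p 1 (⊤ : Subgroup G)).index ≤ p ^ 2) :
    (3 ≤ n ∧ ∃ x y z : G, Subgroup.closure ({x, y, z} : Set G) = ⊤ ∧ x ^ p = 1 ∧ y ^ p = 1 ∧
        z ^ p ^ (n - 2) = 1 ∧ x * z = z * x ∧ y * z = z * y ∧
        x⁻¹ * y * x = y * z ^ p ^ (n - 3)) ∨
    (4 ≤ n ∧ ∃ (s : ℕ) (x y z : G), (s = 1 ∨ ¬ IsSquare (s : ZMod p)) ∧
        Subgroup.closure ({x, y, z} : Set G) = ⊤ ∧ x ^ p = 1 ∧ y ^ p = 1 ∧ z ^ p ^ (n - 2) = 1 ∧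
        y * z = z * y ∧ x⁻¹ * y * x = y * z ^ (s * p ^ (n - 3)) ∧ x⁻¹ * z * x = y * z) ∨
    (p = 3 ∧ Group.nilpotencyClass G = n - 1) := by
  have hG : IsPGroup p G := IsPGroup.of_card hn
  haveI := F.normal
  rcases outside_or_special F hp hG hidx with ⟨g, hg, hgp⟩ | h
  · by_cases hcyc : IsCyclic ↥(C.map (QuotientGroup.mk' E))
    · exact (families_of_isCyclic F hp hn hg hgp hcyc).imp_right Or.inl
    · have h := special_of_not_isCyclic F hp hG hg (hgp ▸ one_mem E) hcyc
      exact Or.inr (Or.inr ⟨h.1, nilpotencyClass_of_special F hp hn h⟩)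
  · exact Or.inr (Or.inr ⟨h.1, nilpotencyClass_of_special F hp hn h⟩)

end CfsgLib.PGroups.Blackburn
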