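import Cfsg.Prelude.Def_OddOrderLocal
import Cfsg.Agent.Lib.PGroups.UniqueOrderP

/-!
# Metacyclic p-groups for odd p

A presentation `MetaPres p a b n x y r`: every element is `x^i y^j`, two such elements commute iff
`p^n` divides a twisted determinant.
-/

set_option linter.unusedSectionVars false
set_option linter.style.haveILetI false

namespace CfsgLib.PGroups

open Subgroup
open scoped commutatorElement

variable {p : ℕ} [Fact p.Prime]

/-- `1 + r + ⋯ + r^(j-1)`. -/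
def geom (r : ℤ) (j : ℕ) : ℤ := ∑ i ∈ Finset.range j, r ^ i

@[simp] theorem geom_zero (r : ℤ) : geom r 0 = 0 := by simp [geom]

@[simp] theorem geom_one_right (r : ℤ) : geom r 1 = 1 := by simp [geom]

theorem geom_mul_sub_one (r : ℤ) (j : ℕ) : geom r j * (r - 1) = r ^ j - 1 := geom_sum_mul r j

theorem geom_add (r : ℤ) (j l : ℕ) : geom r (j + l) = geom r j + r ^ j * geom r l := by
  simp only [geom, Finset.sum_range_add, Finset.mul_sum, pow_add]

theorem geom_succ (r : ℤ) (j : ℕ) : geom r (j + 1) = geom r j + r ^ j := by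
  simp [geom, Finset.sum_range_succ]

theorem geom_mul (r : ℤ) (j q : ℕ) : geom r (j * q) = geom r j * geom (r ^ j) q := by
  induction q with
  | zero => simp
  | succ q ih => rw [Nat.mul_succ, geom_add, ih, geom_succ, ← pow_mul]; ring

theorem dvd_sub_one_pow {r : ℤ} (hr : (p : ℤ) ∣ r - 1) (j : ℕ) : (p : ℤ) ∣ r ^ j - 1 :=
  hr.trans (sub_one_dvd_pow_sub_one r j)

theorem dvd_geom_sub {r : ℤ} (hr : (p : ℤ) ∣ r - 1) (j : ℕ) : (p : ℤ) ∣ geom r j - j := by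
  induction j with
  | zero => simp
  | succ j ih =>
    rw [geom_succ, Nat.cast_succ, show geom r j + r ^ j - ((j : ℤ) + 1) = (geom r j - j) + (r ^ j - 1) by ring]
    exact dvd_add ih (dvd_sub_one_pow hr j)

theorem dvd_geom_iff {r : ℤ} (hr : (p : ℤ) ∣ r - 1) (j : ℕ) : (p : ℤ) ∣ geom r j ↔ p ∣ j := by
  rw [dvd_iff_dvd_of_dvd_sub (dvd_geom_sub hr j), Int.natCast_dvd_natCast]

theorem geom_prime (hp : p ≠ 2) {r : ℤ} (hr : (p : ℤ) ∣ r - 1) :
    ∃ u : ℤ, geom r p = p * u ∧ ¬ (p : ℤ) ∣ u := by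
  have hpp : p.Prime := Fact.out
  obtain ⟨t, ht⟩ := hr
  have h := odd_sq_dvd_geom_sum₂_sub (R := ℤ) (1 : ℤ) t (hpp.odd_of_ne_two hp)
  simp only [one_pow, mul_one] at h
  rw [show (1 : ℤ) + p * t = r by linear_combination -ht] at h
  obtain ⟨s, hs⟩ := h
  refine ⟨1 + p * s, ?_, fun hd => ?_⟩
  · show ∑ i ∈ Finset.range p, r ^ i = _
    linear_combination hs
  · have := dvd_sub hd (dvd_mul_right (p : ℤ) s)
    rw [add_sub_cancel_right] at this
    exact hpp.ne_one (by exact_mod_cast Int.eq_one_of_dvd_one (Int.natCast_nonneg p) this)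

theorem pow_dvd_geom_iff (hp : p ≠ 2) {r : ℤ} (hr : (p : ℤ) ∣ r - 1) (m j : ℕ) :
    (p : ℤ) ^ m ∣ geom r j ↔ p ^ m ∣ j := by
  have hpp : p.Prime := Fact.out
  induction m generalizing r j with
  | zero => simp
  | succ m ih =>
    by_cases hj : p ∣ j
    · obtain ⟨q, rfl⟩ := hj
      obtain ⟨u, hu, hnu⟩ := geom_prime hp hr
      have hr' := dvd_sub_one_pow hr p
      have hih : (p : ℤ) ^ m ∣ geom (r ^ p) q ↔ p ^ m ∣ q := ih hr' q
      rw [geom_mul, hu, pow_succ', pow_succ', mul_assoc, mul_dvd_mul_iff_left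
        (by exact_mod_cast hpp.ne_zero), mul_dvd_mul_iff_left hpp.ne_zero, ← hih]
      refine ⟨fun h => ?_, fun h => h.mul_left u⟩
      exact (((Nat.prime_iff_prime_int.mp hpp).coprime_iff_not_dvd.mpr hnu).pow_left).dvd_of_dvd_mul_left h
    · refine iff_of_false (fun h => hj ?_) (fun h => hj ((dvd_pow_self p (Nat.succ_ne_zero m)).trans h))
      exact (dvd_geom_iff hr j).mp ((dvd_pow_self _ (Nat.succ_ne_zero m)).trans h)

theorem pow_dvd_mul_geom_iff (hp : p ≠ 2) {r : ℤ} (hr : (p : ℤ) ∣ r - 1) (n j : ℕ) (k : ℤ) :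
    (p : ℤ) ^ n ∣ k * geom r j ↔ (p : ℤ) ^ n ∣ k * (j : ℤ) := by
  have hpp : p.Prime := Fact.out
  rcases eq_or_ne j 0 with rfl | hj
  · simp
  obtain ⟨m, q, hq, rfl⟩ := Nat.exists_eq_pow_mul_and_not_dvd hj p hpp.ne_one
  obtain ⟨q', hq'⟩ := (pow_dvd_geom_iff hp hr m (p ^ m * q)).mpr (dvd_mul_right _ _)
  have hnq' : ¬ (p : ℤ) ∣ q' := by
    rintro ⟨t, rfl⟩
    have h1 : p ^ (m + 1) ∣ p ^ m * q :=
      (pow_dvd_geom_iff hp hr (m + 1) (p ^ m * q)).mp ⟨t, by rw [hq', pow_succ]; ring⟩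
    rw [pow_succ] at h1
    exact hq (Nat.dvd_of_mul_dvd_mul_left (pow_pos hpp.pos m) h1)
  have hnq : ¬ (p : ℤ) ∣ (q : ℤ) := fun h => hq (Int.natCast_dvd_natCast.mp h)
  have aux : ∀ u v : ℤ, ¬ (p : ℤ) ∣ u → (p : ℤ) ^ n ∣ k * ((p : ℤ) ^ m * u) →
      (p : ℤ) ^ n ∣ k * ((p : ℤ) ^ m * v) := by
    intro u v hu h
    rw [← mul_assoc] at h
    rw [← mul_assoc]
    exact ((((Nat.prime_iff_prime_int.mp hpp).coprime_iff_not_dvd.mpr hu).pow_left).dvd_of_dvd_mul_right h).mul_right v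
  rw [hq', Nat.cast_mul, Nat.cast_pow]
  exact ⟨aux q' q hnq', aux q q' hnq⟩

variable {G : Type*} [Group G]

/-- Coordinates on a metacyclic p-group, p odd. -/
structure MetaPres (p a b n : ℕ) (x y : G) (r : ℤ) : Prop where
  odd : p ≠ 2
  ox : orderOf x = p ^ a
  n_le : n ≤ a
  conj : y * x * y⁻¹ = x ^ r
  rmod : (p : ℤ) ∣ r - 1
  comm_ord : ∀ k : ℤ, x ^ (k * (r - 1)) = 1 ↔ (p : ℤ) ^ n ∣ k
  mem : ∀ g : G, ∃ (i : ℤ) (j : ℕ), g = x ^ i * y ^ j
  y_mem : ∀ j : ℕ, y ^ j ∈ zpowers x ↔ p ^ b ∣ j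

theorem exists_metaPres [Finite G] (hp : p ≠ 2) (hG : IsPGroup p G) (hmc : Cfsg.IsMetacyclic G) :
    ∃ (a b n : ℕ) (x y : G) (r : ℤ), MetaPres p a b n x y r := by
  have hpp : p.Prime := Fact.out
  obtain ⟨N, hN, hNc, hQc⟩ := hmc
  obtain ⟨⟨x, hxN⟩, hxgen⟩ := IsCyclic.exists_generator (α := N)
  have hNeq : N = zpowers x := by
    refine le_antisymm (fun c hc => ?_) (zpowers_le.mpr hxN)
    obtain ⟨i, hi⟩ := Subgroup.mem_zpowers_iff.mp (hxgen ⟨c, hc⟩)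
    exact Subgroup.mem_zpowers_iff.mpr ⟨i, by simpa using congrArg Subtype.val hi⟩
  obtain ⟨Y, hY⟩ := IsCyclic.exists_generator (α := G ⧸ N)
  obtain ⟨y, rfl⟩ := QuotientGroup.mk'_surjective N Y
  obtain ⟨a, ha⟩ := IsPGroup.iff_orderOf.mp hG x
  obtain ⟨b, hb⟩ := IsPGroup.iff_orderOf.mp (hG.to_quotient N) (QuotientGroup.mk' N y)
  have hconjex : ∃ r : ℤ, y * x * y⁻¹ = x ^ r ∧ (p : ℤ) ∣ r - 1 := by
    have h1 := hN.conj_mem x hxN y
    rw [hNeq, Subgroup.mem_zpowers_iff] at h1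
    obtain ⟨r, hr⟩ := h1
    rcases Nat.eq_zero_or_pos a with ha0 | ha0
    · have hx1 : x = 1 := orderOf_eq_one_iff.mp (by rw [ha, ha0, pow_zero])
      exact ⟨1, by simp [hx1], by simp⟩
    refine ⟨r, hr.symm, ?_⟩
    obtain ⟨M, hM⟩ := IsPGroup.iff_orderOf.mp hG y
    have h2 := conj_zpow_iterate hr.symm (p ^ M)
    rw [← hM, pow_orderOf_eq_one, one_mul, inv_one, mul_one, hM] at h2
    have h3 : (orderOf x : ℤ) ∣ r ^ (p ^ M) - 1 :=
      orderOf_dvd_iff_zpow_eq_one.mpr (by rw [zpow_sub_one, ← h2, mul_inv_cancel])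
    rw [ha, Nat.cast_pow] at h3
    have h4 : (p : ℤ) ∣ r ^ (p ^ M) - 1 := (dvd_pow_self _ ha0.ne').trans h3
    rw [← ZMod.intCast_zmod_eq_zero_iff_dvd] at h4 ⊢
    push_cast at h4 ⊢
    rwa [ZMod.pow_card_pow] at h4
  obtain ⟨r, hr, hr1⟩ := hconjex
  obtain ⟨n, hn⟩ := IsPGroup.iff_orderOf.mp hG (x ^ (r - 1))
  refine ⟨a, b, n, x, y, r, hp, ha, ?_, hr, hr1, ?_, ?_, ?_⟩
  · refine (Nat.pow_dvd_pow_iff_le_right hpp.one_lt).mp (ha ▸ hn ▸ orderOf_dvd_of_mem_zpowers ?_)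
    exact zpow_mem (mem_zpowers x) _
  · intro k
    rw [mul_comm, zpow_mul, ← orderOf_dvd_iff_zpow_eq_one, hn, Nat.cast_pow]
  · intro g
    obtain ⟨j, hj⟩ := (mem_powers_iff_mem_zpowers.mpr (hY (QuotientGroup.mk' N g)))
    have hgy : g * (y ^ j)⁻¹ ∈ zpowers x := by
      rw [← hNeq, ← QuotientGroup.eq_one_iff, ← QuotientGroup.mk'_apply N, map_mul, map_inv, map_pow]
      exact mul_inv_eq_one.mpr hj.symm
    obtain ⟨i, hi⟩ := Subgroup.mem_zpowers_iff.mp hgy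
    exact ⟨i, j, by rw [hi, inv_mul_cancel_right]⟩
  · intro j
    rw [← hNeq, ← QuotientGroup.eq_one_iff, ← QuotientGroup.mk'_apply N, map_pow,
      ← orderOf_dvd_iff_pow_eq_one, hb]

/-- The elements with both coordinates divisible by `p^s`. -/
def metaLevel (p : ℕ) (x y : G) (s : ℕ) : Subgroup G :=
  Subgroup.closure {g | ∃ (i : ℤ) (j : ℕ), g = x ^ i * y ^ j ∧ (p : ℤ) ^ s ∣ i ∧ p ^ s ∣ j}

namespace MetaPres

variable {a b n : ℕ} {x y : G} {r : ℤ} (M : MetaPres p a b n x y r)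
include M

theorem zpow_eq_one_iff (k : ℤ) : x ^ k = 1 ↔ (p : ℤ) ^ a ∣ k := by
  rw [← orderOf_dvd_iff_zpow_eq_one, M.ox, Nat.cast_pow]

theorem swap (j : ℕ) (k : ℤ) : y ^ j * x ^ k = x ^ (k * r ^ j) * y ^ j := by
  have h := conj_zpow_iterate M.conj j
  have h2 : y ^ j * x ^ k * (y ^ j)⁻¹ = x ^ (k * r ^ j) := by
    rw [← conj_zpow, h, ← zpow_mul, mul_comm]
  rw [← h2, inv_mul_cancel_right]

theorem mul_formula (i k : ℤ) (j l : ℕ) :
    (x ^ i * y ^ j) * (x ^ k * y ^ l) = x ^ (i + k * r ^ j) * y ^ (j + l) := by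
  rw [mul_assoc, ← mul_assoc (y ^ j), M.swap, mul_assoc, ← pow_add, ← mul_assoc, ← zpow_add]

theorem pow_formula (i : ℤ) (j m : ℕ) :
    (x ^ i * y ^ j) ^ m = x ^ (i * geom (r ^ j) m) * y ^ (j * m) := by
  induction m with
  | zero => simp
  | succ m ih =>
    rw [pow_succ, ih, M.mul_formula, geom_succ, Nat.mul_succ, ← pow_mul, mul_add]

theorem commutator_formula (i k : ℤ) (j l : ℕ) :
    ⁅x ^ i * y ^ j, x ^ k * y ^ l⁆ = x ^ ((k * geom r j - i * geom r l) * (r - 1)) := by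
  rw [commutatorElement_def, mul_inv_eq_iff_eq_mul, mul_inv_eq_iff_eq_mul, M.mul_formula,
    mul_assoc, M.mul_formula, ← mul_assoc, ← zpow_add, add_comm j l]
  congr 2
  rw [sub_mul, mul_assoc, mul_assoc, geom_mul_sub_one, geom_mul_sub_one]
  ring

theorem commute_iff (i k : ℤ) (j l : ℕ) : Commute (x ^ i * y ^ j) (x ^ k * y ^ l) ↔
    (p : ℤ) ^ n ∣ k * geom r j - i * geom r l := by
  rw [← M.comm_ord, ← M.commutator_formula, commutatorElement_eq_one_iff_commute]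

theorem commute_y_zpow_iff (i : ℤ) : Commute y (x ^ i) ↔ (p : ℤ) ^ n ∣ i := by
  simpa using M.commute_iff 0 i 1 0

theorem commute_zpow_pow_iff (k : ℤ) (j : ℕ) :
    Commute (x ^ k) (y ^ j) ↔ (p : ℤ) ^ n ∣ k * j := by
  rw [← pow_dvd_mul_geom_iff M.odd M.rmod n j k]
  have := M.commute_iff k 0 0 j
  simpa using this

theorem n_le_b : n ≤ b := by
  have h : Commute (x ^ (1 : ℤ)) (y ^ (p ^ b)) := by
    obtain ⟨e, he⟩ := Subgroup.mem_zpowers_iff.mp ((M.y_mem (p ^ b)).mpr dvd_rfl)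
    rw [← he]; exact (Commute.refl x).zpow_zpow 1 e
  rw [M.commute_zpow_pow_iff, one_mul, Nat.cast_pow] at h
  exact (pow_dvd_pow_iff (by exact_mod_cast (Fact.out : p.Prime).ne_zero)
    (Nat.prime_iff_prime_int.mp Fact.out).not_unit).mp h

theorem mem_center_iff (i : ℤ) (j : ℕ) :
    x ^ i * y ^ j ∈ center G ↔ (p : ℤ) ^ n ∣ i ∧ p ^ n ∣ j := by
  rw [Subgroup.mem_center_iff]
  constructor
  · intro h
    have h1 : Commute (x ^ i * y ^ j) (x ^ (1 : ℤ) * y ^ 0) := (h _).symm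
    have h2 : Commute (x ^ i * y ^ j) (x ^ (0 : ℤ) * y ^ 1) := (h _).symm
    rw [M.commute_iff] at h1 h2
    simp only [geom_zero, one_mul, mul_zero, sub_zero, zero_mul, geom_one_right, mul_one, zero_sub,
      dvd_neg] at h1 h2
    exact ⟨h2, (pow_dvd_geom_iff M.odd M.rmod n j).mp h1⟩
  · rintro ⟨hi, hj⟩ g
    obtain ⟨k, l, rfl⟩ := M.mem g
    refine ((M.commute_iff i k j l).mpr (dvd_sub ?_ (hi.mul_right _))).symm
    exact ((pow_dvd_geom_iff M.odd M.rmod n j).mpr hj).mul_left k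

theorem y_zpow_mem {z : ℤ} (h : y ^ z ∈ zpowers x) : (p : ℤ) ^ b ∣ z := by
  have h2 : y ^ z.natAbs ∈ zpowers x := by
    rcases Int.natAbs_eq z with e | e
    · rw [← zpow_natCast, ← e]; exact h
    · rw [← zpow_natCast, ← inv_mem_iff, ← zpow_neg, ← e]; exact h
  rw [← Nat.cast_pow]
  exact Int.natCast_dvd.mpr ((M.y_mem _).mp h2)

/-- Two representations of the same element. -/
theorem rep_eq {i k : ℤ} {j l : ℕ} (h : x ^ i * y ^ j = x ^ k * y ^ l) :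
    (p : ℤ) ^ n ∣ k - i ∧ (p : ℤ) ^ b ∣ (j : ℤ) - l := by
  have h1 : y ^ ((j : ℤ) - l) = x ^ (k - i) := by
    rw [sub_eq_neg_add k i, zpow_add, zpow_neg, zpow_sub, zpow_natCast, zpow_natCast,
      mul_inv_eq_iff_eq_mul, mul_assoc, ← h, inv_mul_cancel_left]
  refine ⟨?_, M.y_zpow_mem (h1 ▸ zpow_mem (mem_zpowers x) _)⟩
  rw [← M.commute_y_zpow_iff, ← h1]
  exact (Commute.refl y).zpow_right _

/-- Divisibility of coordinates by `p^s`, `s ≤ n`, does not depend on the representation. -/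
theorem rep_dvd {s : ℕ} (hs : s ≤ n) {i k : ℤ} {j l : ℕ} (h : x ^ i * y ^ j = x ^ k * y ^ l)
    (hk : (p : ℤ) ^ s ∣ k) (hl : p ^ s ∣ l) : (p : ℤ) ^ s ∣ i ∧ p ^ s ∣ j := by
  obtain ⟨h4, h2⟩ := M.rep_eq h
  constructor
  · have := dvd_sub hk ((pow_dvd_pow _ hs).trans h4)
    rwa [sub_sub_cancel] at this
  · have := dvd_add ((pow_dvd_pow (p : ℤ) (hs.trans M.n_le_b)).trans h2)
      (show (p : ℤ) ^ s ∣ (l : ℤ) by exact_mod_cast hl)
    rw [sub_add_cancel] at this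
    exact_mod_cast this

theorem mem_level [Finite G] {s : ℕ} {g : G} : g ∈ metaLevel p x y s ↔
    ∃ (i : ℤ) (j : ℕ), g = x ^ i * y ^ j ∧ (p : ℤ) ^ s ∣ i ∧ p ^ s ∣ j := by
  refine ⟨fun h => ?_, fun h => subset_closure h⟩
  rw [metaLevel, ← Subgroup.mem_toSubmonoid, Subgroup.closure_toSubmonoid_of_finite] at h
  induction h using Submonoid.closure_induction with
  | mem g hg => exact hg
  | one => exact ⟨0, 0, by simp, dvd_zero _, dvd_zero _⟩
  | mul g g' _ _ hg hg' =>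
    obtain ⟨i, j, rfl, hi, hj⟩ := hg
    obtain ⟨k, l, rfl, hk, hl⟩ := hg'
    exact ⟨_, _, M.mul_formula i k j l, dvd_add hi (hk.mul_right _), dvd_add hj hl⟩

theorem rep_mem_level_iff [Finite G] {s : ℕ} (hs : s ≤ n) (i : ℤ) (j : ℕ) :
    x ^ i * y ^ j ∈ metaLevel p x y s ↔ (p : ℤ) ^ s ∣ i ∧ p ^ s ∣ j := by
  refine ⟨fun h => ?_, fun h => M.mem_level.mpr ⟨i, j, rfl, h⟩⟩
  obtain ⟨k, l, he, hk, hl⟩ := M.mem_level.mp h
  exact M.rep_dvd hs he hk hl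

theorem center_eq_level [Finite G] : center G = metaLevel p x y n := by
  ext g
  obtain ⟨i, j, rfl⟩ := M.mem g
  rw [M.mem_center_iff, M.rep_mem_level_iff le_rfl]

theorem level_zero [Finite G] : metaLevel p x y 0 = ⊤ := by
  ext g
  obtain ⟨i, j, rfl⟩ := M.mem g
  simp [M.rep_mem_level_iff (Nat.zero_le n)]

theorem index_level [Finite G] {s : ℕ} (hs : s ≤ n) : (metaLevel p x y s).index = p ^ (2 * s) := by
  haveI : NeZero (p ^ s) := ⟨pow_ne_zero _ (Fact.out : p.Prime).ne_zero⟩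
  let f : ZMod (p ^ s) × ZMod (p ^ s) → G ⧸ metaLevel p x y s :=
    fun v => QuotientGroup.mk (x ^ (v.1.val : ℤ) * y ^ v.2.val)
  have hf : ∀ (i k : ℤ) (j l : ℕ), (QuotientGroup.mk (x ^ i * y ^ j) : G ⧸ metaLevel p x y s) =
      QuotientGroup.mk (x ^ k * y ^ l) ↔ ((i : ZMod (p ^ s)) = k ∧ (j : ZMod (p ^ s)) = l) := by
    intro i k j l
    obtain ⟨u, v, huv⟩ := M.mem ((x ^ i * y ^ j)⁻¹ * (x ^ k * y ^ l))
    have he : x ^ k * y ^ l = x ^ (i + u * r ^ j) * y ^ (j + v) := by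
      rw [← M.mul_formula, ← huv, mul_inv_cancel_left]
    obtain ⟨d1, d2⟩ := M.rep_eq he
    have e1 := (ZMod.intCast_zmod_eq_zero_iff_dvd _ (p ^ s)).mpr
      (show ((p ^ s : ℕ) : ℤ) ∣ i + u * r ^ j - k by
        rw [Nat.cast_pow]; exact (pow_dvd_pow _ hs).trans d1)
    have e2 := (ZMod.intCast_zmod_eq_zero_iff_dvd _ (p ^ s)).mpr
      (show ((p ^ s : ℕ) : ℤ) ∣ (l : ℤ) - ((j + v : ℕ) : ℤ) by
        rw [Nat.cast_pow]; exact (pow_dvd_pow _ (hs.trans M.n_le_b)).trans d2)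
    push_cast at e1 e2
    rw [QuotientGroup.eq, huv, M.rep_mem_level_iff hs]
    constructor
    · rintro ⟨hu, hv⟩
      have hzu : (u : ZMod (p ^ s)) = 0 :=
        (ZMod.intCast_zmod_eq_zero_iff_dvd _ _).mpr (by exact_mod_cast hu)
      have hzv : (v : ZMod (p ^ s)) = 0 := (ZMod.natCast_eq_zero_iff _ _).mpr hv
      rw [hzu, zero_mul, add_zero, sub_eq_zero] at e1
      rw [hzv, add_zero, sub_eq_zero] at e2
      exact ⟨e1, e2.symm⟩
    · rintro ⟨h1, h2⟩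
      refine ⟨?_, ?_⟩
      · have hz : ((u * r ^ j : ℤ) : ZMod (p ^ s)) = 0 := by
          push_cast
          linear_combination e1 - h1
        rw [ZMod.intCast_zmod_eq_zero_iff_dvd, Nat.cast_pow] at hz
        refine IsCoprime.dvd_of_dvd_mul_right ?_ hz
        refine IsCoprime.pow ((Nat.prime_iff_prime_int.mp (Fact.out : p.Prime)).coprime_iff_not_dvd.mpr ?_)
        intro hd
        have := dvd_sub hd M.rmod
        rw [sub_sub_cancel] at this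
        exact (Fact.out : p.Prime).ne_one
          (by exact_mod_cast Int.eq_one_of_dvd_one (Int.natCast_nonneg p) this)
      · rw [← ZMod.natCast_eq_zero_iff]
        linear_combination -e2 - h2
  rw [Subgroup.index, ← Nat.card_eq_of_bijective f ⟨?_, ?_⟩, Nat.card_prod, Nat.card_zmod, ← pow_add,
    two_mul]
  · rintro ⟨a1, a2⟩ ⟨c1, c2⟩ hac
    obtain ⟨h1, h2⟩ := (hf _ _ _ _).mp hac
    simp only [Int.cast_natCast, ZMod.natCast_zmod_val] at h1 h2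
    exact Prod.ext h1 h2
  · intro q
    obtain ⟨g, rfl⟩ := QuotientGroup.mk_surjective q
    obtain ⟨i, j, rfl⟩ := M.mem g
    exact ⟨((i : ZMod (p ^ s)), (j : ZMod (p ^ s))), (hf _ _ _ _).mpr ⟨by simp, by simp⟩⟩

end MetaPres

end CfsgLib.PGroups
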