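import Mathlib
import Cfsg.Agent.Lib.PGroups.Basic

/-!
# `p`-th powers in groups of class at most three, `p > 3` (or class at most two, `p` odd)

With `c = y⁻¹x⁻¹yx`, `d = c⁻¹x⁻¹cx`, `e = c⁻¹y⁻¹cy` central, `(xy)^n` is
`x^n y^n c^(n choose 2) d^(n choose 3) e^(2 (n choose 3) + (n choose 2))`.
-/

set_option autoImplicit false

namespace CfsgLib.PGroups.SmallClassPower

open Subgroup
open scoped commutatorElement

variable {G : Type*} [Group G] {x y c d e : G}

theorem pow_mul_eq (hd : ∀ g, Commute d g) (hcx : c * x = x * (c * d)) :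
    ∀ n : ℕ, c ^ n * x = x * (c ^ n * d ^ n) := by
  intro n
  induction n with
  | zero => simp
  | succ n ih =>
    calc c ^ (n + 1) * x = c ^ n * (c * x) := by rw [pow_succ, mul_assoc]
      _ = c ^ n * x * (c * d) := by rw [hcx, ← mul_assoc]
      _ = x * (c ^ n * (d ^ n * c) * d) := by rw [ih]; simp only [mul_assoc]
      _ = x * (c ^ (n + 1) * d ^ (n + 1)) := by
        rw [((hd c).pow_left n).eq, pow_succ, pow_succ]; simp only [mul_assoc]

theorem mul_pow_eq' (hd : ∀ g, Commute d g) (hcy : c * y = y * (c * d)) :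
    ∀ n : ℕ, c * y ^ n = y ^ n * (c * d ^ n) := by
  intro n
  induction n with
  | zero => simp
  | succ n ih =>
    calc c * y ^ (n + 1) = c * y ^ n * y := by rw [pow_succ, mul_assoc]
      _ = y ^ n * c * (d ^ n * y) := by rw [ih]; simp only [mul_assoc]
      _ = y ^ n * (c * y) * d ^ n := by rw [((hd y).pow_left n).eq]; simp only [mul_assoc]
      _ = y ^ (n + 1) * (c * d ^ (n + 1)) := by
        rw [hcy, pow_succ, pow_succ']; simp only [mul_assoc]

theorem pow_swap (he : ∀ g, Commute e g) (hyx : y * x = x * (y * c)) (hcy : c * y = y * (c * e)) :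
    ∀ n : ℕ, y ^ n * x = x * (y ^ n * c ^ n * e ^ n.choose 2) := by
  intro n
  induction n with
  | zero => simp
  | succ n ih =>
    calc y ^ (n + 1) * x = y ^ n * x * (y * c) := by
          rw [pow_succ, mul_assoc, hyx, ← mul_assoc]
      _ = x * (y ^ n * (c ^ n * (e ^ n.choose 2 * (y * c)))) := by rw [ih]; simp only [mul_assoc]
      _ = x * (y ^ n * (c ^ n * y * c * e ^ n.choose 2)) := by
          rw [((he (y * c)).pow_left _).eq]; simp only [mul_assoc]
      _ = x * (y ^ (n + 1) * (c ^ n * (e ^ n * c)) * e ^ n.choose 2) := by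
          rw [pow_mul_eq he hcy, pow_succ]; simp only [mul_assoc]
      _ = x * (y ^ (n + 1) * c ^ (n + 1) * e ^ (n + 1).choose 2) := by
          rw [((he c).pow_left n).eq, Nat.choose_succ_succ, Nat.choose_one_right, pow_add e,
            pow_succ c]
          simp only [mul_assoc]

theorem mul_pow_formula (hd : ∀ g, Commute d g) (he : ∀ g, Commute e g)
    (hyx : y * x = x * (y * c)) (hcx : c * x = x * (c * d)) (hcy : c * y = y * (c * e)) :
    ∀ n : ℕ, (x * y) ^ n =
      x ^ n * y ^ n * c ^ n.choose 2 * (d ^ n.choose 3 * e ^ (2 * n.choose 3 + n.choose 2)) := by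
  intro n
  induction n with
  | zero => simp
  | succ n ih =>
    set A := n.choose 2 with hA
    set f := n.choose 3
    have hz : ∀ g, Commute (d ^ f * e ^ (2 * f + A)) g := fun g =>
      ((hd g).pow_left _).mul_left ((he g).pow_left _)
    calc (x * y) ^ (n + 1) = x ^ n * y ^ n * (c ^ A * x) * y * (d ^ f * e ^ (2 * f + A)) := by
          rw [pow_succ, ih]
          simp only [mul_assoc]
          rw [show d ^ f * (e ^ (2 * f + A) * (x * y)) = x * (y * (d ^ f * e ^ (2 * f + A))) by
            rw [← mul_assoc, (hz (x * y)).eq]; simp only [mul_assoc]]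
      _ = x ^ n * (y ^ n * x) * c ^ A * (d ^ A * y) * (d ^ f * e ^ (2 * f + A)) := by
          rw [pow_mul_eq hd hcx]; simp only [mul_assoc]
      _ = x ^ (n + 1) * y ^ n * c ^ n * (e ^ A * (c ^ A * y)) * (d ^ A * (d ^ f * e ^ (2 * f + A))) := by
          rw [((hd y).pow_left A).eq, pow_swap he hyx hcy, pow_succ]; simp only [mul_assoc]; rfl
      _ = x ^ (n + 1) * y ^ n * (c ^ n * c ^ A * y) * e ^ A * (d ^ A * (d ^ f * e ^ (2 * f + A))) := by
          rw [((he (c ^ A * y)).pow_left A).eq]; simp only [mul_assoc]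
      _ = x ^ (n + 1) * y ^ (n + 1) * (c ^ (n + A) * e ^ (n + A)) * e ^ A *
            (d ^ A * (d ^ f * e ^ (2 * f + A))) := by
          rw [← pow_add c, pow_mul_eq he hcy, pow_succ y]; simp only [mul_assoc]
      _ = x ^ (n + 1) * y ^ (n + 1) * c ^ (n + 1).choose 2 *
            (d ^ (n + 1).choose 3 * e ^ (2 * (n + 1).choose 3 + (n + 1).choose 2)) := by
          rw [Nat.choose_succ_succ, Nat.choose_one_right, Nat.choose_succ_succ, ← hA,
            show 2 * (A + f) + (n + A) = (n + A) + A + (2 * f + A) by omega]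
          have key : e ^ (n + A) * (e ^ A * (d ^ A * (d ^ f * e ^ (2 * f + A)))) =
              d ^ (A + f) * e ^ (n + A + A + (2 * f + A)) := by
            rw [← mul_assoc (e ^ (n + A)), ← pow_add e, ← mul_assoc (d ^ A), ← pow_add d,
              ← mul_assoc, ← ((hd _).pow_left _).eq, mul_assoc, ← pow_add e]
          simp only [mul_assoc]
          rw [key]

variable {p : ℕ} [Fact p.Prime]

/-- The hypothesis: class at most two and `p` odd, or class at most three and `p > 3`. -/
def SmallClass (G : Type*) [Group G] (p : ℕ) : Prop :=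
  (p ≠ 2 ∧ ⁅commutator G, (⊤ : Subgroup G)⁆ = ⊥) ∨
    (3 < p ∧ ⁅⁅commutator G, (⊤ : Subgroup G)⁆, (⊤ : Subgroup G)⁆ = ⊥)

theorem exists_data (hcl : SmallClass G p) (x y : G) :
    ∃ c d e : G, c ∈ commutator G ∧ d ∈ commutator G ∧ e ∈ commutator G ∧
      (∀ g, Commute d g) ∧ (∀ g, Commute e g) ∧ y * x = x * (y * c) ∧ c * x = x * (c * d) ∧
      c * y = y * (c * e) ∧ p ∣ p.choose 2 ∧
      (d = 1 ∧ e = 1 ∨ p ∣ p.choose 3) := by
  have hp : p.Prime := Fact.out
  set c := ⁅y⁻¹, x⁻¹⁆ with hc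
  have hcm : c ∈ commutator G := commutator_mem_commutator (mem_top _) (mem_top _)
  have hmem : ∀ z : G, ⁅c⁻¹, z⁆ ∈ ⁅commutator G, (⊤ : Subgroup G)⁆ := fun z =>
    commutator_mem_commutator (inv_mem hcm) (mem_top z)
  have hle : ∀ z : G, ⁅c⁻¹, z⁆ ∈ commutator G := fun z =>
    commutator_mem_commutator (mem_top _) (mem_top z)
  have hcent : ∀ z g : G, Commute ⁅c⁻¹, z⁆ g := by
    intro z g
    rcases hcl with ⟨-, h⟩ | ⟨-, h⟩
    · have h1 := hmem z
      rw [h, mem_bot] at h1
      rw [h1]; exact Commute.one_left g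
    · have h1 := commutator_mem_commutator (hmem z) (mem_top g)
      rw [h, mem_bot] at h1
      exact commutatorElement_eq_one_iff_commute.1 h1
  refine ⟨c, ⁅c⁻¹, x⁻¹⁆, ⁅c⁻¹, y⁻¹⁆, hcm, hle _, hle _, hcent _, hcent _,
    by simp [hc, commutatorElement_def, mul_assoc], by simp [commutatorElement_def, mul_assoc],
    by simp [commutatorElement_def, mul_assoc], ?_, ?_⟩
  · refine hp.dvd_choose_self two_ne_zero ?_
    have := hp.two_le
    rcases hcl with ⟨h, -⟩ | ⟨h, -⟩ <;> omega
  · rcases hcl with ⟨-, h⟩ | ⟨h, -⟩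
    · left
      exact ⟨by have := hmem x⁻¹; rwa [h, mem_bot] at this,
        by have := hmem y⁻¹; rwa [h, mem_bot] at this⟩
    · exact Or.inr (hp.dvd_choose_self three_ne_zero h)

theorem pow_eq_one_of_dvd' {g : G} (hg : g ^ p = 1) {k : ℕ} (h : p ∣ k) : g ^ k = 1 := by
  obtain ⟨j, rfl⟩ := h
  rw [pow_mul, hg, one_pow]

theorem mul_pow_eq_one (hcl : SmallClass G p) {x y : G} (hx : x ^ p = 1) (hy : y ^ p = 1) :
    (x * y) ^ p = 1 := by
  obtain ⟨c, d, e, -, -, -, hd, he, hyx, hcx, hcy, h2, h3⟩ := exists_data hcl x y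
  have hdp : d ^ p = 1 := by simpa [hx] using mul_pow_eq' hd hcx p
  have hep : e ^ p = 1 := by simpa [hy] using mul_pow_eq' he hcy p
  have hcp : c ^ p = 1 := by
    simpa [hy, pow_eq_one_of_dvd' hep h2] using pow_swap he hyx hcy p
  rw [mul_pow_formula hd he hyx hcx hcy, hx, hy, pow_eq_one_of_dvd' hcp h2, pow_add,
    pow_eq_one_of_dvd' hep h2]
  rcases h3 with ⟨hd1, he1⟩ | h3
  · rw [hd1, he1]; simp
  · rw [pow_eq_one_of_dvd' hdp h3, pow_eq_one_of_dvd' hep (dvd_mul_of_dvd_right h3 2)]; simp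

theorem omega_exponent (hcl : SmallClass G p) {g : G}
    (hg : g ∈ Subgroup.closure {x : G | x ^ p = 1}) : g ^ p = 1 := by
  induction hg using Subgroup.closure_induction with
  | mem a ha => exact ha
  | one => exact one_pow p
  | mul a b _ _ ha hb => exact mul_pow_eq_one hcl ha hb
  | inv a _ ha => rw [inv_pow, ha, inv_one]

theorem mul_pow_of_derived (hcl : SmallClass G p)
    (hder : commutator G ≤ Subgroup.closure {x : G | x ^ p = 1}) (x y : G) :
    (x * y) ^ p = x ^ p * y ^ p := by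
  obtain ⟨c, d, e, hc, hdm, hem, hd, he, hyx, hcx, hcy, h2, h3⟩ := exists_data hcl x y
  have hcp := omega_exponent hcl (hder hc)
  have hdp := omega_exponent hcl (hder hdm)
  have hep := omega_exponent hcl (hder hem)
  rw [mul_pow_formula hd he hyx hcx hcy, pow_eq_one_of_dvd' hcp h2, pow_add,
    pow_eq_one_of_dvd' hep h2]
  rcases h3 with ⟨hd1, he1⟩ | h3
  · rw [hd1, he1]; simp
  · rw [pow_eq_one_of_dvd' hdp h3, pow_eq_one_of_dvd' hep (dvd_mul_of_dvd_right h3 2)]; simp

/-- An element whose commutators with a generating set lie in the `n`-th term of the upper central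
series lies in the next one. -/
theorem mem_upperCentralSeries_of_generators {S : Set G} (hS : Subgroup.closure S = ⊤) {n : ℕ}
    {a : G} (h : ∀ s ∈ S, ⁅a, s⁆ ∈ Subgroup.upperCentralSeries G n) :
    a ∈ Subgroup.upperCentralSeries G (n + 1) := by
  rw [Subgroup.mem_upperCentralSeries_succ_iff]
  intro g
  let π := QuotientGroup.mk' (Subgroup.upperCentralSeries G n)
  have hle : Subgroup.closure S ≤ (centralizer ({π a} : Set _)).comap π := by
    rw [closure_le]
    intro s hs
    have h1 : π ⁅a, s⁆ = 1 := (QuotientGroup.eq_one_iff _).2 (h s hs)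
    rw [map_commutatorElement] at h1
    exact mem_centralizer_singleton_iff.2 (commutatorElement_eq_one_iff_commute.1 h1).symm.eq
  have h2 : π g * π a = π a * π g :=
    mem_centralizer_singleton_iff.1 (hle (hS ▸ mem_top g))
  refine (QuotientGroup.eq_one_iff _).1 ?_
  show π ⁅a, g⁆ = 1
  rw [map_commutatorElement]
  exact commutatorElement_eq_one_iff_commute.2 h2.symm

end CfsgLib.PGroups.SmallClassPower
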