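import Mathlib
import Cfsg.Prelude.Def_Transfer
import Cfsg.Agent.Lib.PGroups.Basic
import Cfsg.Agent.Lib.PGroups.Commutator

/-!
# The number of involutions of a two-group with Frattini subgroup of order two
-/

set_option linter.style.haveILetI false
set_option autoImplicit false

namespace CfsgLib.PGroups

open scoped commutatorElement

theorem involution_count {G : Type*} [Group G] [Finite G] (hG : IsPGroup 2 G)
    (hΦ : Nat.card (frattini G) = 2) (d : ℕ) (hd : (frattini G).index = 2 ^ d) :
    (Nat.card {x : G // x ^ 2 = 1} = 2 ^ d ∨ ∃ r : ℕ, 1 ≤ r ∧ 2 * r ≤ d ∧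
      (Nat.card {x : G // x ^ 2 = 1} = 2 ^ d + 2 ^ (d - r) ∨
        Nat.card {x : G // x ^ 2 = 1} + 2 ^ (d - r) = 2 ^ d)) ∧
    (∀ r : ℕ, d = 2 * r → (Nat.card {x : G // x ^ 2 = 1} = 2 ^ d + 2 ^ r ∨
        Nat.card {x : G // x ^ 2 = 1} + 2 ^ r = 2 ^ d) → Cfsg.IsExtraspecial 2 G) := by
  classical
  haveI : Fact (Nat.Prime 2) := ⟨Nat.prime_two⟩
  haveI := Fintype.ofFinite G
  -- the Frattini subgroup
  obtain ⟨z, hz⟩ : ∃ z : G, ∀ w, w ∈ frattini G ↔ w = 1 ∨ w = z := by
    obtain ⟨⟨z, hzm⟩, hz, huniq⟩ := (Nat.card_eq_two_iff' (1 : frattini G)).mp hΦ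
    refine ⟨z, fun w => ⟨fun hw => ?_, ?_⟩⟩
    · by_cases h : (⟨w, hw⟩ : frattini G) = 1
      · exact Or.inl (congrArg Subtype.val h)
      · exact Or.inr (congrArg Subtype.val (huniq _ h))
    · rintro (rfl | rfl)
      · exact one_mem _
      · exact hzm
  have hnormal : (frattini G).Normal := inferInstance
  have hz1 : z ≠ 1 := by
    intro h
    have hbot : frattini G = ⊥ := by
      rw [eq_bot_iff]
      intro w hw
      rcases (hz w).mp hw with rfl | rfl
      · exact one_mem _
      · exact h ▸ one_mem _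
    rw [hbot, Subgroup.card_bot] at hΦ
    exact absurd hΦ (by norm_num)
  have hzmem : z ∈ frattini G := (hz z).mpr (Or.inr rfl)
  have hzcen : z ∈ Subgroup.center G := by
    rw [Subgroup.mem_center_iff]
    intro g
    rcases (hz _).mp (hnormal.conj_mem z hzmem g) with h | h
    · exact absurd (conj_eq_one_iff.mp h) hz1
    · exact mul_inv_eq_iff_eq_mul.mp h
  have hΦcen : frattini G ≤ Subgroup.center G := fun w hw => by
    rcases (hz w).mp hw with rfl | rfl
    · exact one_mem _
    · exact hzcen
  have hcomm : ∀ a b : G, ⁅a, b⁆ ∈ frattini G := fun a b => commutator_le_frattini hG (by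
    rw [commutator_def]
    exact Subgroup.commutator_mem_commutator (Subgroup.mem_top a) (Subgroup.mem_top b))
  have hsq : ∀ a : G, a ^ 2 ∈ frattini G := fun a => pow_mem_frattini hG a
  have hzz : z * z = 1 := by
    have h1 : (⟨z, hzmem⟩ : frattini G) ^ 2 = 1 := by rw [← hΦ]; exact pow_card_eq_one'
    simpa [sq] using congrArg Subtype.val h1
  let ε : G → ℤ := fun w => if w = 1 then 1 else -1
  have hεmul : ∀ u ∈ frattini G, ∀ v ∈ frattini G, ε (u * v) = ε u * ε v := by
    intro u hu v hv
    rcases (hz u).mp hu with rfl | rfl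
    · simp [ε]
    · rcases (hz v).mp hv with rfl | rfl
      · simp [ε, hz1]
      · simp [ε, hz1, hzz]
  have hεsq : ∀ w, ε w * ε w = 1 := fun w => by by_cases h : w = 1 <;> simp [ε, h]
  set T : ℤ := ∑ x : G, ε (x ^ 2) with hT
  have hmulsq : ∀ a b : G, ε ((a * b) ^ 2) = ε (a ^ 2) * ε (b ^ 2) * ε ⁅b, a⁆ := fun a b => by
    rw [mul_pow_of_central (hΦcen (hcomm b a)), Nat.choose_self, pow_one,
      hεmul _ (mul_mem (hsq a) (hsq b)) _ (hcomm b a), hεmul _ (hsq a) _ (hsq b)]
  have hinner : ∀ w : G, ∑ x : G, ε ⁅w, x⁆ =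
      if w ∈ Subgroup.center G then (Fintype.card G : ℤ) else 0 := by
    intro w
    split_ifs with hw
    · have h : ∀ x, ε ⁅w, x⁆ = 1 := fun x => by
        rw [commutatorElement_eq_one_iff_mul_comm.mpr (Subgroup.mem_center_iff.mp hw x).symm]
        simp [ε]
      simp [h]
    · rw [Subgroup.mem_center_iff] at hw
      push Not at hw
      obtain ⟨x0, hx0⟩ := hw
      have hval : ε ⁅w, x0⁆ = -1 := by
        have h : ⁅w, x0⁆ ≠ 1 := fun h => hx0 (commutatorElement_eq_one_iff_mul_comm.mp h).symm
        simp [ε, h]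
      have hshift : ∑ x : G, ε ⁅w, x⁆ = ∑ x : G, ε ⁅w, x0 * x⁆ :=
        (Equiv.sum_comp (Equiv.mulLeft x0) fun x => ε ⁅w, x⁆).symm
      have h2 : ∀ x, ε ⁅w, x0 * x⁆ = -ε ⁅w, x⁆ := fun x => by
        rw [commutator_mul_right_of_central (hΦcen (hcomm w x)), hεmul _ (hcomm _ _) _ (hcomm _ _),
          hval, neg_one_mul]
      simp only [h2, Finset.sum_neg_distrib] at hshift
      omega
  have hTsq : T * T = (Fintype.card G : ℤ) *
      ∑ w : Subgroup.center G, ε ((w : G) ^ 2) := by
    calc T * T = ∑ x : G, ∑ w : G, ε (x ^ 2) * ε ((x * w) ^ 2) := by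
          rw [hT, Finset.sum_mul]
          refine Finset.sum_congr rfl fun x _ => ?_
          rw [Finset.mul_sum]
          exact (Equiv.sum_comp (Equiv.mulLeft x) fun y => ε (x ^ 2) * ε (y ^ 2)).symm
      _ = ∑ w : G, ε (w ^ 2) * ∑ x : G, ε ⁅w, x⁆ := by
          rw [Finset.sum_comm]
          refine Finset.sum_congr rfl fun w _ => ?_
          rw [Finset.mul_sum]
          refine Finset.sum_congr rfl fun x _ => ?_
          rw [hmulsq, ← mul_assoc, ← mul_assoc, hεsq, one_mul]
      _ = ∑ w : G, if w ∈ Subgroup.center G then ε (w ^ 2) * (Fintype.card G : ℤ) else 0 := by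
          refine Finset.sum_congr rfl fun w _ => ?_
          rw [hinner, mul_ite, mul_zero]
      _ = _ := by
          rw [← Finset.sum_filter, Finset.mul_sum]
          refine (Finset.sum_subtype (F := (inferInstance : Fintype (Subgroup.center G))) _
            (fun w => by simp) _).trans ?_
          exact Finset.sum_congr rfl fun w _ => mul_comm _ _
  have hcardG : Fintype.card G = 2 ^ (d + 1) := by
    rw [← Nat.card_eq_fintype_card, ← (frattini G).index_mul_card, hd, hΦ, pow_succ]
  obtain ⟨t, ht⟩ := IsPGroup.iff_card.mp (hG.to_subgroup (Subgroup.center G))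
  have ht1 : 1 ≤ t := by
    have h := Subgroup.card_le_of_le hΦcen
    rw [hΦ, ht] at h
    rcases t with _ | t
    · simp at h
    · omega
  have htd : t ≤ d + 1 := by
    have h := Subgroup.card_le_card_group (Subgroup.center G)
    rw [ht, Nat.card_eq_fintype_card, hcardG] at h
    exact (Nat.pow_le_pow_iff_right (by norm_num)).mp h
  set j := Nat.card {x : G // x ^ 2 = 1} with hj
  have hTj : T + (2 : ℤ) ^ (d + 1) = 2 * (j : ℤ) := by
    have h2 : (2 : ℤ) ^ (d + 1) = ∑ _x : G, (1 : ℤ) := by simp [hcardG]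
    rw [h2, hT, ← Finset.sum_add_distrib, hj, Nat.card_eq_fintype_card, Fintype.card_subtype,
      Finset.card_filter, Nat.cast_sum, Finset.mul_sum]
    refine Finset.sum_congr rfl fun x _ => ?_
    by_cases hx : x ^ 2 = 1 <;> simp [ε, hx]
  -- either the sum vanishes or the squares of central elements are trivial
  by_cases hcentral : ∀ w ∈ Subgroup.center G, w ^ 2 = 1
  · have hsum : ∑ w : Subgroup.center G, ε ((w : G) ^ 2) = 2 ^ t := by
      have h : ∀ w : Subgroup.center G, ε ((w : G) ^ 2) = 1 := fun w => by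
        simp [ε, hcentral w w.2]
      simp only [h, Finset.sum_const, Finset.card_univ, nsmul_eq_mul, mul_one]
      rw [← Nat.card_eq_fintype_card, ht]
      push_cast
      rfl
    rw [hsum, hcardG] at hTsq
    have hnat : T.natAbs * T.natAbs = 2 ^ (d + 1 + t) := by
      rw [← Int.natAbs_mul, hTsq, Int.natAbs_mul, Int.natAbs_natCast, Int.natAbs_pow]
      simp [pow_add]
    obtain ⟨e, -, he⟩ := (Nat.dvd_prime_pow Nat.prime_two).mp (Dvd.intro _ hnat)
    rw [he, ← pow_add] at hnat
    have hexp := Nat.pow_right_injective le_rfl hnat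
    have hnab : t < d + 1 := by
      rcases lt_or_eq_of_le htd with h | h
      · exact h
      exfalso
      have htop : Subgroup.center G = ⊤ := Subgroup.eq_top_of_card_eq _ (by
        rw [ht, h, Nat.card_eq_fintype_card, hcardG])
      have h3 : frattini G ≤ ⊥ := by
        refine frattini_le_of_elementary_quotient (p := 2) ?_ fun g => ?_
        · rw [commutator_def, Subgroup.commutator_le]
          intro a _ b _
          rw [Subgroup.mem_bot, commutatorElement_eq_one_iff_mul_comm]
          exact (Subgroup.mem_center_iff.mp (htop ▸ Subgroup.mem_top a) b).symm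
        · rw [Subgroup.mem_bot]
          exact hcentral g (htop ▸ Subgroup.mem_top g)
      exact hz1 (Subgroup.mem_bot.mp (h3 hzmem))
    have hpow2 : (2 : ℕ) ^ e = 2 * 2 ^ (e - 1) := by
      rw [← pow_succ']; congr 1; omega
    have hd2 : (2 : ℕ) ^ (d + 1) = 2 * 2 ^ d := pow_succ' 2 d
    have hj' : j = 2 ^ d + 2 ^ (e - 1) ∨ j + 2 ^ (e - 1) = 2 ^ d := by
      have hd3 : ((2 : ℤ) ^ (d + 1)) = ((2 ^ (d + 1) : ℕ) : ℤ) := by push_cast; rfl
      rw [hd3, hd2] at hTj
      rw [hpow2] at he
      rcases Int.natAbs_eq T with h | h <;> omega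
    refine ⟨Or.inr ⟨d - (e - 1), by omega, by omega, ?_⟩, ?_⟩
    · rwa [show d - (d - (e - 1)) = e - 1 by omega]
    · intro r hr hjr
      have hr' : (2 : ℕ) ^ (e - 1) = 2 ^ r := by
        have h1 := Nat.two_pow_pos r
        have h2 := Nat.two_pow_pos (e - 1)
        omega
      have her := Nat.pow_right_injective le_rfl hr'
      have hZ : Subgroup.center G = frattini G :=
        (Subgroup.eq_of_le_of_card_ge hΦcen (by
          rw [ht, hΦ, show t = 1 by omega, pow_one])).symm
      have hder : commutator G = frattini G := by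
        refine le_antisymm (commutator_le_frattini hG) fun w hw => ?_
        rcases (hz w).mp hw with rfl | rfl
        · exact one_mem _
        · obtain ⟨a, ha⟩ : ∃ a : G, a ∉ Subgroup.center G := by
            by_contra h
            push Not at h
            have htop : Subgroup.center G = ⊤ := eq_top_iff.mpr fun g _ => h g
            have h4 := Subgroup.card_top (G := G)
            rw [← htop, ht, Nat.card_eq_fintype_card, hcardG] at h4
            have := Nat.pow_right_injective le_rfl h4
            omega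
          rw [Subgroup.mem_center_iff] at ha
          push Not at ha
          obtain ⟨b, hb⟩ := ha
          rcases (hz _).mp (hcomm a b) with h | h
          · exact absurd (commutatorElement_eq_one_iff_mul_comm.mp h).symm hb
          · rw [← h, commutator_def]
            exact Subgroup.commutator_mem_commutator (Subgroup.mem_top a) (Subgroup.mem_top b)
      exact ⟨⟨hG, hZ.symm, hder.trans hZ.symm⟩, by rw [hZ, hΦ]⟩
  · push Not at hcentral
    obtain ⟨w0, hw0, hw0'⟩ := hcentral
    have hmult : ∀ w : Subgroup.center G,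
        ε (((⟨w0, hw0⟩ * w : Subgroup.center G) : G) ^ 2) = -ε ((w : G) ^ 2) := by
      intro w
      rw [Subgroup.coe_mul, hmulsq,
        commutatorElement_eq_one_iff_mul_comm.mpr (Subgroup.mem_center_iff.mp hw0 (w : G))]
      by_cases hw : (w : G) ^ 2 = 1 <;> simp [ε, hw0', hw]
    have hsum : ∑ w : Subgroup.center G, ε ((w : G) ^ 2) = 0 := by
      have h := Equiv.sum_comp (Equiv.mulLeft (⟨w0, hw0⟩ : Subgroup.center G))
        fun w => ε ((w : G) ^ 2)
      simp only [Equiv.coe_mulLeft, hmult, Finset.sum_neg_distrib] at h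
      omega
    rw [hsum, mul_zero] at hTsq
    have hT0 : T = 0 := mul_self_eq_zero.mp hTsq
    rw [hT0, zero_add, pow_succ] at hTj
    have hj0 : j = 2 ^ d := by
      have : ((2 ^ d : ℕ) : ℤ) = (j : ℤ) := by push_cast; linarith
      exact_mod_cast this.symm
    refine ⟨Or.inl hj0, fun r _ hjr => ?_⟩
    have := Nat.two_pow_pos r
    omega

end CfsgLib.PGroups
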