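import Mathlib
import Cfsg.Prelude.Def_Transfer
import Cfsg.Prelude.Def_PLocal
import Cfsg.Agent.Lib.PGroups.Critical
import Cfsg.Agent.Lib.PGroups.Extraspecial
import Cfsg.Agent.Lib.PGroups.Generation
import Cfsg.Agent.Lib.PGroups.Commutator
import Cfsg.Agent.Lib.PLocal.CyclicMaxApps
import Cfsg.Agent.Lib.PGroups.MaximalClass
import Cfsg.Agent.Lib.Base.Frattini
import Cfsg.Agent.S3761

/-!
# Groups of symplectic type
-/

set_option autoImplicit false
set_option linter.style.haveILetI false

namespace CfsgLib.PGroups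

open Subgroup
open scoped commutatorElement

variable {p : ℕ} [Fact p.Prime] {G : Type*} [Group G] [Finite G]

/-- A centralizer element of order `p` of a characteristically generated subgroup lies in the cyclic
subgroup it sees. -/
theorem mem_of_symplectic (hG : IsPGroup p G)
    (hsymp : ∀ A : Subgroup G, A.Characteristic → IsMulCommutative A → IsCyclic A) (S : Set G)
    (hS : ∀ (φ : MulAut G), ∀ x ∈ S, φ x ∈ S) {U : Subgroup G} (hU : U ≠ ⊥)
    (hUS : U ≤ closure S) (hUc : U ≤ centralizer S) {c : G} (hcS : c ∈ closure S)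
    (hcc : c ∈ centralizer S) (hcp : c ^ p = 1) : c ∈ U := by
  have hp : p.Prime := Fact.out
  set A := closure S ⊓ centralizer (closure S : Set G) with hA
  have hK : ∀ (φ : MulAut G), (closure S).map φ.toMonoidHom = closure S := by
    intro φ
    rw [MonoidHom.map_closure]
    refine congrArg Subgroup.closure (Set.ext fun x => ⟨?_, fun hx => ⟨φ.symm x, hS φ.symm x hx, φ.apply_symm_apply x⟩⟩)
    rintro ⟨y, hy, rfl⟩
    exact hS φ y hy
  have hAchar : A.Characteristic := by
    rw [characteristic_iff_map_le]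
    rintro φ _ ⟨a, ⟨ha1, ha2⟩, rfl⟩
    refine ⟨(hK φ).le (mem_map_of_mem φ.toMonoidHom ha1), fun y hy => ?_⟩
    rw [SetLike.mem_coe, ← hK φ] at hy
    obtain ⟨y', hy', rfl⟩ := hy
    show φ y' * φ a = φ a * φ y'
    rw [← map_mul, ← map_mul, ha2 y' hy']
  have hAab : IsMulCommutative A := ⟨⟨fun a b => Subtype.ext ((b.2.2 a.1 a.2.1))⟩⟩
  haveI := hsymp A hAchar hAab
  have hcA : c ∈ A := ⟨hcS, by rwa [centralizer_closure]⟩
  have hUA : U ≤ A := le_inf hUS (by rwa [centralizer_closure])
  obtain ⟨w, hw⟩ := exists_prime_orderOf_dvd_card' p (dvd_card_of_ne_bot hG hU)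
  have h1 := CfsgLib.PLocal.isCyclic_mem_zpowers_of_pow_eq_one (G := A) (hG.to_subgroup A)
    (z := (⟨(w : G), hUA w.2⟩ : A)) (by rw [← hw, Subgroup.orderOf_mk, Subgroup.orderOf_coe])
    (y := ⟨c, hcA⟩) (Subtype.ext hcp)
  obtain ⟨k, hk⟩ := mem_zpowers_iff.1 h1
  have hk' : (w : G) ^ k = c := congrArg Subtype.val hk
  exact hk' ▸ zpow_mem w.2 k

theorem symplectic_type (hG : IsPGroup p G)
    (hsymp : ∀ A : Subgroup G, A.Characteristic → IsMulCommutative A → IsCyclic A) :
    ∃ E R : Subgroup G, (∀ e ∈ E, ∀ r ∈ R, e * r = r * e) ∧ E ⊔ R = ⊤ ∧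
      (E = ⊥ ∨ Cfsg.IsExtraspecial p E) ∧
      (IsCyclic R ∨ (p = 2 ∧ 16 ≤ Nat.card R ∧
        ((∃ m : ℕ, Nonempty (↥R ≃* DihedralGroup m)) ∨ (∃ m : ℕ, Nonempty (↥R ≃* QuaternionGroup m)) ∨
          Cfsg.IsQuasiDihedral ↥R))) := by
  classical
  have hp : p.Prime := Fact.out
  rcases subsingleton_or_nontrivial G with hss | hnt
  · exact ⟨⊥, ⊤, fun e he r _ => Subsingleton.elim _ _, bot_sup_eq _, Or.inl rfl, Or.inl inferInstance⟩
  obtain ⟨H, hHc, hΦ, hGH, hCH⟩ := exists_critical (P := G) hG
  haveI := hHc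
  set U := centralizer (H : Set G) with hU
  have hUH : U ≤ H := hCH
  have hmemH : ∀ (φ : MulAut G) {x : G}, x ∈ H → φ x ∈ H := fun φ x hx =>
    (characteristic_iff_map_eq.1 hHc φ) ▸ mem_map_of_mem φ.toMonoidHom hx
  haveI hUchar : U.Characteristic := by
    rw [characteristic_iff_map_le]
    rintro φ _ ⟨u, hu, rfl⟩ y hy
    obtain ⟨y', hy', rfl⟩ := (characteristic_iff_map_eq.1 hHc φ).symm ▸ hy
    show φ y' * φ u = φ u * φ y'
    rw [← map_mul, ← map_mul, hu y' hy']
  have hUab : IsMulCommutative U := ⟨⟨fun a b => Subtype.ext (b.2 a.1 (hUH a.2))⟩⟩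
  haveI hUcyc : IsCyclic U := hsymp U hUchar hUab
  have hHU : ∀ g : G, ∀ x ∈ H, ⁅x, g⁆ ∈ U := fun g x hx =>
    (hGH (commutator_mem_commutator hx (mem_top g))).2
  have hcenH : ∀ u ∈ U, ∀ x ∈ H, x * u = u * x := fun u hu x hx => hu x hx
  have hpowH : ∀ x ∈ H, x ^ p ∈ U := fun x hx =>
    hΦ ⟨⟨x, hx⟩ ^ p, pow_mem_frattini (hG.to_subgroup H) _, rfl⟩
  have hU1 : U ≠ ⊥ := by
    intro h
    haveI := (hG.to_subgroup H).isNilpotent
    have hH1 : H ≠ ⊥ := fun hH => by
      have htop : U = ⊤ := by rw [hU, hH, eq_top_iff]; intro g _ y hy; rw [mem_bot.1 hy, one_mul, mul_one]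
      rw [h] at htop
      exact bot_ne_top htop
    haveI : Nontrivial H := (nontrivial_iff_ne_bot H).2 hH1
    refine Group.IsNilpotent.center_ne_bot H (eq_bot_iff.2 fun z hz => mem_bot.2 (Subtype.ext ?_))
    have : (z : G) ∈ U := fun y hy => congrArg Subtype.val (mem_center_iff.1 hz ⟨y, hy⟩)
    rwa [h, mem_bot] at this
  obtain ⟨a, ha⟩ := CfsgLib.PLocal.exists_zpowers_eq hUcyc
  have haU : a ∈ U := ha ▸ mem_zpowers a
  obtain ⟨w, hw⟩ := exists_prime_orderOf_dvd_card' p (dvd_card_of_ne_bot hG hU1)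
  set Zp := zpowers (w : G) with hZp
  have hZU : Zp ≤ U := zpowers_le.2 w.2
  have hwo : orderOf (w : G) = p := by rw [Subgroup.orderOf_coe, hw]
  have hZpmem : ∀ u ∈ U, u ^ p = 1 → u ∈ Zp := by
    intro u hu hup
    have h1 := CfsgLib.PLocal.isCyclic_mem_zpowers_of_pow_eq_one (G := U) (hG.to_subgroup U)
      (z := w) hw (y := ⟨u, hu⟩) (Subtype.ext hup)
    obtain ⟨k, hk⟩ := mem_zpowers_iff.1 h1
    have hk' : (w : G) ^ k = u := congrArg Subtype.val hk
    exact hk' ▸ zpow_mem (mem_zpowers _) k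
  have hZpexp : ∀ u ∈ Zp, u ^ p = 1 := by
    intro u hu
    obtain ⟨k, rfl⟩ := mem_zpowers_iff.1 hu
    rw [← zpow_natCast, ← zpow_mul, mul_comm, zpow_mul, zpow_natCast, ← hwo, pow_orderOf_eq_one, one_zpow]
  have hZpc : Zp ≤ center G := by
    haveI : Zp.Normal := ⟨fun z hz y => hZpmem _ (Subgroup.Normal.conj_mem inferInstance z (hZU hz) y)
      (by rw [conj_pow, hZpexp z hz, mul_one, mul_inv_cancel])⟩
    have hne : Zp ⊓ center G ≠ ⊥ := inf_center_ne_bot hG fun h => by
      rw [hZp, zpowers_eq_bot, ← orderOf_eq_one_iff, hwo] at h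
      exact hp.ne_one h
    have heq : Zp ⊓ center G = Zp := by
      refine eq_of_le_of_card_ge inf_le_left ?_
      rw [hZp, Nat.card_zpowers, hwo]
      exact Nat.le_of_dvd Nat.card_pos (dvd_card_of_ne_bot hG hne)
    exact fun z hz => (heq.ge hz).2
  -- commutators inside `H`
  have hcenH' : ∀ x y : H, ⁅x, y⁆ ∈ center H := fun x y =>
    mem_center_iff.2 fun z => Subtype.ext (hcenH _ (hHU y x x.2) z z.2)
  have hcomm : ∀ x ∈ H, ∀ y ∈ H, ⁅x, y⁆ ∈ Zp := by
    intro x hx y hy
    refine hZpmem _ (hHU y x hx) ?_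
    have h1 : (⟨x, hx⟩ : H) ^ p ∈ center H :=
      mem_center_iff.2 fun z => Subtype.ext (hcenH _ (hpowH x hx) z z.2)
    have h2 : ⁅(⟨x, hx⟩ : H), (⟨y, hy⟩ : H)⁆ ^ p = 1 := by
      rw [← commutator_pow_left_of_central (hcenH' _ _), commutatorElement_eq_one_iff_mul_comm]
      exact (mem_center_iff.1 h1 _).symm
    exact congrArg Subtype.val h2
  have hmulH : ∀ x ∈ H, ∀ y ∈ H, ∀ k : ℕ, ∃ z ∈ Zp, (x * y) ^ k = x ^ k * y ^ k * z := by
    intro x hx y hy k
    refine ⟨⁅y, x⁆ ^ k.choose 2, pow_mem (hcomm y hy x hx) _, ?_⟩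
    exact congrArg Subtype.val (mul_pow_of_central (a := (⟨x, hx⟩ : H)) (b := ⟨y, hy⟩) (hcenH' _ _) k)
  -- powers can be adjusted into `Zp`
  have hadj : ∀ x ∈ H, ∃ u ∈ U, (x * u) ^ p ∈ Zp := by
    by_cases hUp : a ^ p = 1
    · intro x hx
      refine ⟨1, one_mem _, ?_⟩
      rw [mul_one]
      obtain ⟨k, hk⟩ := mem_zpowers_iff.1 (ha ▸ hpowH x hx : x ^ p ∈ zpowers a)
      rw [← hk]
      exact zpow_mem (hZpmem a haU hUp) k
    · -- every `p`-th power of an element of `H` is a `p`-th power in `U`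
      have hall : ∀ x ∈ H, x ^ p ∈ zpowers (a ^ p) := by
        by_contra hex
        push Not at hex
        obtain ⟨x₀, hx₀, hx₀p⟩ := hex
        have hZ2 : Zp ≤ zpowers (a ^ p) := by
          obtain ⟨v, hv⟩ := exists_prime_orderOf_dvd_card' (G := zpowers (a ^ p)) p
            (dvd_card_of_ne_bot hG (fun h => hUp (zpowers_eq_bot.1 h)))
          have hvU : (v : G) ∈ U := zpowers_le.2 (pow_mem haU p) v.2
          have hvo : orderOf (v : G) = p := by rw [Subgroup.orderOf_coe, hv]
          have : zpowers (v : G) = Zp := eq_of_le_of_card_ge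
            (zpowers_le.2 (hZpmem _ hvU (orderOf_dvd_iff_pow_eq_one.1 hvo.dvd)))
            (by rw [hZp, Nat.card_zpowers, Nat.card_zpowers, hvo, hwo])
          rw [← this]; exact zpowers_le.2 v.2
        let K0 : Subgroup G :=
          { carrier := {x | x ∈ H ∧ x ^ p ∈ zpowers (a ^ p)}
            one_mem' := ⟨one_mem _, by rw [one_pow]; exact one_mem _⟩
            mul_mem' := fun {x y} hx hy => ⟨mul_mem hx.1 hy.1, by
              obtain ⟨z, hz, he⟩ := hmulH x hx.1 y hy.1 p
              rw [he]; exact mul_mem (mul_mem hx.2 hy.2) (hZ2 hz)⟩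
            inv_mem' := fun {x} hx => ⟨inv_mem hx.1, by rw [inv_pow]; exact inv_mem hx.2⟩ }
        have hUK0 : U ≤ K0 := fun u hu => ⟨hUH hu, by
          obtain ⟨k, rfl⟩ := mem_zpowers_iff.1 (ha ▸ hu : u ∈ zpowers a)
          exact mem_zpowers_iff.2 ⟨k, by rw [← zpow_natCast, ← zpow_natCast, ← zpow_mul, ← zpow_mul, mul_comm]⟩⟩
        -- an element of `H` outside `U` centralising `K0`
        obtain ⟨c, hcH, hcU, hcK⟩ : ∃ c ∈ H, c ∉ U ∧ ∀ y ∈ K0, y * c = c * y := by
          by_contra hne
          push Not at hne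
          let Z' := Zp.subgroupOf H
          have hrel := relIndex_centralizer_le (p := p) (G := H) (Z := Z')
            (fun z hz => mem_center_iff.2 fun y => Subtype.ext (hcenH _ (hZU hz) y y.2))
            (by rw [Nat.card_congr (subgroupOfEquivOfLe (hZU.trans hUH)).toEquiv, hZp, Nat.card_zpowers, hwo])
            ((hG.to_subgroup H).to_subgroup (K0.subgroupOf H))
            (fun g x _ => hcomm g g.2 x x.2) (K := U.subgroupOf H) (comap_mono hUK0)
          have hCU : centralizer ((U.subgroupOf H : Subgroup H) : Set H) = ⊤ :=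
            eq_top_iff.2 fun g _ u hu => Subtype.ext (hcenH _ hu g g.2).symm
          have hCK : centralizer ((K0.subgroupOf H : Subgroup H) : Set H) = U.subgroupOf H := by
            refine le_antisymm (fun g hg => ?_) (fun g hg y _ => Subtype.ext (hcenH _ hg y y.2))
            by_contra hgU
            obtain ⟨y, hy, hne'⟩ := hne g g.2 hgU
            exact hne' (congrArg Subtype.val (hg ⟨y, hy.1⟩ hy))
          rw [hCU, relIndex_top_right, hCK, relIndex_subgroupOf (show K0 ≤ H from fun x (hx : x ∈ K0) => hx.1)] at hrel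
          have h1 : U.relIndex H ≤ U.relIndex K0 := hrel
          rw [← relIndex_mul_relIndex U K0 H hUK0 fun x (hx : x ∈ K0) => hx.1] at h1
          have hpos : 0 < U.relIndex K0 := Nat.pos_of_ne_zero index_ne_zero_of_finite
          have h2 : K0.relIndex H ≤ 1 := Nat.le_of_mul_le_mul_left (by rwa [mul_one]) hpos
          have h3 : 0 < K0.relIndex H := Nat.pos_of_ne_zero index_ne_zero_of_finite
          exact hx₀p (relIndex_eq_one.1 (le_antisymm h2 h3) hx₀).2
        have hcK0 : c ∈ K0 := by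
          by_contra hc0
          have hcp : c ^ p ∉ zpowers (a ^ p) := fun h => hc0 ⟨hcH, h⟩
          refine hcU fun y hy => ?_
          obtain ⟨k, hk⟩ : ∃ k : ℕ, y * c ^ k ∈ K0 := by
            obtain ⟨i, hi⟩ := mem_zpowers_iff.1 (ha ▸ hpowH c hcH : c ^ p ∈ zpowers a)
            obtain ⟨j, hj⟩ := mem_zpowers_iff.1 (ha ▸ hpowH y hy : y ^ p ∈ zpowers a)
            have hpi : ¬ (p : ℤ) ∣ i := fun ⟨e, he⟩ => hcp (mem_zpowers_iff.2 ⟨e, by
              rw [← hi, he, zpow_mul, zpow_natCast]⟩)
            obtain ⟨u, v, huv⟩ : IsCoprime (p : ℤ) i :=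
              (Nat.prime_iff_prime_int.1 hp).coprime_iff_not_dvd.2 hpi
            refine ⟨((-(j * v)) % (p : ℤ)).toNat, mul_mem hy (pow_mem hcH _), ?_⟩
            set k := ((-(j * v)) % (p : ℤ)).toNat with hk
            obtain ⟨z, hz, he⟩ := hmulH y hy (c ^ k) (pow_mem hcH _) p
            rw [he]
            refine mul_mem ?_ (hZ2 hz)
            rw [← pow_mul, mul_comm, pow_mul, ← hi, ← hj, ← zpow_natCast (a ^ i), ← zpow_mul, ← zpow_add]
            refine mem_zpowers_iff.2 ⟨j * u + i * -((-(j * v)) / (p : ℤ)), ?_⟩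
            rw [← zpow_natCast, ← zpow_mul]
            congr 1
            rw [hk, Int.toNat_of_nonneg (Int.emod_nonneg _ (Int.natCast_ne_zero.2 hp.ne_zero)), Int.emod_def]
            linear_combination j * huv
          have h1 := hcK _ hk
          have h2 : y * c ^ k * c = y * c * c ^ k := by rw [mul_assoc, mul_assoc, ← pow_succ, ← pow_succ']
          rw [h2, ← mul_assoc c y] at h1
          exact mul_right_cancel h1
        obtain ⟨k, hk⟩ := mem_zpowers_iff.1 hcK0.2
        set c' := c * (a ^ k)⁻¹ with hc'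
        have hc'p : c' ^ p = 1 := by
          rw [hc', (Commute.inv_right (hcenH _ (zpow_mem haU k) c hcH)).mul_pow, inv_pow, ← hk,
            ← zpow_natCast (a ^ k), ← zpow_mul, ← zpow_natCast a p, ← zpow_mul, mul_comm k, mul_inv_cancel]
        have hc'U : c' ∉ U := fun h => hcU ((mul_mem_cancel_right (inv_mem (zpow_mem haU k))).1 h)
        have hc'K : c' ∈ K0 := mul_mem hcK0 (inv_mem (hUK0 (zpow_mem haU k)))
        refine hc'U (mem_of_symplectic hG hsymp (K0 : Set G) ?_ hU1 ?_ ?_ ?_ ?_ hc'p)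
        · intro φ x hx
          refine ⟨hmemH φ hx.1, ?_⟩
          rw [← map_pow]
          obtain ⟨j, hj⟩ := mem_zpowers_iff.1 hx.2
          obtain ⟨l, hl⟩ : φ a ∈ zpowers a := by
            rw [← ha]
            exact (characteristic_iff_map_eq.1 hUchar φ) ▸ mem_map_of_mem φ.toMonoidHom haU
          have hl' : a ^ l = φ a := hl
          rw [← hj, map_zpow, map_pow, ← hl']
          refine mem_zpowers_iff.2 ⟨l * j, ?_⟩
          rw [← zpow_natCast, ← zpow_natCast, ← zpow_mul, ← zpow_mul, ← zpow_mul]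
          congr 1; ring
        · rw [closure_eq]; exact hUK0
        · exact fun u hu y hy => hcenH u hu y hy.1
        · rw [closure_eq]; exact hc'K
        · intro y hy
          rw [hc', ← mul_assoc, hcK y hy, mul_assoc, (Commute.inv_right (hcenH _ (zpow_mem haU k) y hy.1)).eq,
            ← mul_assoc]
      intro x hx
      obtain ⟨k, hk⟩ := mem_zpowers_iff.1 (hall x hx)
      refine ⟨(a ^ k)⁻¹, inv_mem (zpow_mem haU k), ?_⟩
      rw [(Commute.inv_right (hcenH _ (zpow_mem haU k) x hx)).mul_pow, inv_pow, ← hk,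
        ← zpow_natCast (a ^ k), ← zpow_mul, ← zpow_natCast a p, ← zpow_mul, mul_comm k, mul_inv_cancel]
      exact one_mem _
  -- a complement modulo `U`
  obtain ⟨E, hE⟩ := Set.exists_max_image {E : Subgroup G | E ≤ H ∧ Zp ≤ E ∧ E ⊓ U ≤ Zp}
    (fun E => Nat.card E) (Set.toFinite _) ⟨Zp, hZU.trans hUH, le_rfl, inf_le_left⟩
  obtain ⟨⟨hEH, hZE, hEU⟩, hEmax⟩ := hE
  have hdec : ∀ x ∈ H, ∃ e ∈ E, ∃ u ∈ U, x = e * u := by
    intro x hx
    by_contra hno
    push Not at hno
    obtain ⟨u, hu, hxu⟩ := hadj x hx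
    set x' := x * u with hx'
    have hx'H : x' ∈ H := mul_mem hx (hUH hu)
    have hx'no : ∀ e ∈ E, ∀ v ∈ U, x' ≠ e * v := fun e he v hv h =>
      hno e he (v * u⁻¹) (mul_mem hv (inv_mem hu)) (by rw [← mul_assoc, ← h, hx', mul_inv_cancel_right])
    have hn : zpowers x' ≤ normalizer (E : Set G) := by
      rw [zpowers_le]
      refine mem_normalizer_fintype fun e he => ?_
      rw [show x' * e * x'⁻¹ = ⁅x', e⁆ * e by rw [commutatorElement_def]; group]
      exact mul_mem (hZE (hcomm x' hx'H e (hEH he))) he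
    have hlt : E < zpowers x' ⊔ E := lt_of_le_of_ne le_sup_right fun h =>
      hx'no x' (h ▸ mem_sup_left (mem_zpowers x')) 1 (one_mem _) (mul_one x').symm
    refine hlt.not_ge (le_of_eq ?_)
    refine (eq_of_le_of_card_ge le_sup_right (hEmax _ ⟨sup_le (zpowers_le.2 hx'H) hEH,
      hZE.trans le_sup_right, ?_⟩)).symm
    rintro v ⟨hv, hvU⟩
    have hv' : v ∈ ((zpowers x' ⊔ E : Subgroup G) : Set G) := hv
    rw [coe_mul_of_left_le_normalizer_right _ _ hn] at hv'
    obtain ⟨q, hq, e, he, rfl⟩ := hv'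
    obtain ⟨j, rfl⟩ := mem_zpowers_iff.1 hq
    by_cases hpj : (p : ℤ) ∣ j
    · obtain ⟨j', rfl⟩ := hpj
      have hxZ : x' ^ ((p : ℤ) * j') ∈ Zp := by
        rw [zpow_mul, zpow_natCast]; exact zpow_mem hxu j'
      exact mul_mem hxZ (hEU ⟨he, (mul_mem_cancel_left (hZU hxZ)).1 hvU⟩)
    · exfalso
      obtain ⟨s, t, hst⟩ : IsCoprime (p : ℤ) j :=
        (Nat.prime_iff_prime_int.1 hp).coprime_iff_not_dvd.2 hpj
      haveI : ((E ⊔ U).subgroupOf H).Normal := by
        refine ⟨fun y hy g => ?_⟩
        show (g : G) * y * (g : G)⁻¹ ∈ E ⊔ U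
        rw [show (g : G) * y * (g : G)⁻¹ = ⁅(g : G), (y : G)⁆ * y by rw [commutatorElement_def]; group]
        exact mul_mem (mem_sup_left (hZE (hcomm _ g.2 _ y.2))) hy
      have h1 : x' ^ j ∈ E ⊔ U := by
        rw [show x' ^ j = (x' ^ j * e) * e⁻¹ by rw [mul_inv_cancel_right]]
        exact mul_mem (mem_sup_right hvU) (mem_sup_left (inv_mem he))
      have h2 : x' ^ (p : ℤ) ∈ E ⊔ U := by rw [zpow_natCast]; exact mem_sup_left (hZE hxu)
      have h3 : x' ∈ E ⊔ U := by
        rw [← zpow_one x', ← hst, zpow_add, mul_comm s, mul_comm t, zpow_mul, zpow_mul]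
        exact mul_mem (zpow_mem h2 s) (zpow_mem h1 t)
      have hn2 : E ≤ normalizer (U : Set G) := by
        rw [normalizer_eq_top]; exact le_top
      have h3' : x' ∈ ((E ⊔ U : Subgroup G) : Set G) := h3
      rw [coe_mul_of_left_le_normalizer_right _ _ hn2] at h3'
      obtain ⟨e', he', u', hu', heq⟩ := h3'
      exact hx'no e' he' u' hu' heq.symm
  have hEZ : E ⊓ centralizer (E : Set G) ≤ Zp := by
    rintro e ⟨he, hc⟩
    refine hEU ⟨he, fun y hy => ?_⟩
    obtain ⟨f, hf, u, hu, rfl⟩ := hdec y hy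
    exact ((show Commute f e from hc f hf).mul_left
      ((hcenH u hu e (hEH he)).symm : Commute u e)).eq
  have hEpow : ∀ e ∈ E, e ^ p ∈ Zp := fun e he => hEU ⟨pow_mem he p, hpowH e (hEH he)⟩
  set R := centralizer (E : Set G) with hR
  have hUR : U ≤ R := fun u hu e he => hcenH u hu e (hEH he)
  have hRU : ∀ r ∈ R, (∀ u ∈ U, u * r = r * u) → r ∈ U := by
    intro r hr hru y hy
    obtain ⟨e, he, u, hu, rfl⟩ := hdec y hy
    exact ((show Commute e r from hr e he).mul_left (hru u hu : Commute u r)).eq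
  -- `G = E R`
  have hER : ∀ g : G, ∃ e ∈ E, ∃ r ∈ R, g = e * r := by
    intro g
    by_cases hEq : E ≤ Zp
    · exact ⟨1, one_mem _, g, fun e he => (mem_center_iff.1 (hZpc (hEq he)) g).symm, (one_mul g).symm⟩
    obtain ⟨S, hSgen, hScard⟩ := exists_finset_closure_eq_top (p := p) (hG.to_subgroup E)
    haveI hZn : (Zp.subgroupOf E).Normal := ⟨fun z hz y => by
      show (y : G) * (z : G) * (y : G)⁻¹ ∈ Zp
      rw [mem_center_iff.1 (hZpc (show (z : G) ∈ Zp from hz)) (y : G), mul_inv_cancel_right]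
      exact hz⟩
    have hfr : frattini E = Zp.subgroupOf E := by
      refine le_antisymm (frattini_le_of_elementary_quotient ?_ fun e => hEpow e e.2) ?_
      · rw [_root_.commutator_def, commutator_le]
        exact fun x _ y _ => hcomm x (hEH x.2) y (hEH y.2)
      · obtain ⟨e, he, heZ⟩ := SetLike.not_le_iff_exists.1 hEq
        obtain ⟨y, hy, hne⟩ : ∃ y ∈ E, y * e ≠ e * y := by
          by_contra hall
          push Not at hall
          exact heZ (hEZ ⟨he, hall⟩)
        have h1 : ⁅(⟨y, hy⟩ : E), (⟨e, he⟩ : E)⁆ ∈ frattini E :=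
          commutator_le_frattini (hG.to_subgroup E)
            (by rw [_root_.commutator_def]; exact commutator_mem_commutator (mem_top _) (mem_top _))
        have hzz : zpowers ⁅y, e⁆ = Zp := eq_of_le_of_card_ge (zpowers_le.2 (hcomm y (hEH hy) e (hEH he))) (by
          rw [hZp, Nat.card_zpowers, hwo, Nat.card_zpowers,
            orderOf_eq_prime (hZpexp _ (hcomm y (hEH hy) e (hEH he)))
              (fun h => hne (commutatorElement_eq_one_iff_mul_comm.1 h))])
        intro z hz
        obtain ⟨k, hk⟩ := mem_zpowers_iff.1 (hzz.ge (show (z : G) ∈ Zp from hz))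
        rw [show z = ⁅(⟨y, hy⟩ : E), (⟨e, he⟩ : E)⁆ ^ k from Subtype.ext hk.symm]
        exact zpow_mem h1 k
    have hgE : ∀ e ∈ E, ⁅g, e⁆ ∈ Zp := by
      intro e he
      have hcU : ⁅g, e⁆ ∈ U := by rw [← commutatorElement_inv]; exact inv_mem (hHU g e (hEH he))
      refine hZpmem _ hcU ?_
      have h2 : (⁅g, e⁆ * e) ^ p = e ^ p := by
        rw [show ⁅g, e⁆ * e = g * e * g⁻¹ by rw [commutatorElement_def]; group, conj_pow,
          mem_center_iff.1 (hZpc (hEpow e he)) g, mul_inv_cancel_right]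
      have hce : Commute ⁅g, e⁆ e := (hcenH _ hcU e (hEH he)).symm
      rwa [hce.mul_pow, mul_eq_right] at h2
    -- realise `e ↦ ⁅g, e⁆` by an inner automorphism of `E`
    let Λ : E → (↥S → Zp) := fun f s =>
      ⟨⁅(f : G), ((s : E) : G)⁆, hcomm _ (hEH f.2) _ (hEH (s : E).2)⟩
    have hzero : ∀ f : E, (∀ s : S, ⁅(f : G), ((s : E) : G)⁆ = 1) → f ∈ Zp.subgroupOf E := by
      intro f hf
      refine hEZ ⟨f.2, fun y hy => ?_⟩
      have hle : (⊤ : Subgroup E) ≤ (centralizer ({(f : G)} : Set G)).comap E.subtype := by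
        rw [← hSgen, closure_le]
        intro s hs
        exact mem_centralizer_singleton_iff.2 (commutatorElement_eq_one_iff_mul_comm.1 (hf ⟨s, hs⟩)).symm
      exact mem_centralizer_singleton_iff.1 (hle (mem_top (⟨y, hy⟩ : E)))
    let Φ : E ⧸ Zp.subgroupOf E → (↥S → Zp) := fun x => Λ x.out
    have hΦ : Function.Injective Φ := by
      intro x y hxy
      rw [← QuotientGroup.out_eq' x, ← QuotientGroup.out_eq' y, QuotientGroup.eq]
      refine hzero _ fun s => ?_
      have h1 : ⁅((x.out : E) : G), ((s : E) : G)⁆ = ⁅((y.out : E) : G), ((s : E) : G)⁆ :=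
        congrArg Subtype.val (congrFun hxy s)
      have hS' : ∀ u v : E, (⁅u * v, (s : E)⁆ : E) = ⁅u, (s : E)⁆ * ⁅v, (s : E)⁆ := fun u v =>
        commutator_mul_left_of_central (mem_center_iff.2 fun z => Subtype.ext
          (hcenH _ (hZU (hcomm _ (hEH v.2) _ (hEH (s : E).2))) z (hEH z.2)))
      have h2 := hS' (x.out)⁻¹ y.out
      have h3 := hS' (x.out)⁻¹ x.out
      rw [inv_mul_cancel, commutatorElement_one_left] at h3
      have h4 : (⁅(x.out), (s : E)⁆ : E) = ⁅(y.out), (s : E)⁆ := Subtype.ext h1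
      rw [← h4, ← h3] at h2
      exact congrArg Subtype.val h2
    have hbij : Function.Bijective Φ := by
      refine (Nat.bijective_iff_injective_and_card Φ).2 ⟨hΦ, le_antisymm
        (Nat.card_le_card_of_injective Φ hΦ) ?_⟩
      rw [Nat.card_fun, hZp, Nat.card_zpowers, hwo, Nat.card_eq_fintype_card (α := ↥S), Fintype.card_coe,
        ← Subgroup.index, ← hZp, ← hfr]
      exact hScard
    obtain ⟨x, hx⟩ := hbij.2 fun s => ⟨⁅g, ((s : E) : G)⁆, hgE _ (s : E).2⟩
    refine ⟨x.out, x.out.2, ((x.out : E) : G)⁻¹ * g, ?_, by group⟩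
    intro y hy
    have hle : (⊤ : Subgroup E) ≤ (centralizer ({((x.out : E) : G)⁻¹ * g} : Set G)).comap E.subtype := by
      rw [← hSgen, closure_le]
      intro s hs
      refine mem_centralizer_singleton_iff.2 ?_
      have h1 : ⁅((x.out : E) : G), (s : G)⁆ = ⁅g, (s : G)⁆ := congrArg Subtype.val (congrFun hx ⟨s, hs⟩)
      rw [commutatorElement_def, commutatorElement_def, mul_left_inj] at h1
      show (s : G) * (((x.out : E) : G)⁻¹ * g) = ((x.out : E) : G)⁻¹ * g * (s : G)
      calc (s : G) * (((x.out : E) : G)⁻¹ * g)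
          = ((x.out : E) : G)⁻¹ * (((x.out : E) : G) * (s : G) * ((x.out : E) : G)⁻¹) * g := by group
        _ = ((x.out : E) : G)⁻¹ * (g * (s : G) * g⁻¹) * g := by rw [h1]
        _ = _ := by group
    exact mem_centralizer_singleton_iff.1 (hle (mem_top (⟨y, hy⟩ : E)))
  have hsupER : E ⊔ R = ⊤ := eq_top_iff.2 fun g _ => by
    obtain ⟨e, he, r, hr, rfl⟩ := hER g
    exact mul_mem (mem_sup_left he) (mem_sup_right hr)
  have hcentER : ∀ e ∈ E, ∀ r ∈ R, e * r = r * e := fun e he r hr => hr e he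
  -- the first factor, with `E = Zp` replaced by the trivial subgroup
  have hfirst : ∃ E' : Subgroup G, E' ⊔ R = ⊤ ∧ E' ≤ E ∧ (E' = ⊥ ∨ Cfsg.IsExtraspecial p E') := by
    by_cases hab : ∀ x ∈ E, ∀ y ∈ E, y * x = x * y
    · have hEq : E ≤ R := fun x hx y hy => hab x hx y hy
      exact ⟨⊥, by rw [bot_sup_eq, ← hsupER, sup_eq_right.2 hEq], bot_le, Or.inl rfl⟩
    refine ⟨E, hsupER, le_rfl, Or.inr ?_⟩
    have hcenE : center E = Zp.subgroupOf E := by
      refine le_antisymm (fun z hz => ?_) fun z hz => mem_center_iff.2 fun y =>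
        Subtype.ext (hcenH _ (hZU hz) y (hEH y.2))
      exact hEZ ⟨z.2, fun y hy => congrArg Subtype.val (mem_center_iff.1 hz ⟨y, hy⟩)⟩
    haveI : (Zp.subgroupOf E).Normal := hcenE ▸ inferInstance
    have hcard : Nat.card (center E) = p := by
      rw [hcenE, Nat.card_congr (subgroupOfEquivOfLe hZE).toEquiv, hZp, Nat.card_zpowers, hwo]
    have hcomE : commutator E = center E := by
      have hle : commutator E ≤ center E := by
        rw [hcenE, _root_.commutator_def, commutator_le]
        exact fun x _ y _ => hcomm x (hEH x.2) y (hEH y.2)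
      refine eq_of_le_of_card_ge hle ?_
      rw [hcard]
      refine Nat.le_of_dvd Nat.card_pos (dvd_card_of_ne_bot (hG.to_subgroup E) fun h => hab ?_)
      intro x hx y hy
      have h1 : ⁅(⟨y, hy⟩ : E), (⟨x, hx⟩ : E)⁆ ∈ commutator E := by
        rw [_root_.commutator_def]; exact commutator_mem_commutator (mem_top _) (mem_top _)
      rw [h, mem_bot, commutatorElement_eq_one_iff_mul_comm] at h1
      exact congrArg Subtype.val h1
    refine ⟨⟨hG.to_subgroup E, le_antisymm ?_ (hcomE ▸ commutator_le_frattini (hG.to_subgroup E)), hcomE⟩, hcard⟩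
    rw [hcenE]
    refine frattini_le_of_elementary_quotient ?_ fun e => hEpow e e.2
    rw [← hcenE, hcomE]
  -- the second factor
  by_cases hRab : IsMulCommutative R
  · have hReq : R = U := le_antisymm (fun r hr => hRU r hr fun u hu =>
      congrArg Subtype.val (hRab.is_comm.comm (⟨u, hUR hu⟩ : R) ⟨r, hr⟩)) hUR
    obtain ⟨E', hE'R, hE'E, hE'⟩ := hfirst
    refine ⟨E', R, fun e he => hcentER e (hE'E he), hE'R, hE', Or.inl ?_⟩
    rw [hReq]; exact hUcyc
  obtain ⟨n, hn⟩ := card_subgroup_eq_pow hG U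
  -- when `R` is non-abelian of order `p ^ 3` the whole group is extraspecial
  have hsmall : Nat.card R = p ^ 3 → ∃ E R : Subgroup G, (∀ e ∈ E, ∀ r ∈ R, e * r = r * e) ∧ E ⊔ R = ⊤ ∧
      (E = ⊥ ∨ Cfsg.IsExtraspecial p E) ∧
      (IsCyclic R ∨ (p = 2 ∧ 16 ≤ Nat.card R ∧
        ((∃ m : ℕ, Nonempty (↥R ≃* DihedralGroup m)) ∨ (∃ m : ℕ, Nonempty (↥R ≃* QuaternionGroup m)) ∨
          Cfsg.IsQuasiDihedral ↥R))) := by
    intro hR3
    refine ⟨⊤, ⊥, fun e _ r hr => by rw [mem_bot.1 hr, mul_one, one_mul], by simp, Or.inr ?_,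
      Or.inl inferInstance⟩
    have hRP := hG.to_subgroup R
    have hZR : Nat.card (center R) ≤ p := by
      have h2 := sq_le_index_center hRP hRab
      have h1 := Subgroup.card_mul_index (center R)
      rw [hR3] at h1
      refine Nat.le_of_mul_le_mul_right (c := p ^ 2) ?_ (pow_pos hp.pos 2)
      rw [← pow_succ' p 2, ← h1]
      exact Nat.mul_le_mul_left _ h2
    have hZpcen : Zp ≤ center G := hZpc
    have hcenR : center R = Zp.subgroupOf R := by
      refine (eq_of_le_of_card_ge (fun z hz => mem_center_iff.2 fun y => Subtype.ext (mem_center_iff.1 (hZpcen hz) y)) ?_).symm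
      rwa [Nat.card_congr (subgroupOfEquivOfLe (hZU.trans hUR)).toEquiv, hZp, Nat.card_zpowers, hwo]
    have hcenG : center G = Zp := by
      refine le_antisymm (fun g hg => ?_) hZpcen
      obtain ⟨e, he, r, hr, rfl⟩ := hER g
      have heZ : e ∈ Zp := hEZ ⟨he, fun y hy => by
        have h1 := mem_center_iff.1 hg y
        rw [← mul_assoc, mul_assoc e r y, ← hcentER y hy r hr, ← mul_assoc] at h1
        exact mul_right_cancel h1⟩
      have hrc : (⟨r, hr⟩ : R) ∈ center R := mem_center_iff.2 fun y => Subtype.ext (by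
        have h1 := mem_center_iff.1 hg y
        have h2 : (y : G) * e = e * (y : G) := mem_center_iff.1 (hZpcen heZ) y
        rw [← mul_assoc, h2, mul_assoc, mul_assoc] at h1
        exact mul_left_cancel h1)
      rw [hcenR] at hrc
      exact mul_mem heZ hrc
    have hRq : ∀ x y : R, ⁅x, y⁆ ∈ Zp.subgroupOf R ∧ x ^ p ∈ Zp.subgroupOf R := by
      have hq : Nat.card (R ⧸ center R) = p ^ 2 := by
        have h1 := Subgroup.card_eq_card_quotient_mul_card_subgroup (center R)
        rw [hR3, hcenR, Nat.card_congr (subgroupOfEquivOfLe (hZU.trans hUR)).toEquiv, hZp, Nat.card_zpowers,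
          hwo, pow_succ] at h1
        rw [hcenR]
        exact (Nat.eq_of_mul_eq_mul_right hp.pos h1).symm
      intro x y
      rw [← hcenR]
      refine ⟨(QuotientGroup.eq_one_iff _).1 ?_, (QuotientGroup.eq_one_iff _).1 ?_⟩
      · rw [← QuotientGroup.mk'_apply, map_commutatorElement, commutatorElement_eq_one_iff_mul_comm]
        exact IsPGroup.commutative_of_card_eq_prime_sq hq _ _
      · obtain ⟨i, hi, hord⟩ := (Nat.dvd_prime_pow hp).1 (hq ▸ orderOf_dvd_natCard (QuotientGroup.mk x : R ⧸ center R))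
        rw [QuotientGroup.mk_pow, ← orderOf_dvd_iff_pow_eq_one, hord]
        rcases (show i ≤ 1 ∨ i = 2 by omega) with h | rfl
        · exact (pow_dvd_pow p h).trans (pow_one p).dvd
        · exact absurd (isCyclic_of_orderOf_eq_card _ (by rw [hord, hq])) (not_isCyclic_quotient_center hRab)
    haveI : Zp.Normal := normal_of_le_center hZpcen
    have hcomG : commutator G ≤ Zp := by
      rw [_root_.commutator_def, commutator_le]
      intro g _ g' _
      obtain ⟨e, he, r, hr, rfl⟩ := hER g
      obtain ⟨e', he', r', hr', rfl⟩ := hER g'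
      rw [← QuotientGroup.eq_one_iff, ← QuotientGroup.mk'_apply, map_commutatorElement,
        commutatorElement_eq_one_iff_mul_comm, map_mul, map_mul]
      have c1 : Commute (QuotientGroup.mk' Zp e) (QuotientGroup.mk' Zp e') :=
        commutatorElement_eq_one_iff_mul_comm.1 (by
          rw [← map_commutatorElement]; exact (QuotientGroup.eq_one_iff _).2 (hcomm e (hEH he) e' (hEH he')))
      have c2 : Commute (QuotientGroup.mk' Zp r) (QuotientGroup.mk' Zp r') :=
        commutatorElement_eq_one_iff_mul_comm.1 (by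
          rw [← map_commutatorElement]; exact (QuotientGroup.eq_one_iff _).2 (hRq ⟨r, hr⟩ ⟨r', hr'⟩).1)
      have c3 : Commute (QuotientGroup.mk' Zp e) (QuotientGroup.mk' Zp r') :=
        (show Commute e r' from hcentER e he r' hr').map _
      have c4 : Commute (QuotientGroup.mk' Zp r) (QuotientGroup.mk' Zp e') :=
        (show Commute e' r from hcentER e' he' r hr).symm.map _
      exact ((c1.mul_right c3).mul_left (c4.mul_right c2)).eq
    have hneG : commutator G ≠ ⊥ := fun h => hRab ⟨⟨fun x y => Subtype.ext (by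
      have h1 : ⁅(x : G), (y : G)⁆ ∈ commutator G := by
        rw [_root_.commutator_def]; exact commutator_mem_commutator (mem_top _) (mem_top _)
      rwa [h, mem_bot, commutatorElement_eq_one_iff_mul_comm] at h1)⟩⟩
    have hcomGZ : commutator G = center G := by
      rw [hcenG]
      refine eq_of_le_of_card_ge hcomG ?_
      rw [hZp, Nat.card_zpowers, hwo]
      exact Nat.le_of_dvd Nat.card_pos (dvd_card_of_ne_bot hG hneG)
    have hfrG : frattini G = center G := by
      refine le_antisymm ?_ (hcomGZ ▸ commutator_le_frattini hG)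
      rw [hcenG]
      refine frattini_le_of_elementary_quotient (p := p) hcomG fun g => ?_
      obtain ⟨e, he, r, hr, rfl⟩ := hER g
      rw [(show Commute e r from hcentER e he r hr).mul_pow]
      exact mul_mem (hEpow e he) (hRq ⟨r, hr⟩ ⟨r, hr⟩).2
    have he : (⊤ : Subgroup G) ≃* G := Subgroup.topEquiv
    have hcm : (center (⊤ : Subgroup G)).map he.toMonoidHom = center G := by
      ext g
      rw [mem_map_equiv, mem_center_iff, mem_center_iff]
      constructor
      · intro h y
        have := congrArg he (h (he.symm y))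
        simpa using this
      · intro h y
        apply he.injective
        simpa using h (he y)
    have hinj := map_injective (f := he.toMonoidHom) he.injective
    refine ⟨⟨hG.to_subgroup _, hinj ?_, hinj ?_⟩, ?_⟩
    · rw [hcm, ← hfrG]
      exact CfsgLib.Base.map_frattini_mulEquiv he
    · rw [hcm, ← hcomGZ, _root_.commutator_def, map_commutator, map_top_of_surjective _ he.surjective,
        _root_.commutator_def]
    · have hc := Nat.card_congr (equivMapOfInjective (center (⊤ : Subgroup G)) he.toMonoidHom he.injective).toEquiv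
      rw [hc, hcm, hcenG, hZp, Nat.card_zpowers, hwo]
  have hUnR : (U.subgroupOf R).Normal := inferInstance
  haveI : IsCyclic (U.subgroupOf R) :=
    isCyclic_of_surjective (subgroupOfEquivOfLe hUR).symm.toMonoidHom (subgroupOfEquivOfLe hUR).symm.surjective
  have hCR : centralizer ((U.subgroupOf R : Subgroup R) : Set R) = U.subgroupOf R := by
    refine le_antisymm (fun (r : R) (hr : r ∈ centralizer _) => hRU r r.2 fun u hu => congrArg Subtype.val (hr ⟨u, hUR hu⟩ hu))
      fun r hr s hs => Subtype.ext (congrArg Subtype.val (hUab.is_comm.comm (⟨(s : G), hs⟩ : U) ⟨(r : G), hr⟩) :)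
  have hnR : Nat.card (U.subgroupOf R) = p ^ n := by
    rw [Nat.card_congr (subgroupOfEquivOfLe hUR).toEquiv, hn]
  rcases Cfsg.Agent.S3761.result (hG.to_subgroup R) hRab (U.subgroupOf R) inferInstance n hnR hCR with
    ⟨rfl, hcardR, hshape⟩ | ⟨hrel, hΩel, hΩcard, hΩchar⟩
  · by_cases hn3 : 3 ≤ n
    · obtain ⟨E', hE'R, hE'E, hE'⟩ := hfirst
      refine ⟨E', R, fun e he => hcentER e (hE'E he), hE'R, hE', Or.inr ⟨rfl, ?_, hshape⟩⟩
      rw [hcardR]
      calc 16 = 2 ^ 4 := by norm_num
        _ ≤ _ := Nat.pow_le_pow_right (by norm_num) (by omega)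
    · refine hsmall ?_
      have hn2 : n = 2 := by
        by_contra hne
        refine hRab ?_
        rcases (show n = 0 ∨ n = 1 by omega) with rfl | rfl
        · haveI : IsCyclic R := isCyclic_of_prime_card (p := 2) (by rw [hcardR]; norm_num)
          exact IsCyclic.isMulCommutative
        · exact ⟨⟨IsPGroup.commutative_of_card_eq_prime_sq (p := 2) (by rw [hcardR])⟩⟩
      rw [hcardR, hn2]
  · set aR : R := ⟨a, hUR haU⟩ with haR
    have hUR' : U.subgroupOf R = zpowers aR := by
      ext r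
      rw [mem_subgroupOf, mem_zpowers_iff]
      constructor
      · intro h
        obtain ⟨k, hk⟩ := mem_zpowers_iff.1 (ha ▸ h : (r : G) ∈ zpowers a)
        exact ⟨k, Subtype.ext hk⟩
      · rintro ⟨k, rfl⟩
        exact zpow_mem haU k
    set M := centralizer (Cfsg.powerClosure p 1 (U.subgroupOf R) : Set R) with hM
    have hMiff : ∀ r : R, r ∈ M ↔ (r : G) * a ^ p = a ^ p * (r : G) := by
      intro r
      have hpc : Cfsg.powerClosure p 1 (U.subgroupOf R) = zpowers (aR ^ p) := by
        refine le_antisymm ((closure_le _).2 ?_) (zpowers_le.2 (subset_closure ⟨aR, by rw [hUR']; exact mem_zpowers _, by rw [pow_one]⟩))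
        rintro _ ⟨x, hx, rfl⟩
        rw [hUR'] at hx
        obtain ⟨k, rfl⟩ := mem_zpowers_iff.1 hx
        exact mem_zpowers_iff.2 ⟨k, by rw [pow_one, ← zpow_natCast aR, ← zpow_natCast (aR ^ k), ← zpow_mul, ← zpow_mul, mul_comm]⟩
      rw [hM, hpc, zpowers_eq_closure, centralizer_closure, mem_centralizer_singleton_iff, Subtype.ext_iff]
      rfl
    set Ω := Cfsg.omegaOne p M with hΩ
    by_cases hn3 : 3 ≤ n
    · exfalso
      haveI := hΩchar
      haveI : Ω.Normal := inferInstance
      have hΩM : Ω ≤ M := (closure_le _).2 fun x hx => hx.1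
      have hUM : U.subgroupOf R ≤ M := fun r hr => (hMiff r).2
        (congrArg Subtype.val (hUab.is_comm.comm (⟨(r : G), hr⟩ : U) ⟨a ^ p, pow_mem haU p⟩))
      have hΩnU : ¬ Ω ≤ U.subgroupOf R := by
        intro hle
        have hle2 : ∀ x ∈ Ω, (x : G) ∈ Zp := fun x hx =>
          hZpmem _ (hle hx) (congrArg Subtype.val (hΩel.2 x hx))
        have := Subgroup.card_le_of_le (show Ω ≤ Zp.subgroupOf R from hle2)
        rw [hΩcard, Nat.card_congr (subgroupOfEquivOfLe (hZU.trans hUR)).toEquiv, hZp, Nat.card_zpowers, hwo] at this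
        nlinarith [hp.two_le]
      have hMsup : U.subgroupOf R ⊔ Ω = M := by
        refine le_antisymm (sup_le hUM hΩM) ?_
        have hlt : U.subgroupOf R < U.subgroupOf R ⊔ Ω :=
          lt_of_le_of_ne le_sup_left fun h => hΩnU (h ▸ le_sup_right)
        have h1 := relIndex_mul_relIndex (U.subgroupOf R) (U.subgroupOf R ⊔ Ω) M le_sup_left (sup_le hUM hΩM)
        rw [hrel] at h1
        rcases Nat.prime_mul_iff.1 (h1.symm ▸ hp) with ⟨-, h⟩ | ⟨-, h⟩
        · exact relIndex_eq_one.1 h
        · exact absurd (relIndex_eq_one.1 h) hlt.not_ge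
      set P1 := zpowers (a ^ p) with hP1
      set P2 := zpowers (a ^ (p * p)) with hP2
      have hP1U : P1 ≤ U := zpowers_le.2 (pow_mem haU p)
      have hoa : orderOf a = p ^ n := by rw [← Nat.card_zpowers, ← ha, hn]
      have hZ2 : Zp ≤ P2 := by
        have hne : P2 ≠ ⊥ := fun h => by
          rw [hP2, zpowers_eq_bot, ← orderOf_dvd_iff_pow_eq_one, hoa, ← sq,
            Nat.pow_dvd_pow_iff_le_right hp.one_lt] at h
          omega
        obtain ⟨v, hv⟩ := exists_prime_orderOf_dvd_card' (G := P2) p (dvd_card_of_ne_bot hG hne)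
        have hvU : (v : G) ∈ U := zpowers_le.2 (pow_mem haU _) v.2
        have hvo : orderOf (v : G) = p := by rw [Subgroup.orderOf_coe, hv]
        have : zpowers (v : G) = Zp := eq_of_le_of_card_ge
          (zpowers_le.2 (hZpmem _ hvU (orderOf_dvd_iff_pow_eq_one.1 hvo.dvd)))
          (by rw [hZp, Nat.card_zpowers, Nat.card_zpowers, hvo, hwo])
        rw [← this]; exact zpowers_le.2 v.2
      let S : Set G := {x | x * a ^ p = a ^ p * x ∧ x ^ p ∈ P2}
      have hSinv : ∀ (φ : MulAut G), ∀ x ∈ S, φ x ∈ S := by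
        intro φ x hx
        have hφa : ∀ ψ : MulAut G, ∃ l : ℤ, a ^ l = ψ a := fun ψ => mem_zpowers_iff.1 (by
          rw [← ha]
          exact (characteristic_iff_map_eq.1 hUchar ψ) ▸ mem_map_of_mem ψ.toMonoidHom haU)
        obtain ⟨l, hl⟩ := hφa φ
        obtain ⟨l', hl'⟩ := hφa φ.symm
        refine ⟨?_, ?_⟩
        · have hc : Commute (a ^ p) x := hx.1.symm
          have h1 : a ^ p = φ ((a ^ p) ^ l') := by
            rw [show (a ^ p) ^ l' = (a ^ l') ^ p by
              rw [← zpow_natCast, ← zpow_natCast, ← zpow_mul, ← zpow_mul, mul_comm], map_pow, hl',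
              φ.apply_symm_apply]
          rw [h1, ← map_mul, ← map_mul, (hc.zpow_left l').eq]
        · obtain ⟨j, hj⟩ := mem_zpowers_iff.1 hx.2
          rw [← map_pow, ← hj, map_zpow, map_pow, ← hl]
          refine mem_zpowers_iff.2 ⟨l * j, ?_⟩
          rw [← zpow_natCast, ← zpow_natCast, ← zpow_mul, ← zpow_mul, ← zpow_mul]
          congr 1; ring
      -- every element of `S` centralises `Ω`
      have hScent : ∀ x ∈ S, ∀ v ∈ Ω, x * (v : G) = (v : G) * x := by
        intro x hx v hv
        obtain ⟨e, he, r, hr, rfl⟩ := hER x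
        have hea : Commute e (a ^ p) := hcenH _ (pow_mem haU p) e (hEH he)
        have hrM : (⟨r, hr⟩ : R) ∈ M := by
          rw [hMiff]
          have h1 := hx.1
          rw [mul_assoc, ← mul_assoc (a ^ p), ← hea.eq, mul_assoc] at h1
          exact mul_left_cancel h1
        have hev : Commute e (v : G) := hcentER e he _ v.2
        rw [← hMsup, mem_sup_of_normal_right] at hrM
        obtain ⟨u, hu, v', hv', huv⟩ := hrM
        have hrp : r ^ p ∈ P2 := by
          have h1 := hx.2
          rw [(show Commute e r from hcentER e he r hr).mul_pow] at h1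
          exact (mul_mem_cancel_left (hZ2 (hEpow e he))).1 h1
        have hvv : Commute (v' : R) v :=
          congrArg Subtype.val (hΩel.1.is_comm.comm (⟨v', hv'⟩ : Ω) ⟨v, hv⟩)
        have huU : (u : G) ∈ U := hu
        have hv'a : (v' : G) * a ^ p = a ^ p * (v' : G) := (hMiff v').1 (hΩM hv')
        -- `u` is a power of `a ^ p`
        have hcU : ⁅(v' : G), (u : G)⁆ ∈ U := by
          rw [commutatorElement_def]
          exact mul_mem (Subgroup.Normal.conj_mem inferInstance _ huU _) (inv_mem huU)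
        have hup : Commute (v' : G) ((u : G) ^ p) := by
          obtain ⟨k, hk⟩ := mem_zpowers_iff.1 (ha ▸ huU : (u : G) ∈ zpowers a)
          rw [← hk, ← zpow_natCast, ← zpow_mul, mul_comm, zpow_mul, zpow_natCast]
          exact (show Commute (v' : G) (a ^ p) from hv'a).zpow_right k
        have hcp : ⁅(v' : G), (u : G)⁆ ^ p = 1 := by
          have hcu : Commute ⁅(v' : G), (u : G)⁆ (u : G) :=
            congrArg Subtype.val (hUab.is_comm.comm (⟨_, hcU⟩ : U) ⟨_, huU⟩)
          have h1 : (⁅(v' : G), (u : G)⁆ * u) ^ p = (u : G) ^ p := by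
            rw [show ⁅(v' : G), (u : G)⁆ * u = v' * u * (v' : G)⁻¹ by rw [commutatorElement_def]; group,
              conj_pow, hup.eq, mul_inv_cancel_right]
          rwa [hcu.mul_pow, mul_eq_right] at h1
        have hcZ : ⁅(v' : G), (u : G)⁆ ∈ P2 := hZ2 (hZpmem _ hcU hcp)
        have hP2U : P2 ≤ P1 := zpowers_le.2 (mem_zpowers_iff.2 ⟨p, by
          rw [zpow_natCast, ← pow_mul]⟩)
        have hP2comm : ∀ t ∈ P2, Commute (v' : G) t := by
          intro t ht
          obtain ⟨k, rfl⟩ := mem_zpowers_iff.1 (hP2U ht)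
          exact (show Commute (v' : G) (a ^ p) from hv'a).zpow_right k
        have hpow : ∀ k : ℕ, ∃ t ∈ P2, ((u : G) * v') ^ k = (u : G) ^ k * (v' : G) ^ k * t := by
          intro k
          induction k with
          | zero => exact ⟨1, one_mem _, by simp⟩
          | succ k ih =>
            obtain ⟨t, ht, he'⟩ := ih
            have hcv : Commute (v' : G) ⁅(v' : G), (u : G)⁆ := hP2comm _ hcZ
            have hswap : ∀ j : ℕ, (v' : G) ^ j * u = u * (v' : G) ^ j * ⁅(v' : G), (u : G)⁆ ^ j := by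
              intro j
              induction j with
              | zero => simp
              | succ j ihj =>
                have hcu : Commute ⁅(v' : G), (u : G)⁆ (u : G) :=
                  congrArg Subtype.val (hUab.is_comm.comm (⟨_, hcU⟩ : U) ⟨_, huU⟩)
                have hvu : (v' : G) * u = u * ((v' : G) * ⁅(v' : G), (u : G)⁆) := by
                  rw [hcv.eq, ← mul_assoc, ← hcu.eq, commutatorElement_def]; group
                calc (v' : G) ^ (j + 1) * u = (v' : G) * ((v' : G) ^ j * u) := by rw [pow_succ', mul_assoc]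
                  _ = ((v' : G) * u) * (v' : G) ^ j * ⁅(v' : G), (u : G)⁆ ^ j := by rw [ihj]; simp only [mul_assoc]
                  _ = u * ((v' : G) * (⁅(v' : G), (u : G)⁆ * (v' : G) ^ j)) * ⁅(v' : G), (u : G)⁆ ^ j := by
                    rw [hvu]; simp only [mul_assoc]
                  _ = u * ((v' : G) * ((v' : G) ^ j * ⁅(v' : G), (u : G)⁆)) * ⁅(v' : G), (u : G)⁆ ^ j := by
                    rw [(hcv.symm.pow_right j).eq]
                  _ = u * ((v' : G) * (v' : G) ^ j) * (⁅(v' : G), (u : G)⁆ * ⁅(v' : G), (u : G)⁆ ^ j) := by simp only [mul_assoc]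
                  _ = _ := by rw [← pow_succ', ← pow_succ']
            refine ⟨⁅(v' : G), (u : G)⁆ ^ k * t, mul_mem (pow_mem hcZ k) ht, ?_⟩
            have htu : Commute t ((u : G) * v') := by
              refine Commute.mul_right ?_ (hP2comm t ht).symm
              exact congrArg Subtype.val (hUab.is_comm.comm (⟨_, hP1U (hP2U ht)⟩ : U) ⟨_, huU⟩)
            calc ((u : G) * v') ^ (k + 1) = (u : G) ^ k * (v' : G) ^ k * (t * (u * v')) := by
                  rw [pow_succ, he', mul_assoc ((u : G) ^ k * (v' : G) ^ k)]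
              _ = (u : G) ^ k * ((v' : G) ^ k * u) * v' * t := by rw [htu.eq]; group
              _ = (u : G) ^ k * u * (v' : G) ^ k * (⁅(v' : G), (u : G)⁆ ^ k * v') * t := by
                  rw [hswap]; group
              _ = (u : G) ^ k * u * ((v' : G) ^ k * v') * (⁅(v' : G), (u : G)⁆ ^ k * t) := by
                  rw [← (hcv.pow_right k).eq]; group
              _ = _ := by rw [← pow_succ, ← pow_succ]
        obtain ⟨t, ht, hpe⟩ := hpow p
        have huv' : (u : G) * v' = r := congrArg Subtype.val huv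
        rw [huv', show (v' : G) ^ p = 1 from congrArg Subtype.val (hΩel.2 v' hv'), mul_one] at hpe
        have hu2 : (u : G) ^ p ∈ P2 := by
          rw [hpe] at hrp
          exact (mul_mem_cancel_right ht).1 hrp
        have hu1 : (u : G) ∈ P1 := by
          obtain ⟨k, hk⟩ := mem_zpowers_iff.1 (ha ▸ huU : (u : G) ∈ zpowers a)
          obtain ⟨j, hj⟩ := mem_zpowers_iff.1 hu2
          rw [← hk, ← zpow_natCast a, ← zpow_natCast (a ^ k), ← zpow_mul, ← zpow_mul,
            zpow_eq_zpow_iff_modEq, hoa, Int.modEq_iff_dvd] at hj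
          have hdvd : ((p : ℤ) * p) ∣ ((p ^ n : ℕ) : ℤ) := by
            rw [Nat.cast_pow, ← sq]; exact pow_dvd_pow _ (by omega)
          have h2 := hdvd.trans hj
          push_cast at h2
          have h3 : (p : ℤ) * p ∣ k * p := by
            have := dvd_add h2 (dvd_mul_right ((p : ℤ) * p) j)
            rwa [sub_add_cancel] at this
          rw [mul_dvd_mul_iff_right (Int.natCast_ne_zero.2 hp.ne_zero)] at h3
          obtain ⟨c, rfl⟩ := h3
          exact mem_zpowers_iff.2 ⟨c, by rw [← hk, zpow_mul, zpow_natCast]⟩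
        obtain ⟨k, hk⟩ := mem_zpowers_iff.1 hu1
        have huv2 : Commute (u : G) (v : G) := by
          rw [← hk]
          exact ((hMiff v).1 (hΩM hv)).symm |> fun h => (show Commute (a ^ p) (v : G) from h).zpow_left k
        rw [← huv']
        exact (hev.mul_left (huv2.mul_left (congrArg Subtype.val hvv.eq : Commute (v' : G) (v : G)))).eq
      have hSsub : ∀ v ∈ Ω, (v : G) ∈ S := fun v hv => ⟨(hMiff v).1 (hΩM hv), by
        rw [show (v : G) ^ p = 1 from congrArg Subtype.val (hΩel.2 v hv)]; exact one_mem _⟩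
      have hP1ne : P1 ≠ ⊥ := fun h => by
        rw [hP1, zpowers_eq_bot, ← orderOf_dvd_iff_pow_eq_one, hoa] at h
        have := Nat.le_of_dvd hp.pos h
        have : p ^ 2 ≤ p ^ n := Nat.pow_le_pow_right hp.pos (by omega)
        nlinarith [hp.two_le]
      refine hΩnU fun v hv => ?_
      have hvP1 : (v : G) ∈ P1 := by
        refine mem_of_symplectic hG hsymp S hSinv hP1ne ?_ ?_ (subset_closure (hSsub v hv))
          (fun x hx => hScent x hx v hv) (congrArg Subtype.val (hΩel.2 v hv))
        · rw [hP1, zpowers_le]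
          refine subset_closure ⟨rfl, ?_⟩
          rw [← pow_mul]; exact mem_zpowers _
        · rw [hP1, zpowers_le]
          exact fun x hx => hx.1
      exact hP1U hvP1
    · refine hsmall ?_
      have hn2 : n = 2 := by
        by_contra hne
        have hap : a ^ p = 1 := by
          rw [← orderOf_dvd_iff_pow_eq_one, ← Nat.card_zpowers, ← ha, hn]
          exact (pow_dvd_pow p (show n ≤ 1 by omega)).trans (pow_one p).dvd
        have hMtop : M = ⊤ := eq_top_iff.2 fun r _ => (hMiff r).2 (by rw [hap, mul_one, one_mul])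
        rw [hMtop, relIndex_top_right] at hrel
        have h1 := card_mul_index (U.subgroupOf R)
        rw [hrel, hnR] at h1
        refine hRab ?_
        rcases (show n = 0 ∨ n = 1 by omega) with rfl | rfl
        · haveI : IsCyclic R := isCyclic_of_prime_card (p := p) (by rw [← h1, pow_zero, one_mul])
          exact IsCyclic.isMulCommutative
        · exact ⟨⟨IsPGroup.commutative_of_card_eq_prime_sq (p := p) (by rw [← h1, pow_one, sq])⟩⟩
      subst hn2
      have hMtop : M = ⊤ := by
        refine eq_top_iff.2 fun r _ => (hMiff r).2 ?_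
        have hap : a ^ p ∈ Zp := hZpmem _ (pow_mem haU p) (by
          rw [← pow_mul, ← sq, ← hn, ha, Nat.card_zpowers, pow_orderOf_eq_one])
        exact mem_center_iff.1 (hZpc hap) r
      rw [hMtop, relIndex_top_right] at hrel
      have h1 := card_mul_index (U.subgroupOf R)
      rw [hrel, hnR] at h1
      rw [← h1, ← pow_succ]

end CfsgLib.PGroups
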