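import Cfsg.Agent.Lib.PGroups.Commutator
import Cfsg.Agent.Lib.Coprime.Action2
import Cfsg.Agent.Lib.Fusion.SmallElements

/-!
# The Baer trick and Thompson's strengthened `P × Q` lemma for odd primes
-/

set_option autoImplicit false
set_option linter.unusedSectionVars false

namespace CfsgLib.PGroups.BaerAction

open Subgroup
open scoped commutatorElement

/-- Fixed points of a `p`-group normalizing a coprime group control the latter on an abelian `p`-group. -/
theorem abelian_case {Γ M : Type*} [Group Γ] [AddCommGroup M] [Finite M] [DistribMulAction Γ M]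
    {p : ℕ} [hp : Fact p.Prime] (hM : ∀ m : M, p • m = 0) (P Q : Subgroup Γ) [Finite P] [Finite Q]
    (hP : IsPGroup p P) (hQ : (Nat.card Q).Coprime p) (hPQ : P ≤ normalizer (Q : Set Γ))
    (hfix : ∀ m : M, (∀ t ∈ P, t • m = m) → ∀ q ∈ Q, q • m = m) :
    ∀ q ∈ Q, ∀ m : M, q • m = m := by
  classical
  haveI := Fintype.ofFinite Q
  let f : M →+ M := ∑ q : Q, DistribSMul.toAddMonoidHom M (q : Γ)
  have hf : ∀ m, f m = ∑ q : Q, (q : Γ) • m := fun m => by simp [f]
  have hsmul : ∀ (q₀ : Q) (m : M), f ((q₀ : Γ) • m) = f m := fun q₀ m => by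
    rw [hf, hf]
    refine Fintype.sum_equiv (Equiv.mulRight q₀) _ _ fun q => ?_
    rw [Equiv.coe_mulRight, Subgroup.coe_mul, mul_smul]
  -- the kernel is invariant under `P`
  have hinv : ∀ t ∈ P, ∀ m : M, f m = 0 → f (t • m) = 0 := by
    intro t ht m hm
    have h1 : f (t • m) = t • f m := by
      rw [hf, hf, Finset.smul_sum]
      refine Fintype.sum_equiv
        ({ toFun := fun q => ⟨t⁻¹ * (q : Γ) * t, (mem_normalizer_iff''.mp (hPQ ht) _).mp q.2⟩
           invFun := fun q => ⟨t * (q : Γ) * t⁻¹, (mem_normalizer_iff.mp (hPQ ht) _).mp q.2⟩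
           left_inv := fun q => Subtype.ext (by simp [mul_assoc])
           right_inv := fun q => Subtype.ext (by simp [mul_assoc]) } : Q ≃ Q) _ _ fun q => ?_
      simp only [Equiv.coe_fn_mk, ← mul_smul]
      congr 1
      group
    rw [h1, hm, smul_zero]
  suffices hker : ∀ m, f m = 0 → m = 0 by
    intro q hq m
    have h1 : f (q • m - m) = 0 := by rw [map_sub, hsmul ⟨q, hq⟩, sub_self]
    exact sub_eq_zero.mp (hker _ h1)
  by_contra hne
  push Not at hne
  obtain ⟨m₀, hm₀, hm₀1⟩ := hne
  -- a nonzero fixed point of `P` in the kernel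
  let K := f.ker
  letI : MulAction P K :=
    { smul := fun t m => ⟨(t : Γ) • (m : M), hinv t t.2 m m.2⟩
      one_smul := fun m => Subtype.ext (one_smul Γ (m : M))
      mul_smul := fun s t m => Subtype.ext (mul_smul (s : Γ) (t : Γ) (m : M)) }
  have hdvd : p ∣ Nat.card K := by
    have ho : addOrderOf (⟨m₀, hm₀⟩ : K) = p := by
      refine addOrderOf_eq_prime (Subtype.ext (hM m₀)) fun h => hm₀1 (congrArg Subtype.val h)
    exact ho ▸ addOrderOf_dvd_natCard _
  obtain ⟨⟨m, hm⟩, hmfix, hm1⟩ := hP.exists_fixed_point_of_prime_dvd_card_of_fixed_point K hdvd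
    (a := (0 : K)) (fun t => Subtype.ext (smul_zero _))
  have hq := hfix m fun t ht => congrArg Subtype.val (hmfix ⟨t, ht⟩)
  have hsum : f m = Nat.card Q • m := by
    rw [hf, Finset.sum_congr rfl (fun (q : Q) _ => hq q q.2), Finset.sum_const, Finset.card_univ,
      Nat.card_eq_fintype_card]
  refine hm1 (Subtype.ext ?_).symm
  show m = 0
  refine AddMonoid.addOrderOf_eq_one_iff.mp (Nat.eq_one_of_dvd_coprimes hQ ?_ ?_)
  · exact addOrderOf_dvd_of_nsmul_eq_zero (hsum.symm.trans hm)
  · exact addOrderOf_dvd_of_nsmul_eq_zero (hM m)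

/-- A group of class at most two and exponent `p`, `p` odd, as an abelian group. -/
structure Baer (p : ℕ) (H : Type*) where
  val : H

section

variable {p : ℕ} {H : Type*} [Group H]

/-- The hypotheses of the Baer trick. -/
class IsBaer (p : ℕ) (H : Type*) [Group H] : Prop where
  odd : Odd p
  central : ∀ a b : H, ⁅a, b⁆ ∈ center H
  exp : ∀ a : H, a ^ p = 1

variable [hB : IsBaer p H]

include hB

theorem comm_central (a b x : H) : ⁅a, b⁆ * x = x * ⁅a, b⁆ :=
  (mem_center_iff.mp (hB.central a b) x).symm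

theorem pow_central (a b : H) (n : ℕ) (x : H) : ⁅a, b⁆ ^ n * x = x * ⁅a, b⁆ ^ n :=
  (mem_center_iff.mp (pow_mem (hB.central a b) n) x).symm

theorem pow_two_h (a : H) : a ^ ((p + 1) / 2) * a ^ ((p + 1) / 2) = a := by
  rw [← pow_add, show (p + 1) / 2 + (p + 1) / 2 = p + 1 by obtain ⟨k, hk⟩ := hB.odd; omega,
    pow_succ, hB.exp, one_mul]

instance : Add (Baer p H) where
  add x y := ⟨x.val * y.val * ⁅y.val, x.val⁆ ^ ((p + 1) / 2)⟩

instance : Zero (Baer p H) := ⟨⟨1⟩⟩

instance : Neg (Baer p H) where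
  neg x := ⟨x.val⁻¹⟩

theorem add_val (x y : Baer p H) :
    (x + y).val = x.val * y.val * ⁅y.val, x.val⁆ ^ ((p + 1) / 2) := rfl

theorem zero_val : (0 : Baer p H).val = 1 := rfl

theorem neg_val (x : Baer p H) : (-x).val = x.val⁻¹ := rfl

omit hB in
theorem ext {x y : Baer p H} (h : x.val = y.val) : x = y := by cases x; cases y; cases h; rfl

instance : AddCommGroup (Baer p H) where
  nsmul := nsmulRec
  zsmul := zsmulRec
  add_assoc x y z := by
    obtain ⟨x⟩ := x
    obtain ⟨y⟩ := y
    obtain ⟨z⟩ := z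
    refine ext ?_
    simp only [add_val, neg_val, zero_val]
    set h := (p + 1) / 2
    have e1 : ⁅z, x * y * ⁅y, x⁆ ^ h⁆ = ⁅z, x⁆ * ⁅z, y⁆ := by
      rw [commutator_mul_right_of_central (hB.central _ _),
        commutator_mul_right_of_central (hB.central _ _), commutator_pow_right_of_central (hB.central _ _),
        show ⁅z, ⁅y, x⁆⁆ = 1 from commutatorElement_eq_one_iff_mul_comm.mpr (comm_central (p := p) y x z).symm,
        one_pow, mul_one]
    have e2 : ⁅y * z * ⁅z, y⁆ ^ h, x⁆ = ⁅y, x⁆ * ⁅z, x⁆ := by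
      rw [commutator_mul_left_of_central (hB.central _ _),
        commutator_mul_left_of_central (hB.central _ _), commutator_pow_left_of_central (hB.central _ _),
        show ⁅⁅z, y⁆, x⁆ = 1 from commutatorElement_eq_one_iff_mul_comm.mpr (comm_central (p := p) z y x),
        one_pow, mul_one]
    rw [e1, e2, (show Commute ⁅z, x⁆ ⁅z, y⁆ from comm_central (p := p) z x ⁅z, y⁆).mul_pow,
      (show Commute ⁅y, x⁆ ⁅z, x⁆ from comm_central (p := p) y x ⁅z, x⁆).mul_pow]
    calc x * y * ⁅y, x⁆ ^ h * z * (⁅z, x⁆ ^ h * ⁅z, y⁆ ^ h)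
        = x * y * z * (⁅y, x⁆ ^ h * (⁅z, x⁆ ^ h * ⁅z, y⁆ ^ h)) := by
          rw [mul_assoc (x * y) (⁅y, x⁆ ^ h) z, pow_central (p := p) y x h z]; group
      _ = x * y * z * (⁅z, y⁆ ^ h * (⁅y, x⁆ ^ h * ⁅z, x⁆ ^ h)) := by
          rw [← mul_assoc (⁅y, x⁆ ^ h), pow_central (p := p) z y h (⁅y, x⁆ ^ h * ⁅z, x⁆ ^ h)]
      _ = _ := by group
  zero_add x := by
    obtain ⟨x⟩ := x
    refine ext ?_
    simp [add_val, zero_val]
  add_zero x := by
    obtain ⟨x⟩ := x
    refine ext ?_
    simp [add_val, zero_val]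
  neg_add_cancel x := by
    obtain ⟨x⟩ := x
    refine ext ?_
    simp only [add_val, neg_val, zero_val]
    rw [commutatorElement_eq_one_iff_mul_comm.mpr (by group)]
    simp
  add_comm x y := by
    obtain ⟨x⟩ := x
    obtain ⟨y⟩ := y
    refine ext ?_
    simp only [add_val, neg_val, zero_val]
    set h := (p + 1) / 2 with hh
    have e : x * y = y * x * ⁅y, x⁆⁻¹ := by
      rw [← commutator_swap_inv, ← comm_central (p := p) x y (y * x), commutatorElement_def]; group
    calc x * y * ⁅y, x⁆ ^ h = y * x * (⁅y, x⁆⁻¹ * ⁅y, x⁆ ^ h) := by rw [e]; group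
      _ = y * x * (⁅y, x⁆ ^ h)⁻¹ := by
          congr 1
          rw [inv_mul_eq_iff_eq_mul, eq_mul_inv_iff_mul_eq, hh, pow_two_h]
      _ = _ := by rw [← inv_pow, ← commutator_swap_inv]

theorem nsmul_val (x : Baer p H) (n : ℕ) : (n • x).val = x.val ^ n := by
  induction n with
  | zero => rw [zero_smul, pow_zero]; rfl
  | succ n ih =>
    rw [succ_nsmul, add_val, ih, pow_succ,
      commutatorElement_eq_one_iff_mul_comm.mpr (Commute.self_pow x.val n).eq, one_pow, mul_one]

instance [Finite H] : Finite (Baer p H) :=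
  Finite.of_injective Baer.val fun x y h => by cases x; cases y; cases h; rfl

instance : DistribMulAction (MulAut H) (Baer p H) where
  smul α x := ⟨α x.val⟩
  one_smul _ := rfl
  mul_smul _ _ _ := rfl
  smul_zero α := by show Baer.mk (α 1) = Baer.mk 1; rw [map_one]
  smul_add α x y := by
    show Baer.mk (α _) = Baer.mk _
    refine ext ?_
    rw [add_val, map_mul, map_mul, map_pow, map_commutatorElement]
    rfl

theorem smul_val (α : MulAut H) (x : Baer p H) : (α • x).val = α x.val := rfl

/-- The Baer trick applied to a coprime action. -/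
theorem fixed_of_baer [Finite H] [hp : Fact p.Prime] (P Q : Subgroup (MulAut H)) (hP : IsPGroup p P)
    (hQ : (Nat.card Q).Coprime p) (hPQ : P ≤ normalizer (Q : Set (MulAut H)))
    (hfix : ∀ x : H, (∀ t ∈ P, t x = x) → ∀ q ∈ Q, q x = x) : ∀ q ∈ Q, ∀ x : H, q x = x := by
  haveI : Finite (MulAut H) := Finite.of_injective (fun α => (⇑α : H → H)) DFunLike.coe_injective
  intro q hq x
  have h := abelian_case (M := Baer p H) (p := p)
    (fun m => ext (by rw [nsmul_val, hB.exp, zero_val])) P Q hP hQ hPQ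
    (fun m hm q hq => ext (by
      rw [smul_val]
      exact hfix m.val (fun t ht => congrArg Baer.val (hm t ht)) q hq)) q hq ⟨x⟩
  exact congrArg Baer.val h

end

/-- An invariant characteristic subgroup is normalized. -/
theorem le_normalizer_map {X : Type*} [Group X] {G : Subgroup X} (D : Subgroup G) [hD : D.Characteristic]
    {A : Subgroup X} (hA : A ≤ normalizer (G : Set X)) : A ≤ normalizer (D.map G.subtype : Set X) := by
  intro a ha
  rw [mem_normalizer_iff_map_conj_eq]
  show (D.map G.subtype).map (MulAut.conj a).toMonoidHom = D.map G.subtype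
  let α : MulAut G := G.normalizerMonoidHom ⟨a, hA ha⟩
  rw [map_map, show (MulAut.conj a).toMonoidHom.comp G.subtype =
    G.subtype.comp α.toMonoidHom from MonoidHom.ext fun _ => rfl, ← map_map,
    Subgroup.characteristic_iff_map_eq.mp hD α]

/-- Thompson's strengthening of the `P × Q` lemma for odd primes. -/
theorem le_centralizer_of_fixed_le {X : Type*} [Group X] [Finite X] {p : ℕ} [hp : Fact p.Prime]
    (hp2 : p ≠ 2) (P Q : Subgroup X) (hP : IsPGroup p P) (hQ : (Nat.card Q).Coprime p)
    (hPQ : P ≤ normalizer (Q : Set X)) :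
    ∀ (n : ℕ) (G : Subgroup X), Nat.card G < n → IsPGroup p G → P ≤ normalizer (G : Set X) →
      Q ≤ normalizer (G : Set X) → G ⊓ centralizer (P : Set X) ≤ centralizer (Q : Set X) →
      Q ≤ centralizer (G : Set X) := by
  classical
  intro n
  induction n with
  | zero => intro G h; omega
  | succ n ih =>
    intro G hn hG hPG hQG hC
    have small : ∀ H : Subgroup X, H < G → P ≤ normalizer (H : Set X) →
        Q ≤ normalizer (H : Set X) → Q ≤ centralizer (H : Set X) := fun H hlt h1 h2 =>
      ih H (by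
        have := (card_le_of_le hlt.le).lt_of_ne fun e => hlt.ne (eq_of_le_of_card_ge hlt.le e.ge)
        omega) (hG.to_le hlt.le) h1 h2 ((inf_le_inf_right _ hlt.le).trans hC)
    rcases eq_or_ne G ⊥ with rfl | hG1
    · rw [Subgroup.centralizer_eq_top_iff_subset.mpr (by simp)]
      exact le_top
    haveI : Nontrivial G := (nontrivial_iff_ne_bot G).mpr hG1
    have mem_map_eq : ∀ D : Subgroup G, D ≠ ⊤ → D.map G.subtype < G := fun D hD => by
      refine (map_subtype_le D).lt_of_ne fun e => hD ?_
      rw [eq_top_iff]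
      intro x _
      obtain ⟨y, hy, hyx⟩ := e.ge x.2
      exact (Subtype.ext hyx : y = x) ▸ hy
    have hfixQ : ∀ (D : Subgroup G) [D.Characteristic], D ≠ ⊤ → ∀ q ∈ Q, ∀ d ∈ D,
        q * (d : X) * q⁻¹ = d := fun D _ hD q hq d hd => by
      have h1 := small _ (mem_map_eq D hD) (le_normalizer_map D hPG) (le_normalizer_map D hQG) hq
      rw [← mem_centralizer_iff.mp h1 (d : X) ⟨d, hd, rfl⟩, mul_inv_cancel_right]
    let θP : P →* MulAut G := G.normalizerMonoidHom.comp (inclusion hPG)
    let θQ : Q →* MulAut G := G.normalizerMonoidHom.comp (inclusion hQG)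
    -- exponent `p`
    by_cases hexp : ∀ x : G, x ^ p = 1
    swap
    · obtain ⟨D, hDc, hDs, hdet⟩ := CfsgLib.Fusion.exists_smallCritical (p := p) hG
      haveI := hDc
      have hDt : D ≠ ⊤ := fun h => hexp fun x =>
        (hDs x (h ▸ mem_top x)).resolve_right fun e => hp2 e.1
      intro q hq
      rw [mem_centralizer_iff]
      intro g hg
      have h1 := hdet (θQ ⟨q, hq⟩) (Nat.Coprime.coprime_dvd_left
        ((orderOf_map_dvd θQ _).trans (orderOf_dvd_natCard _)) hQ)
        fun d hd => Subtype.ext (hfixQ D hDt q hq d hd)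
      have h2 : q * g * q⁻¹ = g := congrArg Subtype.val (DFunLike.congr_fun h1 (⟨g, hg⟩ : G))
      exact (mul_inv_eq_iff_eq_mul.mp h2).symm
    -- `G = [G, Q]`
    have hcop : (Nat.card Q).Coprime (Nat.card G) := by
      obtain ⟨k, hk⟩ := IsPGroup.iff_card.mp hG
      rw [hk]
      exact hQ.pow_right k
    have hsol : Group.IsSolvable Q ∨ Group.IsSolvable G := by
      have := hG.isNilpotent
      exact Or.inr inferInstance
    by_cases hGQ : ⁅G, Q⁆ = G
    swap
    · have hle := CfsgLib.Coprime.commutator_le_of_le_normalizer hQG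
      have h1 := small _ (hle.lt_of_ne hGQ) ?_ (Subgroup.normalizer_commutator_ge_right G Q)
      · have h2 := CfsgLib.Coprime.commutator_commutator_eq hQG hcop hsol
        have h3 : ⁅G, Q⁆ = ⊥ := by
          rw [← h2, Subgroup.commutator_eq_bot_iff_le_centralizer, le_centralizer_iff]
          exact h1
        rw [Subgroup.commutator_eq_bot_iff_le_centralizer, le_centralizer_iff] at h3
        exact h3
      · intro t ht
        rw [mem_normalizer_iff_map_conj_eq]
        show (⁅G, Q⁆).map (MulAut.conj t).toMonoidHom = ⁅G, Q⁆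
        rw [Subgroup.map_commutator]
        congr 1
        · exact mem_normalizer_iff_map_conj_eq.mp (hPG ht)
        · exact mem_normalizer_iff_map_conj_eq.mp (hPQ ht)
    -- class two
    have hclass : ∀ a b : G, ⁅a, b⁆ ∈ center G := by
      have := hG.isNilpotent
      have hD : _root_.commutator G ≠ ⊤ := (Group.IsSolvable.commutator_lt_top_of_nontrivial G).ne
      haveI : (_root_.commutator G).Characteristic := inferInstance
      have hGG : (_root_.commutator G).map G.subtype = ⁅G, G⁆ := by
        rw [_root_.commutator_def, Subgroup.map_commutator, ← MonoidHom.range_eq_map, range_subtype]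
      have h1 : Q ≤ centralizer (((_root_.commutator G).map G.subtype : Subgroup X) : Set X) :=
        small _ (mem_map_eq _ hD) (le_normalizer_map _ hPG) (le_normalizer_map _ hQG)
      rw [hGG, le_centralizer_iff, ← Subgroup.commutator_eq_bot_iff_le_centralizer] at h1
      have hle : ⁅G, ⁅G, G⁆⁆ ≤ ⁅G, G⁆ := Subgroup.commutator_mono le_rfl (commutator_le.mpr
        fun a ha b hb => by
          rw [commutatorElement_def]
          exact mul_mem (mul_mem (mul_mem ha hb) (inv_mem ha)) (inv_mem hb))
      have h2 : ⁅⁅G, ⁅G, G⁆⁆, Q⁆ = ⊥ :=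
        eq_bot_iff.mpr ((Subgroup.commutator_mono hle le_rfl).trans h1.le)
      have h3 : ⁅⁅⁅G, G⁆, Q⁆, G⁆ = ⊥ := by
        rw [h1, Subgroup.commutator_eq_bot_iff_le_centralizer]
        exact bot_le
      have h4 := Subgroup.commutator_commutator_eq_bot_of_rotate
        (H₁ := Q) (H₂ := G) (H₃ := ⁅G, G⁆) h2 h3
      rw [Subgroup.commutator_comm Q G, hGQ, Subgroup.commutator_eq_bot_iff_le_centralizer] at h4
      intro a b
      rw [mem_center_iff]
      intro x
      refine Subtype.ext ?_
      exact (mem_centralizer_iff.mp (h4 x.2) _ (commutator_mem_commutator a.2 b.2)).symm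
    haveI : IsBaer p G := ⟨hp.out.odd_of_ne_two hp2, hclass, hexp⟩
    have hfix := fixed_of_baer (p := p) θP.range θQ.range
      (hP.of_surjective θP.rangeRestrict θP.rangeRestrict_surjective)
      (Nat.Coprime.coprime_dvd_left (card_range_dvd θQ) hQ) ?_ ?_
    · intro q hq
      rw [mem_centralizer_iff]
      intro g hg
      have h2 : q * g * q⁻¹ = g :=
        congrArg Subtype.val (hfix _ ⟨⟨q, hq⟩, rfl⟩ (⟨g, hg⟩ : G))
      exact (mul_inv_eq_iff_eq_mul.mp h2).symm
    · rintro _ ⟨t, rfl⟩
      rw [mem_normalizer_iff_map_conj_eq]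
      show θQ.range.map (MulAut.conj (θP t)).toMonoidHom = θQ.range
      have e : θQ.range = (Q.subgroupOf (normalizer (G : Set X))).map G.normalizerMonoidHom := by
        show (G.normalizerMonoidHom.comp (inclusion hQG)).range = _
        rw [MonoidHom.range_eq_map, ← map_map, ← MonoidHom.range_eq_map, inclusion_range]
      rw [e, map_map, show (MulAut.conj (θP t)).toMonoidHom.comp G.normalizerMonoidHom =
        G.normalizerMonoidHom.comp (MulAut.conj (inclusion hPG t)).toMonoidHom from
        MonoidHom.ext fun x => by simp [θP], ← map_map]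
      congr 1
      exact mem_normalizer_iff_map_conj_eq.mp (mem_normalizer_iff.mpr fun x =>
        mem_normalizer_iff.mp (hPQ t.2) (x : X))
    · rintro x hx _ ⟨q, rfl⟩
      have hxP : (x : X) ∈ centralizer (P : Set X) := by
        rw [mem_centralizer_iff]
        intro t ht
        exact mul_inv_eq_iff_eq_mul.mp (congrArg Subtype.val (hx _ ⟨⟨t, ht⟩, rfl⟩))
      refine Subtype.ext ?_
      show (q : X) * x * (q : X)⁻¹ = x
      rw [mem_centralizer_iff.mp (hC ⟨x.2, hxP⟩) q q.2, mul_inv_cancel_right]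

end CfsgLib.PGroups.BaerAction
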