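import Cfsg.Agent.Lib.PGroups.Extraspecial

/-!
# Duality between subgroups and centralizers

If `⁅c, x⁆` lies in a fixed set of at most `p` elements whenever `c` commutes with `x ^ p`, then
`|K| |C(K)|` is monotone in `K`, hence constant on subgroups containing the centre.
-/

set_option linter.unusedSectionVars false

namespace CfsgLib.PGroups

open Subgroup
open scoped commutatorElement

/-- `|K| |C(K)|` is monotone in K. -/
theorem card_mul_centralizer_mono {G : Type*} [Group G] [Finite G] {p : ℕ} [Fact p.Prime]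
    (hG : IsPGroup p G) {W : Subgroup G} (hW : Nat.card W ≤ p)
    (hstep : ∀ c x : G, Commute c (x ^ p) → ⁅c, x⁆ ∈ W) {K L : Subgroup G} (hKL : K ≤ L) :
    Nat.card K * Nat.card (centralizer (K : Set G)) ≤
      Nat.card L * Nat.card (centralizer (L : Set G)) := by
  have hp : p.Prime := Fact.out
  induction hd : Nat.card L - Nat.card K using Nat.strong_induction_on generalizing K with
  | _ d ih =>
  subst hd
  by_cases h : L ≤ K
  · rw [le_antisymm hKL h]
  obtain ⟨x₀, hx₀L, hx₀K⟩ := SetLike.not_le_iff_exists.mp h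
  -- some x in L outside K with x^p in K
  obtain ⟨x, hxL, hxK, hxp⟩ : ∃ x ∈ L, x ∉ K ∧ x ^ p ∈ K := by
    classical
    obtain ⟨e, he⟩ := IsPGroup.iff_orderOf.mp hG x₀
    have hex : ∃ k, x₀ ^ p ^ k ∈ K := ⟨e, by rw [← he, pow_orderOf_eq_one]; exact one_mem K⟩
    have h0 : Nat.find hex ≠ 0 := fun h0 => hx₀K (by simpa [h0] using Nat.find_spec hex)
    refine ⟨x₀ ^ p ^ (Nat.find hex - 1), pow_mem hx₀L _, Nat.find_min hex (by omega), ?_⟩
    rw [← pow_mul, ← pow_succ, Nat.sub_add_cancel (Nat.one_le_iff_ne_zero.mpr h0)]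
    exact Nat.find_spec hex
  let K' := K ⊔ zpowers x
  have hKK' : K ≤ K' := le_sup_left
  have hK'L : K' ≤ L := sup_le hKL (zpowers_le.mpr hxL)
  have hlt : Nat.card K < Nat.card K' := by
    refine lt_of_le_of_ne (Subgroup.card_le_of_le hKK') (fun he => hxK ?_)
    rw [Subgroup.eq_of_le_of_card_ge hKK' he.ge]
    exact le_sup_right (a := K) (mem_zpowers x)
  refine le_trans ?_ (ih _ (by have := Subgroup.card_le_of_le hK'L; omega) hK'L rfl)
  -- |C K : C K'| ≤ p
  have h2 : ((centralizer (K' : Set G)).subgroupOf (centralizer (K : Set G))).index ≤ p := by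
    refine le_trans ?_ hW
    rw [Subgroup.index]
    refine Nat.card_le_card_of_injective
      (fun q => (⟨⁅(q.out : G), x⁆, hstep _ _ ((q.out.2 _ hxp).symm)⟩ : W)) ?_
    intro q q' hqq
    have hc : (q.out : G) * x * (q.out : G)⁻¹ = (q'.out : G) * x * (q'.out : G)⁻¹ :=
      mul_right_cancel (congrArg Subtype.val hqq)
    rw [← QuotientGroup.out_eq' q, ← QuotientGroup.out_eq' q', QuotientGroup.eq,
      Subgroup.mem_subgroupOf]
    refine (centralizer_sup_zpowers K x).ge ⟨(q.out⁻¹ * q'.out).2, mem_centralizer_singleton_iff.mpr ?_⟩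
    have h3 : (q.out : G)⁻¹ * ((q'.out : G) * x * (q'.out : G)⁻¹) * q'.out =
        (q.out : G)⁻¹ * ((q.out : G) * x * (q.out : G)⁻¹) * q'.out := by rw [hc]
    push_cast
    simp only [mul_assoc, inv_mul_cancel, mul_one, inv_mul_cancel_left] at h3 ⊢
    exact h3
  have hge : p * Nat.card K ≤ Nat.card K' := by
    obtain ⟨i, hi⟩ := card_subgroup_eq_pow hG K
    obtain ⟨j, hj⟩ := card_subgroup_eq_pow hG K'
    rw [hi, hj] at hlt ⊢
    rw [← pow_succ']
    exact Nat.pow_le_pow_right hp.pos (Nat.pow_lt_pow_iff_right hp.one_lt |>.mp hlt)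
  have hcard := Subgroup.index_mul_card ((centralizer (K' : Set G)).subgroupOf (centralizer (K : Set G)))
  rw [Nat.card_congr (Subgroup.subgroupOfEquivOfLe (centralizer_le hKK')).toEquiv] at hcard
  rw [← hcard]
  calc Nat.card K * (_ * Nat.card (centralizer (K' : Set G)))
      ≤ Nat.card K * (p * Nat.card (centralizer (K' : Set G))) := by gcongr
    _ = p * Nat.card K * Nat.card (centralizer (K' : Set G)) := by ring
    _ ≤ _ := by gcongr

end CfsgLib.PGroups
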