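import Cfsg.Agent.Lib.PGroups.MaximalClass
import Cfsg.Agent.Lib.Transfer.NormalPComplement

/-!
# Counting classes of p-elements and of π-elements

`k_π(G) ≤ |G|_π`, and many classes of p-elements force a normal p-complement.
-/

set_option linter.unusedSectionVars false
set_option linter.style.haveILetI false

universe u

namespace CfsgLib.PGroups

open Subgroup
open scoped commutatorElement

/-- The classes whose elements have order involving only primes of π. -/
abbrev piClasses (π : Finset ℕ) (G : Type*) [Group G] : Type _ :=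
  {c : ConjClasses G // ∀ x ∈ c.carrier, ∀ r : ℕ, r.Prime → r ∣ orderOf x → r ∈ π}

/-- A weighted count of the target of a surjection. -/
theorem mul_card_le_of_surjective {α β : Type*} [Finite α] {f : α → β}
    (hf : Function.Surjective f) (S : α → Prop) {m : ℕ} (hm : 1 ≤ m)
    (h : ∀ a, ¬ S a → m ≤ Nat.card {a' // f a' = f a}) :
    m * Nat.card β ≤ Nat.card α + (m - 1) * Nat.card {a // S a} := by
  classical
  haveI := Fintype.ofFinite α
  haveI : Finite β := Finite.of_surjective f hf
  haveI := Fintype.ofFinite β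
  rw [← Nat.card_congr (Equiv.sigmaFiberEquiv f),
    ← Nat.card_congr (Equiv.sigmaFiberEquiv fun a : {a // S a} => f a.1), Nat.card_sigma,
    Nat.card_sigma, Finset.mul_sum, ← Finset.sum_add_distrib, Nat.card_eq_fintype_card (α := β),
    ← Finset.card_univ, mul_comm, ← smul_eq_mul, ← Finset.sum_const]
  refine Finset.sum_le_sum fun b _ => ?_
  by_cases hS : ∃ a : {a // S a}, f a.1 = b
  · obtain ⟨a, ha⟩ := hS
    haveI : Nonempty {a' // f a' = b} := ⟨⟨a.1, ha⟩⟩
    haveI : Nonempty {a' : {a // S a} // f a'.1 = b} := ⟨⟨a, ha⟩⟩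
    have h1 : 1 ≤ Nat.card {a' // f a' = b} := Nat.card_pos
    have h2 : 1 ≤ Nat.card {a' : {a // S a} // f a'.1 = b} := Nat.card_pos
    have h3 := Nat.mul_le_mul_left (m - 1) h2
    omega
  · obtain ⟨a, rfl⟩ := hf b
    exact le_add_right (h a fun hSa => hS ⟨⟨a, hSa⟩, rfl⟩)

variable {p : ℕ} [Fact p.Prime]

theorem mem_of_prime_dvd_orderOf {G : Type*} [Group G] (hG : IsPGroup p G) (x : G) (r : ℕ)
    (hr : r.Prime) (h : r ∣ orderOf x) : r = p := by
  obtain ⟨k, hk⟩ := IsPGroup.iff_orderOf.mp hG x
  exact (Nat.prime_dvd_prime_iff_eq hr Fact.out).mp (hr.dvd_of_dvd_pow (hk ▸ h))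

/-- The map from a Sylow subgroup to the classes of p-elements. -/
noncomputable def sylowClass {G : Type*} [Group G] (P : Sylow p G) (x : (P : Subgroup G)) :
    piClasses {p} G :=
  ⟨ConjClasses.mk (x : G), fun y hy r hr hry => Finset.mem_singleton.mpr (by
    obtain ⟨g, hg⟩ := isConj_iff.mp (ConjClasses.mk_eq_mk_iff_isConj.mp
      (ConjClasses.mem_carrier_iff_mk_eq.mp hy).symm)
    rw [← hg, show g * (x : G) * g⁻¹ = MulAut.conj g x from rfl, MulEquiv.orderOf_eq,
      Subgroup.orderOf_coe] at hry
    exact mem_of_prime_dvd_orderOf P.2 x r hr hry)⟩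

theorem sylowClass_surjective {G : Type*} [Group G] [Finite G] (P : Sylow p G) :
    Function.Surjective (sylowClass P) := by
  rintro ⟨c, hc⟩
  induction c using Quotient.inductionOn with
  | _ g =>
    have hg : IsPGroup p (zpowers g) := by
      refine IsPGroup.of_card (n := (orderOf g).factorization p) ?_
      rw [Nat.card_zpowers]
      exact Nat.eq_pow_of_factorization_eq_single (orderOf_pos g).ne' (by
        ext r
        rcases eq_or_ne r p with rfl | hrp
        · simp
        · rw [Finsupp.single_eq_of_ne hrp]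
          by_cases hr : r.Prime
          · exact Nat.factorization_eq_zero_of_not_dvd fun hd => hrp (Finset.mem_singleton.mp
              (hc g (ConjClasses.mem_carrier_iff_mk_eq.mpr rfl) r hr hd))
          · exact Nat.factorization_eq_zero_of_not_prime _ hr)
    obtain ⟨Q, hQ⟩ := hg.exists_le_sylow
    obtain ⟨k, hk⟩ := MulAction.exists_smul_eq G Q P
    have hmem : k * g * k⁻¹ ∈ (P : Subgroup G) := by
      rw [← hk, Sylow.coe_subgroup_smul]
      exact Subgroup.smul_mem_pointwise_smul g (MulAut.conj k) _ (hQ (mem_zpowers g))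
    refine ⟨⟨_, hmem⟩, Subtype.ext ?_⟩
    exact ConjClasses.mk_eq_mk_iff_isConj.mpr (isConj_iff.mpr ⟨k, rfl⟩).symm

theorem card_piClasses_le_conjClasses {G : Type*} [Group G] [Finite G] (P : Sylow p G) :
    Nat.card (piClasses {p} G) ≤ Nat.card (ConjClasses (P : Subgroup G)) := by
  refine Nat.card_le_card_of_surjective (Quotient.lift (sylowClass P) ?_) ?_
  · intro x y hxy
    exact Subtype.ext (ConjClasses.mk_eq_mk_iff_isConj.mpr ((P : Subgroup G).subtype.map_isConj hxy))
  · intro c
    obtain ⟨x, hx⟩ := sylowClass_surjective P c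
    exact ⟨ConjClasses.mk x, hx⟩

/-- A non-abelian p-group has at most `(p+1)/(2p) |P|` classes. -/
theorem card_conjClasses_le {P : Type*} [Group P] [Finite P] (hP : IsPGroup p P)
    (hna : ¬ IsMulCommutative P) :
    2 * p * Nat.card (ConjClasses P) ≤ (p + 1) * Nat.card P := by
  have hp : p.Prime := Fact.out
  have h := mul_card_le_of_surjective (f := (ConjClasses.mk : P → ConjClasses P))
    ConjClasses.mk_surjective (· ∈ center P) (m := p) hp.one_le (fun a ha => by
      have h1 : Nat.card {a' // ConjClasses.mk a' = ConjClasses.mk a} =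
          Nat.card (ConjClasses.mk a).carrier :=
        Nat.card_congr (Equiv.subtypeEquivRight fun b =>
          ConjClasses.mem_carrier_iff_mk_eq.symm)
      rw [h1, ← ConjAct.orbit_eq_carrier_conjClasses]
      haveI : IsPGroup p (ConjAct P) := hP.of_equiv ConjAct.toConjAct
      obtain ⟨k, hk⟩ := IsPGroup.card_orbit (p := p) (hP.of_equiv ConjAct.toConjAct) a
      rw [hk]
      refine Nat.le_self_pow (fun hk0 => ha ?_) p
      rw [hk0, pow_zero] at hk
      rw [Subgroup.mem_center_iff]
      intro g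
      haveI := (Nat.card_eq_one_iff_unique.mp hk).1
      have hmem : g * a * g⁻¹ ∈ MulAction.orbit (ConjAct P) a :=
        ⟨ConjAct.toConjAct g, ConjAct.smul_def _ _⟩
      have := congrArg Subtype.val (Subsingleton.elim (⟨_, hmem⟩ : MulAction.orbit (ConjAct P) a)
        ⟨a, MulAction.mem_orbit_self a⟩)
      exact mul_inv_eq_iff_eq_mul.mp this)
  have hZ : Nat.card (center P) * p ^ 2 ≤ Nat.card P := by
    rw [← Subgroup.card_mul_index (center P)]
    exact Nat.mul_le_mul_left _ (sq_le_index_center hP hna)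
  obtain ⟨q, hq⟩ : ∃ q, p = q + 2 := ⟨p - 2, by have := hp.two_le; omega⟩
  subst hq
  have h' : (q + 2) * Nat.card (ConjClasses P) ≤ Nat.card P + (q + 1) * Nat.card (center P) := h
  have h2 : 2 * Nat.card (center P) ≤ Nat.card P := by
    rw [mul_comm]
    exact (Nat.mul_le_mul_left _ ((Nat.le_add_left 2 q).trans (Nat.le_self_pow two_ne_zero _))).trans hZ
  nlinarith [Nat.mul_le_mul_left (q + 1) h2]

/-- A non-central element of the normalizer cuts the number of classes. -/
theorem card_piClasses_le_of_normalizer {G : Type*} [Group G] [Finite G] (P : Sylow p G) {g : G}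
    (hg : g ∈ normalizer ((P : Subgroup G) : Set G))
    (hgC : g ∉ centralizer ((P : Subgroup G) : Set G)) :
    2 * p * Nat.card (piClasses {p} G) ≤ (p + 1) * Nat.card (P : Subgroup G) := by
  have hp : p.Prime := Fact.out
  have h := mul_card_le_of_surjective (sylowClass_surjective P)
    (fun x => x ∈ (centralizer ({g} : Set G)).subgroupOf (P : Subgroup G)) (m := 2) one_le_two
    (fun x hx => by
      rw [Subgroup.mem_subgroupOf, mem_centralizer_singleton_iff] at hx
      have hmem : g * (x : G) * g⁻¹ ∈ (P : Subgroup G) :=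
        (Subgroup.mem_normalizer_iff.mp hg _).mp x.2
      have hne : (⟨_, hmem⟩ : (P : Subgroup G)) ≠ x := fun he => hx
        (mul_inv_eq_iff_eq_mul.mp (congrArg Subtype.val he)).symm
      have hcl : sylowClass P ⟨_, hmem⟩ = sylowClass P x := Subtype.ext
        (ConjClasses.mk_eq_mk_iff_isConj.mpr (isConj_iff.mpr ⟨g, rfl⟩).symm)
      haveI : Nontrivial {x' // sylowClass P x' = sylowClass P x} :=
        ⟨⟨⟨_, hcl⟩, ⟨x, rfl⟩, fun he => hne (congrArg Subtype.val he)⟩⟩
      exact Finite.one_lt_card)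
  set C := (centralizer ({g} : Set G)).subgroupOf (P : Subgroup G)
  have hCtop : C ≠ ⊤ := by
    intro ht
    refine hgC fun y hy => ?_
    have : (⟨y, hy⟩ : (P : Subgroup G)) ∈ C := ht ▸ Subgroup.mem_top _
    exact mem_centralizer_singleton_iff.mp (Subgroup.mem_subgroupOf.mp this)
  have hidx := Nat.le_of_dvd (Nat.pos_of_ne_zero Subgroup.FiniteIndex.index_ne_zero)
    (dvd_index_of_ne_top P.2 hCtop)
  have hC : Nat.card C * p ≤ Nat.card (P : Subgroup G) := by
    rw [← Subgroup.card_mul_index C]
    exact Nat.mul_le_mul_left _ hidx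
  have h' : 2 * Nat.card (piClasses {p} G) ≤ Nat.card (P : Subgroup G) + Nat.card C := by
    simpa using h
  nlinarith [Nat.mul_le_mul_left p h']

/-- Many classes of p-elements force an abelian Sylow subgroup with normal complement. -/
theorem hasNormalPComplement_of_many_classes {G : Type*} [Group G] [Finite G] (P : Sylow p G)
    (h : (p + 1) * Nat.card (P : Subgroup G) < 2 * p * Nat.card (piClasses {p} G)) :
    Cfsg.HasNormalPComplement p G ∧ IsMulCommutative (P : Subgroup G) := by
  have hab : IsMulCommutative (P : Subgroup G) := by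
    by_contra hna
    have := card_conjClasses_le P.2 hna
    have := Nat.mul_le_mul_left (2 * p) (card_piClasses_le_conjClasses P)
    omega
  refine ⟨CfsgLib.Transfer.hasNormalPComplement_of_normalizer_le_centralizer P fun g hg => ?_, hab⟩
  by_contra hgC
  have := card_piClasses_le_of_normalizer P hg hgC
  omega

theorem card_piClasses_le_card_sylow {G : Type*} [Group G] [Finite G] (P : Sylow p G) :
    Nat.card (piClasses {p} G) ≤ Nat.card (P : Subgroup G) :=
  Nat.card_le_card_of_surjective _ (sylowClass_surjective P)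

/-- With a normal complement and abelian P, every element of P is its own class. -/
theorem card_piClasses_eq {G : Type*} [Group G] [Finite G] (P : Sylow p G)
    (h : Cfsg.HasNormalPComplement p G) (hab : IsMulCommutative (P : Subgroup G)) :
    Nat.card (piClasses {p} G) = Nat.card (P : Subgroup G) := by
  refine (Nat.card_eq_of_bijective (sylowClass P) ⟨?_, sylowClass_surjective P⟩).symm
  intro x y hxy
  obtain ⟨N, hN, hc⟩ := (CfsgLib.Transfer.exists_normal_isComplement'_iff P).mpr h
  haveI := hN
  obtain ⟨g, hg⟩ := isConj_iff.mp (ConjClasses.mk_eq_mk_iff_isConj.mp (congrArg Subtype.val hxy))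
  -- g = a * b with a in N and b in P
  obtain ⟨⟨a, b⟩, hgab, -⟩ := hc.existsUnique g
  have hgab' : (a : G) * (b : G) = g := hgab
  have hbx : (b : G) * x * (b : G)⁻¹ = x := mul_inv_eq_iff_eq_mul.mpr
    (congrArg Subtype.val (hab.is_comm.comm ⟨b, b.2⟩ x))
  have hy : (y : G) = a * x * (a : G)⁻¹ := by
    rw [← hg, ← hgab', mul_inv_rev]
    calc (a : G) * b * x * ((b : G)⁻¹ * (a : G)⁻¹) = a * ((b : G) * x * (b : G)⁻¹) * (a : G)⁻¹ := by
          group
      _ = _ := by rw [hbx]
  have hmem : (x : G)⁻¹ * y ∈ N := by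
    rw [hy, ← mul_assoc, ← mul_assoc]
    refine mul_mem ?_ (inv_mem a.2)
    simpa using hN.conj_mem a a.2 (x : G)⁻¹
  have h1 : (x : G)⁻¹ * y = 1 := (Subgroup.disjoint_def.mp hc.disjoint) hmem
    (mul_mem (inv_mem x.2) y.2)
  exact Subtype.ext (inv_mul_eq_one.mp h1)

/-- The π-part of a number. -/
def piPart (π : Finset ℕ) (n : ℕ) : ℕ := π.prod fun r => r ^ n.factorization r

theorem piPart_mono {π : Finset ℕ} (hπ : ∀ r ∈ π, r.Prime) {m n : ℕ} (hn : n ≠ 0) (hmn : m ∣ n) :
    piPart π m ≤ piPart π n := by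
  refine Finset.prod_le_prod' fun r hr => Nat.pow_le_pow_right (hπ r hr).pos ?_
  exact (Nat.factorization_le_iff_dvd (ne_zero_of_dvd_ne_zero hn hmn) hn).mpr hmn r

/-- Classes of π-elements through their r-parts. -/
theorem card_piClasses_le_sum {G : Type u} [Group G] [Finite G] {π : Finset ℕ} {r : ℕ}
    [Fact r.Prime] (hr : r ∈ π) [Fintype (piClasses {r} G)] :
    Nat.card (piClasses π G) ≤ ∑ c : piClasses {r} G,
      Nat.card (piClasses (π.erase r) (centralizer ({c.1.out} : Set G))) := by
  rw [← Nat.card_sigma]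
  let Φ : (Σ c : piClasses {r} G, piClasses (π.erase r) (centralizer ({c.1.out} : Set G))) →
      ConjClasses G := fun v => ConjClasses.mk (v.1.1.out * ((v.2.1.out : _) : G))
  have hsub : ∀ c : piClasses π G, c.1 ∈ Set.range Φ := by
    rintro ⟨c, hc⟩
    induction c using Quotient.inductionOn with
    | _ g =>
      have hgo := hc g (ConjClasses.mem_carrier_iff_mk_eq.mpr rfl)
      obtain ⟨u, hu, v, hv, huv, ⟨k, huk⟩, hvr⟩ :=
        CfsgLib.Transfer.exists_pPart_mul (p := r) g
      have hcl : ∀ y ∈ (ConjClasses.mk u).carrier, ∀ s : ℕ, s.Prime → s ∣ orderOf y → s ∈ ({r} : Finset ℕ) := by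
        intro y hy s hs hd
        obtain ⟨h, hh⟩ := isConj_iff.mp (ConjClasses.mk_eq_mk_iff_isConj.mp
          (ConjClasses.mem_carrier_iff_mk_eq.mp hy).symm)
        rw [← hh, show h * u * h⁻¹ = MulAut.conj h u from rfl, MulEquiv.orderOf_eq] at hd
        exact Finset.mem_singleton.mpr
          ((Nat.prime_dvd_prime_iff_eq hs Fact.out).mp (hs.dvd_of_dvd_pow (hd.trans huk)))
      let c₁ : piClasses {r} G := ⟨ConjClasses.mk u, hcl⟩
      have hc₁ : ConjClasses.mk (c₁.1.out) = ConjClasses.mk u := Quotient.out_eq _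
      obtain ⟨h, hh⟩ := isConj_iff.mp (ConjClasses.mk_eq_mk_iff_isConj.mp hc₁.symm)
      have huv' : Commute u v := by
        obtain ⟨i, rfl⟩ := Subgroup.mem_zpowers_iff.mp hu
        obtain ⟨j, rfl⟩ := Subgroup.mem_zpowers_iff.mp hv
        exact (Commute.refl g).zpow_zpow i j
      have hmem : h * v * h⁻¹ ∈ centralizer ({c₁.1.out} : Set G) := by
        rw [mem_centralizer_singleton_iff, ← hh]
        exact ((huv'.symm).conj h).eq
      have hcl2 : ∀ y ∈ (ConjClasses.mk (⟨_, hmem⟩ : centralizer ({c₁.1.out} : Set G))).carrier,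
          ∀ s : ℕ, s.Prime → s ∣ orderOf y → s ∈ π.erase r := by
        intro y hy s hs hd
        obtain ⟨h', hh'⟩ := isConj_iff.mp (ConjClasses.mk_eq_mk_iff_isConj.mp
          (ConjClasses.mem_carrier_iff_mk_eq.mp hy).symm)
        have e2 : orderOf (h * v * h⁻¹) = orderOf v := MulEquiv.orderOf_eq (MulAut.conj h) v
        have e1 : orderOf y = orderOf v := by
          rw [← hh']
          exact ((MulEquiv.orderOf_eq (MulAut.conj h') _).trans (Subgroup.orderOf_coe _).symm).trans e2
        rw [e1] at hd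
        refine Finset.mem_erase.mpr ⟨?_, hgo s hs (hd.trans (orderOf_dvd_of_mem_zpowers hv))⟩
        rintro rfl
        exact hs.ne_one (Nat.dvd_one.mp (hvr ▸ Nat.dvd_gcd hd dvd_rfl))
      let c₂ : piClasses (π.erase r) (centralizer ({c₁.1.out} : Set G)) :=
        ⟨ConjClasses.mk ⟨_, hmem⟩, hcl2⟩
      refine ⟨⟨c₁, c₂⟩, ?_⟩
      have hc₂ : ConjClasses.mk (c₂.1.out) = ConjClasses.mk (⟨_, hmem⟩ : centralizer ({c₁.1.out} : Set G)) :=
        Quotient.out_eq _
      obtain ⟨k', hk'⟩ := isConj_iff.mp (ConjClasses.mk_eq_mk_iff_isConj.mp hc₂.symm)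
      refine ConjClasses.mk_eq_mk_iff_isConj.mpr (isConj_iff.mpr ⟨(k' : G) * h, ?_⟩).symm
      have h2 : (k' : G) * c₁.1.out * (k' : G)⁻¹ = c₁.1.out :=
        mul_inv_eq_iff_eq_mul.mpr (mem_centralizer_singleton_iff.mp k'.2)
      have h3 : (k' : G) * (h * v * h⁻¹) * (k' : G)⁻¹ = (c₂.1.out : G) := by
        simpa using congrArg Subtype.val hk'
      calc (k' : G) * h * g * ((k' : G) * h)⁻¹
          = ((k' : G) * (h * u * h⁻¹) * (k' : G)⁻¹) * ((k' : G) * (h * v * h⁻¹) * (k' : G)⁻¹) := by
            rw [← huv]; group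
        _ = c₁.1.out * (c₂.1.out : G) := by rw [hh, h2, h3]
  have h1 : Nat.card (piClasses π G) ≤ Nat.card (Set.range Φ) :=
    Nat.card_le_card_of_injective (fun c => ⟨c.1, hsub c⟩)
      fun c c' he => Subtype.ext (congrArg (fun x : Set.range Φ => x.1) he)
  exact h1.trans (Nat.card_le_card_of_surjective _ Set.rangeFactorization_surjective)

/-- `k_π(G) ≤ |G|_π`. -/
theorem card_piClasses_le_piPart {G : Type u} [Group G] [Finite G] {π : Finset ℕ}
    (hπ : ∀ r ∈ π, r.Prime) : Nat.card (piClasses π G) ≤ piPart π (Nat.card G) := by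
  induction hn : π.card using Nat.strong_induction_on generalizing π G with
  | _ n ih =>
  subst hn
  rcases π.eq_empty_or_nonempty with rfl | ⟨r, hr⟩
  · rw [piPart, Finset.prod_empty]
    haveI : Subsingleton (piClasses ∅ G) := ⟨fun c d => Subtype.ext (by
      have key : ∀ c : piClasses ∅ G, c.1 = ConjClasses.mk 1 := by
        rintro ⟨c, hc⟩
        induction c using Quotient.inductionOn with
        | _ g =>
          have h1 : g = 1 := orderOf_eq_one_iff.mp (by
            by_contra hne
            obtain ⟨s, hs, hd⟩ := Nat.exists_prime_and_dvd hne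
            exact absurd (hc g (ConjClasses.mem_carrier_iff_mk_eq.mpr rfl) s hs hd) (Finset.notMem_empty s))
          show ConjClasses.mk g = _
          rw [h1]
      rw [key c, key d])⟩
    exact Finite.card_le_one_iff_subsingleton.mpr inferInstance
  · haveI : Fact r.Prime := ⟨hπ r hr⟩
    haveI := Fintype.ofFinite (piClasses {r} G)
    refine (card_piClasses_le_sum hr).trans ((Finset.sum_le_card_nsmul _ _
      (piPart (π.erase r) (Nat.card G)) fun c _ => ?_).trans ?_)
    · refine (ih _ (Finset.card_erase_lt_of_mem hr)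
        (fun s hs => hπ s (Finset.mem_of_mem_erase hs)) rfl).trans ?_
      exact piPart_mono (fun s hs => hπ s (Finset.mem_of_mem_erase hs)) Nat.card_pos.ne'
        (Subgroup.card_subgroup_dvd_card _)
    · obtain ⟨P⟩ : Nonempty (Sylow r G) := inferInstance
      rw [smul_eq_mul, Finset.card_univ, ← Nat.card_eq_fintype_card, piPart, piPart,
        ← Finset.mul_prod_erase π _ hr]
      exact Nat.mul_le_mul_right _ ((card_piClasses_le_card_sylow P).trans_eq P.card_eq_multiplicity)

/-- `k_π(G) ≤ k_r(G) |G|_{π ∖ r}`. -/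
theorem card_piClasses_le_mul {G : Type u} [Group G] [Finite G] {π : Finset ℕ} {r : ℕ}
    [Fact r.Prime] (hπ : ∀ s ∈ π, s.Prime) (hr : r ∈ π) :
    Nat.card (piClasses π G) ≤
      Nat.card (piClasses {r} G) * piPart (π.erase r) (Nat.card G) := by
  haveI := Fintype.ofFinite (piClasses {r} G)
  refine (card_piClasses_le_sum hr).trans ((Finset.sum_le_card_nsmul _ _
    (piPart (π.erase r) (Nat.card G)) fun c _ => ?_).trans_eq ?_)
  · refine (card_piClasses_le_piPart fun s hs => hπ s (Finset.mem_of_mem_erase hs)).trans ?_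
    exact piPart_mono (fun s hs => hπ s (Finset.mem_of_mem_erase hs)) Nat.card_pos.ne'
      (Subgroup.card_subgroup_dvd_card _)
  · rw [smul_eq_mul, Finset.card_univ, ← Nat.card_eq_fintype_card]

end CfsgLib.PGroups
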