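import Mathlib

/-!
Coprime operator groups on finite abelian p-groups: averaging, and the indecomposable case.
-/

set_option autoImplicit false
set_option linter.style.haveILetI false

namespace CfsgLib.PGroups.Indecomposable

open Subgroup

variable {A : Type*} [CommGroup A] [Finite A] {p : ℕ} (X : Subgroup (MulAut A))

/-- Invariance under the operator group. -/
def Inv (B : Subgroup A) : Prop := ∀ x ∈ X, B.map x.toMonoidHom = B

variable {X}

theorem Inv.mem {B : Subgroup A} (hB : Inv X B) {x : MulAut A} (hx : x ∈ X) {b : A} (hb : b ∈ B) :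
    x b ∈ B := by
  have h := mem_map_of_mem x.toMonoidHom hb
  rwa [hB x hx] at h

theorem inv_of_mem {B : Subgroup A} (h : ∀ x ∈ X, ∀ b ∈ B, x b ∈ B) : Inv X B := by
  intro x hx
  refine le_antisymm ?_ fun b hb => ⟨x⁻¹ b, h _ (inv_mem hx) b hb, ?_⟩
  · rintro _ ⟨b, hb, rfl⟩; exact h x hx b hb
  · exact x.apply_symm_apply b

theorem inv_bot : Inv X (⊥ : Subgroup A) := inv_of_mem fun x _ b hb => by
  rw [mem_bot] at hb ⊢; rw [hb, map_one]

theorem inv_top : Inv X (⊤ : Subgroup A) := inv_of_mem fun _ _ _ _ => mem_top _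

theorem Inv.inf {B C : Subgroup A} (hB : Inv X B) (hC : Inv X C) : Inv X (B ⊓ C) :=
  inv_of_mem fun _ hx _ hb => ⟨hB.mem hx hb.1, hC.mem hx hb.2⟩

theorem Inv.sup {B C : Subgroup A} (hB : Inv X B) (hC : Inv X C) : Inv X (B ⊔ C) := fun x hx => by
  rw [Subgroup.map_sup, hB x hx, hC x hx]

theorem inv_ker_pow (n : ℕ) {B : Subgroup A} (hB : Inv X B) :
    Inv X (B.comap (powMonoidHom n : A →* A)) :=
  inv_of_mem fun x hx b hb => by
    show (x b) ^ n ∈ B
    rw [← map_pow]; exact hB.mem hx hb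

theorem inv_map_pow (n : ℕ) {B : Subgroup A} (hB : Inv X B) :
    Inv X (B.map (powMonoidHom n : A →* A)) :=
  inv_of_mem fun x hx b hb => by
    obtain ⟨c, hc, rfl⟩ := hb
    exact ⟨x c, hB.mem hx hc, (map_pow x c n).symm⟩

/-- Averaging a projection. -/
theorem exists_inv_complement (hcop : (Nat.card X).Coprime (Nat.card A)) {W U C : Subgroup A}
    (hW : Inv X W) (hU : Inv X U) (hC : Inv X C) (hUW : U ≤ W) (hCW : C ≤ W) (π : W →* A)
    (hπU : ∀ w, π w ∈ U) (hπid : ∀ w : W, (w : A) ∈ U → π w = w)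
    (hπC : ∀ w : W, (w : A) ∈ C → π w = 1) :
    ∃ K : Subgroup A, Inv X K ∧ C ≤ K ∧ K ≤ W ∧ K ⊓ U = ⊥ ∧ K ⊔ U = W := by
  classical
  haveI : Finite (MulAut A) := Finite.of_injective (fun e : MulAut A => (e : A → A))
    fun a b h => MulEquiv.ext (congrFun h)
  haveI := Fintype.ofFinite X
  have hcop' : (Fintype.card X).Coprime (Nat.card A) := by rwa [← Nat.card_eq_fintype_card]
  let act : X → W →* W := fun x =>
    ((x : MulAut A).toMonoidHom.comp W.subtype).codRestrict W fun w => hW.mem x.2 w.2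
  let avg : W →* A := ∏ x : X, (x : MulAut A).toMonoidHom.comp (π.comp (act x⁻¹))
  have havg : ∀ w : W, avg w = ∏ x : X, (x : MulAut A) (π (act x⁻¹ w)) := fun w => by
    simp only [avg, MonoidHom.finsetProd_apply]; rfl
  have hU' : ∀ w, avg w ∈ U := fun w => by
    rw [havg]; exact prod_mem fun x _ => hU.mem x.2 (hπU _)
  have hid : ∀ w : W, (w : A) ∈ U → avg w = (w : A) ^ Fintype.card X := by
    intro w hw
    rw [havg]
    have : ∀ x : X, (x : MulAut A) (π (act x⁻¹ w)) = (w : A) := by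
      intro x
      rw [hπid _ (hU.mem (x⁻¹).2 hw)]
      show (x : MulAut A) (((x⁻¹ : X) : MulAut A) w) = _
      rw [← MulAut.mul_apply, ← Subgroup.coe_mul, mul_inv_cancel]; rfl
    rw [Finset.prod_congr rfl fun x _ => this x, Finset.prod_const, Finset.card_univ]
  have hkC : ∀ w : W, (w : A) ∈ C → avg w = 1 := by
    intro w hw
    rw [havg]
    refine Finset.prod_eq_one fun x _ => ?_
    rw [hπC _ (hC.mem (x⁻¹).2 hw), map_one]
  have heq : ∀ (y : X) (w : W), avg (act y w) = (y : MulAut A) (avg w) := by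
    intro y w
    rw [havg, havg, map_prod, ← Equiv.prod_comp (Equiv.mulLeft y)]
    refine Finset.prod_congr rfl fun x _ => ?_
    show ((y * x : X) : MulAut A) (π (act (y * x)⁻¹ (act y w))) = _
    rw [Subgroup.coe_mul, MulAut.mul_apply]
    have h : act (y * x)⁻¹ (act y w) = act x⁻¹ w := Subtype.ext (by
      show ((((y * x)⁻¹ : X)) : MulAut A) ((y : MulAut A) w) = ((x⁻¹ : X) : MulAut A) w
      rw [← MulAut.mul_apply, ← Subgroup.coe_mul, mul_inv_rev, inv_mul_cancel_right])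
    rw [h]
  have hpow : ∀ u : A, u ^ Fintype.card X = 1 → u = 1 := fun u hu => by
    rw [← orderOf_eq_one_iff]
    exact Nat.eq_one_of_dvd_coprimes hcop' (orderOf_dvd_of_pow_eq_one hu) (orderOf_dvd_natCard u)
  refine ⟨avg.ker.map W.subtype, inv_of_mem ?_, ?_, map_subtype_le _, ?_, ?_⟩
  · rintro y hy _ ⟨w, hw, rfl⟩
    refine ⟨act ⟨y, hy⟩ w, ?_, rfl⟩
    rw [SetLike.mem_coe, MonoidHom.mem_ker] at hw ⊢
    rw [heq, hw, map_one]
  · exact fun c hc => ⟨⟨c, hCW hc⟩, hkC _ hc, rfl⟩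
  · rw [eq_bot_iff]
    rintro u ⟨⟨w, hw, rfl⟩, hu⟩
    rw [mem_bot]
    rw [SetLike.mem_coe, MonoidHom.mem_ker, hid w hu] at hw
    exact hpow _ hw
  · refine le_antisymm (sup_le (map_subtype_le _) hUW) fun a ha => ?_
    obtain ⟨k, hk⟩ := exists_pow_eq_self_of_coprime (x := avg ⟨a, ha⟩)
      (hcop'.coprime_dvd_right (orderOf_dvd_natCard _))
    set u := avg ⟨a, ha⟩ ^ k with hu
    have huU : u ∈ U := pow_mem (hU' _) k
    have hker : (⟨a, ha⟩ : W) * ⟨u, hUW huU⟩⁻¹ ∈ avg.ker := by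
      rw [MonoidHom.mem_ker, map_mul, map_inv, hid ⟨u, hUW huU⟩ huU]
      show avg ⟨a, ha⟩ * (u ^ Fintype.card X)⁻¹ = 1
      rw [hu, ← pow_mul, mul_comm k, pow_mul, hk, mul_inv_cancel]
    rw [show a = (a * u⁻¹) * u by rw [inv_mul_cancel_right]]
    exact mul_mem (mem_sup_left ⟨_, hker, rfl⟩) (mem_sup_right huU)

/-- A complement in an elementary abelian section gives a projection. -/
theorem exists_projection {W U K : Subgroup A} (hKW : K ≤ W) (hUW : U ≤ W) (hKU : K ⊓ U = ⊥)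
    (hsup : K ⊔ U = W) :
    ∃ π : W →* A, (∀ w, π w ∈ U) ∧ (∀ w : W, (w : A) ∈ U → π w = w) ∧
      ∀ w : W, (w : A) ∈ K → π w = 1 := by
  have hdec : ∀ w : W, ∃ k u : A, k ∈ K ∧ u ∈ U ∧ k * u = (w : A) := fun w => by
    have h : (w : A) ∈ K ⊔ U := hsup.ge w.2
    obtain ⟨k, hk, u, hu, he⟩ := Subgroup.mem_sup.mp h
    exact ⟨k, u, hk, hu, he⟩
  choose k u hk hu he using hdec
  have huniq : ∀ (w : W) (k' u' : A), k' ∈ K → u' ∈ U → k' * u' = w → u w = u' := by
    intro w k' u' hk' hu' he'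
    have h : (u w) / u' ∈ K ⊓ U := by
      rw [mem_inf]
      refine ⟨?_, div_mem (hu w) hu'⟩
      have : (u w) / u' = k' / k w := by
        rw [div_eq_div_iff_mul_eq_mul, mul_comm (u w), he, he']
      rw [this]; exact div_mem hk' (hk w)
    rw [hKU, mem_bot, div_eq_one] at h
    exact h
  refine ⟨MonoidHom.mk' u fun a b => ?_, hu, fun w hw => ?_, fun w hw => ?_⟩
  · exact huniq _ (k a * k b) (u a * u b) (mul_mem (hk a) (hk b)) (mul_mem (hu a) (hu b))
      (by rw [mul_mul_mul_comm, he, he]; rfl)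
  · exact huniq w 1 w (one_mem K) hw (one_mul _)
  · exact huniq w w 1 hw (one_mem U) (mul_one _)

/-- A section of the quotient when the exponent of `A` is attained by every socle element. -/
theorem exists_retraction [Fact p.Prime] (hA : IsPGroup p A) (C : Subgroup A) {e : ℕ}
    (he : ∀ a : A, a ^ p ^ e = 1)
    (hsoc : ∀ a : A, a ^ p ∈ C → ∃ z : A, a * (z ^ p ^ (e - 1))⁻¹ ∈ C) :
    ∃ π : (⊤ : Subgroup A) →* A, (∀ w, π w ∈ C) ∧
      ∀ w : (⊤ : Subgroup A), (w : A) ∈ C → π w = w := by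
  classical
  have hp : p.Prime := Fact.out
  obtain ⟨ι, _, n, hn, ⟨φ⟩⟩ := CommGroup.equiv_prod_multiplicative_zmod_of_finite (A ⧸ C)
  let proj : ∀ i, A →* Multiplicative (ZMod (n i)) := fun i =>
    (Pi.evalMonoidHom _ i).comp (φ.toMonoidHom.comp (QuotientGroup.mk' C))
  have hqe : ∀ i, n i = p ^ e := by
    intro i
    obtain ⟨a, ha⟩ := QuotientGroup.mk'_surjective C (φ.symm (Pi.mulSingle i (Multiplicative.ofAdd 1)))
    have hai : proj i a = Multiplicative.ofAdd (1 : ZMod (n i)) := by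
      simp only [proj, MonoidHom.comp_apply, Pi.evalMonoidHom_apply, MulEquiv.coe_toMonoidHom]
      rw [ha, φ.apply_symm_apply, Pi.mulSingle_eq_same]
    have hdvd : n i ∣ p ^ e := by
      have h : proj i a ^ p ^ e = 1 := by rw [← map_pow, he a, map_one]
      rw [hai, ← ofAdd_nsmul, ofAdd_eq_one, nsmul_one, ZMod.natCast_eq_zero_iff] at h
      exact h
    obtain ⟨k, hk, hnk⟩ := (Nat.dvd_prime_pow hp).mp hdvd
    rcases hk.eq_or_lt with rfl | hlt
    · exact hnk
    exfalso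
    rcases k with _ | k
    · rw [pow_zero] at hnk
      have := hn i
      omega
    have hap : (a ^ p ^ k) ^ p ∈ C := by
      rw [← QuotientGroup.eq_one_iff, ← QuotientGroup.mk'_apply, ← pow_mul, ← pow_succ, map_pow, ha,
        ← map_pow]
      rw [show (Pi.mulSingle i (Multiplicative.ofAdd (1 : ZMod (n i))) :
          ∀ j, Multiplicative (ZMod (n j))) ^ p ^ (k + 1) = 1 from ?_, map_one]
      rw [← Pi.mulSingle_pow, ← ofAdd_nsmul, nsmul_one, ← hnk, ZMod.natCast_self, ofAdd_zero,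
        Pi.mulSingle_one]
    obtain ⟨z, hz⟩ := hsoc _ hap
    have hz' : proj i (a ^ p ^ k) = proj i z ^ p ^ (e - 1) := by
      rw [← map_pow (proj i)]
      simp only [proj, MonoidHom.comp_apply]
      congr 2
      rw [QuotientGroup.mk'_apply, QuotientGroup.mk'_apply, QuotientGroup.eq]
      have h := inv_mem hz
      rwa [mul_inv_rev, inv_inv, mul_comm] at h
    rw [map_pow, hai] at hz'
    have hr : proj i z ^ p ^ (e - 1) = 1 := by
      obtain ⟨d, hd⟩ : n i ∣ p ^ (e - 1) := hnk ▸ pow_dvd_pow p (by omega)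
      rw [← ofAdd_toAdd (proj i z), ← ofAdd_nsmul, ofAdd_eq_one, nsmul_eq_mul, hd, Nat.cast_mul,
        ZMod.natCast_self, zero_mul, zero_mul]
    rw [hr, ← ofAdd_nsmul, ofAdd_eq_one, nsmul_one, ZMod.natCast_eq_zero_iff, hnk,
      Nat.pow_dvd_pow_iff_le_right hp.one_lt] at hz'
    omega
  choose g hg using fun i => QuotientGroup.mk'_surjective C
    (φ.symm (Pi.mulSingle i (Multiplicative.ofAdd 1)))
  let lift : ∀ i, Multiplicative (ZMod (n i)) →* A := fun i =>
    AddMonoidHom.toMultiplicativeLeft (ZMod.lift (n i) ⟨zmultiplesHom _ (Additive.ofMul (g i)), by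
      show (((n i : ℕ) : ℤ)) • Additive.ofMul (g i) = 0
      rw [natCast_zsmul]
      apply Additive.toMul.injective
      show g i ^ n i = 1
      rw [hqe i, he]⟩)
  have hlift : ∀ i, lift i (Multiplicative.ofAdd 1) = g i := by
    intro i
    show Additive.toMul (ZMod.lift (n i) _ (1 : ZMod (n i))) = g i
    rw [← Int.cast_one, ZMod.lift_coe]
    simp
  let s : A ⧸ C →* A := (∏ i, (lift i).comp (Pi.evalMonoidHom _ i)).comp φ.toMonoidHom
  have hs : (QuotientGroup.mk' C).comp s = MonoidHom.id _ := by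
    have key : (((QuotientGroup.mk' C).comp (∏ i, (lift i).comp (Pi.evalMonoidHom _ i))) :
        (∀ j, Multiplicative (ZMod (n j))) →* A ⧸ C) = φ.symm.toMonoidHom := by
      refine MonoidHom.pi_ext fun i x => ?_
      simp only [MonoidHom.comp_apply, MonoidHom.finsetProd_apply, Pi.evalMonoidHom_apply]
      rw [Finset.prod_eq_single i (fun j _ hj => by rw [Pi.mulSingle_eq_of_ne hj, map_one])
        (fun h => absurd (Finset.mem_univ i) h), Pi.mulSingle_eq_same]
      obtain ⟨v, rfl⟩ := Multiplicative.ofAdd.surjective x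
      obtain ⟨j, rfl⟩ := ZMod.intCast_surjective v
      rw [show Multiplicative.ofAdd ((j : ZMod (n i))) = Multiplicative.ofAdd (1 : ZMod (n i)) ^ j by
        rw [← ofAdd_zsmul, zsmul_one], map_zpow, map_zpow, hlift, hg]
      show (φ.symm.toMonoidHom _) ^ j = φ.symm.toMonoidHom _
      rw [← map_zpow, ← Pi.mulSingle_zpow]
    refine MonoidHom.ext fun x => ?_
    have h := DFunLike.congr_fun key (φ x)
    simp only [MonoidHom.comp_apply, MulEquiv.coe_toMonoidHom, φ.symm_apply_apply] at h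
    exact h
  have hs' : ∀ x, QuotientGroup.mk' C (s x) = x := fun x => DFunLike.congr_fun hs x
  refine ⟨(MonoidHom.id A / s.comp (QuotientGroup.mk' C)).comp (⊤ : Subgroup A).subtype,
    fun w => ?_, fun w hw => ?_⟩
  · simp only [MonoidHom.comp_apply, MonoidHom.div_apply, MonoidHom.id_apply]
    rw [← QuotientGroup.eq_one_iff, ← QuotientGroup.mk'_apply, map_div, hs', div_self']
  · simp only [MonoidHom.comp_apply, MonoidHom.div_apply, MonoidHom.id_apply]
    rw [show QuotientGroup.mk' C ((⊤ : Subgroup A).subtype w) = 1 from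
      (QuotientGroup.eq_one_iff _).mpr hw, map_one, div_one]
    rfl

/-- An indecomposable one has irreducible socle. -/
theorem socle_irreducible [Fact p.Prime] (hA : IsPGroup p A) (hX : (Nat.card X).Coprime p)
    (hind : ¬ ∃ B C : Subgroup A, B ≠ ⊥ ∧ C ≠ ⊥ ∧ Inv X B ∧ Inv X C ∧ B ⊓ C = ⊥ ∧ B ⊔ C = ⊤)
    (B : Subgroup A) (hB : Inv X B) (hBp : ∀ b ∈ B, b ^ p = 1) :
    B = ⊥ ∨ ∀ a : A, a ∈ B ↔ a ^ p = 1 := by
  classical
  have hp : p.Prime := Fact.out
  by_cases hBbot : B = ⊥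
  · exact Or.inl hBbot
  right
  obtain ⟨N, hN⟩ := IsPGroup.iff_card.mp hA
  have hcop : (Nat.card X).Coprime (Nat.card A) := hN ▸ hX.pow_right N
  have hexp : ∃ e, ∀ a : A, a ^ p ^ e = 1 := ⟨N, fun a => by rw [← hN, pow_card_eq_one']⟩
  set e := Nat.find hexp with hedef
  have he : ∀ a : A, a ^ p ^ e = 1 := Nat.find_spec hexp
  obtain ⟨b, hb, hb1⟩ : ∃ b ∈ B, b ≠ 1 := by
    by_contra h
    push Not at h
    exact hBbot (eq_bot_iff.mpr fun b hb => mem_bot.mpr (h b hb))
  have he0 : 1 ≤ e := by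
    by_contra h
    exact hb1 (by simpa [show e = 0 by omega] using he b)
  obtain ⟨a₀, ha₀⟩ : ∃ a : A, a ^ p ^ (e - 1) ≠ 1 := by
    by_contra h
    push Not at h
    exact Nat.find_min hexp (show e - 1 < e by omega) h
  set V : Subgroup A := (⊤ : Subgroup A).map (powMonoidHom (p ^ (e - 1))) with hV
  obtain ⟨M, hM⟩ := Set.exists_min_image {M : Subgroup A | Inv X M ∧ M ≤ V ∧ M ≠ ⊥}
    (fun M => Nat.card M) (Set.toFinite _) ⟨V, inv_map_pow _ inv_top, le_rfl,
      fun h => ha₀ (mem_bot.mp (h ▸ ⟨a₀, mem_top a₀, rfl⟩))⟩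
  obtain ⟨⟨hMi, hMV, hM1⟩, hMmin⟩ := hM
  have hMmin' : ∀ D, Inv X D → D ≤ M → D ≠ ⊥ → D = M := fun D h1 h2 h3 =>
    eq_of_le_of_card_ge h2 (hMmin D ⟨h1, h2.trans hMV, h3⟩)
  have hMp : ∀ m ∈ M, m ^ p = 1 := by
    intro m hm
    obtain ⟨z, -, rfl⟩ := hMV hm
    show (z ^ p ^ (e - 1)) ^ p = 1
    rw [← pow_mul, ← pow_succ, Nat.sub_add_cancel he0, he]
  obtain ⟨C, hC⟩ := Set.exists_max_image {C : Subgroup A | Inv X C ∧ C ⊓ M = ⊥}
    (fun C => Nat.card C) (Set.toFinite _) ⟨⊥, inv_bot, bot_inf_eq _⟩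
  obtain ⟨⟨hCi, hCM⟩, hCmax⟩ := hC
  -- the preimage of the socle of `A/C` is `C ⊔ M`
  set W : Subgroup A := C.comap (powMonoidHom p : A →* A) with hW
  have hWi : Inv X W := inv_ker_pow p hCi
  have hCW : C ≤ W := fun c hc => pow_mem hc p
  have hMW : M ≤ W := fun m hm => by
    show m ^ p ∈ C
    rw [hMp m hm]; exact one_mem C
  have hWeq : C ⊔ M = W := by
    obtain ⟨K, hK⟩ := Set.exists_max_image {K : Subgroup A | C ≤ K ∧ K ≤ W ∧ K ⊓ M = ⊥}
      (fun K => Nat.card K) (Set.toFinite _) ⟨C, le_rfl, hCW, hCM⟩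
    obtain ⟨⟨hCK, hKW, hKM⟩, hKmax⟩ := hK
    have hsup : K ⊔ M = W := by
      refine le_antisymm (sup_le hKW hMW) fun w hw => ?_
      by_contra hwn
      have hwK : w ∉ K := fun h => hwn (mem_sup_left h)
      have hne : (K ⊔ zpowers w) ⊓ M ≠ ⊥ := by
        intro h
        have hlt : K < K ⊔ zpowers w :=
          lt_of_le_of_ne le_sup_left fun h' => hwK (h' ▸ mem_sup_right (mem_zpowers w))
        have h2 := hKmax _ ⟨hCK.trans le_sup_left, sup_le hKW (zpowers_le.mpr hw), h⟩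
        exact hlt.ne (eq_of_le_of_card_ge hlt.le h2)
      obtain ⟨m, hm, hm1⟩ : ∃ m ∈ (K ⊔ zpowers w) ⊓ M, m ≠ 1 := by
        by_contra h
        push Not at h
        exact hne (eq_bot_iff.mpr fun m hm => mem_bot.mpr (h m hm))
      obtain ⟨k, hk, v, hv, hkv⟩ := Subgroup.mem_sup.mp hm.1
      obtain ⟨j, rfl⟩ := mem_zpowers_iff.mp hv
      by_cases hpj : (p : ℤ) ∣ j
      · obtain ⟨j', rfl⟩ := hpj
        have hwp : w ^ ((p : ℤ) * j') ∈ K := by
          rw [zpow_mul, zpow_natCast]; exact zpow_mem (hCK hw) j'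
        have : m ∈ K ⊓ M := ⟨by rw [← hkv]; exact mul_mem hk hwp, hm.2⟩
        rw [hKM, mem_bot] at this
        exact hm1 this
      · obtain ⟨u, v', huv⟩ : IsCoprime (p : ℤ) j :=
          (Nat.prime_iff_prime_int.mp hp).coprime_iff_not_dvd.mpr hpj
        apply hwn
        have h1 : w ^ j ∈ K ⊔ M := by
          rw [show w ^ j = k⁻¹ * m by rw [← hkv, inv_mul_cancel_left]]
          exact mul_mem (mem_sup_left (inv_mem hk)) (mem_sup_right hm.2)
        have h2 : w ^ (p : ℤ) ∈ K ⊔ M := by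
          rw [zpow_natCast]; exact mem_sup_left (hCK hw)
        rw [← zpow_one w, ← huv, zpow_add, mul_comm u, mul_comm v', zpow_mul, zpow_mul]
        exact mul_mem (zpow_mem h2 u) (zpow_mem h1 v')
    obtain ⟨π, h1, h2, h3⟩ := exists_projection hKW hMW hKM hsup
    obtain ⟨K', hK'i, hCK', hK'W, hK'M, hK'sup⟩ :=
      exists_inv_complement hcop hWi hMi hCi hMW hCW π h1 h2 (fun w hw => h3 w (hCK hw))
    rw [show C = K' from eq_of_le_of_card_ge hCK' (hCmax K' ⟨hK'i, hK'M⟩)]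
    exact hK'sup
  -- `C` has an invariant complement
  obtain ⟨π, h1, h2⟩ := exists_retraction hA C he (fun a ha => by
    have ha' : a ∈ C ⊔ M := by rw [hWeq]; exact ha
    obtain ⟨c, hc, m, hm, rfl⟩ := Subgroup.mem_sup.mp ha'
    obtain ⟨z, -, rfl⟩ := hMV hm
    refine ⟨z, ?_⟩
    show c * z ^ p ^ (e - 1) * (z ^ p ^ (e - 1))⁻¹ ∈ C
    rwa [mul_inv_cancel_right])
  obtain ⟨D, hDi, -, -, hDC, hDsup⟩ := exists_inv_complement hcop inv_top hCi inv_bot le_top bot_le
    π h1 h2 (fun w hw => by rw [show w = 1 from Subtype.ext (mem_bot.mp hw), map_one])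
  have hCbot : C = ⊥ := by
    by_contra hne
    refine hind ⟨D, C, ?_, hne, hDi, hCi, hDC, hDsup⟩
    intro hD
    rw [hD, bot_sup_eq] at hDsup
    rw [hDsup, top_inf_eq] at hCM
    exact hM1 hCM
  have hBM : B ⊓ M ≠ ⊥ := by
    intro h
    have h2 := hCmax B ⟨hB, h⟩
    rw [hCbot, Subgroup.card_bot] at h2
    exact hBbot (Subgroup.eq_bot_of_card_le B h2)
  have hMB : M ≤ B := by
    rw [← hMmin' _ (hB.inf hMi) inf_le_right hBM]; exact inf_le_left
  refine fun a => ⟨hBp a, fun ha => hMB ?_⟩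
  have : a ∈ W := by show a ^ p ∈ C; rw [ha]; exact one_mem C
  rwa [← hWeq, hCbot, bot_sup_eq] at this

/-- With irreducible socle the invariant subgroups are the `Ω_i`. -/
theorem eq_omega_of_socle [Fact p.Prime] (hA : IsPGroup p A)
    (h3 : ∀ B : Subgroup A, Inv X B → (∀ b ∈ B, b ^ p = 1) → B = ⊥ ∨ ∀ a : A, a ∈ B ↔ a ^ p = 1)
    (B : Subgroup A) (hB : Inv X B) : ∃ i : ℕ, ∀ a : A, a ∈ B ↔ a ^ p ^ i = 1 := by
  classical
  obtain ⟨N, hN⟩ := IsPGroup.iff_card.mp hA
  have hex : ∃ i, ∀ b ∈ B, b ^ p ^ i = 1 := ⟨N, fun b _ => by rw [← hN, pow_card_eq_one']⟩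
  set i := Nat.find hex with hidef
  have hi : ∀ b ∈ B, b ^ p ^ i = 1 := Nat.find_spec hex
  refine ⟨i, fun a => ⟨hi a, ?_⟩⟩
  have hall : ∀ k, k ≤ i → ∀ a : A, a ^ p ^ k = 1 → a ∈ B := by
    intro k
    induction k with
    | zero => intro _ a ha; rw [pow_zero, pow_one] at ha; rw [ha]; exact one_mem B
    | succ k ih =>
      intro hki a ha
      rcases h3 (B.map (powMonoidHom (p ^ (i - 1)) : A →* A)) (inv_map_pow _ hB) (by
        rintro _ ⟨b, hb, rfl⟩
        show (b ^ p ^ (i - 1)) ^ p = 1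
        rw [← pow_mul, ← pow_succ, Nat.sub_add_cancel (by omega), hi b hb]) with h | h
      · exfalso
        exact Nat.find_min hex (show i - 1 < i by omega) fun b hb =>
          mem_bot.mp (h ▸ ⟨b, hb, rfl⟩)
      · obtain ⟨b, hb, hba⟩ := (h (a ^ p ^ k)).mpr (by rw [← pow_mul, ← pow_succ, ha])
        replace hba : b ^ p ^ (i - 1) = a ^ p ^ k := hba
        have hb' : b ^ p ^ (i - 1 - k) ∈ B := pow_mem hb _
        have hm : a * (b ^ p ^ (i - 1 - k))⁻¹ ∈ B := ih (by omega) _ (by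
          rw [mul_pow, inv_pow, ← pow_mul, ← pow_add, show i - 1 - k + k = i - 1 by omega, hba,
            mul_inv_cancel])
        have := mul_mem hm hb'
        rwa [inv_mul_cancel_right] at this
  exact hall i le_rfl a

end CfsgLib.PGroups.Indecomposable
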