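import Mathlib

/-!
A single automorphism acting irreducibly on an elementary abelian group: the field it generates,
and the effect of an invariant nondegenerate pairing.
-/

set_option autoImplicit false
set_option linter.style.haveILetI false

namespace CfsgLib.PGroups.CyclicField

variable {V Z : Type*} [CommGroup V] [Finite V] [CommGroup Z]

/-- The action as an additive endomorphism. -/
def endo (β : MulAut V) : AddMonoid.End (Additive V) := MonoidHom.toAdditive β.toMonoidHom

theorem endo_apply (β : MulAut V) (v : Additive V) :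
    endo β v = Additive.ofMul (β (Additive.toMul v)) := rfl

theorem endo_pow (β : MulAut V) (j : ℕ) : endo β ^ j = endo (β ^ j) := by
  induction j with
  | zero => rfl
  | succ j ih => rw [pow_succ, pow_succ, ih]; rfl

theorem endo_injective : Function.Injective (endo : MulAut V → AddMonoid.End (Additive V)) := by
  intro β γ h
  refine MulEquiv.ext fun v => ?_
  have := DFunLike.congr_fun h (Additive.ofMul v)
  exact congrArg Additive.toMul this

/-- A single automorphism acting irreducibly: its order divides `|V| - 1`, and an invariant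
nondegenerate skew pairing on `V` of order `p^(2k)` forces `β^(p^k+1) = 1`. -/
theorem irreducible_action {p : ℕ} [hp : Fact p.Prime] (hV : Nontrivial V)
    (hexp : ∀ v : V, v ^ p = 1) (β : MulAut V)
    (hirr : ∀ U : Subgroup V, (∀ u ∈ U, β u ∈ U) → U = ⊥ ∨ U = ⊤) :
    orderOf β ∣ Nat.card V - 1 ∧
      ∀ (k : ℕ), Nat.card V = p ^ (2 * k) → ∀ c : V → V → Z,
        (∀ a b d, c (a * b) d = c a d * c b d) → (∀ a b, c b a = (c a b)⁻¹) →
        (∀ a, (∀ b, c a b = 1) → a = 1) → (∀ a b, c (β a) (β b) = c a b) →
        β ^ 2 = 1 ∨ β ^ (p ^ k + 1) = 1 := by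
  classical
  haveI : Finite (AddMonoid.End (Additive V)) :=
    Finite.of_injective (fun f : AddMonoid.End (Additive V) => (f : Additive V → Additive V))
      (fun a b h => AddMonoidHom.ext (congrFun h))
  set T : AddMonoid.End (Additive V) := endo β with hT
  set S : Subring (AddMonoid.End (Additive V)) := Subring.closure {T} with hS
  haveI : Nontrivial (Additive V) := inferInstanceAs (Nontrivial V)
  haveI : Nontrivial (AddMonoid.End (Additive V)) := by
    obtain ⟨v, hv⟩ := exists_ne (0 : Additive V)
    exact ⟨⟨1, 0, fun h => hv (DFunLike.congr_fun h v)⟩⟩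
  have hcomm : ∀ s ∈ S, s * T = T * s := by
    intro s hs
    induction hs using Subring.closure_induction with
    | mem x hx => rw [Set.mem_singleton_iff.mp hx]
    | zero => simp
    | one => simp
    | add x y _ _ hx hy => rw [add_mul, mul_add, hx, hy]
    | neg x _ hx => exact (Commute.neg_left (show Commute x T from hx)).eq
    | mul x y _ _ hx hy => rw [mul_assoc, hy, ← mul_assoc, hx, mul_assoc]
  letI instC : CommRing S :=
    { (inferInstance : Ring S) with
      mul_comm := fun a b => Subtype.ext (by
        obtain ⟨b, hb⟩ := b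
        show (a : AddMonoid.End (Additive V)) * b = b * a
        induction hb using Subring.closure_induction with
        | mem x hx => rw [Set.mem_singleton_iff.mp hx]; exact hcomm a a.2
        | zero => simp
        | one => simp
        | add x y _ _ hx hy => rw [add_mul, mul_add, hx, hy]
        | neg x _ hx => exact (Commute.neg_right (show Commute (a : AddMonoid.End (Additive V)) x from hx)).eq
        | mul x y _ _ hx hy => rw [← mul_assoc, hx, mul_assoc, hy, mul_assoc]) }
  have hzero : ∀ s ∈ S, ∀ v : Additive V, s v = 0 → v = 0 ∨ s = 0 := by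
    intro s hs v hv
    let U : Subgroup V := (AddMonoidHom.toMultiplicative (s : Additive V →+ Additive V)).ker.comap
      (MonoidHom.mk' (fun v : V => Multiplicative.ofAdd (Additive.ofMul v)) fun _ _ => rfl)
    have hmem : ∀ u, u ∈ U ↔ s (Additive.ofMul u) = 0 := fun u => Iff.rfl
    rcases hirr U (fun u hu => by
      rw [hmem] at hu ⊢
      have := DFunLike.congr_fun (hcomm s hs) (Additive.ofMul u)
      show s (T (Additive.ofMul u)) = 0
      rw [show s (T (Additive.ofMul u)) = T (s (Additive.ofMul u)) from this, hu, map_zero]) with h | h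
    · left
      have : Additive.toMul v ∈ U := by rw [hmem]; exact hv
      rw [h, Subgroup.mem_bot] at this
      exact Additive.toMul.injective this
    · right
      refine AddMonoidHom.ext fun w => ?_
      have : Additive.toMul w ∈ U := h ▸ Subgroup.mem_top _
      exact this
  haveI : IsDomain S := by
    haveI : NoZeroDivisors S := ⟨fun {a b} hab => by
      by_contra hc
      rw [not_or] at hc
      obtain ⟨v, hv⟩ : ∃ v, (b : AddMonoid.End (Additive V)) v ≠ 0 := by
        by_contra h
        push Not at h
        exact hc.2 (Subtype.ext (AddMonoidHom.ext h))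
      have h1 : (a : AddMonoid.End (Additive V)) ((b : AddMonoid.End (Additive V)) v) = 0 :=
        DFunLike.congr_fun (congrArg Subtype.val hab) v
      rcases hzero a a.2 _ h1 with h | h
      · exact hv h
      · exact hc.1 (Subtype.ext h)⟩
    exact NoZeroDivisors.to_isDomain S
  haveI := Fintype.ofFinite S
  letI : Field S := Fintype.fieldOfDomain S
  obtain ⟨v0, hv0⟩ := exists_ne (0 : Additive V)
  have hTS : T ∈ S := Subring.subset_closure rfl
  have hbij : Function.Bijective (fun s : S => (s : AddMonoid.End (Additive V)) v0) := by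
    constructor
    · intro a b h
      have h' : ((a - b : S) : AddMonoid.End (Additive V)) v0 = 0 := by
        show (a : AddMonoid.End (Additive V)) v0 - (b : AddMonoid.End (Additive V)) v0 = 0
        exact sub_eq_zero.mpr h
      rcases hzero _ (a - b).2 _ h' with h'' | h''
      · exact absurd h'' hv0
      · exact sub_eq_zero.mp (Subtype.ext h'')
    · intro w
      let U : Subgroup V :=
        { carrier := {u | ∃ s : S, (s : AddMonoid.End (Additive V)) v0 = Additive.ofMul u}
          one_mem' := ⟨0, rfl⟩
          mul_mem' := fun {x y} ⟨s, hs⟩ ⟨t, ht⟩ => ⟨s + t, by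
            show (s : AddMonoid.End (Additive V)) v0 + (t : AddMonoid.End (Additive V)) v0 = _
            rw [hs, ht]; rfl⟩
          inv_mem' := fun {x} ⟨s, hs⟩ => ⟨-s, by
            show -((s : AddMonoid.End (Additive V)) v0) = _
            rw [hs]; rfl⟩ }
      rcases hirr U (fun u hu => by
        obtain ⟨s, hs⟩ := hu
        refine ⟨⟨T, hTS⟩ * s, ?_⟩
        show T ((s : AddMonoid.End (Additive V)) v0) = _
        rw [hs]; rfl) with h | h
      · exfalso
        have : Additive.toMul v0 ∈ U := ⟨1, rfl⟩
        rw [h, Subgroup.mem_bot] at this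
        exact hv0 (Additive.toMul.injective this)
      · obtain ⟨s, hs⟩ : Additive.toMul w ∈ U := h ▸ Subgroup.mem_top _
        exact ⟨s, hs⟩
  have hcard : Fintype.card S = Nat.card V := by
    rw [← Nat.card_eq_fintype_card, Nat.card_eq_of_bijective _ hbij]
    exact Nat.card_congr Additive.toMul
  set t : S := ⟨T, hTS⟩ with ht
  have ht0 : t ≠ 0 := by
    intro h
    have h1 : T v0 = 0 := DFunLike.congr_fun (congrArg Subtype.val h) v0
    rw [hT, endo_apply] at h1
    exact hv0 (Additive.toMul.injective (β.injective
      ((congrArg Additive.toMul h1).trans (map_one β).symm)))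
  have htpow : ∀ j : ℕ, t ^ j = 1 → β ^ j = 1 := by
    intro j hj
    apply endo_injective
    rw [← endo_pow, ← hT]
    exact (congrArg Subtype.val hj : _)
  refine ⟨orderOf_dvd_of_pow_eq_one (htpow _ ?_), fun k hk c hcl hskew hnd hinv => ?_⟩
  · rw [← hcard]
    exact FiniteField.pow_card_sub_one_eq_one t ht0
  -- the adjoint
  let c' : Additive V → Additive V → Additive Z := fun a b =>
    Additive.ofMul (c (Additive.toMul a) (Additive.toMul b))
  have hadd : ∀ a b d, c' (a + b) d = c' a d + c' b d := fun a b d => hcl _ _ _
  have hsk : ∀ a b, c' b a = - c' a b := fun a b => hskew _ _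
  have hadd' : ∀ a b d, c' a (b + d) = c' a b + c' a d := fun a b d => by
    rw [hsk (b + d) a, hadd, neg_add, ← hsk, ← hsk]
  have hz : ∀ d, c' 0 d = 0 := fun d => by
    have h := hadd 0 0 d; rw [add_zero] at h; exact left_eq_add.mp h
  have hz' : ∀ d, c' d 0 = 0 := fun d => by rw [hsk, hz, neg_zero]
  have hn : ∀ a d, c' (-a) d = - c' a d := fun a d => by
    refine eq_neg_of_add_eq_zero_left ?_
    rw [← hadd, neg_add_cancel, hz]
  have hn' : ∀ a d, c' a (-d) = - c' a d := fun a d => by rw [hsk, hn, ← hsk]
  have hadj : ∀ s : S, ∃ s' : S, ∀ a b, c' ((s : AddMonoid.End (Additive V)) a) b =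
      c' a ((s' : AddMonoid.End (Additive V)) b) := by
    rintro ⟨s, hs⟩
    induction hs using Subring.closure_induction with
    | mem x hx =>
      obtain rfl := Set.mem_singleton_iff.mp hx
      haveI : Finite (MulAut V) := Finite.of_injective (fun e : MulAut V => (e : V → V))
        fun a b h => MulEquiv.ext (congrFun h)
      refine ⟨t ^ (orderOf β - 1), fun a b => ?_⟩
      have h1 : ((t ^ (orderOf β - 1) : S) : AddMonoid.End (Additive V)) =
          endo (β ^ (orderOf β - 1)) := by
        rw [SubmonoidClass.coe_pow]; exact endo_pow β _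
      rw [h1]
      show Additive.ofMul (c (β (Additive.toMul a)) (Additive.toMul b)) =
        Additive.ofMul (c (Additive.toMul a) ((β ^ (orderOf β - 1)) (Additive.toMul b)))
      refine congrArg Additive.ofMul ?_
      conv_rhs => rw [← hinv]
      congr 1
      rw [← MulAut.mul_apply, ← pow_succ', Nat.sub_add_cancel (orderOf_pos β), pow_orderOf_eq_one]
      rfl
    | zero => exact ⟨0, fun a b => (hz b).trans (hz' a).symm⟩
    | one => exact ⟨1, fun a b => rfl⟩
    | add x y _ _ hx hy =>
      obtain ⟨x', hx'⟩ := hx
      obtain ⟨y', hy'⟩ := hy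
      exact ⟨x' + y', fun a b => by
        show c' (x a + y a) b = c' a ((x' : AddMonoid.End (Additive V)) b + (y' : AddMonoid.End (Additive V)) b)
        rw [hadd, hadd']; exact congrArg₂ (· + ·) (hx' a b) (hy' a b)⟩
    | neg x _ hx =>
      obtain ⟨x', hx'⟩ := hx
      exact ⟨-x', fun a b => by
        show c' (-(x a)) b = c' a (-((x' : AddMonoid.End (Additive V)) b))
        rw [hn, hn']; exact congrArg Neg.neg (hx' a b)⟩
    | mul x y _ _ hx hy =>
      obtain ⟨x', hx'⟩ := hx
      obtain ⟨y', hy'⟩ := hy
      exact ⟨y' * x', fun a b => (hx' _ _).trans (hy' _ _)⟩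
  choose σ hσ using hadj
  have huniq : ∀ (s : S) (s' : S), (∀ a b, c' ((s : AddMonoid.End (Additive V)) a) b =
      c' a ((s' : AddMonoid.End (Additive V)) b)) → σ s = s' := by
    intro s s' h
    refine sub_eq_zero.mp (Subtype.ext (AddMonoidHom.ext fun b => ?_))
    apply Additive.toMul.injective
    refine hnd _ fun a => ?_
    have h1 : c' (((σ s - s' : S) : AddMonoid.End (Additive V)) b) (Additive.ofMul a) = 0 := by
      show c' (((σ s : S) : AddMonoid.End (Additive V)) b - (s' : AddMonoid.End (Additive V)) b) _ = 0
      rw [hsk, sub_eq_add_neg, hadd', hn', ← hσ, ← h, add_neg_cancel, neg_zero]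
    exact congrArg Additive.toMul h1
  have hσσ : ∀ s, σ (σ s) = s := fun s => huniq _ _ fun a b => by
    rw [hsk b, ← hσ s b a, ← hsk]
  have hσ1 : σ 1 = 1 := huniq _ _ fun a b => rfl
  have hσm : ∀ a b, σ (a * b) = σ a * σ b := fun a b => huniq _ _ fun u v => by
    rw [mul_comm (σ a) (σ b)]
    exact (hσ a _ v).trans (hσ b _ _)
  have hσa : ∀ a b, σ (a + b) = σ a + σ b := fun a b => huniq _ _ fun u v => by
    show c' ((a : AddMonoid.End (Additive V)) u + (b : AddMonoid.End (Additive V)) u) v =
      c' u (((σ a : S) : AddMonoid.End (Additive V)) v + ((σ b : S) : AddMonoid.End (Additive V)) v)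
    rw [hadd, hadd', hσ a, hσ b]
  have hσt : σ t * t = 1 := by
    refine Subtype.ext (AddMonoidHom.ext fun b => ?_)
    apply Additive.toMul.injective
    show Additive.toMul (((σ t : S) : AddMonoid.End (Additive V)) (T b)) = Additive.toMul b
    rw [← div_eq_one]
    refine hnd _ fun a => ?_
    have h1 : c' (((σ t : S) : AddMonoid.End (Additive V)) (T b) - b) (Additive.ofMul a) = 0 := by
      have h2 : c' (T (Additive.ofMul a)) (T b) = c' (Additive.ofMul a) b :=
        congrArg Additive.ofMul (hinv _ _)
      have h3 : c' (T (Additive.ofMul a)) (T b) =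
          c' (Additive.ofMul a) (((σ t : S) : AddMonoid.End (Additive V)) (T b)) := hσ t _ _
      rw [hsk, sub_eq_add_neg, hadd', hn', ← h3, h2, add_neg_cancel, neg_zero]
    exact congrArg Additive.toMul h1
  haveI : CharP S p := by
    refine (CharP.charP_iff_prime_eq_zero hp.out).mpr (Subtype.ext (AddMonoidHom.ext fun v => ?_))
    show ((p : S) : AddMonoid.End (Additive V)) v = 0
    rw [SubringClass.coe_natCast, AddMonoid.End.natCast_apply]
    exact Additive.toMul.injective (hexp (Additive.toMul v))
  letI : Algebra (ZMod p) S := ZMod.algebra S p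
  have hfr : Module.finrank (ZMod p) S = 2 * k := by
    have h := Module.card_eq_pow_finrank (K := ZMod p) (V := S)
    rw [hcard, hk, ZMod.card] at h
    exact (Nat.pow_right_injective hp.out.two_le h).symm
  have hσ0 : σ 0 = 0 := by
    have h := hσa 0 0; rw [add_zero] at h; exact left_eq_add.mp h
  let σr : S →+* S :=
    { toFun := σ, map_one' := hσ1, map_mul' := hσm, map_zero' := hσ0, map_add' := hσa }
  let σA : S →ₐ[ZMod p] S :=
    { σr with commutes' := fun r => RingHom.congr_fun (Subsingleton.elim (σr.comp (algebraMap (ZMod p) S)) (algebraMap (ZMod p) S)) r }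
  obtain ⟨i, hi⟩ := (FiniteField.bijective_frobeniusAlgHom_pow (ZMod p) S).2 σA
  simp only at hi
  have happ : ∀ s, σ s = s ^ p ^ i.val := by
    intro s
    show σA s = _
    rw [← hi, AlgHom.coe_pow, FiniteField.coe_frobeniusAlgHom, pow_iterate, ZMod.card]
  have hi2 : i.val = 0 ∨ i.val = k := by
    have h1 : FiniteField.frobeniusAlgHom (ZMod p) S ^ (2 * i.val) = 1 := by
      rw [two_mul, pow_add, hi]
      exact AlgHom.ext hσσ
    have h2 := orderOf_dvd_of_pow_eq_one h1
    rw [(FiniteField.orderOf_frobeniusAlgHom (ZMod p) S).trans hfr] at h2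
    have hlt : i.val < 2 * k := hfr ▸ i.2
    obtain ⟨d, hd⟩ := h2
    have : d < 2 := by
      by_contra hge
      have := Nat.mul_le_mul_left (2 * k) (not_lt.mp hge)
      omega
    interval_cases d <;> omega
  rw [happ, ← pow_succ] at hσt
  rcases hi2 with h | h
  · left; exact htpow 2 (by rwa [h, pow_zero] at hσt)
  · right; exact htpow _ (by rwa [h] at hσt)

end CfsgLib.PGroups.CyclicField
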