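import Mathlib
import Cfsg.Agent.Lib.PGroups.Pearl

/-!
# `3`-groups of maximal class with an element having a centralizer of order nine
-/

set_option autoImplicit false

namespace CfsgLib.PGroups.Pearl

open Subgroup CfsgLib.PGroups
open scoped commutatorElement Pointwise

universe u

section General

variable {G : Type u} [Group G]

/-- The three subgroup lemma modulo a normal subgroup. -/
theorem commutator_le_of_rotate {A B C : Subgroup G} {N : Subgroup G} [N.Normal]
    (h1 : ⁅⁅B, C⁆, A⁆ ≤ N) (h2 : ⁅⁅C, A⁆, B⁆ ≤ N) : ⁅⁅A, B⁆, C⁆ ≤ N := by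
  have hle : ∀ X : Subgroup G, X.map (QuotientGroup.mk' N) = ⊥ ↔ X ≤ N := fun X => by
    rw [Subgroup.map_eq_bot_iff, QuotientGroup.ker_mk']
  rw [← hle, map_commutator, map_commutator] at h1 h2 ⊢
  exact Subgroup.commutator_commutator_eq_bot_of_rotate h1 h2

theorem commutator_lcsT (a b : ℕ) : ⁅lcsT G a, lcsT G b⁆ ≤ lcsT G (a + b + 1) := by
  induction b generalizing a with
  | zero =>
    rw [Nat.add_zero, lcsT, lcsT, lcsT, Subgroup.lowerCentralSeries_zero,
      Subgroup.lowerCentralSeries_succ]
  | succ b ih =>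
    haveI := lcsT_normal (G := G) (a + (b + 1) + 1)
    rw [Subgroup.commutator_comm, show lcsT G (b + 1) = ⁅lcsT G b, (⊤ : Subgroup G)⁆ from
      Subgroup.lowerCentralSeries_succ _ _]
    refine commutator_le_of_rotate ?_ ?_
    · rw [Subgroup.commutator_comm ⊤ (lcsT G a),
        show ⁅lcsT G a, (⊤ : Subgroup G)⁆ = lcsT G (a + 1) from
          (Subgroup.lowerCentralSeries_succ _ _).symm]
      exact (ih (a + 1)).trans (le_of_eq (by rw [show a + 1 + b + 1 = a + (b + 1) + 1 by omega]))
    · refine (Subgroup.commutator_mono (ih a) le_rfl).trans (le_of_eq ?_)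
      rw [show a + (b + 1) + 1 = a + b + 1 + 1 by omega]
      exact (Subgroup.lowerCentralSeries_succ _ _).symm

/-- The elements acting trivially between two layers. -/
def layerStab (G : Type u) [Group G] (j : ℕ) : Subgroup G :=
  (centralizer ((((lcsT G j).map
    (@QuotientGroup.mk' G _ (lcsT G (j + 2)) (lcsT_normal _))) : Set (G ⧸ lcsT G (j + 2))))).comap
      (@QuotientGroup.mk' G _ (lcsT G (j + 2)) (lcsT_normal _))

theorem mem_layerStab {j : ℕ} {x : G} :
    x ∈ layerStab G j ↔ ∀ y ∈ lcsT G j, ⁅y, x⁆ ∈ lcsT G (j + 2) := by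
  haveI := lcsT_normal (G := G) (j + 2)
  rw [layerStab, mem_comap, mem_centralizer_iff]
  constructor
  · intro h y hy
    have h1 := h (QuotientGroup.mk' _ y) ⟨y, hy, rfl⟩
    rw [← QuotientGroup.eq_one_iff]
    show QuotientGroup.mk' _ ⁅y, x⁆ = 1
    rw [map_commutatorElement, commutatorElement_eq_one_iff_mul_comm]
    exact h1
  · rintro h _ ⟨y, hy, rfl⟩
    rw [← commutatorElement_eq_one_iff_mul_comm, ← map_commutatorElement]
    exact (QuotientGroup.eq_one_iff _).2 (h y hy)

theorem layerStab_one_normal : (layerStab G 1).Normal := by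
  refine ⟨fun x hx g => mem_layerStab.2 fun y hy => ?_⟩
  have h := mem_layerStab.1 hx (g⁻¹ * y * g)
    (by simpa using (lcsT_normal (G := G) 1).conj_mem y hy g⁻¹)
  have h1 := (lcsT_normal (G := G) (1 + 2)).conj_mem _ h g
  rwa [show g * ⁅g⁻¹ * y * g, x⁆ * g⁻¹ = ⁅y, g * x * g⁻¹⁆ by
    simp only [commutatorElement_def]; group] at h1

end General

variable {G : Type u} [Group G] [Finite G] {n : ℕ} {s : G} [hf : Fact (Nat.Prime 3)]
  (H : Elt 3 n s)
include H

theorem Elt.layer_gen {i : ℕ} (hi : 1 ≤ i) {y : G} (hy : y ∈ lcsT G i)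
    (hy' : y ∉ lcsT G (i + 1)) {z : G} (hz : z ∈ lcsT G i) :
    ∃ k : ℤ, (y ^ k)⁻¹ * z ∈ lcsT G (i + 1) := by
  have hin : i ≤ n - 2 := by
    by_contra hi
    rw [H.lcs_eq_bot (by omega), mem_bot] at hy
    exact hy' (hy ▸ one_mem _)
  have := H.three
  haveI := lcsT_normal (G := G) (i + 1)
  have heq : zpowers y ⊔ lcsT G (i + 1) = lcsT G i := by
    refine eq_of_le_of_card_ge (sup_le (zpowers_le.2 hy)
      (Subgroup.lowerCentralSeries_antitone _ i.le_succ)) ?_
    rw [H.card_lcs hi (by omega)]
    obtain ⟨a, ha⟩ := card_subgroup_eq_pow (IsPGroup.of_card H.card)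
      (zpowers y ⊔ lcsT G (i + 1))
    have h1 : Nat.card (lcsT G (i + 1)) < Nat.card ↥(zpowers y ⊔ lcsT G (i + 1)) := by
      refine lt_of_le_of_ne (card_le_of_le le_sup_right) fun e => hy' ?_
      rw [eq_of_le_of_card_ge (le_sup_right : lcsT G (i + 1) ≤ zpowers y ⊔ _) e.ge]
      exact mem_sup_left (mem_zpowers y)
    rw [H.card_lcs (by omega) (by omega), ha] at h1
    rw [ha]
    have := (Nat.pow_lt_pow_iff_right (by norm_num : 1 < 3)).1 h1
    exact Nat.pow_le_pow_right (by norm_num) (by omega)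
  rw [← heq, ← SetLike.mem_coe, Subgroup.mul_normal] at hz
  obtain ⟨a, ha, b, hb, rfl⟩ := hz
  obtain ⟨k, rfl⟩ := mem_zpowers_iff.1 ha
  exact ⟨k, by rwa [inv_mul_cancel_left]⟩

theorem Elt.exists_layer {i : ℕ} (hi : 1 ≤ i) (hin : i ≤ n - 2) :
    ∃ y ∈ lcsT G i, y ∉ lcsT G (i + 1) := by
  by_contra h
  push Not at h
  have := H.three
  have h1 := card_le_of_le h
  rw [H.card_lcs hi (by omega), H.card_lcs (by omega) (by omega)] at h1
  have := (Nat.pow_le_pow_iff_right (by norm_num : 1 < 3)).1 h1
  omega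

theorem Elt.center_eq : center G = lcsT G (n - 2) := by
  have h3 := H.three
  refine (eq_of_le_of_card_ge (fun x hx => ?_) ?_).symm
  · rw [mem_center_iff]
    intro g
    have h1 := commutator_mem_commutator hx (mem_top g)
    rw [show ⁅lcsT G (n - 2), (⊤ : Subgroup G)⁆ = lcsT G (n - 2 + 1) from
      (Subgroup.lowerCentralSeries_succ _ _).symm, H.lcs_eq_bot (by omega), mem_bot,
      commutatorElement_eq_one_iff_mul_comm] at h1
    exact h1.symm
  · rw [H.card_lcs (by omega) (by omega), (center_of_maximalClass (p := 3) h3 H.card H.cls).1,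
      show n - 1 - (n - 2) = 1 by omega, pow_one]

variable (h4 : 4 ≤ n)
include h4

theorem Elt.not_mem_stab {j : ℕ} (hj : 1 ≤ j) (hjn : j + 2 ≤ n - 1) : s ∉ layerStab G j := by
  intro hs
  obtain ⟨y, hy, hy'⟩ := H.exists_layer hj (by omega)
  exact H.layer hj hjn hy hy' (mem_layerStab.1 hs y hy)

theorem Elt.stab_one_sup : layerStab G 1 ⊔ zpowers s = ⊤ := by
  rw [eq_top_iff]
  intro x _
  obtain ⟨y, hy, hy'⟩ := H.exists_layer le_rfl (by omega)
  haveI := lcsT_normal (G := G) 3
  have hsy : ⁅y, s⁆ ∈ lcsT G 2 := by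
    rw [show lcsT G 2 = ⁅lcsT G 1, (⊤ : Subgroup G)⁆ from Subgroup.lowerCentralSeries_succ _ _]
    exact commutator_mem_commutator hy (mem_top s)
  have hxy : ⁅y, x⁆ ∈ lcsT G 2 := by
    rw [show lcsT G 2 = ⁅lcsT G 1, (⊤ : Subgroup G)⁆ from Subgroup.lowerCentralSeries_succ _ _]
    exact commutator_mem_commutator hy (mem_top x)
  obtain ⟨k, hk⟩ := H.layer_gen (by norm_num) hsy (H.layer le_rfl (by omega) hy hy') hxy
  set π := QuotientGroup.mk' (lcsT G 3) with hπ
  have hc : ∀ g ∈ lcsT G 2, ∀ w : G, Commute (π g) (π w) := fun g hg w => by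
    rw [Commute, SemiconjBy, ← commutatorElement_eq_one_iff_mul_comm, ← map_commutatorElement]
    refine (QuotientGroup.eq_one_iff _).2 ?_
    rw [show lcsT G 3 = ⁅lcsT G 2, (⊤ : Subgroup G)⁆ from Subgroup.lowerCentralSeries_succ _ _]
    exact commutator_mem_commutator hg (mem_top w)
  -- commutation with `y` is a homomorphism into a central section
  have hmul : ∀ a b : G, π ⁅y, a * b⁆ = π ⁅y, a⁆ * π ⁅y, b⁆ := fun a b => by
    have hb : ⁅y, b⁆ ∈ lcsT G 2 := by
      rw [show lcsT G 2 = ⁅lcsT G 1, (⊤ : Subgroup G)⁆ from Subgroup.lowerCentralSeries_succ _ _]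
      exact commutator_mem_commutator hy (mem_top b)
    rw [show ⁅y, a * b⁆ = ⁅y, a⁆ * (a * ⁅y, b⁆ * a⁻¹) by simp only [commutatorElement_def]; group,
      map_mul, map_mul, map_mul, ← (hc _ hb a).eq, mul_assoc, ← map_mul π a, mul_inv_cancel,
      map_one, mul_one]
  let φ : G →* G ⧸ lcsT G 3 := MonoidHom.mk' (fun a => π ⁅y, a⁆) hmul
  have hx : (s ^ k)⁻¹ * x ∈ layerStab G 1 := by
    have h1 : φ ((s ^ k)⁻¹ * x) = 1 := by
      rw [map_mul, map_inv, map_zpow]
      show (π ⁅y, s⁆ ^ k)⁻¹ * π ⁅y, x⁆ = 1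
      rw [← map_zpow, ← map_inv, ← map_mul]
      exact (QuotientGroup.eq_one_iff _).2 hk
    have h2 : ⁅y, (s ^ k)⁻¹ * x⁆ ∈ lcsT G 3 := (QuotientGroup.eq_one_iff _).1 h1
    refine mem_layerStab.2 fun z hz => ?_
    obtain ⟨i, hi⟩ := H.layer_gen le_rfl hy hy' hz
    rw [← QuotientGroup.eq_one_iff]
    show π ⁅z, (s ^ k)⁻¹ * x⁆ = 1
    rw [map_commutatorElement, commutatorElement_eq_one_iff_mul_comm]
    show Commute (π z) (π ((s ^ k)⁻¹ * x))
    rw [show z = y ^ i * ((y ^ i)⁻¹ * z) by group, map_mul, map_zpow]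
    refine (Commute.zpow_left ?_ i).mul_left (hc _ hi _)
    rw [Commute, SemiconjBy, ← commutatorElement_eq_one_iff_mul_comm, ← map_commutatorElement]
    exact (QuotientGroup.eq_one_iff _).2 h2
  haveI := layerStab_one_normal (G := G)
  rw [show x = s ^ k * ((s ^ k)⁻¹ * x) by group]
  exact mul_mem (mem_sup_right (zpow_mem (mem_zpowers s) k)) (mem_sup_left hx)

theorem Elt.stab_one_index : (layerStab G 1).index = 3 := by
  haveI := layerStab_one_normal (G := G)
  have hne : (layerStab G 1).index ≠ 1 := fun h =>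
    H.not_mem_stab h4 le_rfl (by omega) ((index_eq_one.1 h).symm ▸ mem_top s)
  have hs3 : s ^ 3 ∈ layerStab G 1 := mem_layerStab.2 fun y _ => by
    rw [commutatorElement_eq_one_iff_mul_comm.2 (mem_center_iff.1 H.pow_central y)]
    exact one_mem _
  have hcyc : ∀ q : G ⧸ layerStab G 1, q ∈ zpowers (QuotientGroup.mk' (layerStab G 1) s) := by
    intro q
    obtain ⟨x, rfl⟩ := QuotientGroup.mk'_surjective _ q
    have hx : x ∈ layerStab G 1 ⊔ zpowers s := (H.stab_one_sup h4).symm ▸ mem_top x
    rw [← SetLike.mem_coe, Subgroup.normal_mul] at hx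
    obtain ⟨a, ha, b, hb, rfl⟩ := hx
    obtain ⟨k, rfl⟩ := mem_zpowers_iff.1 hb
    refine mem_zpowers_iff.2 ⟨k, ?_⟩
    rw [map_mul, map_zpow, show QuotientGroup.mk' (layerStab G 1) a = 1 from
      (QuotientGroup.eq_one_iff _).2 ha, one_mul]
  have hdvd : (layerStab G 1).index ∣ 3 := by
    rw [Subgroup.index_eq_card, ← orderOf_eq_card_of_forall_mem_zpowers hcyc]
    refine orderOf_dvd_of_pow_eq_one ?_
    rw [← map_pow]
    exact (QuotientGroup.eq_one_iff _).2 hs3
  exact ((Nat.dvd_prime hf.1).1 hdvd).resolve_left hne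

/-- The stabiliser of the first layer stabilises every layer. -/
theorem Elt.stab_le (j : ℕ) (hj : 1 ≤ j) : layerStab G 1 ≤ layerStab G j := by
  induction j using Nat.strong_induction_on with
  | _ j ih =>
    rcases (show j = 1 ∨ j = 2 ∨ 3 ≤ j by omega) with rfl | rfl | hj3
    · exact le_rfl
    · intro x hx
      refine mem_layerStab.2 fun z hz => ?_
      haveI := lcsT_normal (G := G) 4
      have h11 : ⁅lcsT G 1, lcsT G 1⁆ ≤ lcsT G 4 := by
        obtain ⟨y, hy, hy'⟩ := H.exists_layer le_rfl (by omega)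
        rw [Subgroup.commutator_le]
        intro a ha b hb
        rw [← QuotientGroup.eq_one_iff]
        show QuotientGroup.mk' _ ⁅a, b⁆ = 1
        rw [map_commutatorElement, commutatorElement_eq_one_iff_mul_comm]
        obtain ⟨i, hi⟩ := H.layer_gen le_rfl hy hy' ha
        obtain ⟨k, hk⟩ := H.layer_gen le_rfl hy hy' hb
        have hc : ∀ u w : G, u ∈ lcsT G 1 → w ∈ lcsT G 2 →
            Commute (QuotientGroup.mk' (lcsT G 4) u) (QuotientGroup.mk' (lcsT G 4) w) :=
          fun u w hu hw => by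
            rw [Commute, SemiconjBy, ← commutatorElement_eq_one_iff_mul_comm,
              ← map_commutatorElement]
            exact (QuotientGroup.eq_one_iff _).2
              (commutator_lcsT 1 2 (commutator_mem_commutator hu hw))
        rw [show a = y ^ i * ((y ^ i)⁻¹ * a) by group,
          show b = y ^ k * ((y ^ k)⁻¹ * b) by group, map_mul _ (y ^ i), map_mul _ (y ^ k),
          map_zpow, map_zpow]
        have ha2 := (lcsT G 1).zpow_mem hy i
        have hb2 := (lcsT G 1).zpow_mem hy k
        have h21 : lcsT G 2 ≤ lcsT G 1 := Subgroup.lowerCentralSeries_antitone _ (Nat.le_succ 1)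
        refine (Commute.mul_left (Commute.mul_right ?_ ?_) (Commute.mul_right ?_ ?_)).eq
        · exact (Commute.refl _).zpow_zpow i k
        · rw [← map_zpow]; exact hc _ _ ha2 hk
        · rw [← map_zpow]; exact (hc _ _ hb2 hi).symm
        · exact hc _ _ (h21 hi) hk
      have h1 : ⁅⁅lcsT G 1, (⊤ : Subgroup G)⁆, layerStab G 1⁆ ≤ lcsT G 4 := by
        refine commutator_le_of_rotate ?_ ?_
        · refine (Subgroup.commutator_mono ?_ le_rfl).trans h11
          rw [lcsT, top_lowerCentralSeries_one]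
          exact Subgroup.commutator_mono le_top le_top
        · rw [show lcsT G 4 = ⁅lcsT G 3, (⊤ : Subgroup G)⁆ from
            Subgroup.lowerCentralSeries_succ _ _, Subgroup.commutator_comm (layerStab G 1)]
          refine Subgroup.commutator_mono ?_ le_rfl
          rw [Subgroup.commutator_le]
          exact fun a ha b hb => mem_layerStab.1 hb a ha
      exact h1 (commutator_mem_commutator
        ((Subgroup.lowerCentralSeries_succ _ _).le hz) hx)
    · intro x hx
      refine mem_layerStab.2 fun z hz => ?_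
      obtain ⟨i, rfl⟩ : ∃ i, j = i + 2 := ⟨j - 2, by omega⟩
      by_cases hbig : i + 3 ≥ n - 1
      · have h1 : ⁅z, x⁆ ∈ lcsT G (i + 3) := by
          rw [show lcsT G (i + 3) = ⁅lcsT G (i + 2), (⊤ : Subgroup G)⁆ from
            Subgroup.lowerCentralSeries_succ _ _]
          exact commutator_mem_commutator hz (mem_top x)
        rw [H.lcs_eq_bot hbig, mem_bot] at h1
        rw [h1]
        exact one_mem _
      have hi1 : 1 ≤ i := by omega
      obtain ⟨y, hy, hy'⟩ := H.exists_layer hi1 (by omega)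
      obtain ⟨hyp, hyp'⟩ := H.pow_layer i hi1 y hy
      have hyp2 : y ^ 3 ∈ lcsT G (i + 2) := hyp
      obtain ⟨k, hk⟩ := H.layer_gen (by omega) hyp2 (hyp' hy' (by omega)) hz
      haveI := lcsT_normal (G := G) (i + 2 + 2)
      set π := QuotientGroup.mk' (lcsT G (i + 2 + 2))
      set c := ⁅y⁻¹, x⁆ with hcdef
      have hc : c ∈ lcsT G (i + 2) :=
        mem_layerStab.1 (ih i (by omega) hi1 hx) _ (inv_mem hy)
      have hcy : Commute (π y) (π c) := by
        rw [Commute, SemiconjBy, ← commutatorElement_eq_one_iff_mul_comm, ← map_commutatorElement]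
        refine (QuotientGroup.eq_one_iff _).2 ?_
        exact Subgroup.lowerCentralSeries_antitone _ (by omega : i + 2 + 2 ≤ i + (i + 2) + 1)
          (commutator_lcsT i (i + 2) (commutator_mem_commutator hy hc))
      have hc3 : π c ^ 3 = 1 := by
        rw [← map_pow]
        exact (QuotientGroup.eq_one_iff _).2 ((H.pow_layer (i + 2) (by omega) c hc).1)
      have hy3 : Commute (π (y ^ 3)) (π x) := by
        have h1 : π x * π (y ^ 3) * (π x)⁻¹ = π (y ^ 3) := by
          rw [map_pow, ← conj_pow, ← map_mul, ← map_inv, ← map_mul,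
            show x * y * x⁻¹ = y * c by rw [hcdef, commutatorElement_def]; group, map_mul,
            hcy.mul_pow, hc3, mul_one]
        exact (mul_inv_eq_iff_eq_mul.1 h1).symm
      rw [← QuotientGroup.eq_one_iff]
      show π ⁅z, x⁆ = 1
      rw [map_commutatorElement, commutatorElement_eq_one_iff_mul_comm]
      show Commute (π z) (π x)
      rw [show z = (y ^ 3) ^ k * (((y ^ 3) ^ k)⁻¹ * z) by group, map_mul, map_zpow]
      refine (hy3.zpow_left k).mul_left ?_
      rw [Commute, SemiconjBy, ← commutatorElement_eq_one_iff_mul_comm, ← map_commutatorElement]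
      refine (QuotientGroup.eq_one_iff _).2 ?_
      rw [show lcsT G (i + 2 + 2) = ⁅lcsT G (i + 2 + 1), (⊤ : Subgroup G)⁆ from
        Subgroup.lowerCentralSeries_succ _ _]
      exact commutator_mem_commutator hk (mem_top x)

theorem Elt.lcs_one_le_stab : lcsT G 1 ≤ layerStab G 1 := fun x hx =>
  mem_layerStab.2 fun _ hy => commutator_lcsT 1 1 (commutator_mem_commutator hy hx)

/-- Outside the stabiliser commutation is exact on every layer. -/
theorem Elt.exact {x : G} (hx : x ∉ layerStab G 1) {j : ℕ} (hj : 1 ≤ j) (hjn : j + 2 ≤ n - 1)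
    {y : G} (hy : y ∈ lcsT G j) (hy' : y ∉ lcsT G (j + 1)) : ⁅y, x⁆ ∉ lcsT G (j + 2) := by
  intro hc
  haveI := lcsT_normal (G := G) (j + 2)
  have hxj : x ∈ layerStab G j := by
    refine mem_layerStab.2 fun z hz => ?_
    obtain ⟨k, hk⟩ := H.layer_gen hj hy hy' hz
    rw [← QuotientGroup.eq_one_iff]
    show QuotientGroup.mk' _ ⁅z, x⁆ = 1
    rw [map_commutatorElement, commutatorElement_eq_one_iff_mul_comm]
    show Commute _ _
    rw [show z = y ^ k * ((y ^ k)⁻¹ * z) by group, map_mul, map_zpow]
    refine (Commute.zpow_left ?_ k).mul_left ?_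
    · rw [Commute, SemiconjBy, ← commutatorElement_eq_one_iff_mul_comm, ← map_commutatorElement]
      exact (QuotientGroup.eq_one_iff _).2 hc
    · rw [Commute, SemiconjBy, ← commutatorElement_eq_one_iff_mul_comm, ← map_commutatorElement]
      refine (QuotientGroup.eq_one_iff _).2 ?_
      rw [show lcsT G (j + 2) = ⁅lcsT G (j + 1), (⊤ : Subgroup G)⁆ from
        Subgroup.lowerCentralSeries_succ _ _]
      exact commutator_mem_commutator hk (mem_top x)
  have hmax := isCoatom_of_index_eq_prime (p := 3) (H.stab_one_index h4)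
  have htop : layerStab G 1 ⊔ zpowers x = ⊤ :=
    hmax.2 _ (lt_of_le_of_ne le_sup_left fun e => hx (e ▸ mem_sup_right (mem_zpowers x)))
  refine H.not_mem_stab h4 hj hjn ?_
  have := sup_le (H.stab_le h4 j hj) (zpowers_le.2 hxj)
  rw [htop] at this
  exact this (mem_top s)

theorem Elt.sup_lcs_one {c : G} (hc : c ∈ layerStab G 1) (hc' : c ∉ lcsT G 1) :
    zpowers c ⊔ lcsT G 1 = layerStab G 1 := by
  refine eq_of_le_of_card_ge (sup_le (zpowers_le.2 hc) (H.lcs_one_le_stab h4)) ?_
  have h1 := (layerStab G 1).card_mul_index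
  rw [H.stab_one_index h4, H.card, show 3 ^ n = 3 ^ (n - 1) * 3 by
    rw [← pow_succ]; congr 1; omega] at h1
  rw [Nat.eq_of_mul_eq_mul_right (by norm_num) h1]
  obtain ⟨a, ha⟩ := card_subgroup_eq_pow (IsPGroup.of_card H.card) (zpowers c ⊔ lcsT G 1)
  have h2 : Nat.card (lcsT G 1) < Nat.card ↥(zpowers c ⊔ lcsT G 1) := by
    refine lt_of_le_of_ne (card_le_of_le le_sup_right) fun e => hc' ?_
    rw [eq_of_le_of_card_ge (le_sup_right : lcsT G 1 ≤ zpowers c ⊔ _) e.ge]
    exact mem_sup_left (mem_zpowers c)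
  rw [H.card_lcs le_rfl (by omega), ha] at h2
  rw [ha]
  have := (Nat.pow_lt_pow_iff_right (by norm_num : 1 < 3)).1 h2
  exact Nat.pow_le_pow_right (by norm_num) (by omega)

/-- Two elements, one outside the stabiliser and one outside `G'`, generate. -/
theorem Elt.closure_pair {x c : G} (hx : x ∉ layerStab G 1) (hc : c ∈ layerStab G 1)
    (hc' : c ∉ lcsT G 1) : closure ({x, c} : Set G) = ⊤ := by
  have hP := IsPGroup.of_card H.card
  haveI := hP.isNilpotent
  have hmax := isCoatom_of_index_eq_prime (p := 3) (H.stab_one_index h4)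
  have h1 : closure ({x, c} : Set G) ⊔ lcsT G 1 = ⊤ := by
    refine hmax.2 _ (lt_of_le_of_ne ?_ fun e => hx (e ▸ mem_sup_left (subset_closure (by simp))))
    rw [← H.sup_lcs_one h4 hc hc']
    exact sup_le_sup (zpowers_le.2 (subset_closure (by simp))) le_rfl
  refine frattini_nongenerating (le_antisymm le_top (h1 ▸ sup_le_sup le_rfl ?_))
  rw [lcsT, top_lowerCentralSeries_one]
  exact commutator_le_frattini hP

theorem Elt.centralizer_inf {x : G} (hx : x ∉ layerStab G 1) {c : G}
    (hc : c ∈ layerStab G 1) (hxc : x * c = c * x) : c ∈ center G := by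
  classical
  by_cases hc1 : c ∈ lcsT G 1
  · rw [H.center_eq]
    by_contra hcn
    have hex : ∃ i, c ∉ lcsT G i := ⟨n - 2, hcn⟩
    have hfind := Nat.find_spec hex
    have hle : Nat.find hex ≤ n - 2 := Nat.find_min' hex hcn
    obtain ⟨i, hi⟩ : ∃ i, Nat.find hex = i + 1 :=
      Nat.exists_eq_succ_of_ne_zero fun h => hfind (h ▸ by
        rw [lcsT, Subgroup.lowerCentralSeries_zero]; exact mem_top c)
    have hci : c ∈ lcsT G i := not_not.1 (Nat.find_min hex (by omega : i < Nat.find hex))
    have hi1 : 1 ≤ i := by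
      by_contra h0
      obtain rfl : i = 0 := by omega
      rw [hi] at hfind
      exact hfind hc1
    rw [hi] at hfind hle
    refine H.exact h4 hx hi1 (by omega) hci hfind ?_
    rw [commutatorElement_eq_one_iff_mul_comm.2 hxc.symm]
    exact one_mem _
  · exfalso
    have htop := H.closure_pair h4 hx hc hc1
    have hcomm : ∀ a b : G, a * b = b * a := by
      intro a b
      have hsub : closure ({x, c} : Set G) ≤ centralizer ({x, c} : Set G) := by
        rw [closure_le]
        rintro t (rfl | rfl) <;> rw [SetLike.mem_coe, mem_centralizer_iff] <;> rintro u (rfl | rfl)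
        exacts [rfl, hxc.symm, hxc, rfl]
      rw [htop] at hsub
      have : centralizer ({x, c} : Set G) ≤ center G := by
        intro g hg
        rw [mem_center_iff]
        intro w
        have hw : closure ({x, c} : Set G) ≤ centralizer ({g} : Set G) := by
          rw [closure_le]
          intro t ht
          exact mem_centralizer_singleton_iff.2 (mem_centralizer_iff.1 hg t ht)
        exact mem_centralizer_singleton_iff.1 (hw (htop ▸ mem_top w))
      exact (mem_center_iff.1 (this (hsub (mem_top a))) b).symm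
    obtain ⟨y, hy, hy'⟩ := H.exists_layer le_rfl (by omega)
    refine H.layer le_rfl (by omega) hy hy' ?_
    rw [commutatorElement_eq_one_iff_mul_comm.2 (hcomm y s)]
    exact one_mem _

theorem Elt.pow_three_center {x : G} (hx : x ∉ layerStab G 1) : x ^ 3 ∈ center G := by
  haveI := layerStab_one_normal (G := G)
  refine H.centralizer_inf h4 hx ?_ ((Commute.refl x).pow_right 3).eq
  have := Subgroup.pow_index_mem (layerStab G 1) x
  rwa [H.stab_one_index h4] at this

/-- Cubes of elements of the stabiliser outside `G'`, from `(y s)³`. -/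
theorem Elt.pow_stab {y : G} (hy : y ∈ layerStab G 1) (hy' : y ∉ lcsT G 1) :
    y ^ 3 ∈ lcsT G 2 ∧ (5 ≤ n → y ^ 3 ∉ lcsT G 3) := by
  haveI := lcsT_normal (G := G) 3
  set π := QuotientGroup.mk' (lcsT G 3) with hπ
  have hsC := H.not_mem_stab h4 (j := 1) le_rfl (by omega)
  have hys : y * s ∉ layerStab G 1 := fun h => hsC ((mul_mem_cancel_left hy).1 h)
  set c := ⁅y⁻¹, s⁆ with hcdef
  set d := ⁅c⁻¹, s⁆ with hddef
  have hc : c ∈ lcsT G 1 := by
    rw [lcsT, top_lowerCentralSeries_one]
    exact commutator_mem_commutator (mem_top _) (mem_top s)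
  have hd : d ∈ lcsT G 2 := by
    rw [show lcsT G 2 = ⁅lcsT G 1, (⊤ : Subgroup G)⁆ from Subgroup.lowerCentralSeries_succ _ _]
    exact commutator_mem_commutator (inv_mem hc) (mem_top s)
  have hcn : c ∉ lcsT G 2 := by
    intro hc2
    haveI := lcsT_normal (G := G) 2
    have hcomm : Commute (QuotientGroup.mk' (lcsT G 2) y) (QuotientGroup.mk' (lcsT G 2) s) := by
      refine Commute.symm ?_
      have h1 : QuotientGroup.mk' (lcsT G 2) c = 1 := (QuotientGroup.eq_one_iff _).2 hc2
      rw [hcdef, map_commutatorElement, commutatorElement_eq_one_iff_mul_comm, map_inv] at h1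
      have h2 : Commute (QuotientGroup.mk' (lcsT G 2) y)⁻¹ (QuotientGroup.mk' (lcsT G 2) s) := h1
      have h3' := h2.inv_left
      rw [inv_inv] at h3'
      exact h3'.symm
    have htop := H.closure_pair h4 hsC hy hy'
    have hle : lcsT G 1 ≤ lcsT G 2 := by
      rw [lcsT, top_lowerCentralSeries_one, _root_.commutator_def, Subgroup.commutator_le]
      intro a _ b _
      rw [← QuotientGroup.eq_one_iff]
      show QuotientGroup.mk' (lcsT G 2) ⁅a, b⁆ = 1
      rw [map_commutatorElement, commutatorElement_eq_one_iff_mul_comm]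
      have hsub : closure ({s, y} : Set G) ≤ (centralizer
          ({QuotientGroup.mk' (lcsT G 2) s, QuotientGroup.mk' (lcsT G 2) y} :
            Set (G ⧸ lcsT G 2))).comap (QuotientGroup.mk' (lcsT G 2)) := by
        rw [closure_le]
        rintro t (rfl | rfl) <;> rw [SetLike.mem_coe, mem_comap, mem_centralizer_iff] <;>
          rintro u (rfl | rfl)
        exacts [rfl, hcomm.eq, hcomm.symm.eq, rfl]
      rw [htop] at hsub
      have hall : ∀ w : G, Commute (QuotientGroup.mk' (lcsT G 2) w)
          (QuotientGroup.mk' (lcsT G 2) a) := by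
        intro w
        have hw : closure ({s, y} : Set G) ≤ (centralizer
            ({QuotientGroup.mk' (lcsT G 2) a} : Set (G ⧸ lcsT G 2))).comap
              (QuotientGroup.mk' (lcsT G 2)) := by
          rw [closure_le]
          intro t ht
          rw [SetLike.mem_coe, mem_comap, mem_centralizer_singleton_iff]
          refine mem_centralizer_iff.1 (hsub (mem_top a)) _ ?_
          rcases ht with rfl | rfl
          exacts [Or.inl rfl, Or.inr rfl]
        exact mem_centralizer_singleton_iff.1 (hw (htop ▸ mem_top w))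
      exact (hall b).symm.eq
    obtain ⟨z, hz, hz'⟩ := H.exists_layer le_rfl (by omega)
    exact hz' (hle hz)
  have hdn : d ∉ lcsT G 3 := H.layer le_rfl (by omega) (inv_mem hc) fun h =>
    hcn (by simpa using inv_mem h)
  have hcy : Commute (π y) (π c) := by
    rw [Commute, SemiconjBy, ← commutatorElement_eq_one_iff_mul_comm, ← map_commutatorElement]
    refine (QuotientGroup.eq_one_iff _).2 ?_
    have := inv_mem (mem_layerStab.1 hy c hc)
    rwa [commutatorElement_inv] at this
  have hdy : Commute (π y) (π d) := by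
    rw [Commute, SemiconjBy, ← commutatorElement_eq_one_iff_mul_comm, ← map_commutatorElement]
    refine (QuotientGroup.eq_one_iff _).2 ?_
    rw [show lcsT G 3 = ⁅lcsT G 2, (⊤ : Subgroup G)⁆ from Subgroup.lowerCentralSeries_succ _ _,
      Subgroup.commutator_comm]
    exact commutator_mem_commutator (mem_top y) hd
  have hdc : Commute (π c) (π d) := by
    rw [Commute, SemiconjBy, ← commutatorElement_eq_one_iff_mul_comm, ← map_commutatorElement]
    refine (QuotientGroup.eq_one_iff _).2 ?_
    rw [show lcsT G 3 = ⁅lcsT G 2, (⊤ : Subgroup G)⁆ from Subgroup.lowerCentralSeries_succ _ _,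
      Subgroup.commutator_comm]
    exact commutator_mem_commutator (mem_top c) hd
  have hc3 : π c ^ 3 = 1 := by
    rw [← map_pow]
    exact (QuotientGroup.eq_one_iff _).2 ((H.pow_layer 1 le_rfl c hc).1)
  have hexp : (y * s) ^ 3 = y * (y * c) * (y * c * c * d) * s ^ 3 := by
    rw [hddef, hcdef]
    simp only [commutatorElement_def, pow_succ, pow_zero, one_mul]
    group
  have hz : ∀ w ∈ center G, w ∈ lcsT G 2 := fun w hw => by
    rw [H.center_eq] at hw
    exact Subgroup.lowerCentralSeries_antitone _ (by omega) hw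
  have hprod : π (y * (y * c) * (y * c * c * d)) = π (y ^ 3) * π d := by
    simp only [map_mul, map_pow]
    calc π y * (π y * π c) * (π y * π c * π c * π d)
        = π y * π y * (π c * π y) * (π c * π c) * π d := by simp only [mul_assoc]
      _ = π y * π y * (π y * π c) * (π c * π c) * π d := by rw [hcy.eq]
      _ = π y ^ 3 * π c ^ 3 * π d := by simp only [pow_succ, pow_zero, one_mul, mul_assoc]
      _ = π y ^ 3 * π d := by rw [hc3, mul_one]
  have hmem : (y ^ 3 * d)⁻¹ * ((y * s) ^ 3 * (s ^ 3)⁻¹) ∈ lcsT G 3 := by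
    rw [← QuotientGroup.eq_one_iff]
    show π _ = 1
    rw [hexp, mul_inv_cancel_right, map_mul, map_inv, hprod, map_mul, inv_mul_cancel]
  have hts : (y * s) ^ 3 * (s ^ 3)⁻¹ ∈ center G :=
    mul_mem (H.pow_three_center h4 hys) (inv_mem H.pow_central)
  refine ⟨?_, fun h5 hy3 => hdn ?_⟩
  · have h1 : (y ^ 3 * d)⁻¹ ∈ lcsT G 2 := by
      have := mul_mem (Subgroup.lowerCentralSeries_antitone _ (Nat.le_succ 2) hmem)
        (inv_mem (hz _ hts))
      rwa [mul_inv_cancel_right] at this
    have := mul_mem (inv_mem h1) (inv_mem hd)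
    rwa [inv_inv, mul_inv_cancel_right] at this
  · have hts3 : (y * s) ^ 3 * (s ^ 3)⁻¹ ∈ lcsT G 3 := by
      rw [H.center_eq] at hts
      exact Subgroup.lowerCentralSeries_antitone _ (by omega) hts
    have h1 : y ^ 3 * d ∈ lcsT G 3 := by
      have := mul_mem hts3 (inv_mem hmem)
      rwa [mul_inv_rev, inv_inv, mul_inv_cancel_left] at this
    exact (mul_mem_cancel_left hy3).1 h1

/-- Subgroups are generated by two elements, or `n = 4` and the stabiliser has exponent three. -/
theorem Elt.two_generated (K : Subgroup G) :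
    (∃ T : Finset G, T.card ≤ 2 ∧ closure (T : Set G) = K) ∨
      (n = 4 ∧ (∀ x ∈ layerStab G 1, x ^ 3 = 1) ∧
        ∀ a ∈ layerStab G 1, ∀ b ∈ layerStab G 1, a * b = b * a) := by
  classical
  have hmax := isCoatom_of_index_eq_prime (p := 3) (H.stab_one_index h4)
  by_cases hK1 : K ≤ lcsT G 1
  · left
    exact H.exists_generators K hK1
  -- a downward induction over the layers
  have climb : ∀ (T : Subgroup G), T ≤ K →
      (∀ i, 1 ≤ i → ∀ z ∈ K, z ∈ lcsT G i → z ∉ lcsT G (i + 1) →
        ∃ t ∈ T, t ∈ lcsT G i ∧ t ∉ lcsT G (i + 1)) → K ⊓ lcsT G 1 ≤ T := by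
    intro T hTK hT
    suffices ∀ d i, n - i = d → 1 ≤ i → K ⊓ lcsT G i ≤ T from this _ 1 rfl le_rfl
    intro d
    induction d using Nat.strong_induction_on with
    | _ d ihd =>
      intro i hd hi z hz
      by_cases hin : n - 1 ≤ i
      · have hz0 : z ∈ lcsT G i := hz.2
        rw [H.lcs_eq_bot hin, mem_bot] at hz0
        rw [hz0]
        exact one_mem _
      by_cases hz' : z ∈ lcsT G (i + 1)
      · exact ihd (n - (i + 1)) (by omega) (i + 1) rfl (by omega) ⟨hz.1, hz'⟩
      obtain ⟨t, htT, ht, ht'⟩ := hT i hi z hz.1 hz.2 hz'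
      obtain ⟨k, hk⟩ := H.layer_gen hi ht ht' hz.2
      rw [show z = t ^ k * ((t ^ k)⁻¹ * z) by group]
      exact mul_mem (zpow_mem htT k) (ihd (n - (i + 1)) (by omega) (i + 1) rfl (by omega)
        ⟨K.mul_mem (K.inv_mem (K.zpow_mem (hTK htT) k)) hz.1, hk⟩)
  by_cases hKC : K ≤ layerStab G 1
  · obtain ⟨x, hxK, hx1⟩ := SetLike.not_le_iff_exists.1 hK1
    have hxC := hKC hxK
    have hdec : ∀ T : Subgroup G, x ∈ T → T ≤ K → K ⊓ lcsT G 1 ≤ T → T = K := by
      intro T hxT hTK hT
      refine le_antisymm hTK fun z hz => ?_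
      have hz' : z ∈ zpowers x ⊔ lcsT G 1 := (H.sup_lcs_one h4 hxC hx1).symm ▸ hKC hz
      haveI := lcsT_normal (G := G) 1
      rw [← SetLike.mem_coe, Subgroup.mul_normal] at hz'
      obtain ⟨a, ha, b, hb, rfl⟩ := hz'
      obtain ⟨k, rfl⟩ := mem_zpowers_iff.1 ha
      exact mul_mem (zpow_mem hxT k)
        (hT ⟨(mul_mem_cancel_left (zpow_mem hxK k)).1 hz, hb⟩)
    by_cases h5 : 5 ≤ n
    · left
      obtain ⟨hx2, hx3⟩ := H.pow_stab h4 hxC hx1
      have hev : ∀ m, 1 ≤ m → 2 * m ≤ n - 2 →
          ∃ t ∈ zpowers x, t ∈ lcsT G (2 * m) ∧ t ∉ lcsT G (2 * m + 1) := by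
        intro m hm
        induction m, hm using Nat.le_induction with
        | base => exact fun _ => ⟨x ^ 3, pow_mem (mem_zpowers x) 3, hx2, hx3 h5⟩
        | succ m hm ihm =>
          intro hmn
          obtain ⟨t, ht, ht1, ht2⟩ := ihm (by omega)
          obtain ⟨e1, e2⟩ := H.pow_layer (2 * m) (by omega) t ht1
          exact ⟨t ^ 3, pow_mem ht 3, e1, e2 ht2 (by omega)⟩
      have hbound : ∀ i z, z ∈ lcsT G i → z ∉ lcsT G (i + 1) → i ≤ n - 2 := fun i z hz hz' => by
        by_contra hi
        rw [H.lcs_eq_bot (by omega), mem_bot] at hz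
        exact hz' (hz ▸ one_mem _)
      by_cases hodd : ∃ i, i % 2 = 1 ∧ ∃ z ∈ K, z ∈ lcsT G i ∧ z ∉ lcsT G (i + 1)
      · obtain ⟨hm2, w, hwK, hw, hw'⟩ := Nat.find_spec hodd
        refine ⟨{x, w}, Finset.card_le_two, ?_⟩
        set T := closure ((({x, w} : Finset G)) : Set G)
        have hxT : x ∈ T := subset_closure (by simp)
        have hwT : w ∈ T := subset_closure (by simp)
        have hTK : T ≤ K := (closure_le _).2 (by
          simp only [Finset.coe_insert, Finset.coe_singleton, Set.insert_subset_iff,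
            Set.singleton_subset_iff]
          exact ⟨hxK, hwK⟩)
        refine hdec T hxT hTK (climb T hTK fun i hi z hz hz1 hz2 => ?_)
        rcases Nat.even_or_odd' i with ⟨m, rfl | rfl⟩
        · obtain ⟨t, ht, h⟩ := hev m (by omega) (hbound _ z hz1 hz2)
          exact ⟨t, zpowers_le.2 hxT ht, h⟩
        · have hmin : Nat.find hodd ≤ 2 * m + 1 :=
            Nat.find_min' hodd ⟨by omega, z, hz, hz1, hz2⟩
          have hm1 : ∀ j, Nat.find hodd + 2 * j ≤ n - 2 →
              ∃ t ∈ T, t ∈ lcsT G (Nat.find hodd + 2 * j) ∧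
                t ∉ lcsT G (Nat.find hodd + 2 * j + 1) := by
            intro j
            induction j with
            | zero => exact fun _ => ⟨w, hwT, hw, hw'⟩
            | succ j ihj =>
              intro hj
              obtain ⟨t, ht, ht1, ht2⟩ := ihj (by omega)
              obtain ⟨e1, e2⟩ := H.pow_layer (Nat.find hodd + 2 * j) (by omega) t ht1
              exact ⟨t ^ 3, pow_mem ht 3, e1, e2 ht2 (by omega)⟩
          have hb := hbound _ z hz1 hz2
          obtain ⟨j, hj⟩ : ∃ j, 2 * m + 1 = Nat.find hodd + 2 * j :=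
            ⟨(2 * m + 1 - Nat.find hodd) / 2, by omega⟩
          rw [hj]
          exact hm1 j (by omega)
      · refine ⟨{x}, by simp, ?_⟩
        rw [Finset.coe_singleton, ← zpowers_eq_closure]
        refine hdec _ (mem_zpowers x) (zpowers_le.2 hxK)
          (climb _ (zpowers_le.2 hxK) fun i hi z hz hz1 hz2 => ?_)
        rcases Nat.even_or_odd' i with ⟨m, rfl | rfl⟩
        · exact hev m (by omega) (hbound _ z hz1 hz2)
        · exact absurd ⟨2 * m + 1, by omega, z, hz, hz1, hz2⟩ hodd
    · obtain rfl : n = 4 := by omega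
      obtain ⟨y, hy, hy'⟩ := H.exists_layer le_rfl (by omega)
      have hcomm1 : ∀ a ∈ layerStab G 1, ∀ z ∈ lcsT G 1, a * z = z * a := by
        intro a ha z hz
        have := mem_layerStab.1 ha z hz
        rw [H.lcs_eq_bot (show 4 - 1 ≤ 1 + 2 by omega), mem_bot,
          commutatorElement_eq_one_iff_mul_comm] at this
        exact this.symm
      have hab : ∀ a ∈ layerStab G 1, ∀ b ∈ layerStab G 1, a * b = b * a := by
        intro a ha b hb
        haveI := lcsT_normal (G := G) 1
        rw [← H.sup_lcs_one h4 hxC hx1, ← SetLike.mem_coe, Subgroup.mul_normal] at ha hb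
        obtain ⟨u, hu, v, hv, rfl⟩ := ha
        obtain ⟨u', hu', v', hv', rfl⟩ := hb
        obtain ⟨i, rfl⟩ := mem_zpowers_iff.1 hu
        obtain ⟨k, rfl⟩ := mem_zpowers_iff.1 hu'
        have hv1 : Commute x v := hcomm1 x hxC v hv
        have hv2 : Commute x v' := hcomm1 x hxC v' hv'
        have hvv : Commute v v' := hcomm1 v (H.lcs_one_le_stab h4 hv) v' hv'
        exact ((((Commute.refl x).zpow_zpow i k).mul_right (hv2.zpow_left i)).mul_left
          ((hv1.symm.zpow_right k).mul_right hvv)).eq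
      by_cases hexp : ∀ z ∈ layerStab G 1, z ^ 3 = 1
      · exact Or.inr ⟨rfl, hexp, hab⟩
      left
      obtain ⟨y₁, hy₁, hy₁'⟩ : ∃ y₁ ∈ layerStab G 1, y₁ ^ 3 ≠ 1 := by
        by_contra hne
        push Not at hne
        exact hexp hne
      have hy₁1 : y₁ ∉ lcsT G 1 := fun h => hy₁' (by
        have := (H.pow_layer 1 le_rfl y₁ h).1
        rwa [H.lcs_eq_bot (show 4 - 1 ≤ 1 + 3 - 1 by omega), mem_bot] at this)
      have hy₁2 := (H.pow_stab h4 hy₁ hy₁1).1
      have hy₁3 : y₁ ^ 3 ∉ lcsT G 3 := by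
        rw [H.lcs_eq_bot le_rfl, mem_bot]
        exact hy₁'
      by_cases hall : K = layerStab G 1
      · refine ⟨{y₁, y}, Finset.card_le_two, ?_⟩
        set T := closure ((({y₁, y} : Finset G)) : Set G)
        have h1T : y₁ ∈ T := subset_closure (by simp)
        have hyT : y ∈ T := subset_closure (by simp)
        refine le_antisymm ((closure_le _).2 ?_) (hall.le.trans ?_)
        · rw [hall]
          simp only [Finset.coe_insert, Finset.coe_singleton, Set.insert_subset_iff,
            Set.singleton_subset_iff]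
          exact ⟨hy₁, H.lcs_one_le_stab h4 hy⟩
        · rw [← H.sup_lcs_one h4 hy₁ hy₁1, sup_le_iff]
          refine ⟨zpowers_le.2 h1T, fun z hz => ?_⟩
          obtain ⟨k, hk⟩ := H.layer_gen le_rfl hy hy' hz
          obtain ⟨l, hl⟩ := H.layer_gen (by norm_num) hy₁2 hy₁3 hk
          rw [H.lcs_eq_bot le_rfl, mem_bot, inv_mul_eq_one] at hl
          rw [show z = y ^ k * ((y ^ k)⁻¹ * z) by group, ← hl]
          exact mul_mem (zpow_mem hyT k) (zpow_mem (pow_mem h1T 3) l)
      · -- a group of order at most nine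
        have hlt : Nat.card K < 3 ^ 3 := by
          have h1 := (layerStab G 1).card_mul_index
          rw [H.stab_one_index h4, H.card] at h1
          have h2 : Nat.card K < Nat.card (layerStab G 1) :=
            lt_of_le_of_ne (card_le_of_le hKC) fun e => hall (eq_of_le_of_card_ge hKC e.ge)
          omega
        obtain ⟨a, ha⟩ := card_subgroup_eq_pow (IsPGroup.of_card H.card) K
        rw [ha] at hlt
        have ha3 := (Nat.pow_lt_pow_iff_right (by norm_num : 1 < 3)).1 hlt
        by_cases hcyc : K ≤ zpowers x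
        · refine ⟨{x}, by simp, ?_⟩
          rw [Finset.coe_singleton, ← zpowers_eq_closure]
          exact le_antisymm (zpowers_le.2 hxK) hcyc
        · obtain ⟨w, hwK, hw⟩ := SetLike.not_le_iff_exists.1 hcyc
          refine ⟨{x, w}, Finset.card_le_two, ?_⟩
          set T := closure ((({x, w} : Finset G)) : Set G)
          have hxT : x ∈ T := subset_closure (by simp)
          have hwT : w ∈ T := subset_closure (by simp)
          have hTK : T ≤ K := (closure_le _).2 (by
            simp only [Finset.coe_insert, Finset.coe_singleton, Set.insert_subset_iff,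
              Set.singleton_subset_iff]
            exact ⟨hxK, hwK⟩)
          refine eq_of_le_of_card_ge hTK ?_
          obtain ⟨b, hb⟩ := card_subgroup_eq_pow (IsPGroup.of_card H.card) T
          obtain ⟨c, hc⟩ := card_subgroup_eq_pow (IsPGroup.of_card H.card) (zpowers x)
          have h3 : Nat.card (zpowers x) < Nat.card T :=
            lt_of_le_of_ne (card_le_of_le (zpowers_le.2 hxT)) fun e =>
              hw (eq_of_le_of_card_ge (zpowers_le.2 hxT) e.ge ▸ hwT)
          have hc0 : c ≠ 0 := fun h => hx1 (by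
            rw [h, pow_zero, Subgroup.card_eq_one, zpowers_eq_bot] at hc
            rw [hc]
            exact one_mem _)
          rw [hc, hb] at h3
          have := (Nat.pow_lt_pow_iff_right (by norm_num : 1 < 3)).1 h3
          rw [ha, hb]
          exact Nat.pow_le_pow_right (by norm_num) (by omega)
  · left
    obtain ⟨x, hxK, hxC⟩ := SetLike.not_le_iff_exists.1 hKC
    have hP := IsPGroup.of_card H.card
    haveI := hP.isNilpotent
    haveI := lcsT_normal (G := G) 1
    by_cases hKtop : K ⊔ lcsT G 1 = ⊤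
    · obtain ⟨c, hc, hc1⟩ : ∃ c ∈ layerStab G 1, c ∉ lcsT G 1 := by
        by_contra h
        push Not at h
        have h1 := card_le_of_le h
        have h2 := (layerStab G 1).card_mul_index
        rw [H.stab_one_index h4, H.card] at h2
        rw [H.card_lcs le_rfl (by omega)] at h1
        have h3 : 3 ^ (n - 1 - 1) * 3 < 3 ^ n := by
          rw [← pow_succ]
          exact Nat.pow_lt_pow_right (by norm_num) (by omega)
        nlinarith
      have hK : K = ⊤ := by
        refine frattini_nongenerating (le_antisymm le_top (hKtop ▸ sup_le_sup le_rfl ?_))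
        rw [lcsT, top_lowerCentralSeries_one]
        exact commutator_le_frattini hP
      refine ⟨{x, c}, Finset.card_le_two, ?_⟩
      rw [Finset.coe_insert, Finset.coe_singleton, H.closure_pair h4 hxC hc hc1, hK]
    have hdec : ∀ T : Subgroup G, x ∈ T → T ≤ K → K ⊓ lcsT G 1 ≤ T → T = K := by
      intro T hxT hTK hT
      refine le_antisymm hTK fun z hz => ?_
      have hz' : z ∈ zpowers x ⊔ lcsT G 1 := by
        by_contra hzz
        apply hKtop
        have hidx : (zpowers x ⊔ lcsT G 1).index ∣ (lcsT G 1).index :=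
          Subgroup.index_dvd_of_le le_sup_right
        have h1 : (lcsT G 1).index = 3 ^ 2 := by
          have h2 := (lcsT G 1).card_mul_index
          rw [H.card_lcs le_rfl (by omega), H.card,
            show 3 ^ n = 3 ^ (n - 1 - 1) * 3 ^ 2 by rw [← pow_add]; congr 1; omega] at h2
          exact Nat.eq_of_mul_eq_mul_left (by positivity) h2
        obtain ⟨e, he, he'⟩ := (Nat.dvd_prime_pow hf.1).1 (h1 ▸ hidx)
        have hne : zpowers x ⊔ lcsT G 1 ≠ lcsT G 1 := fun e' =>
          hxC (H.lcs_one_le_stab h4 (e' ▸ mem_sup_left (mem_zpowers x)))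
        have he2 : e ≠ 2 := fun h => hne (eq_of_le_of_card_ge le_sup_right (by
          have h3 := (zpowers x ⊔ lcsT G 1).card_mul_index
          have h5 := (lcsT G 1).card_mul_index
          rw [he', h, ← h5, h1] at h3
          exact (Nat.eq_of_mul_eq_mul_right (by norm_num) h3).le)).symm
        have hcases : (zpowers x ⊔ lcsT G 1).index ∣ 3 := by
          rw [he']
          calc 3 ^ e ∣ 3 ^ 1 := Nat.pow_dvd_pow 3 (by omega)
            _ = 3 := pow_one 3
        rcases (Nat.dvd_prime hf.1).1 hcases with h | h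
        · rw [index_eq_one] at h
          exact absurd (h ▸ mem_top z) hzz
        · refine (isCoatom_of_index_eq_prime (p := 3) h).2 _
            (lt_of_le_of_ne (sup_le_sup (zpowers_le.2 hxK) le_rfl) fun e' => hzz ?_)
          rw [e']
          exact mem_sup_left hz
      rw [← SetLike.mem_coe, Subgroup.mul_normal] at hz'
      obtain ⟨a, ha, b, hb, rfl⟩ := hz'
      obtain ⟨k, rfl⟩ := mem_zpowers_iff.1 ha
      exact mul_mem (zpow_mem hxT k)
        (hT ⟨(mul_mem_cancel_left (zpow_mem hxK k)).1 hz, hb⟩)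
    have hbound : ∀ i z, z ∈ lcsT G i → z ∉ lcsT G (i + 1) → i ≤ n - 2 := fun i z hz hz' => by
      by_contra hi
      rw [H.lcs_eq_bot (by omega), mem_bot] at hz
      exact hz' (hz ▸ one_mem _)
    by_cases hocc : ∃ i, 1 ≤ i ∧ ∃ z ∈ K, z ∈ lcsT G i ∧ z ∉ lcsT G (i + 1)
    · obtain ⟨ha1, y, hyK, hy, hy'⟩ := Nat.find_spec hocc
      refine ⟨{x, y}, Finset.card_le_two, ?_⟩
      set T := closure ((({x, y} : Finset G)) : Set G)
      have hxT : x ∈ T := subset_closure (by simp)
      have hyT : y ∈ T := subset_closure (by simp)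
      have hTK : T ≤ K := (closure_le _).2 (by
        simp only [Finset.coe_insert, Finset.coe_singleton, Set.insert_subset_iff,
          Set.singleton_subset_iff]
        exact ⟨hxK, hyK⟩)
      refine hdec T hxT hTK (climb T hTK fun i hi z hz hz1 hz2 => ?_)
      have hmin : Nat.find hocc ≤ i := Nat.find_min' hocc ⟨hi, z, hz, hz1, hz2⟩
      have hb := hbound _ z hz1 hz2
      have hall : ∀ j, Nat.find hocc + j ≤ n - 2 →
          ∃ t ∈ T, t ∈ lcsT G (Nat.find hocc + j) ∧ t ∉ lcsT G (Nat.find hocc + j + 1) := by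
        intro j
        induction j with
        | zero => exact fun _ => ⟨y, hyT, hy, hy'⟩
        | succ j ihj =>
          intro hj
          obtain ⟨t, ht, ht1, ht2⟩ := ihj (by omega)
          refine ⟨⁅t, x⁆, ?_, ?_, H.exact h4 hxC (j := Nat.find hocc + j) (by omega) (by omega) ht1 ht2⟩
          · rw [commutatorElement_def]
            exact mul_mem (mul_mem (mul_mem ht hxT) (inv_mem ht)) (inv_mem hxT)
          · rw [show lcsT G (Nat.find hocc + (j + 1)) =
              ⁅lcsT G (Nat.find hocc + j), (⊤ : Subgroup G)⁆ from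
                Subgroup.lowerCentralSeries_succ _ _]
            exact commutator_mem_commutator ht1 (mem_top x)
      obtain ⟨j, rfl⟩ : ∃ j, i = Nat.find hocc + j := ⟨i - Nat.find hocc, by omega⟩
      exact hall j hb
    · refine ⟨{x}, by simp, ?_⟩
      rw [Finset.coe_singleton, ← zpowers_eq_closure]
      refine hdec _ (mem_zpowers x) (zpowers_le.2 hxK)
        (climb _ (zpowers_le.2 hxK) fun i hi z hz hz1 hz2 => ?_)
      exact absurd ⟨i, hi, z, hz, hz1, hz2⟩ hocc

/-- For `n = 4` and elementary abelian stabiliser the group embeds in the symmetric group of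
degree nine. -/
theorem Elt.embeds_nine (hn : n = 4) (hexp : ∀ x ∈ layerStab G 1, x ^ 3 = 1)
    (hab : ∀ a ∈ layerStab G 1, ∀ b ∈ layerStab G 1, a * b = b * a) :
    ∃ φ : G →* Equiv.Perm (Fin 9), Function.Injective φ := by
  subst hn
  set M := layerStab G 1
  have hM : Nat.card M = 3 ^ 3 := by
    have h1 := M.card_mul_index
    rw [H.stab_one_index h4, H.card] at h1
    omega
  have hZ : Nat.card (center G) = 3 := (center_of_maximalClass (p := 3) H.three H.card H.cls).1
  have hZM : center G ≤ M := by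
    rw [H.center_eq]
    exact (Subgroup.lowerCentralSeries_antitone _ (by omega)).trans (H.lcs_one_le_stab h4)
  have hord : ∀ a ∈ M, a ≠ 1 → Nat.card (zpowers a) = 3 := fun a ha h1 => by
    rw [Nat.card_zpowers, orderOf_eq_prime (hexp a ha) h1]
  have hsup : ∀ (A B : Subgroup G), A ≤ M → B ≤ M → Nat.card ↥(A ⊔ B) ≤ Nat.card A * Nat.card B := by
    intro A B hA hB
    have hn : A ≤ Subgroup.normalizer (B : Set G) := by
      intro a ha
      rw [Subgroup.mem_normalizer_iff]
      intro b
      have key : ∀ b ∈ M, a * b * a⁻¹ = b := fun b hb => by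
        rw [hab a (hA ha) b hb, mul_inv_cancel_right]
      refine ⟨fun hb => by rwa [key b (hB hb)], fun hb => ?_⟩
      have hbM : b ∈ M := by
        have := M.mul_mem (M.mul_mem (M.inv_mem (hA ha)) (hB hb)) (hA ha)
        simpa [mul_assoc] using this
      rwa [key b hbM] at hb
    have h := Subgroup.coe_mul_of_left_le_normalizer_right A B hn
    calc Nat.card ↥(A ⊔ B) = Nat.card ↥((A : Set G) * (B : Set G)) := by rw [← h]; rfl
      _ ≤ _ := Set.natCard_mul_le
  obtain ⟨a, ha, haZ⟩ : ∃ a ∈ M, a ∉ center G := by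
    by_contra h
    push Not at h
    have h1 := card_le_of_le h
    rw [hM, hZ] at h1
    norm_num at h1
  obtain ⟨b, hb, hbZ⟩ : ∃ b ∈ M, b ∉ center G ⊔ zpowers a := by
    by_contra h
    push Not at h
    have h1 := (card_le_of_le h).trans (hsup _ _ hZM (zpowers_le.2 ha))
    rw [hM, hZ, hord a ha fun h => haZ (h ▸ one_mem _)] at h1
    norm_num at h1
  set K := zpowers a ⊔ zpowers b with hKdef
  have hcard : Nat.card K ≤ 9 := by
    refine (hsup _ _ (zpowers_le.2 ha) (zpowers_le.2 hb)).trans ?_
    rw [hord a ha fun h => haZ (h ▸ one_mem _), hord b hb fun h => hbZ (h ▸ one_mem _)]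
  obtain ⟨z, hz, hzK⟩ : ∃ z ∈ center G, z ∉ K := by
    by_contra hle
    push Not at hle
    -- otherwise `M` itself has order nine
    have htop : center G ⊔ K = K := sup_eq_right.2 hle
    have h2 : center G ⊔ zpowers a ⊔ zpowers b ≤ K := by rw [sup_assoc, ← hKdef, htop]
    have h3 : Nat.card ↥(center G ⊔ zpowers a) < Nat.card ↥(center G ⊔ zpowers a ⊔ zpowers b) :=
      lt_of_le_of_ne (card_le_of_le le_sup_left) fun e => hbZ (by
        rw [eq_of_le_of_card_ge (le_sup_left : center G ⊔ zpowers a ≤ _ ⊔ zpowers b) e.ge]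
        exact mem_sup_right (mem_zpowers b))
    have h4' : Nat.card (center G) < Nat.card ↥(center G ⊔ zpowers a) :=
      lt_of_le_of_ne (card_le_of_le le_sup_left) fun e => haZ (by
        rw [eq_of_le_of_card_ge (le_sup_left : center G ≤ _ ⊔ zpowers a) e.ge]
        exact mem_sup_right (mem_zpowers a))
    obtain ⟨i, hi⟩ := card_subgroup_eq_pow (IsPGroup.of_card H.card) (center G ⊔ zpowers a)
    obtain ⟨j, hj⟩ := card_subgroup_eq_pow (IsPGroup.of_card H.card)
      (center G ⊔ zpowers a ⊔ zpowers b)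
    rw [hi, hZ] at h4'
    rw [hi, hj] at h3
    have h5 := (Nat.pow_lt_pow_iff_right (by norm_num : 1 < 3)).1 h3
    have h6 : 1 < i := (Nat.pow_lt_pow_iff_right (by norm_num : 1 < 3)).1
      (by rwa [pow_one] : 3 ^ 1 < 3 ^ i)
    have h7 := (card_le_of_le h2).trans hcard
    rw [hj] at h7
    have : 3 ^ 3 ≤ 3 ^ j := Nat.pow_le_pow_right (by norm_num) (by omega)
    omega
  have hcore : K.normalCore = ⊥ := by
    by_contra hne
    have h1 := inf_center_ne_bot (IsPGroup.of_card H.card) hne
    obtain ⟨i, hi⟩ := card_subgroup_eq_pow (IsPGroup.of_card H.card) (K.normalCore ⊓ center G)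
    have h2 : center G ≤ K.normalCore ⊓ center G := by
      refine (eq_of_le_of_card_ge inf_le_right ?_).ge
      rw [hZ, hi]
      exact Nat.le_self_pow (fun h => h1 (by rwa [h, pow_zero, Subgroup.card_eq_one] at hi)) 3
    exact hzK (K.normalCore_le (h2 hz).1)
  have hKidx : Nat.card (G ⧸ K) = 9 := by
    have hK9 : Nat.card K = 9 := by
      refine le_antisymm hcard ?_
      obtain ⟨i, hi⟩ := card_subgroup_eq_pow (IsPGroup.of_card H.card) K
      have : Nat.card (zpowers a) < Nat.card K :=
        lt_of_le_of_ne (card_le_of_le le_sup_left) fun e => hbZ (mem_sup_right (by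
          rw [eq_of_le_of_card_ge (le_sup_left : zpowers a ≤ K) e.ge]
          exact mem_sup_right (mem_zpowers b)))
      rw [hord a ha fun h => haZ (h ▸ one_mem _), hi] at this
      rw [hi]
      have h6 : 1 < i := (Nat.pow_lt_pow_iff_right (by norm_num : 1 < 3)).1
        (by rwa [pow_one] : 3 ^ 1 < 3 ^ i)
      calc 9 = 3 ^ 2 := rfl
        _ ≤ 3 ^ i := Nat.pow_le_pow_right (by norm_num) h6
    have h1 := K.card_mul_index
    rw [hK9, H.card] at h1
    rw [← Subgroup.index_eq_card]
    omega
  obtain ⟨e⟩ : Nonempty (G ⧸ K ≃ Fin 9) := ⟨(Finite.equivFin _).trans (finCongr hKidx)⟩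
  refine ⟨(Equiv.permCongrHom e).toMonoidHom.comp (MulAction.toPermHom G (G ⧸ K)), ?_⟩
  refine (Equiv.permCongrHom e).injective.comp ?_
  rw [← MonoidHom.ker_eq_bot_iff, ← Subgroup.normalCore_eq_ker, hcore]

end CfsgLib.PGroups.Pearl
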