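import Mathlib
import Cfsg.Agent.Lib.PLocal.PolySeq
import Cfsg.Agent.Lib.PGroups.PearlThree

/-!
Mann's lower bound for the order of a `p`-group of given derived length.
-/

set_option autoImplicit false
set_option linter.unusedSectionVars false

open Subgroup
open scoped commutatorElement

namespace CfsgLib.PGroups.DerivedBound

open CfsgLib.PLocal

variable {P : Type*} [Group P]

/-- The iterated commutator `[X, P, …, P]` with `j` copies of `P`. -/
def itc (X : Subgroup P) : ℕ → Subgroup P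
  | 0 => X
  | j + 1 => ⁅itc X j, (⊤ : Subgroup P)⁆

instance itc_normal (X : Subgroup P) [X.Normal] : ∀ j, (itc X j).Normal
  | 0 => ‹X.Normal›
  | j + 1 => by
    have := itc_normal X j
    exact Subgroup.commutator_normal _ _

theorem lcs_normal (w : ℕ) : (lcsFil P w).Normal :=
  inferInstanceAs ((⊤ : Subgroup P).lowerCentralSeries (w - 1)).Normal

theorem lcsFil_succ {w : ℕ} (hw : 1 ≤ w) : lcsFil P (w + 1) = ⁅lcsFil P w, (⊤ : Subgroup P)⁆ := by
  rw [lcsFil, lcsFil, show w + 1 - 1 = w - 1 + 1 by omega]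
  rfl

theorem itc_add (X : Subgroup P) (a : ℕ) : ∀ b, itc (itc X a) b = itc X (a + b)
  | 0 => rfl
  | b + 1 => by rw [itc, itc_add X a b, ← add_assoc, itc]

theorem itc_antitone (X : Subgroup P) [X.Normal] : Antitone (itc X) :=
  antitone_nat_of_succ_le fun j => by
    have := itc_normal X j
    exact commutator_le_left _ _

theorem itc_le_lcs {X : Subgroup P} {w : ℕ} (hw : 1 ≤ w) (hX : X ≤ lcsFil P w) :
    ∀ j, itc X j ≤ lcsFil P (w + j)
  | 0 => hX
  | j + 1 => by
    rw [itc, ← add_assoc, lcsFil_succ (by omega)]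
    exact commutator_mono (itc_le_lcs hw hX j) le_rfl

/-- Commutation with a term of the lower central series. -/
theorem commutator_lcs_le_itc : ∀ (w : ℕ), 1 ≤ w → ∀ (X : Subgroup P) [X.Normal],
    ⁅X, lcsFil P w⁆ ≤ itc X w := by
  intro w hw
  induction w, hw using Nat.le_induction with
  | base => intro X _; exact le_rfl
  | succ w hw ih =>
    intro X _
    have := itc_normal X (w + 1)
    rw [lcsFil_succ hw, commutator_comm]
    refine CfsgLib.PGroups.Pearl.commutator_le_of_rotate ?_ ?_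
    · rw [commutator_comm (⊤ : Subgroup P) X]
      have : (⁅X, (⊤ : Subgroup P)⁆).Normal := Subgroup.commutator_normal _ _
      refine (ih ⁅X, (⊤ : Subgroup P)⁆).trans (le_of_eq ?_)
      rw [show ⁅X, (⊤ : Subgroup P)⁆ = itc X 1 from rfl, itc_add, add_comm]
    · exact commutator_mono (ih X) le_rfl

variable [Finite P] {p : ℕ} [Fact p.Prime]

theorem exists_itc_eq_bot (hP : IsPGroup p P) (X : Subgroup P) : ∃ m, itc X m = ⊥ := by
  have := hP.isNilpotent
  obtain ⟨m, hm⟩ := Subgroup.nilpotent_iff_lowerCentralSeries.1 this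
  refine ⟨m, le_bot_iff.1 ((itc_le_lcs (w := 1) le_rfl (le_top) m).trans ?_)⟩
  rw [lcsFil, Nat.add_sub_cancel_left, hm]

/-- A normal subgroup inside its commutator with `P`, modulo another, lies in the latter. -/
theorem le_of_le_commutator_sup (hP : IsPGroup p P) {A N : Subgroup P} [N.Normal]
    (h : A ≤ ⁅A, (⊤ : Subgroup P)⁆ ⊔ N) : A ≤ N := by
  have key : ∀ m, A ≤ itc A m ⊔ N := by
    intro m
    induction m with
    | zero => exact le_sup_left
    | succ m ih =>
      refine h.trans (sup_le ?_ le_sup_right)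
      refine (commutator_mono ih le_rfl).trans ?_
      refine commutator_le.2 fun x hx g _ => ?_
      obtain ⟨u, hu, v, hv, rfl⟩ := (Subgroup.mem_sup_of_normal_right).1 hx
      rw [show ⁅u * v, g⁆ = u * ⁅v, g⁆ * u⁻¹ * ⁅u, g⁆ by simp only [commutatorElement_def]; group]
      refine Subgroup.mul_mem _ (mem_sup_right ?_) (mem_sup_left (commutator_mem_commutator hu (mem_top g)))
      exact ‹N.Normal›.conj_mem _ (commutator_le_left N ⊤ (commutator_mem_commutator hv (mem_top g))) u
  obtain ⟨m, hm⟩ := exists_itc_eq_bot hP A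
  exact (key m).trans (by rw [hm, bot_sup_eq])

theorem mul_card_le_of_lt (hP : IsPGroup p P) {A B : Subgroup P} (h : A < B) :
    p * Nat.card A ≤ Nat.card B := by
  obtain ⟨a, ha⟩ := IsPGroup.iff_card.1 (hP.to_subgroup A)
  obtain ⟨b, hb⟩ := IsPGroup.iff_card.1 (hP.to_subgroup B)
  have hlt : Nat.card A < Nat.card B :=
    lt_of_le_of_ne (Subgroup.card_le_of_le h.le) fun e =>
      h.ne (Subgroup.eq_of_le_of_card_ge h.le e.ge)
  rw [ha, hb] at hlt ⊢
  rw [← pow_succ']
  exact Nat.pow_le_pow_right (Fact.out : p.Prime).pos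
    ((Nat.pow_lt_pow_iff_right (Fact.out : p.Prime).one_lt).1 hlt)

/-- The commutator of two subgroups that commute modulo `N`. -/
theorem commutator_le_of_mod {X N : Subgroup P} [N.Normal]
    (h : ∀ x ∈ X, ∀ y ∈ X, Commute (QuotientGroup.mk' N x) (QuotientGroup.mk' N y)) : ⁅X, X⁆ ≤ N := by
  refine commutator_le.2 fun x hx y hy => ?_
  rw [← QuotientGroup.ker_mk' N, MonoidHom.mem_ker, map_commutatorElement,
    commutatorElement_eq_one_iff_mul_comm]
  exact h x hx y hy

theorem commute_of_commutator_le {A B N : Subgroup P} [N.Normal] (h : ⁅A, B⁆ ≤ N) {a b : P}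
    (ha : a ∈ A) (hb : b ∈ B) : Commute (QuotientGroup.mk' N a) (QuotientGroup.mk' N b) := by
  rw [Commute, SemiconjBy, ← commutatorElement_eq_one_iff_mul_comm, ← map_commutatorElement,
    ← MonoidHom.mem_ker, QuotientGroup.ker_mk']
  exact h (commutator_mem_commutator ha hb)

/-- `Q` is cyclic modulo the next term of the lower central series. -/
def CyclicTop (Q : Subgroup P) (w : ℕ) : Prop :=
  ∃ c ∈ lcsFil P w, Q ≤ zpowers c ⊔ lcsFil P (w + 1)

theorem commutator_le_of_cyclicTop {Q : Subgroup P} {w : ℕ} (h : CyclicTop Q w) :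
    ⁅Q, Q⁆ ≤ lcsFil P (2 * w + 1) := by
  obtain ⟨c, hc, hQ⟩ := h
  have := lcs_normal (P := P) (2 * w + 1)
  have := lcs_normal (P := P) (w + 1)
  refine commutator_le_of_mod fun x hx y hy => ?_
  obtain ⟨u, hu, v, hv, rfl⟩ := Subgroup.mem_sup_of_normal_right.1 (hQ hx)
  obtain ⟨u', hu', v', hv', rfl⟩ := Subgroup.mem_sup_of_normal_right.1 (hQ hy)
  have hcw : zpowers c ≤ lcsFil P w := zpowers_le.2 hc
  have h1 : ⁅lcsFil P w, lcsFil P (w + 1)⁆ ≤ lcsFil P (2 * w + 1) :=
    (commutator_lcsFil_le _ _).trans (le_of_eq (by congr 1; omega))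
  have h2 : ⁅lcsFil P (w + 1), lcsFil P (w + 1)⁆ ≤ lcsFil P (2 * w + 1) :=
    (commutator_mono (lcsFil_antitone (Nat.le_succ w)) le_rfl).trans h1
  have huu : Commute (QuotientGroup.mk' (lcsFil P (2 * w + 1)) u) (QuotientGroup.mk' _ u') := by
    obtain ⟨i, rfl⟩ := mem_zpowers_iff.1 hu
    obtain ⟨j, rfl⟩ := mem_zpowers_iff.1 hu'
    exact ((Commute.refl c).zpow_zpow i j).map _
  have huv := commute_of_commutator_le h1 (hcw hu) hv'
  have huv' := (commute_of_commutator_le h1 (hcw hu') hv).symm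
  have hvv := commute_of_commutator_le h2 hv hv'
  simp only [map_mul]
  exact (huu.mul_right huv).mul_left (huv'.mul_right hvv)

/-- The dichotomy: either the index of `Q'` is large, or `Q'` is cyclic at the top. -/
theorem step (hP : IsPGroup p P) (Q : Subgroup P) [Q.Normal] {w : ℕ} (hw : 1 ≤ w)
    (hQ : Q ≤ lcsFil P w) (hne : ⁅Q, Q⁆ ≠ ⊥) :
    p ^ (w + 2) * Nat.card ↥⁅Q, Q⁆ ≤ Nat.card Q ∨
      (p ^ (w + 1) * Nat.card ↥⁅Q, Q⁆ ≤ Nat.card Q ∧ CyclicTop ⁅Q, Q⁆ (2 * w)) := by
  have hp := (Fact.out : p.Prime)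
  set D := ⁅Q, Q⁆ with hD
  have hDn : D.Normal := Subgroup.commutator_normal _ _
  have hDw : D ≤ itc Q w := (commutator_mono le_rfl hQ).trans (commutator_lcs_le_itc w hw Q)
  -- `[Q, P, …, P]` (`w - 1` times) is not in `D`
  have hlast : ¬ itc Q (w - 1) ≤ D := fun h => hne (le_bot_iff.1 (le_of_le_commutator_sup hP (A := D)
    (N := ⊥) (by
      rw [sup_bot_eq]
      refine hDw.trans ?_
      rw [show w = w - 1 + 1 by omega]
      exact commutator_mono h le_rfl)))
  let T : ℕ → Subgroup P := fun j => itc Q j ⊔ D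
  have hTanti : ∀ j, T (j + 1) ≤ T j := fun j => sup_le_sup_right (itc_antitone Q (Nat.le_succ j)) _
  have hstrict : ∀ j, ¬ itc Q j ≤ D → T (j + 1) < T j := fun j hj =>
    lt_of_le_of_ne (hTanti j) fun e => hj (le_of_le_commutator_sup hP
      ((le_sup_left : itc Q j ≤ T j).trans e.ge))
  have hchain : ∀ a, ∀ i, (∀ j, i ≤ j → j < i + a → ¬ itc Q j ≤ D) →
      p ^ a * Nat.card D ≤ Nat.card (T i) := by
    intro a
    induction a with
    | zero => intro i _; rw [pow_zero, one_mul]; exact Subgroup.card_le_of_le le_sup_right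
    | succ a ih =>
      intro i h
      refine le_trans ?_ (mul_card_le_of_lt hP (hstrict i (h i le_rfl (by omega))))
      rw [pow_succ', mul_assoc]
      exact Nat.mul_le_mul_left p (ih (i + 1) fun j h1 h2 => h j (by omega) (by omega))
  have hT0 : T 0 = Q := sup_eq_left.2 (commutator_le_left _ _)
  have hT1Q : T 1 ≤ Q := hT0 ▸ hTanti 0
  have hmono : ∀ j, j ≤ w - 1 → ¬ itc Q j ≤ D := fun j hj h =>
    hlast ((itc_antitone Q hj).trans h)
  have hT1 : p ^ (w - 1) * Nat.card D ≤ Nat.card (T 1) :=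
    hchain _ 1 fun j _ h2 => hmono j (by omega)
  have hT1lt : T 1 < Q := hT0 ▸ hstrict 0 (hmono 0 (Nat.zero_le _))
  have hQD : ⁅T 1, Q⁆ ≤ itc Q (w + 1) := by
    refine commutator_le.2 fun x hx y hy => ?_
    obtain ⟨u, hu, v, hv, rfl⟩ := Subgroup.mem_sup_of_normal_right.1 hx
    have := itc_normal Q (w + 1)
    rw [show ⁅u * v, y⁆ = u * ⁅v, y⁆ * u⁻¹ * ⁅u, y⁆ by simp only [commutatorElement_def]; group]
    refine Subgroup.mul_mem _ (Normal.conj_mem this _ ?_ u) ?_
    · refine commutator_mono hDw le_rfl ?_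
      exact commutator_mem_commutator hv (mem_top y)
    · have := itc_normal Q 1
      have h1 := commutator_lcs_le_itc w hw (itc Q 1) (commutator_mem_commutator hu (hQ hy))
      rwa [itc_add, add_comm] at h1
  obtain ⟨a, haQ, haT⟩ := SetLike.exists_of_lt hT1lt
  have hTn : (T 1).Normal := Subgroup.sup_normal _ _
  by_cases hcyc : Q ≤ zpowers a ⊔ T 1
  · -- `Q` is cyclic modulo `[Q, P]`
    right
    have := itc_normal Q (w + 1)
    have hD1 : D ≤ itc Q (w + 1) := by
      refine commutator_le_of_mod fun x hx y hy => ?_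
      obtain ⟨u, hu, v, hv, rfl⟩ := Subgroup.mem_sup_of_normal_right.1 (hcyc hx)
      obtain ⟨u', hu', v', hv', rfl⟩ := Subgroup.mem_sup_of_normal_right.1 (hcyc hy)
      have huQ : ∀ z ∈ zpowers a, z ∈ Q := fun z hz => zpowers_le.2 haQ hz
      have huu : Commute (QuotientGroup.mk' (itc Q (w + 1)) u) (QuotientGroup.mk' _ u') := by
        obtain ⟨i, rfl⟩ := mem_zpowers_iff.1 hu
        obtain ⟨j, rfl⟩ := mem_zpowers_iff.1 hu'
        exact ((Commute.refl a).zpow_zpow i j).map _
      simp only [map_mul]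
      exact (huu.mul_right (commute_of_commutator_le hQD hv' (huQ u hu)).symm).mul_left
        ((commute_of_commutator_le hQD hv (huQ u' hu')).mul_right
          (commute_of_commutator_le hQD hv (hT1Q hv')))
    have hw' : ¬ itc Q w ≤ D := fun h => hne (le_bot_iff.1 (le_of_le_commutator_sup hP (A := D)
      (N := ⊥) (by rw [sup_bot_eq]; exact hD1.trans (commutator_mono h le_rfl))))
    refine ⟨(hchain (w + 1) 0 fun j _ h2 => ?_).trans_eq (by rw [hT0]), 1, one_mem _, ?_⟩
    · exact fun h => hw' ((itc_antitone Q (by omega)).trans h)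
    · exact le_sup_of_le_right (hD1.trans ((itc_le_lcs hw hQ _).trans (le_of_eq (by congr 1; omega))))
  · obtain ⟨b, hbQ, hbT⟩ := SetLike.not_le_iff_exists.1 hcyc
    have hA : T 1 < zpowers a ⊔ T 1 := lt_of_le_of_ne le_sup_right fun e =>
      haT (e ▸ mem_sup_left (mem_zpowers a))
    have hB : zpowers a ⊔ T 1 < zpowers b ⊔ (zpowers a ⊔ T 1) := lt_of_le_of_ne le_sup_right fun e =>
      hbT (e ▸ mem_sup_left (mem_zpowers b))
    have hBQ : zpowers b ⊔ (zpowers a ⊔ T 1) ≤ Q :=
      sup_le (zpowers_le.2 hbQ) (sup_le (zpowers_le.2 haQ) hT1Q)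
    have hcard : p ^ (w + 1) * Nat.card D ≤ Nat.card ↥(zpowers b ⊔ (zpowers a ⊔ T 1)) := by
      refine le_trans ?_ (mul_card_le_of_lt hP hB)
      refine le_trans ?_ (Nat.mul_le_mul_left p (mul_card_le_of_lt hP hA))
      rw [show w + 1 = w - 1 + 1 + 1 by omega, pow_succ', pow_succ', mul_assoc, mul_assoc]
      exact Nat.mul_le_mul_left p (Nat.mul_le_mul_left p hT1)
    rcases hBQ.lt_or_eq with hlt | heq
    · left
      refine le_trans ?_ (mul_card_le_of_lt hP hlt)
      rw [pow_succ', mul_assoc]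
      exact Nat.mul_le_mul_left p hcard
    · right
      refine ⟨heq ▸ hcard, ⁅a, b⁆, ?_, ?_⟩
      · exact (commutator_mono hQ hQ).trans ((commutator_lcsFil_le w w).trans
          (le_of_eq (by congr 1; omega))) (commutator_mem_commutator haQ hbQ)
      set M := zpowers ⁅a, b⁆ ⊔ lcsFil P (2 * w + 1) with hM
      have hLn := lcs_normal (P := P) (2 * w + 1)
      have hc2 : ⁅a, b⁆ ∈ lcsFil P (2 * w) := (commutator_mono hQ hQ).trans
        ((commutator_lcsFil_le w w).trans (le_of_eq (by congr 1; omega)))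
          (commutator_mem_commutator haQ hbQ)
      have hMn : M.Normal := by
        refine ⟨fun x hx g => ?_⟩
        have hx2 : x ∈ lcsFil P (2 * w) :=
          (sup_le (zpowers_le.2 hc2) (lcsFil_antitone (Nat.le_succ _))) hx
        rw [show g * x * g⁻¹ = ⁅g, x⁆ * x by simp only [commutatorElement_def]; group]
        refine M.mul_mem (mem_sup_right ?_) hx
        rw [lcsFil_succ (by omega), commutator_comm]
        exact commutator_mem_commutator (mem_top g) hx2
      have hLM : itc Q (w + 1) ≤ M :=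
        le_sup_of_le_right ((itc_le_lcs hw hQ _).trans (le_of_eq (by congr 1; omega)))
      have hTM : ⁅T 1, Q⁆ ≤ M := hQD.trans hLM
      refine commutator_le_of_mod (N := M) fun x hx y hy => ?_
      have hgen : ∀ z ∈ Q, ∃ i j : ℤ, ∃ t ∈ T 1, z = b ^ i * (a ^ j * t) := by
        intro z hz
        rw [← heq] at hz
        have : (zpowers a ⊔ T 1).Normal := by
          refine ⟨fun u hu g => ?_⟩
          have huQ : u ∈ Q := (sup_le (zpowers_le.2 haQ) hT1Q) hu
          rw [show g * u * g⁻¹ = ⁅g, u⁆ * u by simp only [commutatorElement_def]; group]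
          refine Subgroup.mul_mem _ (mem_sup_right (mem_sup_left ?_)) hu
          show ⁅g, u⁆ ∈ ⁅Q, (⊤ : Subgroup P)⁆
          rw [commutator_comm]
          exact commutator_mem_commutator (mem_top g) huQ
        obtain ⟨u, hu, v, hv, rfl⟩ := Subgroup.mem_sup_of_normal_right.1 hz
        obtain ⟨u', hu', t, ht, rfl⟩ := Subgroup.mem_sup_of_normal_right.1 hv
        obtain ⟨i, rfl⟩ := mem_zpowers_iff.1 hu
        obtain ⟨j, rfl⟩ := mem_zpowers_iff.1 hu'
        exact ⟨i, j, t, ht, rfl⟩
      obtain ⟨i, j, t, ht, rfl⟩ := hgen x hx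
      obtain ⟨i', j', t', ht', rfl⟩ := hgen y hy
      have hab : Commute (QuotientGroup.mk' M a) (QuotientGroup.mk' M b) := by
        rw [Commute, SemiconjBy, ← commutatorElement_eq_one_iff_mul_comm, ← map_commutatorElement,
          ← MonoidHom.mem_ker, QuotientGroup.ker_mk']
        exact mem_sup_left (mem_zpowers _)
      have hcentral : ∀ t ∈ T 1, ∀ z ∈ Q, Commute (QuotientGroup.mk' M t) (QuotientGroup.mk' M z) :=
        fun t ht z hz => commute_of_commutator_le hTM ht hz
      simp only [map_mul, map_zpow]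
      have c1 := ((hcentral t ht b hbQ).zpow_right i').mul_right
        (((hcentral t ht a haQ).zpow_right j').mul_right (hcentral t ht t' (hT1Q ht')))
      have c2 := ((hab.zpow_zpow j i').mul_right
        (((Commute.refl _).zpow_zpow j j').mul_right ((hcentral t' ht' a haQ).symm.zpow_left j)))
      have c3 := (((Commute.refl _).zpow_zpow i i').mul_right
        ((hab.symm.zpow_zpow i j').mul_right ((hcentral t' ht' b hbQ).symm.zpow_left i)))
      exact c3.mul_left (c2.mul_left c1)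

theorem one_lt_card_mul (hP : IsPGroup p P) {Q : Subgroup P} (h : Q ≠ ⊥) : p ≤ Nat.card Q := by
  have := mul_card_le_of_lt hP (A := (⊥ : Subgroup P)) (B := Q) (bot_lt_iff_ne_bot.2 h)
  rwa [Subgroup.card_bot, mul_one] at this

theorem two_mul_succ_le (r : ℕ) (hr : 3 ≤ r) : 3 ≤ 2 ^ (r - 1) :=
  le_trans (by norm_num) (Nat.pow_le_pow_right (show 2 > 0 by norm_num) (show 2 ≤ r - 1 by omega))

theorem derived_ne_bot {i j : ℕ} (h : derivedSeries P j ≠ ⊥) (hij : i ≤ j) :
    derivedSeries P i ≠ ⊥ := fun e => h (le_bot_iff.1 (e ▸ derivedSeries_antitone P hij))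

/-- The bound for the derived series below a term of the lower central series. -/
theorem bound (hP : IsPGroup p P) : ∀ r i w : ℕ, 1 ≤ w → derivedSeries P i ≤ lcsFil P w →
    derivedSeries P (i + r) ≠ ⊥ →
      (r = 1 → p ^ (w + 2) ≤ Nat.card (derivedSeries P i)) ∧
        (2 ≤ r → ∃ e, w * 2 ^ r + 2 * r ≤ e + w + 1 ∧ p ^ e ≤ Nat.card (derivedSeries P i)) := by
  intro r
  induction r using Nat.strong_induction_on with
  | _ r ih =>
  intro i w hw hle hne
  have : (derivedSeries P i).Normal := derivedSeries_normal P i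
  have hp := (Fact.out : p.Prime)
  refine ⟨?_, ?_⟩
  · rintro rfl
    have h0 : p ≤ Nat.card (derivedSeries P (i + 1)) := one_lt_card_mul hP hne
    rcases step hP (derivedSeries P i) hw hle hne with h | ⟨h, -⟩
    · exact le_trans (Nat.le_mul_of_pos_right _ Nat.card_pos) h
    · refine le_trans ?_ h
      rw [pow_succ]
      exact Nat.mul_le_mul_left _ h0
  intro hr
  obtain ⟨s, rfl⟩ : ∃ s, r = s + 1 := ⟨r - 1, by omega⟩
  have hne1 : derivedSeries P (i + 1) ≠ ⊥ := derived_ne_bot hne (by omega)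
  have hle1 : derivedSeries P (i + 1) ≤ lcsFil P (2 * w) := by
    rw [derivedSeries_succ]
    exact (commutator_mono hle hle).trans ((commutator_lcsFil_le w w).trans (le_of_eq (by congr 1; omega)))
  have hne' : derivedSeries P (i + 1 + s) ≠ ⊥ := by rwa [show i + 1 + s = i + (s + 1) by omega]
  obtain ⟨h1, h2⟩ := ih s (by omega) (i + 1) (2 * w) (by omega) hle1 hne'
  rcases Nat.lt_or_ge s 2 with hs | hs
  · obtain rfl : s = 1 := by omega
    refine ⟨3 * w + 3, by omega, ?_⟩
    have h := h1 rfl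
    rcases step hP (derivedSeries P i) hw hle hne1 with g | ⟨g, -⟩
    · refine le_trans ?_ g
      refine le_trans ?_ (Nat.mul_le_mul_left _ h)
      rw [← pow_add]
      exact Nat.pow_le_pow_right hp.pos (by omega)
    · refine le_trans ?_ g
      refine le_trans ?_ (Nat.mul_le_mul_left _ h)
      rw [← pow_add]
      exact Nat.pow_le_pow_right hp.pos (by omega)
  rcases step hP (derivedSeries P i) hw hle hne1 with g | ⟨g, hct⟩
  · obtain ⟨e, he, hce⟩ := h2 hs
    refine ⟨w + 2 + e, ?_, le_trans ?_ g⟩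
    · rw [pow_succ, ← mul_assoc, mul_comm (w * 2 ^ s) 2, ← mul_assoc]
      omega
    · rw [pow_add]
      exact Nat.mul_le_mul_left _ hce
  -- cyclic top
  have hne2 : derivedSeries P (i + 1 + 1) ≠ ⊥ := derived_ne_bot hne (by omega)
  have hle2 : derivedSeries P (i + 1 + 1) ≤ lcsFil P (4 * w + 1) := by
    rw [derivedSeries_succ P (i + 1)]
    exact (commutator_le_of_cyclicTop hct).trans (le_of_eq (by congr 1; omega))
  have : (derivedSeries P (i + 1)).Normal := derivedSeries_normal P (i + 1)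
  have g2 : p ^ (2 * w + 1) * Nat.card (derivedSeries P (i + 1 + 1)) ≤
      Nat.card (derivedSeries P (i + 1)) := by
    rcases step hP (derivedSeries P (i + 1)) (by omega : 1 ≤ 2 * w) hle1 hne2 with g2 | ⟨g2, -⟩
    · exact le_trans (Nat.mul_le_mul_right _ (Nat.pow_le_pow_right hp.pos (by omega))) g2
    · exact g2
  obtain ⟨t, rfl⟩ : ∃ t, s = t + 1 := ⟨s - 1, by omega⟩
  have hne'' : derivedSeries P (i + 1 + 1 + t) ≠ ⊥ := by
    rwa [show i + 1 + 1 + t = i + (t + 1 + 1) by omega]
  obtain ⟨k1, k2⟩ := ih t (by omega) (i + 1 + 1) (4 * w + 1) (by omega) hle2 hne''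
  have hb : ∀ e, p ^ e ≤ Nat.card (derivedSeries P (i + 1 + 1)) →
      p ^ (w + 1 + (2 * w + 1) + e) ≤ Nat.card (derivedSeries P i) := fun e he => by
    rw [pow_add, pow_add, mul_assoc]
    exact le_trans (Nat.mul_le_mul_left _ (le_trans (Nat.mul_le_mul_left _ he) g2)) g
  rcases Nat.lt_or_ge t 2 with ht | ht
  · obtain rfl : t = 1 := by omega
    exact ⟨_, by norm_num; omega, hb _ (k1 rfl)⟩
  · obtain ⟨e, he, hce⟩ := k2 ht
    refine ⟨_, ?_, hb _ hce⟩
    have h4 : 4 ≤ 2 ^ t := le_trans (by norm_num) (Nat.pow_le_pow_right (show 2 > 0 by norm_num) ht)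
    rw [add_mul, one_mul] at he
    rw [pow_succ, pow_succ, ← mul_assoc, ← mul_assoc]
    rw [show w * 2 ^ t * 2 * 2 = 4 * w * 2 ^ t by ring]
    omega

end CfsgLib.PGroups.DerivedBound
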