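import Mathlib

/-!
# Isomorphisms from power-commutator data over a central subgroup of order p
-/

set_option linter.unusedSectionVars false
set_option linter.style.haveILetI false

namespace CfsgLib.PGroups

open Subgroup
open scoped commutatorElement

variable {p : ℕ} [Fact p.Prime]

/-- Adjoining x with `x^p ∈ H` to a normal H multiplies the order by at most p. -/
theorem card_sup_zpowers_le {G : Type*} [Group G] [Finite G] {H : Subgroup G} [H.Normal] {x : G}
    (hx : x ^ p ∈ H) : Nat.card (H ⊔ zpowers x : Subgroup G) ≤ p * Nat.card H := by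
  have h1 : H.relIndex (H ⊔ zpowers x) ≤ p := by
    conv_lhs => rw [← QuotientGroup.ker_mk' H]
    rw [Subgroup.relIndex_ker, QuotientGroup.ker_mk', Subgroup.map_sup, QuotientGroup.map_mk'_self,
      bot_sup_eq, MonoidHom.map_zpowers, Nat.card_zpowers]
    refine orderOf_le_of_pow_eq_one (Fact.out : p.Prime).pos ?_
    rw [← map_pow]
    exact (QuotientGroup.eq_one_iff _).mpr hx
  rw [← Subgroup.relIndex_bot_left (H ⊔ zpowers x),
    ← Subgroup.relIndex_mul_relIndex ⊥ H _ bot_le le_sup_left, Subgroup.relIndex_bot_left, mul_comm]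
  exact Nat.mul_le_mul_right _ h1

/-- Order bound for a group generated by m elements over a subgroup Z of order at most p containing
all commutators and all p-th powers of the generators. -/
theorem card_le_of_data {G : Type*} [Group G] [Finite G] {ι : Type*} [Fintype ι] {z : G} {x : ι → G}
    (hgen : Subgroup.closure (insert z (Set.range x)) = ⊤) (hz : z ^ p = 1) (hzc : z ∈ center G)
    (hpow : ∀ i, x i ^ p ∈ zpowers z) (hcomm : ∀ i j, ⁅x i, x j⁆ ∈ zpowers z) :
    Nat.card G ≤ p ^ (Fintype.card ι + 1) := by
  classical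
  haveI hN : (zpowers z).Normal := by
    constructor
    intro c hc g
    rw [Subgroup.mem_center_iff.mp (zpowers_le.mpr hzc hc) g, mul_inv_cancel_right]
    exact hc
  -- the commutator subgroup is inside zpowers z
  have hder : commutator G ≤ zpowers z := by
    let π := QuotientGroup.mk' (zpowers z)
    have hz1 : π z = 1 := (QuotientGroup.eq_one_iff _).mpr (mem_zpowers z)
    have hall : ∀ g h : G, Commute (π g) (π h) := by
      have key : ∀ g, (∀ i, Commute (π g) (π (x i))) → ∀ h, Commute (π g) (π h) := by
        intro g hg h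
        have hle : Subgroup.closure (insert z (Set.range x)) ≤
            (centralizer ({π g} : Set (G ⧸ zpowers z))).comap π := by
          rw [Subgroup.closure_le]
          rintro c (rfl | ⟨i, rfl⟩) <;> refine Subgroup.mem_centralizer_singleton_iff.mpr ?_
          · rw [hz1, one_mul, mul_one]
          · exact (hg i).symm.eq
        exact (Subgroup.mem_centralizer_singleton_iff.mp (hle (hgen ▸ mem_top h))).symm
      intro g h
      refine key g (fun i => (key (x i) (fun j => ?_) g).symm) h
      rw [← commutatorElement_eq_one_iff_commute, ← map_commutatorElement]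
      exact (QuotientGroup.eq_one_iff _).mpr (hcomm i j)
    rw [commutator_eq_closure, Subgroup.closure_le]
    rintro _ ⟨g, h, rfl⟩
    rw [SetLike.mem_coe, ← QuotientGroup.eq_one_iff, ← QuotientGroup.mk'_apply,
      map_commutatorElement, commutatorElement_eq_one_iff_commute]
    exact hall g h
  have aux : ∀ s : Finset ι, Nat.card (zpowers z ⊔ Subgroup.closure (x '' s) : Subgroup G) ≤
      p ^ (s.card + 1) := by
    intro s
    induction s using Finset.induction_on with
    | empty =>
      simp only [Finset.coe_empty, Set.image_empty, Subgroup.closure_empty, sup_bot_eq,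
        Finset.card_empty, zero_add, pow_one, Nat.card_zpowers]
      exact orderOf_le_of_pow_eq_one (Fact.out : p.Prime).pos hz
    | insert i s hi ih =>
      haveI := Subgroup.Normal.of_commutator_le G (hder.trans
        (le_sup_left : zpowers z ≤ zpowers z ⊔ Subgroup.closure (x '' s)))
      have hx : x i ^ p ∈ zpowers z ⊔ Subgroup.closure (x '' s) :=
        (le_sup_left : zpowers z ≤ zpowers z ⊔ Subgroup.closure (x '' s)) (hpow i)
      rw [Finset.coe_insert, Set.image_insert_eq, Set.insert_eq, Subgroup.closure_union,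
        ← zpowers_eq_closure, sup_left_comm, sup_comm, Finset.card_insert_of_notMem hi, pow_succ']
      exact (card_sup_zpowers_le hx).trans (Nat.mul_le_mul_left _ ih)
  have h := aux Finset.univ
  rw [Finset.coe_univ, Set.image_univ, Finset.card_univ] at h
  have htop : zpowers z ⊔ Subgroup.closure (Set.range x) = ⊤ := by
    rw [← hgen, Set.insert_eq, Subgroup.closure_union, ← zpowers_eq_closure]
  rwa [htop, Subgroup.card_top] at h

/-- Two groups of order `p^(m+1)` with the same power-commutator data are isomorphic. -/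
theorem nonempty_mulEquiv_of_data {G H : Type*} [Group G] [Group H] [Finite G] [Finite H]
    {ι : Type*} [Fintype ι] {z : G} {z' : H} {x : ι → G} {x' : ι → H} {c : ι → ℕ} {d : ι → ι → ℕ}
    (hgen : Subgroup.closure (insert z (Set.range x)) = ⊤)
    (hgen' : Subgroup.closure (insert z' (Set.range x')) = ⊤)
    (hz : z ^ p = 1) (hz' : z' ^ p = 1) (hzc : z ∈ center G) (hzc' : z' ∈ center H)
    (hpow : ∀ i, x i ^ p = z ^ c i) (hpow' : ∀ i, x' i ^ p = z' ^ c i)
    (hcomm : ∀ i j, ⁅x i, x j⁆ = z ^ d i j) (hcomm' : ∀ i j, ⁅x' i, x' j⁆ = z' ^ d i j)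
    (hG : Nat.card G = p ^ (Fintype.card ι + 1)) (hH : Nat.card H = p ^ (Fintype.card ι + 1)) :
    Nonempty (G ≃* H) := by
  let S : Set (G × H) := insert (z, z') (Set.range fun i => (x i, x' i))
  let Γ := Subgroup.closure S
  let ζ : Γ := ⟨(z, z'), Subgroup.subset_closure (Set.mem_insert _ _)⟩
  let ξ : ι → Γ := fun i => ⟨(x i, x' i), Subgroup.subset_closure (Or.inr ⟨i, rfl⟩)⟩
  have hgenΓ : Subgroup.closure (insert ζ (Set.range ξ)) = ⊤ := by
    refine Subgroup.map_injective Γ.subtype_injective ?_
    rw [MonoidHom.map_closure, Set.image_insert_eq, ← Set.range_comp, ← MonoidHom.range_eq_map,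
      Subgroup.range_subtype]
    rfl
  have hcard : Nat.card Γ ≤ p ^ (Fintype.card ι + 1) := by
    refine card_le_of_data hgenΓ (Subtype.ext (Prod.ext hz hz'))
      (Subgroup.mem_center_iff.mpr fun g => Subtype.ext (Prod.ext ?_ ?_)) (fun i => ?_) (fun i j => ?_)
    · exact Subgroup.mem_center_iff.mp hzc g.1.1
    · exact Subgroup.mem_center_iff.mp hzc' g.1.2
    · exact Subgroup.mem_zpowers_iff.mpr ⟨c i, Subtype.ext (Prod.ext (by simp [ζ, ξ, hpow i])
        (by simp [ζ, ξ, hpow' i]))⟩
    · exact Subgroup.mem_zpowers_iff.mpr ⟨d i j, Subtype.ext (Prod.ext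
        (by simp [ζ, ξ, commutatorElement_def, ← hcomm i j])
        (by simp [ζ, ξ, commutatorElement_def, ← hcomm' i j]))⟩
  have hbij : Function.Bijective ((MonoidHom.fst G H).comp Γ.subtype) := by
    have hsurj : Function.Surjective ((MonoidHom.fst G H).comp Γ.subtype) := by
      rw [← MonoidHom.range_eq_top, eq_top_iff, ← hgen, Subgroup.closure_le]
      rintro g (rfl | ⟨i, rfl⟩)
      · exact ⟨ζ, rfl⟩
      · exact ⟨ξ i, rfl⟩
    refine (Nat.bijective_iff_surjective_and_card _).mpr ⟨hsurj, ?_⟩
    exact le_antisymm (hcard.trans hG.ge) (Nat.card_le_card_of_surjective _ hsurj)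
  have hbij' : Function.Bijective ((MonoidHom.snd G H).comp Γ.subtype) := by
    have hsurj : Function.Surjective ((MonoidHom.snd G H).comp Γ.subtype) := by
      rw [← MonoidHom.range_eq_top, eq_top_iff, ← hgen', Subgroup.closure_le]
      rintro g (rfl | ⟨i, rfl⟩)
      · exact ⟨ζ, rfl⟩
      · exact ⟨ξ i, rfl⟩
    refine (Nat.bijective_iff_surjective_and_card _).mpr ⟨hsurj, ?_⟩
    exact le_antisymm (hcard.trans hH.ge) (Nat.card_le_card_of_surjective _ hsurj)
  exact ⟨(MulEquiv.ofBijective _ hbij).symm.trans (MulEquiv.ofBijective _ hbij')⟩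

end CfsgLib.PGroups
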