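import Cfsg.Agent.Lib.PGroups.Extraspecial
import Cfsg.Agent.Lib.PGroups.MaxAbelian
import Cfsg.Agent.Lib.PGroups.PowerCommutatorIso

/-!
# Symplectic bases of extraspecial groups, the classification by order and type
-/

set_option linter.unusedSectionVars false
set_option linter.style.haveILetI false

universe u

namespace CfsgLib.PGroups

open Subgroup
open scoped commutatorElement

variable {p : ℕ} [Fact p.Prime]

/-- A group of order `p^(2m+1)` with centre `⟨z⟩` of order p, commutators and p-th powers in it. -/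
structure IsSympGroup (p : ℕ) {G : Type*} [Group G] (z : G) (m : ℕ) : Prop where
  card_eq : Nat.card G = p ^ (2 * m + 1)
  z_ord : orderOf z = p
  center_eq : center G = zpowers z
  comm_mem : ∀ a b : G, ⁅a, b⁆ ∈ zpowers z
  pow_mem : ∀ a : G, a ^ p ∈ zpowers z

/-- A symplectic basis with power data ε. -/
structure IsSympBasis (p : ℕ) {G : Type*} [Group G] (z : G) {m : ℕ} (a b : Fin m → G)
    (ε : Fin m → ℕ) : Prop where
  ab : ∀ i j, ⁅a i, b j⁆ = z ^ (if i = j then 1 else 0)
  aa : ∀ i j, ⁅a i, a j⁆ = 1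
  bb : ∀ i j, ⁅b i, b j⁆ = 1
  pow_a : ∀ i, a i ^ p = z ^ ε i
  pow_b : ∀ i, b i ^ p = z ^ ε i
  gen : Subgroup.closure (insert z (Set.range a ∪ Set.range b)) = ⊤

theorem exists_isSympGroup {G : Type*} [Group G] [Finite G] (h : Cfsg.IsExtraspecial p G) :
    ∃ (z : G) (m : ℕ), 1 ≤ m ∧ IsSympGroup p z m := by
  obtain ⟨m, hm, hcard⟩ := Extraspecial.exists_card_eq h
  haveI : IsCyclic (center G) := isCyclic_of_prime_card h.2
  obtain ⟨⟨z, hz⟩, hgen⟩ := IsCyclic.exists_generator (α := center G)
  have hzeq : center G = zpowers z := by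
    refine le_antisymm (fun c hc => ?_) (zpowers_le.mpr hz)
    obtain ⟨i, hi⟩ := Subgroup.mem_zpowers_iff.mp (hgen ⟨c, hc⟩)
    exact Subgroup.mem_zpowers_iff.mpr ⟨i, by simpa using congrArg Subtype.val hi⟩
  refine ⟨z, m, hm, hcard, ?_, hzeq, fun a b => ?_, fun a => ?_⟩
  · rw [← Nat.card_zpowers, ← hzeq, h.2]
  · exact hzeq ▸ Extraspecial.commutator_mem_center h a b
  · exact hzeq ▸ Extraspecial.pow_mem_center h a

namespace IsSympGroup

variable {G : Type u} [Group G] {z : G} {m : ℕ} (S : IsSympGroup p z m)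
include S

theorem z_mem_center : z ∈ center G := S.center_eq.ge (mem_zpowers z)

theorem comm_center (a b : G) : ⁅a, b⁆ ∈ center G := S.center_eq.ge (S.comm_mem a b)

theorem z_pow : z ^ p = 1 := by rw [← S.z_ord, pow_orderOf_eq_one]

theorem exists_eq_pow {c : G} (hc : c ∈ zpowers z) : ∃ k < p, z ^ k = c := by
  obtain ⟨k, hk⟩ := Subgroup.mem_zpowers_iff.mp hc
  refine ⟨(k % (p : ℤ)).toNat, ?_, ?_⟩
  · have hp : (0 : ℤ) < p := by exact_mod_cast (Fact.out : p.Prime).pos
    have := Int.emod_lt_of_pos k hp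
    have := Int.emod_nonneg k hp.ne'
    omega
  · rw [← zpow_natCast, Int.toNat_of_nonneg (Int.emod_nonneg k (by exact_mod_cast (Fact.out : p.Prime).ne_zero)),
      ← hk]
    conv_rhs => rw [← zpow_mod_orderOf, S.z_ord]

theorem exists_partner {a : G} (ha : a ∉ center G) : ∃ b : G, ⁅a, b⁆ = z := by
  obtain ⟨x, hx⟩ : ∃ x : G, ⁅a, x⁆ ≠ 1 := by
    by_contra h
    push Not at h
    exact ha (Subgroup.mem_center_iff.mpr fun g =>
      (commutatorElement_eq_one_iff_mul_comm.mp (h g)).symm)
  obtain ⟨k, hk, hkx⟩ := S.exists_eq_pow (S.comm_mem a x)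
  have hk0 : k ≠ 0 := fun h0 => hx (by rw [← hkx, h0, pow_zero])
  obtain ⟨u, hu⟩ : ∃ u : ℕ, k * u ≡ 1 [MOD p] := by
    have hcop : Nat.Coprime k p := ((Fact.out : p.Prime).coprime_iff_not_dvd.mpr
      (fun h => absurd (Nat.le_of_dvd (Nat.pos_of_ne_zero hk0) h) (by omega))).symm
    obtain ⟨u, -, hu⟩ := Nat.exists_mul_mod_eq_one_of_coprime hcop (Fact.out : p.Prime).one_lt
    exact ⟨u, by rw [Nat.ModEq, hu, Nat.one_mod_eq_one.mpr (Fact.out : p.Prime).ne_one]⟩
  refine ⟨x ^ u, ?_⟩
  rw [commutator_pow_right_of_central (S.comm_center a x), ← hkx, ← pow_mul]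
  conv_rhs => rw [← pow_one z]
  rw [pow_eq_pow_iff_modEq, S.z_ord]
  exact hu

/-- Coordinates relative to a hyperbolic pair. -/
theorem pair_decomp [Finite G] {a b : G} (hab : ⁅a, b⁆ = z) :
    Function.Bijective (fun v : (ZMod p × ZMod p) × (centralizer ({a, b} : Set G)) =>
      a ^ v.1.1.val * b ^ v.1.2.val * (v.2 : G)) := by
  have hcz : ∀ x y : G, ⁅x, y⁆ ∈ center G := S.comm_center
  have hba : ⁅b, a⁆ = z⁻¹ := by rw [← commutatorElement_inv, hab]
  have hab' : ∀ (i j : ℕ), ⁅a ^ i * b ^ j, b⁆ = z ^ i ∧ ⁅a, a ^ i * b ^ j⁆ = z ^ j := by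
    intro i j
    constructor
    · rw [commutator_mul_left_of_central (hcz _ _), commutator_pow_left_of_central (hcz _ _),
        commutator_pow_left_of_central (hcz _ _), hab, commutatorElement_self, one_pow, mul_one]
    · rw [commutator_mul_right_of_central (hcz _ _), commutator_pow_right_of_central (hcz _ _),
        commutator_pow_right_of_central (hcz _ _), hab, commutatorElement_self, one_pow, one_mul]
  have hC : ∀ c : centralizer ({a, b} : Set G), ⁅(c : G), b⁆ = 1 ∧ ⁅a, (c : G)⁆ = 1 := fun c =>
    ⟨commutatorElement_eq_one_iff_mul_comm.mpr (c.2 b (by simp)).symm,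
      commutatorElement_eq_one_iff_mul_comm.mpr (c.2 a (by simp))⟩
  constructor
  · rintro ⟨⟨i, j⟩, c⟩ ⟨⟨i', j'⟩, c'⟩ h
    simp only at h
    have h1 := congrArg (fun g => ⁅g, b⁆) h
    have h2 := congrArg (fun g => ⁅a, g⁆) h
    simp only [commutator_mul_left_of_central (hcz _ _), commutator_mul_right_of_central (hcz _ _),
      (hab' _ _).1, (hab' _ _).2, (hC _).1, (hC _).2, mul_one] at h1 h2
    simp only [commutator_pow_left_of_central (hcz _ _), commutator_pow_right_of_central (hcz _ _),
      hab, commutatorElement_self, one_pow, mul_one, one_mul] at h1 h2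
    rw [pow_eq_pow_iff_modEq, S.z_ord, ← ZMod.natCast_eq_natCast_iff, ZMod.natCast_zmod_val,
      ZMod.natCast_zmod_val] at h1 h2
    subst h1 h2
    rw [mul_right_inj] at h
    rw [Subtype.ext h]
  · intro g
    obtain ⟨i, hi, hig⟩ := S.exists_eq_pow (S.comm_mem g b)
    obtain ⟨j, hj, hjg⟩ := S.exists_eq_pow (S.comm_mem a g)
    refine ⟨⟨((i : ZMod p), (j : ZMod p)), ⟨(a ^ i * b ^ j)⁻¹ * g, ?_⟩⟩, ?_⟩
    · have e1 : ⁅(a ^ i * b ^ j)⁻¹ * g, b⁆ = 1 := by
        have h := commutator_mul_left_of_central (a := a ^ i * b ^ j) (hcz ((a ^ i * b ^ j)⁻¹ * g) b)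
        rw [mul_inv_cancel_left, (hab' i j).1, ← hig] at h
        simpa using h
      have e2 : ⁅a, (a ^ i * b ^ j)⁻¹ * g⁆ = 1 := by
        have h := commutator_mul_right_of_central (b := a ^ i * b ^ j) (hcz a ((a ^ i * b ^ j)⁻¹ * g))
        rw [mul_inv_cancel_left, (hab' i j).2, ← hjg] at h
        simpa using h
      rintro y (rfl | rfl)
      · exact commutatorElement_eq_one_iff_mul_comm.mp e2
      · exact (commutatorElement_eq_one_iff_mul_comm.mp e1).symm
    · simp only [ZMod.val_natCast_of_lt hi, ZMod.val_natCast_of_lt hj, mul_inv_cancel_left]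

theorem z_mem_pair (a b : G) : z ∈ centralizer ({a, b} : Set G) :=
  center_le_centralizer _ S.z_mem_center

/-- The centralizer of a hyperbolic pair is again a symplectic group. -/
theorem sub [Finite G] {a b : G} (hab : ⁅a, b⁆ = z) : 1 ≤ m ∧
    IsSympGroup p (⟨z, S.z_mem_pair a b⟩ : centralizer ({a, b} : Set G)) (m - 1) := by
  have hp : p.Prime := Fact.out
  have hbij := S.pair_decomp hab
  have hcard := Nat.card_eq_of_bijective _ hbij
  rw [Nat.card_prod, Nat.card_prod, Nat.card_zmod, S.card_eq] at hcard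
  set C := centralizer ({a, b} : Set G)
  have hlow : p ≤ Nat.card C := by
    rw [← S.z_ord]
    exact Nat.le_of_dvd Nat.card_pos (Subgroup.orderOf_dvd_natCard _ (S.z_mem_pair a b))
  have hm : 1 ≤ m := by
    by_contra h
    obtain rfl : m = 0 := by omega
    rw [Nat.mul_zero, zero_add, pow_one] at hcard
    have h2 := hp.two_le
    have : p * p * p ≤ p := (Nat.mul_le_mul_left (p * p) hlow).trans hcard.le
    nlinarith
  refine ⟨hm, ?_, ?_, ?_, fun c d => ?_, fun c => ?_⟩
  · refine Nat.eq_of_mul_eq_mul_left (Nat.mul_pos hp.pos hp.pos) ?_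
    rw [hcard, ← sq, ← pow_add]
    congr 1
    omega
  · rw [← Subgroup.orderOf_coe]; exact S.z_ord
  · refine le_antisymm (fun c hc => ?_) (zpowers_le.mpr ?_)
    · have hcG : (c : G) ∈ center G := by
        rw [Subgroup.mem_center_iff]
        intro g
        obtain ⟨⟨⟨i, j⟩, d⟩, rfl⟩ := hbij.2 g
        have h1 : Commute a (c : G) := c.2 a (by simp)
        have h2 : Commute b (c : G) := c.2 b (by simp)
        have h3 : Commute (d : G) (c : G) := congrArg Subtype.val (Subgroup.mem_center_iff.mp hc d)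
        exact (((h1.pow_left _).mul_left (h2.pow_left _)).mul_left h3).eq
      obtain ⟨k, hk⟩ := Subgroup.mem_zpowers_iff.mp (S.center_eq ▸ hcG)
      exact Subgroup.mem_zpowers_iff.mpr ⟨k, Subtype.ext (by push_cast; exact hk)⟩
    · exact Subgroup.mem_center_iff.mpr fun g => Subtype.ext (Subgroup.mem_center_iff.mp S.z_mem_center g)
  · obtain ⟨k, hk⟩ := Subgroup.mem_zpowers_iff.mp (S.comm_mem c d)
    refine Subgroup.mem_zpowers_iff.mpr ⟨k, Subtype.ext ?_⟩
    simp [commutatorElement_def, hk]
  · obtain ⟨k, hk⟩ := Subgroup.mem_zpowers_iff.mp (S.pow_mem c)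
    exact Subgroup.mem_zpowers_iff.mpr ⟨k, Subtype.ext (by push_cast; exact hk)⟩

/-- Prepend a pair to a basis of its centralizer. -/
theorem basis_cons [Finite G] {a b : G} (hab : ⁅a, b⁆ = z) {k : ℕ}
    {as bs : Fin k → centralizer ({a, b} : Set G)} {ε : Fin k → ℕ} {e : ℕ}
    (B : IsSympBasis p (⟨z, S.z_mem_pair a b⟩ : centralizer ({a, b} : Set G)) as bs ε)
    (ha : a ^ p = z ^ e) (hb : b ^ p = z ^ e) :
    IsSympBasis p z (Fin.cons a fun i => (as i : G)) (Fin.cons b fun i => (bs i : G)) (Fin.cons e ε) := by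
  have hca : ∀ c : (centralizer ({a, b} : Set G)), ⁅(c : G), a⁆ = 1 ∧ ⁅a, (c : G)⁆ = 1 := fun c =>
    ⟨commutatorElement_eq_one_iff_mul_comm.mpr (c.2 a (by simp)).symm,
      commutatorElement_eq_one_iff_mul_comm.mpr (c.2 a (by simp))⟩
  have hcb : ∀ c : (centralizer ({a, b} : Set G)), ⁅(c : G), b⁆ = 1 ∧ ⁅b, (c : G)⁆ = 1 := fun c =>
    ⟨commutatorElement_eq_one_iff_mul_comm.mpr (c.2 b (by simp)).symm,
      commutatorElement_eq_one_iff_mul_comm.mpr (c.2 b (by simp))⟩
  have hval : ∀ c d : (centralizer ({a, b} : Set G)), ⁅(c : G), (d : G)⁆ = ((⁅c, d⁆ : (centralizer ({a, b} : Set G))) : G) := fun c d => by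
    simp [commutatorElement_def]
  refine ⟨?_, ?_, ?_, ?_, ?_, ?_⟩
  · intro i j
    induction i using Fin.cases with
    | zero =>
      induction j using Fin.cases with
      | zero => simp [hab]
      | succ j => simp [(hca (bs j)).2, (Fin.succ_ne_zero j).symm]
    | succ i =>
      induction j using Fin.cases with
      | zero => simp [(hcb (as i)).1]
      | succ j =>
        simp only [Fin.cons_succ, hval, B.ab, Fin.succ_inj]
        push_cast
        rfl
  · intro i j
    induction i using Fin.cases with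
    | zero =>
      induction j using Fin.cases with
      | zero => simp
      | succ j => simp [(hca (as j)).2]
    | succ i =>
      induction j using Fin.cases with
      | zero => simp [(hca (as i)).1]
      | succ j => simp [hval, B.aa]
  · intro i j
    induction i using Fin.cases with
    | zero =>
      induction j using Fin.cases with
      | zero => simp
      | succ j => simp [(hcb (bs j)).2]
    | succ i =>
      induction j using Fin.cases with
      | zero => simp [(hcb (bs i)).1]
      | succ j => simp [hval, B.bb]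
  · intro i
    induction i using Fin.cases with
    | zero => simpa using ha
    | succ i => simpa using congrArg Subtype.val (B.pow_a i)
  · intro i
    induction i using Fin.cases with
    | zero => simpa using hb
    | succ i => simpa using congrArg Subtype.val (B.pow_b i)
  · rw [eq_top_iff]
    intro g _
    obtain ⟨⟨⟨i, j⟩, c⟩, rfl⟩ := (S.pair_decomp hab).2 g
    have hC : ∀ c' : (centralizer ({a, b} : Set G)),
        (c' : G) ∈ Subgroup.closure (insert z (Set.range (Fin.cons a fun i => (as i : G) : Fin (k + 1) → G) ∪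
        Set.range (Fin.cons b fun i => (bs i : G) : Fin (k + 1) → G))) := by
      intro c'
      have hmem := Subgroup.mem_map_of_mem (centralizer ({a, b} : Set G)).subtype
        (B.gen.ge (Subgroup.mem_top c'))
      rw [MonoidHom.map_closure] at hmem
      refine (Subgroup.closure_le _).mpr ?_ hmem
      rintro _ ⟨y, rfl | ⟨i, rfl⟩ | ⟨i, rfl⟩, rfl⟩ <;> refine Subgroup.subset_closure ?_
      · exact Or.inl rfl
      · exact Or.inr (Or.inl ⟨i.succ, by simp⟩)
      · exact Or.inr (Or.inr ⟨i.succ, by simp⟩)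
    refine mul_mem (mul_mem (Subgroup.pow_mem _ (Subgroup.subset_closure ?_) _)
      (Subgroup.pow_mem _ (Subgroup.subset_closure ?_) _)) (hC c)
    · exact Or.inr (Or.inl ⟨0, by simp⟩)
    · exact Or.inr (Or.inr ⟨0, by simp⟩)

theorem exists_not_central [Finite G] (hm : m ≠ 0) : ∃ a : G, a ∉ center G := by
  by_contra h
  push Not at h
  have := congrArg (fun H : Subgroup G => Nat.card H) (eq_top_iff.mpr fun g _ => h g : center G = ⊤)
  simp only [Subgroup.card_top, S.card_eq, S.center_eq, Nat.card_zpowers, S.z_ord] at this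
  nth_rewrite 1 [← pow_one p] at this
  exact absurd (Nat.pow_right_injective (Fact.out : p.Prime).two_le this) (by omega)

theorem basis_zero (h : m = 0) (ε : Fin m → ℕ) [Finite G] :
    IsSympBasis p z (fun _ => (1 : G)) (fun _ => (1 : G)) ε := by
  subst h
  refine ⟨fun i => i.elim0, fun i => i.elim0, fun i => i.elim0, fun i => i.elim0, fun i => i.elim0, ?_⟩
  refine Subgroup.eq_top_of_le_card _ ?_
  rw [S.card_eq, Nat.mul_zero, zero_add, pow_one, ← S.z_ord, ← Nat.card_zpowers]
  exact Subgroup.card_le_of_le (zpowers_le.mpr (Subgroup.subset_closure (Or.inl rfl)))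

theorem exists_basis_of_exponent [Finite G] (hexp : ∀ g : G, g ^ p = 1) :
    ∃ a b : Fin m → G, IsSympBasis p z a b fun _ => 0 := by
  induction m generalizing G with
  | zero => exact ⟨_, _, S.basis_zero rfl _⟩
  | succ k ih =>
    obtain ⟨a, ha⟩ := S.exists_not_central k.succ_ne_zero
    obtain ⟨b, hab⟩ := S.exists_partner ha
    obtain ⟨-, T⟩ := S.sub hab
    obtain ⟨as, bs, B⟩ := ih T (fun g => Subtype.ext (by simpa using hexp g))
    have h := S.basis_cons hab B (e := 0) (by simpa using hexp a) (by simpa using hexp b)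
    have hε : (Fin.cons 0 fun _ => 0 : Fin (k + 1) → ℕ) = fun _ => 0 := by
      funext i
      induction i using Fin.cases <;> simp
    exact ⟨_, _, hε ▸ h⟩

end IsSympGroup

/-- Groups with symplectic bases of the same size and data are isomorphic. -/
theorem nonempty_mulEquiv_of_basis {G H : Type*} [Group G] [Group H] [Finite G] [Finite H]
    {z : G} {z' : H} {m : ℕ} (S : IsSympGroup p z m) (S' : IsSympGroup p z' m) {a b : Fin m → G}
    {a' b' : Fin m → H} {ε : Fin m → ℕ} (B : IsSympBasis p z a b ε)
    (B' : IsSympBasis p z' a' b' ε) : Nonempty (G ≃* H) := by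
  let d : Fin m ⊕ Fin m → Fin m ⊕ Fin m → ℕ
    | .inl i, .inr j => if i = j then 1 else 0
    | .inr i, .inl j => if j = i then p - 1 else 0
    | _, _ => 0
  have key : ∀ {K : Type _} [Group K] {w : K} {u v : Fin m → K}, IsSympGroup p w m →
      IsSympBasis p w u v ε → ∀ i j, ⁅Sum.elim u v i, Sum.elim u v j⁆ = w ^ d i j := by
    intro K _ w u v T U i j
    rcases i with i | i <;> rcases j with j | j <;> simp only [Sum.elim_inl, Sum.elim_inr, d]
    · rw [U.aa, pow_zero]
    · exact U.ab i j
    · rw [← commutatorElement_inv, U.ab]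
      split_ifs with h
      · refine inv_eq_of_mul_eq_one_right ?_
        rw [← pow_add, show 1 + (p - 1) = p by have := (Fact.out : p.Prime).one_lt; omega, T.z_pow]
      · simp
    · rw [U.bb, pow_zero]
  have hcard : p ^ (2 * m + 1) = p ^ (Fintype.card (Fin m ⊕ Fin m) + 1) := by
    rw [Fintype.card_sum, Fintype.card_fin, two_mul]
  refine nonempty_mulEquiv_of_data (p := p) (z := z) (z' := z') (x := Sum.elim a b)
    (x' := Sum.elim a' b') (c := Sum.elim ε ε) (d := d) ?_ ?_ S.z_pow S'.z_pow S.z_mem_center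
    S'.z_mem_center ?_ ?_ (key S B) ?_ (S.card_eq.trans hcard) (S'.card_eq.trans hcard)
  · rw [Set.Sum.elim_range]; exact B.gen
  · rw [Set.Sum.elim_range]; exact B'.gen
  · rintro (i | i)
    · exact B.pow_a i
    · exact B.pow_b i
  · rintro (i | i)
    · exact B'.pow_a i
    · exact B'.pow_b i
  · intro i j
    rcases i with i | i <;> rcases j with j | j <;> simp only [Sum.elim_inl, Sum.elim_inr, d]
    · rw [B'.aa, pow_zero]
    · exact B'.ab i j
    · rw [← commutatorElement_inv, B'.ab]
      split_ifs with h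
      · refine inv_eq_of_mul_eq_one_right ?_
        rw [← pow_add, show 1 + (p - 1) = p by have := (Fact.out : p.Prime).one_lt; omega, S'.z_pow]
      · simp
    · rw [B'.bb, pow_zero]

/-! ### p = 2 -/

/-- G has an elementary abelian subgroup of order at least `2^(m+1)`. -/
def HasMaxElem (G : Type*) [Group G] (m : ℕ) : Prop :=
  ∃ A : Subgroup G, IsMulCommutative A ∧ (∀ a ∈ A, a ^ 2 = 1) ∧ 2 ^ (m + 1) ≤ Nat.card A

/-- Power data: only the last pair may be non-zero. -/
def lastData (m : ℕ) (q : Bool) (i : Fin m) : ℕ := if q ∧ i.val + 1 = m then 1 else 0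

theorem pow_eq_one_of_mem_sup {G : Type*} [Group G] {A B : Subgroup G} {n : ℕ}
    (hc : IsMulCommutative (A ⊔ B : Subgroup G)) (hA : ∀ a ∈ A, a ^ n = 1)
    (hB : ∀ b ∈ B, b ^ n = 1) {x : G} (hx : x ∈ A ⊔ B) : x ^ n = 1 := by
  have hx' := hx
  rw [Subgroup.sup_eq_closure] at hx
  have key : ∀ y ∈ Subgroup.closure ((A : Set G) ∪ B), y ∈ A ⊔ B ∧ y ^ n = 1 := by
    intro y hy
    induction hy using Subgroup.closure_induction with
    | mem y hy =>
      rcases hy with hy | hy
      · exact ⟨(le_sup_left : A ≤ A ⊔ B) hy, hA y hy⟩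
      · exact ⟨(le_sup_right : B ≤ A ⊔ B) hy, hB y hy⟩
    | one => exact ⟨one_mem _, one_pow n⟩
    | mul u v _ _ hu hv =>
      refine ⟨mul_mem hu.1 hv.1, ?_⟩
      have : Commute u v := congrArg Subtype.val (hc.is_comm.comm ⟨u, hu.1⟩ ⟨v, hv.1⟩)
      rw [this.mul_pow, hu.2, hv.2, one_mul]
    | inv u _ hu => exact ⟨inv_mem hu.1, by rw [inv_pow, hu.2, inv_one]⟩
  exact (key x hx).2

namespace IsSympGroup

variable {G : Type u} [Group G] [Finite G] {z : G} {m : ℕ} (S : IsSympGroup 2 z m)
include S

theorem eq_one_or_eq_z {c : G} (hc : c ∈ zpowers z) : c = 1 ∨ c = z := by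
  obtain ⟨k, hk, rfl⟩ := S.exists_eq_pow hc
  interval_cases k <;> simp

theorem z_inv : z⁻¹ = z := inv_eq_of_mul_eq_one_right (by rw [← sq, S.z_pow])

theorem exists_involution_partner {a : G} (ha : a ∉ center G) (ha2 : a ^ 2 = 1) :
    ∃ b : G, ⁅a, b⁆ = z ∧ b ^ 2 = 1 := by
  obtain ⟨b, hab⟩ := S.exists_partner ha
  rcases S.eq_one_or_eq_z (S.pow_mem b) with hb | hb
  · exact ⟨b, hab, hb⟩
  · refine ⟨a * b, ?_, ?_⟩
    · rw [commutator_mul_right_of_central (S.comm_center a b), hab, commutatorElement_self, one_mul]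
    · rw [mul_pow_of_central (S.comm_center b a), ha2, hb, Nat.choose_self, pow_one,
        ← commutatorElement_inv, hab, one_mul, mul_inv_cancel]

theorem exists_noncentral_involution (hm : 2 ≤ m) : ∃ a : G, a ∉ center G ∧ a ^ 2 = 1 := by
  obtain ⟨a, ha⟩ := S.exists_not_central (by omega)
  rcases S.eq_one_or_eq_z (S.pow_mem a) with ha2 | ha2
  · exact ⟨a, ha, ha2⟩
  obtain ⟨b, hab⟩ := S.exists_partner ha
  obtain ⟨-, T⟩ := S.sub hab
  obtain ⟨c, hc⟩ := T.exists_not_central (by omega)
  have hcG : (c : G) ∉ center G := fun h => hc (Subgroup.mem_center_iff.mpr fun g => Subtype.ext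
    (Subgroup.mem_center_iff.mp h g))
  rcases S.eq_one_or_eq_z (S.pow_mem (c : G)) with hc2 | hc2
  · exact ⟨c, hcG, hc2⟩
  have hac : Commute a (c : G) := c.2 a (by simp)
  refine ⟨a * c, fun h => ?_, by rw [hac.mul_pow, ha2, hc2, ← sq, S.z_pow]⟩
  have h1 : ⁅a * (c : G), b⁆ = 1 :=
    commutatorElement_eq_one_iff_mul_comm.mpr (Subgroup.mem_center_iff.mp h b).symm
  rw [commutator_mul_left_of_central (S.comm_center _ _), hab,
    commutatorElement_eq_one_iff_mul_comm.mpr (c.2 b (by simp)).symm, mul_one] at h1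
  have := S.z_ord
  rw [h1, orderOf_one] at this
  norm_num at this

/-- Counting square roots of one across a dihedral pair. -/
theorem count_step {a b : G} (hab : ⁅a, b⁆ = z) (ha : a ^ 2 = 1) (hb : b ^ 2 = 1) :
    Nat.card {x : G // x ^ 2 = 1} = Nat.card (centralizer ({a, b} : Set G)) +
      2 * Nat.card {c : centralizer ({a, b} : Set G) // c ^ 2 = 1} := by
  classical
  set C := centralizer ({a, b} : Set G)
  have hbij := S.pair_decomp hab
  have e : {v : (ZMod 2 × ZMod 2) × C // (a ^ v.1.1.val * b ^ v.1.2.val * (v.2 : G)) ^ 2 = 1} ≃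
      {x : G // x ^ 2 = 1} :=
    (Equiv.ofBijective _ hbij).subtypeEquiv (fun v => Iff.rfl)
  have hca : ∀ c : C, Commute a (c : G) := fun c => c.2 a (by simp)
  have hcb : ∀ c : C, Commute b (c : G) := fun c => c.2 b (by simp)
  have habsq : (a * b) ^ 2 = z := by
    rw [mul_pow_of_central (S.comm_center b a), ha, hb, Nat.choose_self, pow_one,
      ← commutatorElement_inv, hab, one_mul, one_mul, S.z_inv]
  rw [← Nat.card_congr e, Nat.card_congr (Equiv.subtypeProdEquivSigmaSubtype
    (fun (i : ZMod 2 × ZMod 2) (c : C) => (a ^ i.1.val * b ^ i.2.val * (c : G)) ^ 2 = 1)),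
    Nat.card_sigma, Fintype.sum_prod_type]
  show ∑ i : Fin 2, ∑ j : Fin 2, Nat.card {c : C // (a ^ (i : ℕ) * b ^ (j : ℕ) * (c : G)) ^ 2 = 1} = _
  simp only [Fin.sum_univ_two, Fin.val_zero, Fin.val_one, pow_zero, pow_one, one_mul, mul_one]
  have e1 : ∀ g : G, g ^ 2 = 1 → (∀ c : C, Commute g (c : G)) →
      Nat.card {c : C // (g * (c : G)) ^ 2 = 1} = Nat.card {c : C // c ^ 2 = 1} := fun g hg hgc =>
    Nat.card_congr (Equiv.subtypeEquivRight fun c => by
      rw [(hgc c).mul_pow, hg, one_mul, ← Subtype.coe_inj]; simp)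
  have e0 : Nat.card {c : C // (c : G) ^ 2 = 1} = Nat.card {c : C // c ^ 2 = 1} :=
    Nat.card_congr (Equiv.subtypeEquivRight fun c => by rw [← Subtype.coe_inj]; simp)
  have e2 : Nat.card {c : C // (a * b * (c : G)) ^ 2 = 1} + Nat.card {c : C // c ^ 2 = 1} =
      Nat.card C := by
    rw [← e0, add_comm, ← Nat.card_sum]
    refine Nat.card_congr ((Equiv.sumCongr (Equiv.refl _)
      (Equiv.subtypeEquivRight fun c => ?_)).trans
      (Equiv.sumCompl fun c : C => (c : G) ^ 2 = 1))
    rw [((hca c).mul_left (hcb c)).mul_pow, habsq]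
    rcases S.eq_one_or_eq_z (S.pow_mem (c : G)) with h | h <;> rw [h]
    · rw [mul_one]
      refine iff_of_false (fun h1 => ?_) (not_not.mpr rfl)
      have := S.z_ord
      rw [h1, orderOf_one] at this
      norm_num at this
    · rw [← sq, S.z_pow]
      refine iff_of_true rfl (fun h1 => ?_)
      have := S.z_ord
      rw [h1, orderOf_one] at this
      norm_num at this
  rw [e1 a ha hca, e1 b hb hcb, e0]
  omega

theorem hasMaxElem_zero (h : m = 0) : HasMaxElem G m := by
  refine ⟨zpowers z, inferInstance, fun c hc => ?_, ?_⟩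
  · rcases S.eq_one_or_eq_z hc with rfl | rfl
    · exact one_pow _
    · exact S.z_pow
  · rw [h, Nat.card_zpowers, S.z_ord]; norm_num

theorem not_hasMaxElem_one (hm : m = 1) (h : ¬ HasMaxElem G m) {g : G} (hg : g ∉ center G) :
    g ^ 2 = z := by
  rcases S.eq_one_or_eq_z (S.pow_mem g) with h2 | h2
  · refine absurd ⟨zpowers z ⊔ zpowers g, ?_, ?_, ?_⟩ h
    · exact isMulCommutative_sup_zpowers inferInstance
        (fun c hc => (Subgroup.mem_center_iff.mp (S.center_eq.ge hc) g).symm)
    · intro c hc
      refine pow_eq_one_of_mem_sup (isMulCommutative_sup_zpowers inferInstance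
        (fun c hc => (Subgroup.mem_center_iff.mp (S.center_eq.ge hc) g).symm)) ?_ ?_ hc
      · intro u hu
        rcases S.eq_one_or_eq_z hu with rfl | rfl
        · exact one_pow _
        · exact S.z_pow
      · intro v hv
        obtain ⟨l, rfl⟩ := Subgroup.mem_zpowers_iff.mp hv
        rw [← zpow_natCast, ← zpow_mul, mul_comm, zpow_mul, zpow_natCast, h2, one_zpow]
    · have hlt : zpowers z < zpowers z ⊔ zpowers g := lt_of_le_of_ne le_sup_left fun he =>
        hg (S.center_eq.ge (he.ge ((le_sup_right : zpowers g ≤ zpowers z ⊔ zpowers g) (mem_zpowers g))))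
      have h3 : 2 < Nat.card (zpowers z ⊔ zpowers g : Subgroup G) := by
        rw [← S.z_ord, ← Nat.card_zpowers]
        exact lt_of_le_of_ne (Subgroup.card_le_of_le hlt.le)
          (fun he => hlt.ne (Subgroup.eq_of_le_of_card_ge hlt.le he.ge))
      have hP : IsPGroup 2 G := IsPGroup.of_card S.card_eq
      obtain ⟨k, hk⟩ := card_subgroup_eq_pow hP (zpowers z ⊔ zpowers g)
      rw [hm, hk]
      rw [hk] at h3
      nth_rewrite 1 [← pow_one 2] at h3
      exact Nat.pow_le_pow_right two_pos ((Nat.pow_lt_pow_iff_right one_lt_two).mp h3)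
  · exact h2

/-- Classification data of symplectic 2-groups. -/
theorem classify :
    (HasMaxElem G m → (∃ a b : Fin m → G, IsSympBasis 2 z a b (lastData m false)) ∧
      Nat.card {x : G // x ^ 2 = 1} = 2 ^ (2 * m) + 2 ^ m) ∧
    (¬ HasMaxElem G m → 1 ≤ m ∧ (∃ a b : Fin m → G, IsSympBasis 2 z a b (lastData m true)) ∧
      Nat.card {x : G // x ^ 2 = 1} + 2 ^ m = 2 ^ (2 * m) ∧
      ∃ A : Subgroup G, IsMulCommutative A ∧ (∀ a ∈ A, a ^ 2 = 1) ∧ 2 ^ m ≤ Nat.card A) := by
  induction m generalizing G with
  | zero =>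
    refine ⟨fun _ => ⟨⟨_, _, S.basis_zero rfl _⟩, ?_⟩, fun h => absurd (S.hasMaxElem_zero rfl) h⟩
    have hall : ∀ x : G, x ^ 2 = 1 := fun x => by
      have := pow_card_eq_one' (x := x)
      rwa [S.card_eq] at this
    rw [Nat.card_congr (Equiv.subtypeUnivEquiv hall), S.card_eq]
    norm_num
  | succ k ih =>
    constructor
    · rintro ⟨A, hAab, hA2, hAcard⟩
      obtain ⟨a, haA, haz⟩ : ∃ a ∈ A, a ∉ center G := by
        refine SetLike.not_le_iff_exists.mp fun hle => ?_
        have := Subgroup.card_le_of_le hle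
        rw [S.center_eq, Nat.card_zpowers, S.z_ord] at this
        have h4 : 2 ^ 2 ≤ 2 ^ (k + 1 + 1) := Nat.pow_le_pow_right two_pos (by omega)
        omega
      obtain ⟨b, hab, hb⟩ := S.exists_involution_partner haz (hA2 a haA)
      obtain ⟨-, T⟩ := S.sub hab
      rw [Nat.add_sub_cancel] at T
      have hmax : HasMaxElem (centralizer ({a, b} : Set G)) k := by
        let D := A ⊓ centralizer ({b} : Set G)
        have hDC : D ≤ centralizer ({a, b} : Set G) := by
          rintro d ⟨hdA, hdb⟩ y (rfl | rfl)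
          · exact congrArg Subtype.val (hAab.is_comm.comm ⟨y, haA⟩ ⟨d, hdA⟩)
          · exact hdb y rfl
        refine ⟨D.subgroupOf _, ⟨⟨fun x y => Subtype.ext (Subtype.ext ?_)⟩⟩, ?_, ?_⟩
        · simp only [Subgroup.coe_mul]
          exact congrArg Subtype.val (hAab.is_comm.comm
            ⟨((x : centralizer ({a, b} : Set G)) : G), (Subgroup.mem_subgroupOf.mp x.2).1⟩
            ⟨((y : centralizer ({a, b} : Set G)) : G), (Subgroup.mem_subgroupOf.mp y.2).1⟩)
        · intro x hx
          exact Subtype.ext (by simpa using hA2 _ (Subgroup.mem_subgroupOf.mp hx).1)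
        · rw [Nat.card_congr (Subgroup.subgroupOfEquivOfLe hDC).toEquiv]
          have hidx : (centralizer ({b} : Set G)).index ≤ 2 :=
            (index_centralizer_singleton_le (Z := zpowers z) S.center_eq.ge (fun g => S.comm_mem g b)).trans_eq
              (by rw [Nat.card_zpowers, S.z_ord])
          have hrel : D.relIndex A ≤ 2 := by
            rw [Subgroup.inf_relIndex_left]
            exact ((Subgroup.relIndex_le_of_le_right le_top (by
              rw [Subgroup.relIndex_top_right]; exact Subgroup.FiniteIndex.index_ne_zero)).trans_eq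
              (Subgroup.relIndex_top_right _)).trans hidx
          have hmul := Subgroup.relIndex_mul_relIndex ⊥ D A bot_le inf_le_left
          rw [Subgroup.relIndex_bot_left, Subgroup.relIndex_bot_left] at hmul
          have h2 : 2 ^ (k + 1) * 2 ≤ Nat.card D * 2 := by
            rw [← pow_succ]
            exact hAcard.trans (hmul ▸ Nat.mul_le_mul_left _ hrel)
          exact Nat.le_of_mul_le_mul_right h2 two_pos
      obtain ⟨⟨as, bs, B⟩, hN⟩ := (ih T).1 hmax
      refine ⟨?_, ?_⟩
      · have h := S.basis_cons hab B (e := 0) (by simpa using hA2 a haA) (by simpa using hb)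
        have hε : (Fin.cons 0 (lastData k false) : Fin (k + 1) → ℕ) = lastData (k + 1) false := by
          funext i
          induction i using Fin.cases <;> simp [lastData]
        exact ⟨_, _, hε ▸ h⟩
      · rw [S.count_step hab (hA2 a haA) hb, hN, T.card_eq,
          show 2 * (k + 1) = 2 * k + 1 + 1 by omega, pow_succ 2 (2 * k + 1), pow_succ 2 (2 * k),
          pow_succ 2 k]
        ring
    · intro hno
      refine ⟨Nat.succ_pos k, ?_⟩
      rcases Nat.eq_zero_or_pos k with rfl | hk
      · -- the quaternion group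
        obtain ⟨a, ha⟩ := S.exists_not_central one_ne_zero
        obtain ⟨b, hab⟩ := S.exists_partner ha
        obtain ⟨-, T⟩ := S.sub hab
        have hb : b ∉ center G := fun h => by
          have h1 := S.z_ord
          rw [← hab, commutatorElement_eq_one_iff_mul_comm.mpr (Subgroup.mem_center_iff.mp h a),
            orderOf_one] at h1
          norm_num at h1
        refine ⟨?_, ?_, zpowers z, inferInstance, fun c hc => ?_, ?_⟩
        · have h := S.basis_cons hab (T.basis_zero rfl (fun _ => 0)) (e := 1)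
            (by simpa using S.not_hasMaxElem_one rfl hno ha) (by simpa using S.not_hasMaxElem_one rfl hno hb)
          have hε : (Fin.cons 1 (fun _ => 0) : Fin (0 + 1) → ℕ) = lastData (0 + 1) true := by
            funext i
            induction i using Fin.cases with
            | zero => simp [lastData]
            | succ i => exact i.elim0
          exact ⟨_, _, hε ▸ h⟩
        · have hsub : ∀ x : G, x ^ 2 = 1 ↔ x ∈ zpowers z := by
            intro x
            refine ⟨fun hx => ?_, fun hx => ?_⟩
            · by_contra hxz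
              have := S.not_hasMaxElem_one rfl hno (fun hc => hxz (S.center_eq.le hc))
              rw [hx] at this
              exact hxz (this.symm ▸ (one_mem _ : (1 : G) ∈ zpowers z) |> fun _ => by
                have h1 := S.z_ord
                rw [← this, orderOf_one] at h1
                norm_num at h1)
            · rcases S.eq_one_or_eq_z hx with rfl | rfl
              · exact one_pow _
              · exact S.z_pow
          rw [Nat.card_congr (Equiv.subtypeEquivRight hsub), Nat.card_zpowers, S.z_ord]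
          norm_num
        · rcases S.eq_one_or_eq_z hc with rfl | rfl
          · exact one_pow _
          · exact S.z_pow
        · rw [Nat.card_zpowers, S.z_ord]; norm_num
      · obtain ⟨a, ha, ha2⟩ := S.exists_noncentral_involution (by omega)
        obtain ⟨b, hab, hb⟩ := S.exists_involution_partner ha ha2
        obtain ⟨-, T⟩ := S.sub hab
        rw [Nat.add_sub_cancel] at T
        set C := centralizer ({a, b} : Set G)
        have hext : ∀ (j : ℕ) (D : Subgroup C), IsMulCommutative D → (∀ x ∈ D, x ^ 2 = 1) →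
            2 ^ j ≤ Nat.card D → ∃ E : Subgroup G, IsMulCommutative E ∧ (∀ x ∈ E, x ^ 2 = 1) ∧
              2 ^ (j + 1) ≤ Nat.card E := by
          intro j D hD hD2 hDc
          let D' := D.map C.subtype
          have hD' : IsMulCommutative D' := Subgroup.map_isMulCommutative D C.subtype
          have haD : a ∈ centralizer (D' : Set G) := by
            rintro _ ⟨d, -, rfl⟩
            exact (d.2 a (by simp)).symm
          have hE := isMulCommutative_sup_zpowers hD' haD
          have haD' : a ∉ D' := by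
            rintro ⟨d, -, hd⟩
            have hd' : (d : G) = a := hd
            have h1 : ⁅a, b⁆ = 1 :=
              commutatorElement_eq_one_iff_mul_comm.mpr (by rw [← hd']; exact (d.2 b (by simp)).symm)
            have h2 := S.z_ord
            rw [← hab, h1, orderOf_one] at h2
            norm_num at h2
          refine ⟨D' ⊔ zpowers a, hE, fun x hx => ?_, ?_⟩
          · refine pow_eq_one_of_mem_sup hE ?_ ?_ hx
            · rintro _ ⟨d, hd, rfl⟩
              simpa using congrArg Subtype.val (hD2 d hd)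
            · intro v hv
              obtain ⟨l, rfl⟩ := Subgroup.mem_zpowers_iff.mp hv
              rw [← zpow_natCast, ← zpow_mul, mul_comm, zpow_mul, zpow_natCast, ha2, one_zpow]
          · have hlt : D' < D' ⊔ zpowers a := lt_of_le_of_ne le_sup_left fun he => haD'
              (he.ge ((le_sup_right : zpowers a ≤ D' ⊔ zpowers a) (mem_zpowers a)))
            have hcD' : Nat.card D' = Nat.card D := Subgroup.card_map_of_injective C.subtype_injective
            have hrel : 2 ≤ D'.relIndex (D' ⊔ zpowers a) := by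
              by_contra hlt2
              have h0 : D'.relIndex (D' ⊔ zpowers a) ≠ 0 := Subgroup.FiniteIndex.index_ne_zero
              exact hlt.not_ge (Subgroup.relIndex_eq_one.mp (by omega))
            have hmul := Subgroup.relIndex_mul_relIndex ⊥ D' (D' ⊔ zpowers a) bot_le le_sup_left
            rw [Subgroup.relIndex_bot_left, Subgroup.relIndex_bot_left, hcD'] at hmul
            rw [pow_succ, ← hmul]
            exact Nat.mul_le_mul hDc hrel
        have hno' : ¬ HasMaxElem C k := fun ⟨D, hD, hD2, hDc⟩ => hno (hext (k + 1) D hD hD2 hDc)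
        obtain ⟨-, ⟨as, bs, B⟩, hN, D, hD, hD2, hDc⟩ := (ih T).2 hno'
        refine ⟨?_, ?_, hext k D hD hD2 hDc⟩
        · have h := S.basis_cons hab B (e := 0) (by simpa using ha2) (by simpa using hb)
          have hε : (Fin.cons 0 (lastData k true) : Fin (k + 1) → ℕ) = lastData (k + 1) true := by
            funext i
            induction i using Fin.cases <;> simp [lastData, hk.ne, hk.ne']
          exact ⟨_, _, hε ▸ h⟩
        · rw [S.count_step hab ha2 hb, T.card_eq,
            show 2 * (k + 1) = 2 * k + 1 + 1 by omega, pow_succ 2 (2 * k + 1), pow_succ 2 (2 * k),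
            pow_succ 2 k, ← hN]
          ring

end IsSympGroup

end CfsgLib.PGroups
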