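import Mathlib
import Cfsg.Agent.Lib.PGroups.Extraspecial
import Cfsg.Agent.Lib.PGroups.Commutator
import Cfsg.Agent.Lib.PGroups.CyclicFieldAction
import Cfsg.Agent.Lib.Base.Transport

/-!
Fixed-point-free cyclic actions on extraspecial groups.
-/

set_option autoImplicit false
set_option linter.style.haveILetI false

namespace CfsgLib.PGroups

open Subgroup
open scoped commutatorElement

variable {p : ℕ} [Fact p.Prime] {P : Type*} [Group P] [Finite P]

/-- One step of the orthogonal decomposition. -/
theorem extraspecial_radical_step (h : Cfsg.IsExtraspecial p P) {K W : Subgroup P}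
    (hZW : center P ≤ W) (hRW : K ⊓ centralizer (K : Set P) < W) (hWK : W ≤ K) :
    K ⊓ centralizer (W : Set P) < K ∧
      (K ⊓ centralizer (W : Set P)) ⊓ centralizer ((K ⊓ centralizer (W : Set P) : Subgroup P) : Set P)
        = W ⊓ centralizer (W : Set P) ∧
      Nat.card ↥(K ⊓ centralizer (W : Set P)) * Nat.card W =
        Nat.card K * Nat.card ↥(K ⊓ centralizer (K : Set P)) := by
  set CK := centralizer (K : Set P) with hCK
  set K1 := K ⊓ centralizer (W : Set P) with hK1
  have hZK : center P ≤ K := hZW.trans hWK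
  haveI hWn : W.Normal := Extraspecial.normal_of_center_le h hZW
  have hZCK : center P ≤ CK := center_le_centralizer _
  have hcsup : centralizer ((CK ⊔ W : Subgroup P) : Set P) = K1 := by
    refine le_antisymm ?_ ?_
    · rw [hK1, ← Extraspecial.centralizer_centralizer h hZK]
      exact le_inf (centralizer_le (by exact_mod_cast (le_sup_left : CK ≤ CK ⊔ W)))
        (centralizer_le (by exact_mod_cast (le_sup_right : W ≤ CK ⊔ W)))
    · rw [le_centralizer_iff]
      refine sup_le ?_ ?_
      · rw [le_centralizer_iff]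
        exact inf_le_left.trans (Extraspecial.centralizer_centralizer h hZK).ge
      · rw [le_centralizer_iff]
        exact inf_le_right
  have hZsup : center P ≤ CK ⊔ W := hZW.trans le_sup_right
  refine ⟨lt_of_le_of_ne inf_le_left fun he => ?_, ?_, ?_⟩
  · refine hRW.not_ge (le_inf hWK ?_)
    rw [le_centralizer_iff]
    exact he.ge.trans inf_le_right
  · rw [← hcsup, Extraspecial.centralizer_centralizer h hZsup, hcsup]
    refine le_antisymm ?_ ?_
    · rintro x ⟨⟨hxK, hxC⟩, hx⟩
      refine ⟨?_, hxC⟩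
      rw [SetLike.mem_coe, mem_toSubmonoid] at *
      obtain ⟨a, ha, w, hw, rfl⟩ := mem_sup_of_normal_right.mp hx
      refine mul_mem (hRW.le ⟨?_, ha⟩) hw
      exact (K.mul_mem_cancel_right (hWK hw)).mp hxK
    · exact le_inf (le_inf (inf_le_left.trans hWK) inf_le_right) (inf_le_left.trans le_sup_right)
  · have h1 := Extraspecial.card_mul_card_centralizer h hZsup
    have h2 := Extraspecial.card_mul_card_centralizer h hZK
    have h3 := CfsgLib.Base.card_sup_mul_card_inf CK W
    rw [hcsup] at h1
    have hinf : CK ⊓ W = K ⊓ CK := by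
      refine le_antisymm (le_inf (inf_le_right.trans hWK) inf_le_left) (le_inf inf_le_right hRW.le)
    rw [hinf] at h3
    refine Nat.eq_of_mul_eq_mul_left (show 0 < Nat.card ↥(CK ⊔ W) from Nat.card_pos) ?_
    calc Nat.card ↥(CK ⊔ W) * (Nat.card K1 * Nat.card W)
        = Nat.card K * Nat.card CK * Nat.card W := by rw [← mul_assoc, h1, hCK, ← h2]
      _ = Nat.card K * (Nat.card ↥(CK ⊔ W) * Nat.card ↥(K ⊓ CK)) := by rw [h3]; ring
      _ = _ := by ring

/-- The index of the radical is an even power of `p`. -/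
theorem extraspecial_radical_even (h : Cfsg.IsExtraspecial p P) :
    ∀ K : Subgroup P, center P ≤ K →
      ∃ m, Nat.card K = Nat.card ↥(K ⊓ centralizer (K : Set P)) * p ^ (2 * m) := by
  intro K
  induction hc : Nat.card K using Nat.strong_induction_on generalizing K with
  | _ c ih =>
  intro hZK
  subst hc
  set R := K ⊓ centralizer (K : Set P) with hR
  by_cases hRK : R = K
  · exact ⟨0, by rw [hRK]; simp⟩
  obtain ⟨a, haK, haR⟩ : ∃ a ∈ K, a ∉ R := by
    by_contra hall
    push Not at hall
    exact hRK (le_antisymm inf_le_left hall)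
  have hp : p.Prime := Fact.out
  set W := R ⊔ zpowers a with hW
  have hRW : R < W := lt_of_le_of_ne le_sup_left fun he => haR (he ▸ mem_sup_right (mem_zpowers a))
  have hWK : W ≤ K := sup_le inf_le_left (zpowers_le.mpr haK)
  have hZR : center P ≤ R := le_inf hZK (center_le_centralizer _)
  obtain ⟨h1, h2, h3⟩ := extraspecial_radical_step h (hZR.trans le_sup_left) hRW hWK
  have hWab : W ≤ centralizer (W : Set P) := by
    have hsub : R ≤ centralizer (W : Set P) := inf_le_right.trans (centralizer_le (by exact_mod_cast hWK))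
    refine sup_le hsub (zpowers_le.mpr ?_)
    intro w hw
    haveI : R.Normal := Extraspecial.normal_of_center_le h hZR
    obtain ⟨r, hr, b, hb, rfl⟩ := mem_sup_of_normal_left.mp (hw : w ∈ R ⊔ zpowers a)
    obtain ⟨i, rfl⟩ := mem_zpowers_iff.mp hb
    have c1 : Commute r a := ((hr.2 : r ∈ centralizer (K : Set P)) a haK).symm
    exact (c1.mul_left ((Commute.refl a).zpow_left i)).eq
  have hWcard : Nat.card W = Nat.card R * p := by
    haveI : R.Normal := Extraspecial.normal_of_center_le h hZR
    have hb := relIndex_bot_left R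
    rw [← relIndex_bot_left W, ← relIndex_mul_relIndex ⊥ R W bot_le le_sup_left, relIndex_bot_left]
    congr 1
    rw [relIndex_sup_left]
    have h5 : R.relIndex (zpowers a) = p := by
      have hq : (QuotientGroup.mk a : P ⧸ R) ≠ 1 := fun he => haR ((QuotientGroup.eq_one_iff a).mp he)
      have hord : orderOf (QuotientGroup.mk a : P ⧸ R) = p := by
        refine orderOf_eq_prime ?_ hq
        rw [← QuotientGroup.mk_pow]
        exact (QuotientGroup.eq_one_iff _).mpr (hZR (Extraspecial.pow_mem_center h a))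
      rw [← QuotientGroup.ker_mk' R, relIndex_ker, MonoidHom.map_zpowers, Nat.card_zpowers]
      exact hord
    exact h5
  obtain ⟨m, hm⟩ := ih _ (lt_of_le_of_ne (card_le_of_le h1.le) fun he =>
    h1.ne (eq_of_le_of_card_ge h1.le he.ge)) _ rfl (le_inf hZK (center_le_centralizer _))
  refine ⟨m + 1, Nat.eq_of_mul_eq_mul_right (show 0 < Nat.card R from Nat.card_pos) ?_⟩
  rw [← h3, hm, h2, inf_eq_left.mpr hWab, hWcard]
  ring

variable (α : MulAut P)

theorem fixed_mod_abelian_mem {β : MulAut P} (hZ : ∀ z ∈ center P, β z = z)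
    (hfix : ∀ u, β u = u → u ∈ center P) {d : ℕ} (hd : β ^ d = 1)
    (hzd : ∀ z ∈ center P, z ^ d = 1 → z = 1) {R : Subgroup P} (hZR : center P ≤ R)
    (hab : R ≤ centralizer (R : Set P)) (hRinv : ∀ r ∈ R, β r ∈ R) {u : P}
    (hu : u⁻¹ * β u ∈ R) : u ∈ R := by
  have key : ∀ v : P, v⁻¹ * β v ∈ center P → v ∈ center P := by
    intro v hv
    refine hfix v ?_
    have hit : ∀ i : ℕ, (β ^ i) v = v * (v⁻¹ * β v) ^ i := by
      intro i
      induction i with
      | zero => simp
      | succ i ih =>
        rw [pow_succ', MulAut.mul_apply, ih, map_mul, map_pow, hZ _ hv, pow_succ', ← mul_assoc v,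
          mul_inv_cancel_left]
    have h1 := hit d
    rw [hd, MulAut.one_apply, left_eq_mul] at h1
    exact (inv_mul_eq_one.mp (hzd _ hv h1)).symm
  haveI : (center P).Normal := inferInstance
  let g : R →* P ⧸ center P :=
    MonoidHom.mk' (fun r => QuotientGroup.mk ((r : P)⁻¹ * β r)) fun a b => by
      rw [← QuotientGroup.mk_mul]
      congr 1
      show ((a : P) * b)⁻¹ * β ((a : P) * b) = (a : P)⁻¹ * β a * ((b : P)⁻¹ * β b)
      rw [mul_inv_rev, map_mul]
      have c1 : Commute (b : P)⁻¹ ((a : P)⁻¹ * β a) := by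
        refine Commute.inv_left ?_
        exact ((hab b.2) _ (mul_mem (inv_mem a.2) (hRinv _ a.2))).symm
      calc (b : P)⁻¹ * (a : P)⁻¹ * (β a * β b) = ((b : P)⁻¹ * ((a : P)⁻¹ * β a)) * β b := by group
        _ = (((a : P)⁻¹ * β a) * (b : P)⁻¹) * β b := by rw [c1.eq]
        _ = _ := by group
  have hker : g.ker = (center P).subgroupOf R := by
    ext r
    rw [MonoidHom.mem_ker, mem_subgroupOf]
    refine ⟨fun hr => key _ ((QuotientGroup.eq_one_iff _).mp hr), fun hr => ?_⟩
    refine (QuotientGroup.eq_one_iff _).mpr ?_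
    rw [hZ _ hr, inv_mul_cancel]
    exact one_mem _
  have hle : g.range ≤ R.map (QuotientGroup.mk' (center P)) := by
    rintro _ ⟨r, rfl⟩
    exact mem_map_of_mem (QuotientGroup.mk' (center P)) (mul_mem (inv_mem r.2) (hRinv _ r.2))
  have heq : g.range = R.map (QuotientGroup.mk' (center P)) := by
    refine eq_of_le_of_card_ge hle (le_of_eq ?_)
    rw [← relIndex_ker, QuotientGroup.ker_mk', ← index_ker g, hker]
    rfl
  obtain ⟨s, hs⟩ : QuotientGroup.mk' (center P) (u⁻¹ * β u)⁻¹ ∈ g.range :=
    heq ▸ mem_map_of_mem (QuotientGroup.mk' (center P)) (inv_mem hu)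
  have hz : (u⁻¹ * β u) * ((s : P)⁻¹ * β s) ∈ center P := by
    rw [← QuotientGroup.eq_one_iff, QuotientGroup.mk_mul]
    have hs' : (QuotientGroup.mk ((s : P)⁻¹ * β s) : P ⧸ center P) = QuotientGroup.mk' (center P) (u⁻¹ * β u)⁻¹ := hs
    rw [hs', map_inv]
    exact mul_inv_cancel _
  have hus : u * s ∈ center P := key _ (by
    have : (u * (s : P))⁻¹ * β (u * s) = (u⁻¹ * β u) * ((s : P)⁻¹ * β s) := by
      rw [map_mul]
      have c2 : Commute (s : P)⁻¹ (u⁻¹ * β u) := Commute.inv_left ((hab s.2) _ hu).symm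
      calc (u * (s : P))⁻¹ * (β u * β s) = ((s : P)⁻¹ * (u⁻¹ * β u)) * β s := by group
        _ = ((u⁻¹ * β u) * (s : P)⁻¹) * β s := by rw [c2.eq]
        _ = _ := by group
    rw [this]; exact hz)
  exact (R.mul_mem_cancel_right s.2).mp (hZR hus)

/-- The congruence for every invariant subgroup containing the centre. -/
theorem extraspecial_cyclic_action (h : Cfsg.IsExtraspecial p P) (α : MulAut P)
    (hcop : (orderOf α).Coprime p) (hZ : ∀ z ∈ center P, α z = z)
    (hfix : ∀ j, 0 < j → j < orderOf α → ∀ u, (α ^ j) u = u → u ∈ center P) :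
    ∀ (K : Subgroup P) (m : ℕ), center P ≤ K → (∀ k ∈ K, α k ∈ K) →
      Nat.card K = Nat.card ↥(K ⊓ centralizer (K : Set P)) * p ^ (2 * m) →
      (p : ZMod (orderOf α)) ^ m = 1 ∨ (p : ZMod (orderOf α)) ^ m = -1 := by
  classical
  have hp : p.Prime := Fact.out
  haveI : Finite (MulAut P) := Finite.of_injective (fun e : MulAut P => (e : P → P))
    fun a b h => MulEquiv.ext (congrFun h)
  set d := orderOf α with hd
  have hd0 : 0 < d := orderOf_pos α
  intro K
  induction hc : Nat.card K using Nat.strong_induction_on generalizing K with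
  | _ c ih =>
  intro m hZK hKinv hm
  subst hc
  set R := K ⊓ centralizer (K : Set P) with hR
  by_cases hRK : R = K
  · left
    have hm0 : m = 0 := by
      rw [hRK] at hm
      have h1 : p ^ (2 * m) = 1 := (Nat.mul_eq_left Nat.card_pos.ne').mp hm.symm
      by_contra hm0
      exact (Nat.one_lt_pow (by omega) hp.one_lt).ne' h1
    rw [hm0, pow_zero]
  have hRlt : R < K := lt_of_le_of_ne inf_le_left hRK
  have hcentinv : ∀ L : Subgroup P, (∀ l ∈ L, α l ∈ L) → ∀ x ∈ centralizer (L : Set P), α x ∈ centralizer (L : Set P) := by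
    intro L hL x hx l hl
    have hmap : L.map α.toMonoidHom = L := by
      refine eq_of_le_of_card_ge ?_ ?_
      · rintro _ ⟨y, hy, rfl⟩; exact hL y hy
      · exact le_of_eq (Nat.card_congr (equivMapOfInjective L _ α.injective).toEquiv)
    rw [SetLike.mem_coe, ← hmap] at hl
    obtain ⟨y, hy, rfl⟩ := hl
    show α y * α x = α x * α y
    rw [← map_mul, ← map_mul, hx y hy]
  have hRinv : ∀ r ∈ R, α r ∈ R := fun r hr => ⟨hKinv r hr.1, hcentinv K hKinv r hr.2⟩
  obtain ⟨W, hW⟩ := Set.exists_min_image
    {W : Subgroup P | R < W ∧ W ≤ K ∧ ∀ w ∈ W, α w ∈ W} (fun W => Nat.card W) (Set.toFinite _)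
    ⟨K, hRlt, le_rfl, hKinv⟩
  obtain ⟨⟨hRW, hWK, hWinv⟩, hWmin⟩ := hW
  have hZR : center P ≤ R := le_inf hZK (center_le_centralizer _)
  have hZW : center P ≤ W := hZR.trans hRW.le
  obtain ⟨hK1lt, hK1rad, hK1card⟩ := extraspecial_radical_step h hZW hRW hWK
  set K1 := K ⊓ centralizer (W : Set P) with hK1
  have hK1inv : ∀ k ∈ K1, α k ∈ K1 := fun k hk => ⟨hKinv k hk.1, hcentinv W hWinv k hk.2⟩
  have hZK1 : center P ≤ K1 := le_inf hZK (center_le_centralizer _)
  have hRab : R ≤ centralizer (R : Set P) :=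
    inf_le_right.trans (centralizer_le (by exact_mod_cast (inf_le_left : R ≤ K)))
  have hRCW : R ≤ centralizer (W : Set P) :=
    inf_le_right.trans (centralizer_le (by exact_mod_cast hWK))
  have hcomm : ∀ a b : P, ⁅a, b⁆ ∈ center P := Extraspecial.commutator_mem_center h
  -- the quotient `V = W / R`
  set R' := R.subgroupOf W with hR'
  haveI : R'.Normal := by
    haveI : R.Normal := Extraspecial.normal_of_center_le h hZR
    infer_instance
  letI : CommGroup (W ⧸ R') :=
    { (inferInstance : Group (W ⧸ R')) with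
      mul_comm := fun x y => by
        induction x using QuotientGroup.induction_on with
        | H x =>
          induction y using QuotientGroup.induction_on with
          | H y =>
            show QuotientGroup.mk' R' x * QuotientGroup.mk' R' y = QuotientGroup.mk' R' y * QuotientGroup.mk' R' x
            rw [← commutatorElement_eq_one_iff_mul_comm, ← map_commutatorElement]
            exact (QuotientGroup.eq_one_iff _).mpr (hZR (hcomm x y)) }
  haveI hVnt : Nontrivial (W ⧸ R') := by
    rw [QuotientGroup.nontrivial_iff, Ne, subgroupOf_eq_top]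
    exact hRW.not_ge
  have hVexp : ∀ v : W ⧸ R', v ^ p = 1 := by
    intro v
    induction v using QuotientGroup.induction_on with
    | H v =>
      rw [← QuotientGroup.mk_pow, QuotientGroup.eq_one_iff]
      exact hZR (Extraspecial.pow_mem_center h (v : P))
  have hWmap : W.map α.toMonoidHom = W := by
    refine eq_of_le_of_card_ge ?_ ?_
    · rintro _ ⟨y, hy, rfl⟩; exact hWinv y hy
    · exact le_of_eq (Nat.card_congr (equivMapOfInjective W _ α.injective).toEquiv)
  let αW : MulAut W := (α.subgroupMap W).trans (MulEquiv.subgroupCongr hWmap)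
  have hαW : ∀ w : W, (αW w : P) = α w := fun w => rfl
  have hR'map : R'.map αW.toMonoidHom = R' := by
    refine eq_of_le_of_card_ge ?_ ?_
    · rintro _ ⟨y, hy, rfl⟩; exact hRinv y hy
    · exact le_of_eq (Nat.card_congr (equivMapOfInjective R' _ αW.injective).toEquiv)
  let β : MulAut (W ⧸ R') := QuotientGroup.congr R' R' αW hR'map
  have hβ : ∀ w : W, β w = (αW w : W) := fun w => QuotientGroup.congr_mk R' R' αW hR'map w
  have hβpow : ∀ (j : ℕ) (w : W), (((αW ^ j) w : W) : P) = (α ^ j) w ∧
      (β ^ j) (w : W ⧸ R') = (((αW ^ j) w : W) : W ⧸ R') := by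
    intro j
    induction j with
    | zero => intro w; exact ⟨rfl, rfl⟩
    | succ j ihj =>
      intro w
      refine ⟨?_, ?_⟩
      · rw [pow_succ', pow_succ', MulAut.mul_apply, MulAut.mul_apply, hαW, (ihj w).1]
      · rw [pow_succ', pow_succ', MulAut.mul_apply, MulAut.mul_apply, (ihj w).2, hβ]
  have hzd : ∀ z ∈ center P, z ^ d = 1 → z = 1 := by
    intro z hz hzd
    have hzp : z ^ p = 1 := by
      have h1 : (⟨z, hz⟩ : center P) ^ Nat.card (center P) = 1 := pow_card_eq_one'
      rw [h.2] at h1
      exact congrArg Subtype.val h1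
    rw [← orderOf_eq_one_iff]
    exact Nat.eq_one_of_dvd_coprimes hcop (orderOf_dvd_of_pow_eq_one hzd) (orderOf_dvd_of_pow_eq_one hzp)
  have hordβ : orderOf β = d := by
    refine Nat.dvd_antisymm (orderOf_dvd_of_pow_eq_one (MulEquiv.ext fun v => ?_)) ?_
    · induction v using QuotientGroup.induction_on with
      | H v =>
        rw [(hβpow d v).2, MulAut.one_apply]
        congr 1
        apply Subtype.ext
        rw [(hβpow d v).1, hd, pow_orderOf_eq_one]; rfl
    · by_contra hnd
      set j := orderOf β % d with hj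
      have hjlt : j < d := Nat.mod_lt _ hd0
      have hj0 : 0 < j := Nat.pos_of_ne_zero fun h0 => hnd (Nat.dvd_of_mod_eq_zero h0)
      refine hRW.not_ge fun w hw => ?_
      have hβj : α ^ orderOf β = α ^ j := by rw [hj, hd, pow_mod_orderOf]
      have h1 := (hβpow (orderOf β) ⟨w, hw⟩).2
      rw [pow_orderOf_eq_one, MulAut.one_apply, QuotientGroup.eq] at h1
      have h2 : w⁻¹ * (α ^ j) w ∈ R := by
        have h3 : (((⟨w, hw⟩ : W)⁻¹ * (αW ^ orderOf β) ⟨w, hw⟩ : W) : P) ∈ R := h1
        rw [coe_mul, coe_inv, (hβpow (orderOf β) ⟨w, hw⟩).1, hβj] at h3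
        exact h3
      have hRj : ∀ r ∈ R, (α ^ j) r ∈ R := by
        intro r hr
        induction j with
        | zero => exact hr
        | succ i ihi => rw [pow_succ', MulAut.mul_apply]; exact hRinv _ ihi
      have hZj : ∀ z ∈ center P, (α ^ j) z = z := by
        intro z hz
        induction j with
        | zero => rfl
        | succ i ihi => rw [pow_succ', MulAut.mul_apply, ihi, hZ z hz]
      exact fixed_mod_abelian_mem hZj (hfix j hj0 hjlt)
        (by rw [← pow_mul, mul_comm, pow_mul, hd, pow_orderOf_eq_one, one_pow]) hzd hZR hRab hRj h2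
  have hirr : ∀ U : Subgroup (W ⧸ R'), (∀ u ∈ U, β u ∈ U) → U = ⊥ ∨ U = ⊤ := by
    intro U hU
    set W' := (U.comap (QuotientGroup.mk' R')).map W.subtype with hW'
    have hRW' : R ≤ W' := by
      intro r hr
      refine ⟨⟨r, hRW.le hr⟩, ?_, rfl⟩
      show QuotientGroup.mk' R' _ ∈ U
      rw [QuotientGroup.mk'_apply, (QuotientGroup.eq_one_iff _).mpr (show (⟨r, hRW.le hr⟩ : W) ∈ R' from hr)]
      exact one_mem U
    rcases hRW'.eq_or_lt with he | hlt
    · left
      rw [eq_bot_iff]
      intro u hu
      obtain ⟨w, rfl⟩ := QuotientGroup.mk_surjective u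
      have hw : (w : P) ∈ W' := ⟨w, hu, rfl⟩
      rw [← he] at hw
      exact mem_bot.mpr ((QuotientGroup.eq_one_iff w).mpr hw)
    · right
      have hinv : ∀ w ∈ W', α w ∈ W' := by
        rintro _ ⟨w, hw, rfl⟩
        refine ⟨αW w, ?_, rfl⟩
        show QuotientGroup.mk' R' (αW w) ∈ U
        rw [QuotientGroup.mk'_apply, ← hβ]
        exact hU _ hw
      have heq : W' = W := eq_of_le_of_card_ge (map_subtype_le _)
        (hWmin W' ⟨hlt, (map_subtype_le _).trans hWK, hinv⟩)
      rw [eq_top_iff]
      intro u _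
      obtain ⟨w, rfl⟩ := QuotientGroup.mk_surjective u
      have hw : (w : P) ∈ W' := heq.symm ▸ w.2
      obtain ⟨w', hw', he⟩ := hw
      rw [← Subtype.ext (a1 := w') (a2 := w) he]
      exact hw'
  letI : CommGroup (center P) :=
    { (inferInstance : Group (center P)) with
      mul_comm := fun a b => Subtype.ext (mem_center_iff.mp b.2 a) }
  obtain ⟨hdvd, hform⟩ := CyclicField.irreducible_action (Z := center P) (p := p) hVnt hVexp β hirr
  rw [hordβ] at hdvd
  have hVcard : Nat.card W = Nat.card (W ⧸ R') * Nat.card R := by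
    rw [card_eq_card_quotient_mul_card_subgroup R', Nat.card_congr (subgroupOfEquivOfLe hRW.le).toEquiv]
  have hcardlt : Nat.card K1 < Nat.card K :=
    lt_of_le_of_ne (card_le_of_le hK1lt.le) fun he => hK1lt.ne (eq_of_le_of_card_ge hK1lt.le he.ge)
  obtain ⟨m1, hm1⟩ := extraspecial_radical_even h K1 hZK1
  have hIH := ih _ hcardlt K1 rfl m1 hZK1 hK1inv hm1
  have hpos : 0 < Nat.card R := Nat.card_pos
  have hrad : W ⊓ centralizer (W : Set P) = W ∨ W ⊓ centralizer (W : Set P) = R := by
    rcases (le_inf hRW.le hRCW : R ≤ W ⊓ centralizer (W : Set P)).eq_or_lt with he | hlt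
    · exact Or.inr he.symm
    · exact Or.inl (eq_of_le_of_card_ge inf_le_left (hWmin _ ⟨hlt, inf_le_left.trans hWK,
        fun w hw => ⟨hWinv w hw.1, hcentinv W hWinv w hw.2⟩⟩))
  rw [hK1rad] at hm1
  rw [hm1] at hK1card
  rcases hrad with hab | hnd
  · -- the isotropic case
    obtain ⟨f, hf⟩ := IsPGroup.iff_card.mp
      (((Extraspecial.isPGroup h).to_subgroup W).to_quotient R')
    rw [hab, hm, hVcard, hf] at hK1card
    have hmeq : m = m1 + f := by
      have h1 : p ^ (2 * (m1 + f)) = p ^ (2 * m) := by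
        refine Nat.eq_of_mul_eq_mul_left (show 0 < Nat.card R * Nat.card R by positivity) ?_
        rw [show Nat.card R * Nat.card R * p ^ (2 * (m1 + f)) =
          p ^ f * Nat.card R * p ^ (2 * m1) * (p ^ f * Nat.card R) by ring, hK1card]
        ring
      have := Nat.pow_right_injective hp.two_le h1
      omega
    have h1 : (p : ZMod d) ^ f = 1 := by
      rw [hf, ← (ZMod.natCast_eq_zero_iff _ _), Nat.cast_sub (Nat.one_le_pow _ _ hp.pos),
        Nat.cast_pow, Nat.cast_one, sub_eq_zero] at hdvd
      exact hdvd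
    rw [hmeq, pow_add, h1, mul_one]
    exact hIH
  · -- the nondegenerate case
    obtain ⟨k, hk⟩ := extraspecial_radical_even h W hZW
    rw [hnd] at hk hK1card
    have hf : Nat.card (W ⧸ R') = p ^ (2 * k) := by
      rw [hVcard, mul_comm] at hk
      exact Nat.eq_of_mul_eq_mul_left hpos hk
    rw [hm, hk] at hK1card
    have hmeq : m = m1 + k := by
      have h1 : p ^ (2 * (m1 + k)) = p ^ (2 * m) := by
        refine Nat.eq_of_mul_eq_mul_left (show 0 < Nat.card R * Nat.card R by positivity) ?_
        rw [show Nat.card R * Nat.card R * p ^ (2 * (m1 + k)) =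
          Nat.card R * p ^ (2 * m1) * (Nat.card R * p ^ (2 * k)) by ring, hK1card]
        ring
      have := Nat.pow_right_injective hp.two_le h1
      omega
    let c : W ⧸ R' → W ⧸ R' → center P := fun x y =>
      ⟨⁅((x.out : W) : P), ((y.out : W) : P)⁆, hcomm _ _⟩
    have hrad1 : ∀ r ∈ R, ∀ w ∈ W, ⁅r, w⁆ = 1 := fun r hr w hw =>
      commutatorElement_eq_one_iff_mul_comm.mpr ((hRCW hr) w hw).symm
    have hcmk : ∀ u v : W, (c u v : P) = ⁅(u : P), (v : P)⁆ := by
      intro u v
      obtain ⟨r, hr⟩ := QuotientGroup.mk_out_eq_mul R' u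
      obtain ⟨s, hs⟩ := QuotientGroup.mk_out_eq_mul R' v
      show ⁅(((u : W ⧸ R').out : W) : P), (((v : W ⧸ R').out : W) : P)⁆ = _
      rw [hr, hs, coe_mul, coe_mul, commutator_mul_left_of_central (hcomm _ _),
        commutator_mul_right_of_central (hcomm _ _), commutator_mul_right_of_central (hcomm _ _),
        hrad1 ((r : W) : P) r.2 _ v.2, hrad1 ((r : W) : P) r.2 ((s : W) : P) (s : W).2,
        show ⁅(u : P), ((s : W) : P)⁆ = 1 by rw [← commutatorElement_inv, hrad1 ((s : W) : P) s.2 _ u.2, inv_one],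
        mul_one, mul_one, mul_one]
    have hc := hform k hf c ?_ ?_ ?_ ?_
    · have hk1 : (p : ZMod d) ^ k = 1 ∨ (p : ZMod d) ^ k = -1 := by
        rcases hc with h2 | h2
        · left
          have hd2 : d ∣ 2 := hordβ ▸ orderOf_dvd_of_pow_eq_one h2
          rcases (Nat.dvd_prime Nat.prime_two).mp hd2 with h1 | h1
          · haveI : Subsingleton (ZMod d) := by rw [h1]; exact inferInstanceAs (Subsingleton (Fin 1))
            exact Subsingleton.elim _ _
          · have hodd : Odd p := hp.odd_of_ne_two (by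
              rintro rfl
              rw [h1] at hcop
              norm_num at hcop)
            rw [h1, ← Nat.cast_pow, ZMod.natCast_eq_one_iff_odd]
            exact hodd.pow
        · right
          have hdvd' : d ∣ p ^ k + 1 := hordβ ▸ orderOf_dvd_of_pow_eq_one h2
          rw [← ZMod.natCast_eq_zero_iff, Nat.cast_add, Nat.cast_pow, Nat.cast_one] at hdvd'
          exact eq_neg_of_add_eq_zero_left hdvd'
      rw [hmeq, pow_add]
      rcases hk1 with h1 | h1 <;> rcases hIH with h2 | h2 <;> simp [h1, h2]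
    · intro a b e
      obtain ⟨a, rfl⟩ := QuotientGroup.mk_surjective a
      obtain ⟨b, rfl⟩ := QuotientGroup.mk_surjective b
      obtain ⟨e, rfl⟩ := QuotientGroup.mk_surjective e
      apply Subtype.ext
      rw [← QuotientGroup.mk_mul, coe_mul, hcmk, hcmk, hcmk, coe_mul,
        commutator_mul_left_of_central (hcomm _ _)]
    · intro a b
      apply Subtype.ext
      show ⁅((b.out : W) : P), ((a.out : W) : P)⁆ = ⁅((a.out : W) : P), ((b.out : W) : P)⁆⁻¹
      rw [commutatorElement_inv]
    · intro a ha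
      obtain ⟨a, rfl⟩ := QuotientGroup.mk_surjective a
      rw [QuotientGroup.eq_one_iff]
      show (a : P) ∈ R
      rw [← hnd]
      refine ⟨a.2, fun w hw => ?_⟩
      have h1 := congrArg Subtype.val (ha (QuotientGroup.mk ⟨w, hw⟩))
      rw [hcmk] at h1
      exact (commutatorElement_eq_one_iff_mul_comm.mp h1).symm
    · intro a b
      obtain ⟨a, rfl⟩ := QuotientGroup.mk_surjective a
      obtain ⟨b, rfl⟩ := QuotientGroup.mk_surjective b
      apply Subtype.ext
      rw [hβ, hβ, hcmk, hcmk, hαW, hαW, ← map_commutatorElement]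
      exact hZ _ (hcomm _ _)

end CfsgLib.PGroups
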