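import Cfsg.Prelude.Def_BaumannBlocks
import Cfsg.Agent.Lib.PGroups.Metacyclic
import Cfsg.Agent.Lib.PGroups.CentralizerDual
import Cfsg.Agent.Lib.PGroups.MaxAbelian

/-!
# Centralizers and subgroups of metacyclic p-groups, p odd
-/

set_option linter.unusedSectionVars false
set_option linter.style.haveILetI false

namespace CfsgLib.PGroups

open Subgroup
open scoped commutatorElement

variable {p : ℕ} [Fact p.Prime] {G : Type*} [Group G]

/-- The exponents `k` with `g ^ k ∈ H` form `p ^ τ ℤ` if `g ^ (p ^ c) ∈ H`. -/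
theorem exists_zpow_mem_iff {H : Subgroup G} {g : G} {c : ℕ} (h : g ^ p ^ c ∈ H) :
    ∃ τ ≤ c, ∀ k : ℤ, g ^ k ∈ H ↔ (p : ℤ) ^ τ ∣ k := by
  let T : AddSubgroup ℤ :=
    { carrier := {k | g ^ k ∈ H}
      zero_mem' := by simp
      add_mem' := fun {a b} (ha : g ^ a ∈ H) (hb : g ^ b ∈ H) => show g ^ (a + b) ∈ H by
        rw [zpow_add]; exact mul_mem ha hb
      neg_mem' := fun {a} (ha : g ^ a ∈ H) => show g ^ (-a) ∈ H by
        rw [zpow_neg]; exact inv_mem ha }
  obtain ⟨m, hm⟩ := Int.subgroup_cyclic T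
  have hiff : ∀ k : ℤ, g ^ k ∈ H ↔ m ∣ k := by
    intro k
    show k ∈ T ↔ _
    rw [hm, ← AddSubgroup.zmultiples_eq_closure, Int.mem_zmultiples_iff]
  have h1 : m.natAbs ∣ p ^ c := by
    rw [← Int.natCast_dvd_natCast, Int.natAbs_dvd, ← hiff, zpow_natCast]
    exact h
  obtain ⟨τ, hτ, hτm⟩ := (Nat.dvd_prime_pow (Fact.out : p.Prime)).mp h1
  refine ⟨τ, hτ, fun k => ?_⟩
  rw [hiff, ← Int.natAbs_dvd, hτm, Nat.cast_pow]

namespace MetaPres

variable {a b n : ℕ} {x y : G} {r : ℤ} (M : MetaPres p a b n x y r)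
include M

theorem zpowers_normal : (zpowers x).Normal := by
  constructor
  intro c hc g
  obtain ⟨k, rfl⟩ := Subgroup.mem_zpowers_iff.mp hc
  obtain ⟨i, j, rfl⟩ := M.mem g
  rw [mul_assoc (x ^ i), M.swap, ← mul_assoc, ← zpow_add, mul_inv_rev, ← mul_assoc,
    mul_inv_cancel_right, ← zpow_neg, ← zpow_add]
  exact zpow_mem (mem_zpowers x) _

theorem card_eq [Finite G] : Nat.card G = p ^ (a + b) := by
  haveI := M.zpowers_normal
  have hord : orderOf (y : G ⧸ zpowers x) = p ^ b := by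
    refine Nat.dvd_antisymm (orderOf_dvd_of_pow_eq_one ?_) ((M.y_mem _).mp ?_)
    · rw [← QuotientGroup.mk_pow, QuotientGroup.eq_one_iff]
      exact (M.y_mem _).mpr dvd_rfl
    · rw [← QuotientGroup.eq_one_iff, QuotientGroup.mk_pow, pow_orderOf_eq_one]
  have htop : zpowers (y : G ⧸ zpowers x) = ⊤ := by
    refine eq_top_iff.mpr fun q _ => ?_
    obtain ⟨g, rfl⟩ := QuotientGroup.mk_surjective q
    obtain ⟨i, j, rfl⟩ := M.mem g
    rw [QuotientGroup.mk_mul, (QuotientGroup.eq_one_iff _).mpr (zpow_mem (mem_zpowers x) i),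
      one_mul, QuotientGroup.mk_pow]
    exact pow_mem (mem_zpowers _) _
  have h2 : Nat.card (G ⧸ zpowers x) = p ^ b := by
    rw [← hord, ← Nat.card_zpowers, htop, Subgroup.card_top]
  rw [Subgroup.card_eq_card_quotient_mul_card_subgroup (zpowers x), h2, Nat.card_zpowers, M.ox,
    ← pow_add, add_comm b]

theorem orderOf_comm : orderOf (x ^ (r - 1)) = p ^ n := by
  apply Nat.dvd_antisymm
  · rw [← Int.natCast_dvd_natCast, orderOf_dvd_iff_zpow_eq_one, ← zpow_mul, mul_comm, M.comm_ord,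
      Nat.cast_pow]
  · rw [← Int.natCast_dvd_natCast, Nat.cast_pow, ← M.comm_ord, mul_comm, zpow_mul, zpow_natCast,
      pow_orderOf_eq_one]

theorem commutator_eq : commutator G = zpowers (x ^ (r - 1)) := by
  refine le_antisymm ?_ (zpowers_le.mpr ?_)
  · rw [commutator_eq_closure, Subgroup.closure_le]
    rintro _ ⟨g, h, rfl⟩
    obtain ⟨i, j, rfl⟩ := M.mem g
    obtain ⟨k, l, rfl⟩ := M.mem h
    rw [M.commutator_formula, mul_comm, zpow_mul]
    exact zpow_mem (mem_zpowers _) _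
  · have : ⁅y, x⁆ = x ^ (r - 1) := by rw [commutatorElement_def, M.conj, zpow_sub_one]
    exact this ▸ commutator_mem_commutator (mem_top y) (mem_top x)

theorem card_commutator : Nat.card (commutator G) = p ^ n := by
  rw [M.commutator_eq, Nat.card_zpowers, M.orderOf_comm]

theorem index_commutator [Finite G] : (commutator G).index = p ^ (a + b - n) := by
  have h := Subgroup.index_mul_card (commutator G)
  rw [M.card_commutator, M.card_eq,
    show a + b = (a + b - n) + n by have := M.n_le; omega, pow_add] at h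
  exact Nat.eq_of_mul_eq_mul_right (pow_pos (Fact.out : p.Prime).pos n) h

theorem index_center [Finite G] : (center G).index = p ^ (2 * n) := by
  rw [M.center_eq_level, M.index_level le_rfl]

theorem card_center [Finite G] : Nat.card (center G) * p ^ (2 * n) = p ^ (a + b) := by
  rw [← M.index_center, Subgroup.card_mul_index, M.card_eq]

theorem isMulCommutative_iff [Finite G] : IsMulCommutative G ↔ n = 0 := by
  rw [← commutator_eq_bot_iff, ← Subgroup.card_eq_one, M.card_commutator, Nat.pow_eq_one]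
  simp [(Fact.out : p.Prime).ne_one]

theorem card_mul_card_centralizer_le [Finite G] (hG : IsPGroup p G) {K L : Subgroup G} (hKL : K ≤ L) :
    Nat.card K * Nat.card (centralizer (K : Set G)) ≤
      Nat.card L * Nat.card (centralizer (L : Set G)) := by
  refine card_mul_centralizer_mono hG (W := zpowers ((x ^ (r - 1)) ^ p ^ (n - 1))) ?_ ?_ hKL
  · rw [Nat.card_zpowers]
    refine orderOf_le_of_pow_eq_one (Fact.out : p.Prime).pos ?_
    rw [← pow_mul, ← pow_succ, ← orderOf_dvd_iff_pow_eq_one, M.orderOf_comm]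
    exact pow_dvd_pow p (by omega)
  · intro c g hc
    obtain ⟨i, j, rfl⟩ := M.mem g
    obtain ⟨k, l, rfl⟩ := M.mem c
    obtain ⟨D, hD⟩ : ∃ D : ℤ, ⁅x ^ k * y ^ l, x ^ i * y ^ j⁆ = x ^ (D * (r - 1)) :=
      ⟨_, M.commutator_formula k i l j⟩
    have hconj : x ^ (D * (r - 1) + i) * y ^ j =
        (x ^ k * y ^ l) * (x ^ i * y ^ j) * (x ^ k * y ^ l)⁻¹ := by
      rw [zpow_add, mul_assoc, ← hD, commutatorElement_def]
      group
    have hpow : (x ^ (D * (r - 1) + i) * y ^ j) ^ p = (x ^ i * y ^ j) ^ p := by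
      rw [hconj, conj_pow, hc.eq, mul_inv_cancel_right]
    rw [M.pow_formula, M.pow_formula, mul_left_inj, ← mul_inv_eq_one, ← zpow_neg, ← zpow_add,
      show (D * (r - 1) + i) * geom (r ^ j) p + -(i * geom (r ^ j) p) =
        D * geom (r ^ j) p * (r - 1) by ring, M.comm_ord,
      pow_dvd_mul_geom_iff M.odd (dvd_sub_one_pow M.rmod j)] at hpow
    have hdvd : (p : ℤ) ^ (n - 1) ∣ D := by
      rcases Nat.eq_zero_or_pos n with hn | hn
      · simp [hn]
      rw [← Nat.sub_add_cancel hn, pow_succ] at hpow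
      exact (mul_dvd_mul_iff_right (Nat.cast_ne_zero.mpr (Fact.out : p.Prime).ne_zero)).mp hpow
    obtain ⟨q, rfl⟩ := hdvd
    refine Subgroup.mem_zpowers_iff.mpr ⟨q, ?_⟩
    rw [hD, ← zpow_natCast (x ^ (r - 1)), ← zpow_mul, ← zpow_mul, Nat.cast_pow]
    congr 1
    ring

theorem card_mul_card_centralizer [Finite G] (hG : IsPGroup p G) {K : Subgroup G}
    (hK : center G ≤ K) :
    Nat.card K * Nat.card (centralizer (K : Set G)) = Nat.card G * Nat.card (center G) := by
  have hZ : centralizer ((center G : Subgroup G) : Set G) = ⊤ := by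
    rw [eq_top_iff]
    intro g _ z hz
    exact (Subgroup.mem_center_iff.mp hz g).symm
  refine le_antisymm ?_ ?_
  · have h := M.card_mul_card_centralizer_le hG (le_top : K ≤ ⊤)
    rwa [Subgroup.coe_top, Subgroup.centralizer_univ, Subgroup.card_top] at h
  · have h := M.card_mul_card_centralizer_le hG hK
    rwa [hZ, Subgroup.card_top, mul_comm] at h

theorem centralizer_centralizer [Finite G] (hG : IsPGroup p G) {K : Subgroup G}
    (hK : center G ≤ K) : centralizer (centralizer (K : Set G) : Set G) = K := by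
  have e1 := M.card_mul_card_centralizer hG hK
  have e2 := M.card_mul_card_centralizer hG (center_le_centralizer (K : Set G))
  rw [← e1, mul_comm (Nat.card K)] at e2
  exact (Subgroup.eq_of_le_of_card_ge (fun k hk c hc => (hc k hk).symm)
    (Nat.eq_of_mul_eq_mul_left Nat.card_pos e2).le).symm

theorem pow_mem_center_iff (i : ℤ) (j t : ℕ) :
    (x ^ i * y ^ j) ^ p ^ t ∈ center G ↔ (p : ℤ) ^ (n - t) ∣ i ∧ p ^ (n - t) ∣ j := by
  have hp : p.Prime := Fact.out
  have hp0 : (p : ℤ) ≠ 0 := by exact_mod_cast hp.ne_zero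
  rw [M.pow_formula, M.mem_center_iff, pow_dvd_mul_geom_iff M.odd (dvd_sub_one_pow M.rmod j),
    Nat.cast_pow]
  rcases le_or_gt n t with h | h
  · simp [Nat.sub_eq_zero_of_le h, (pow_dvd_pow p h).mul_left, (pow_dvd_pow (p : ℤ) h).mul_left]
  rw [show (p : ℤ) ^ n = (p : ℤ) ^ (n - t) * (p : ℤ) ^ t by
      rw [← pow_add, Nat.sub_add_cancel h.le],
    show p ^ n = p ^ (n - t) * p ^ t by rw [← pow_add, Nat.sub_add_cancel h.le],
    mul_dvd_mul_iff_right (pow_ne_zero _ hp0), mul_dvd_mul_iff_right (pow_ne_zero _ hp.ne_zero)]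

theorem centralizer_sup_center (g : G) :
    centralizer ((center G ⊔ zpowers g : Subgroup G) : Set G) = centralizer ({g} : Set G) := by
  rw [centralizer_sup_zpowers]
  exact inf_eq_right.mpr fun c _ z hz => (Subgroup.mem_center_iff.mp hz c).symm

/-- The size of the class of g is the order of g modulo the centre. -/
theorem index_centralizer_eq [Finite G] (hG : IsPGroup p G) (g : G) :
    (centralizer ({g} : Set G)).index = orderOf (g : G ⧸ center G) := by
  have e := M.card_mul_card_centralizer hG (le_sup_left : center G ≤ center G ⊔ zpowers g)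
  rw [M.centralizer_sup_center, ← Subgroup.index_mul_card (centralizer ({g} : Set G)),
    ← Subgroup.relIndex_bot_left (center G ⊔ zpowers g),
    ← Subgroup.relIndex_mul_relIndex ⊥ (center G) _ bot_le le_sup_left,
    Subgroup.relIndex_bot_left] at e
  have e' : (center G).relIndex (center G ⊔ zpowers g) = (centralizer ({g} : Set G)).index := by
    refine Nat.eq_of_mul_eq_mul_left (n := Nat.card (center G) * Nat.card (centralizer ({g} : Set G)))
      (Nat.mul_pos Nat.card_pos Nat.card_pos) ?_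
    linear_combination e
  rw [← e', ← Nat.card_zpowers]
  conv_lhs => rw [← QuotientGroup.ker_mk' (center G)]
  rw [Subgroup.relIndex_ker, Subgroup.map_sup, QuotientGroup.ker_mk', QuotientGroup.map_mk'_self,
    bot_sup_eq, MonoidHom.map_zpowers]
  rfl

theorem index_centralizer_le_iff [Finite G] (hG : IsPGroup p G) (g : G) (t : ℕ) :
    (centralizer ({g} : Set G)).index ≤ p ^ t ↔ g ∈ metaLevel p x y (n - t) := by
  have hp : p.Prime := Fact.out
  rw [M.index_centralizer_eq hG]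
  obtain ⟨d, hd⟩ := IsPGroup.iff_orderOf.mp (hG.to_quotient (center G)) (g : G ⧸ center G)
  rw [hd, Nat.pow_le_pow_iff_right hp.one_lt, ← Nat.pow_dvd_pow_iff_le_right hp.one_lt, ← hd,
    orderOf_dvd_iff_pow_eq_one, ← QuotientGroup.mk_pow, QuotientGroup.eq_one_iff]
  obtain ⟨i, j, rfl⟩ := M.mem g
  rw [M.pow_mem_center_iff, M.rep_mem_level_iff (Nat.sub_le n t)]

theorem card_level [Finite G] {s : ℕ} (hs : s ≤ n) :
    Nat.card (metaLevel p x y s) = Nat.card (center G) * p ^ (2 * (n - s)) := by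
  refine Nat.eq_of_mul_eq_mul_right (pow_pos (Fact.out : p.Prime).pos (2 * s)) ?_
  rw [mul_assoc, ← pow_add, show 2 * (n - s) + 2 * s = 2 * n by omega, M.card_center, ← M.card_eq,
    ← M.index_level hs, Subgroup.card_mul_index]

theorem closure_pow_eq_level [Finite G] {s : ℕ} :
    Subgroup.closure {g : G | ∃ h : G, h ^ p ^ s = g} = metaLevel p x y s := by
  apply le_antisymm
  · rw [Subgroup.closure_le]
    rintro _ ⟨h, rfl⟩
    obtain ⟨i, j, rfl⟩ := M.mem h
    refine M.mem_level.mpr ⟨_, _, M.pow_formula i j _, ?_, dvd_mul_left _ _⟩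
    exact ((pow_dvd_geom_iff M.odd (dvd_sub_one_pow M.rmod j) s _).mpr dvd_rfl).mul_left i
  · intro g hg
    obtain ⟨i, j, rfl, ⟨k, rfl⟩, ⟨l, rfl⟩⟩ := M.mem_level.mp hg
    refine mul_mem (Subgroup.subset_closure ⟨x ^ k, ?_⟩) (Subgroup.subset_closure ⟨y ^ l, ?_⟩)
    · rw [← zpow_natCast (x ^ k), ← zpow_mul, Nat.cast_pow, mul_comm]
    · rw [← pow_mul, mul_comm]

theorem frattini_eq_level [Finite G] (hG : IsPGroup p G) :
    frattini G = metaLevel p x y 1 := by
  have hc : commutator G ≤ metaLevel p x y 1 := by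
    rw [M.commutator_eq, zpowers_le]
    exact M.mem_level.mpr ⟨r - 1, 0, by simp, by simpa using M.rmod, dvd_zero _⟩
  haveI := Subgroup.Normal.of_commutator_le G hc
  refine le_antisymm (frattini_le_of_elementary_quotient (p := p) hc fun g => ?_) ?_
  · rw [← M.closure_pow_eq_level]
    exact Subgroup.subset_closure ⟨g, by rw [pow_one]⟩
  · rw [← M.closure_pow_eq_level, Subgroup.closure_le]
    rintro _ ⟨h, rfl⟩
    rw [pow_one]
    exact pow_mem_frattini hG h

/-- A subgroup inherits a presentation. -/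
theorem exists_subgroup_metaPres [Finite G] (L : Subgroup G) :
    ∃ τ σ : ℕ, τ ≤ a ∧ σ ≤ b ∧
      ∃ (x' y' : L) (r' : ℤ), MetaPres p (a - τ) (b - σ) (n - (τ + σ)) x' y' r' := by
  have hp : p.Prime := Fact.out
  have hp0 : (p : ℤ) ≠ 0 := by exact_mod_cast hp.ne_zero
  obtain ⟨τ, hτ, hτiff⟩ := exists_zpow_mem_iff (p := p) (H := L) (g := x) (c := a)
    (by rw [← M.ox, pow_orderOf_eq_one]; exact one_mem L)
  haveI := M.zpowers_normal
  obtain ⟨σ, hσ, hσiff⟩ := exists_zpow_mem_iff (p := p)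
    (H := L.map (QuotientGroup.mk' (zpowers x))) (g := (y : G ⧸ zpowers x)) (c := b)
    (by rw [← QuotientGroup.mk_pow, (QuotientGroup.eq_one_iff _).mpr ((M.y_mem _).mpr dvd_rfl)]
        exact one_mem _)
  obtain ⟨w, hwL, hw⟩ := Subgroup.mem_map.mp ((hσiff ((p ^ σ : ℕ) : ℤ)).mpr (by simp))
  rw [zpow_natCast, ← QuotientGroup.mk_pow, QuotientGroup.mk'_apply, eq_comm,
    QuotientGroup.eq_iff_div_mem, div_eq_mul_inv] at hw
  obtain ⟨e, he⟩ := Subgroup.mem_zpowers_iff.mp hw
  have hy' : x ^ (-e) * y ^ p ^ σ ∈ L := by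
    rw [zpow_neg, he, mul_inv_rev, inv_inv, inv_mul_cancel_right]
    exact hwL
  have hx' : x ^ ((p : ℤ) ^ τ) ∈ L := (hτiff _).mpr dvd_rfl
  refine ⟨τ, σ, hτ, hσ, ⟨_, hx'⟩, ⟨_, hy'⟩, r ^ p ^ σ, M.odd, ?_, ?_, ?_, ?_, ?_, ?_, ?_⟩
  · rw [← Subgroup.orderOf_coe]
    show orderOf (x ^ ((p : ℤ) ^ τ)) = _
    rw [← Nat.cast_pow, zpow_natCast, orderOf_pow_of_dvd (pow_ne_zero _ hp.ne_zero)
      (M.ox ▸ pow_dvd_pow p hτ), M.ox, Nat.pow_div hτ hp.pos]
  · have := M.n_le; omega
  · apply Subtype.ext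
    push_cast
    rw [mul_assoc (x ^ (-e)), M.swap, ← mul_assoc, ← zpow_add, mul_inv_rev, ← mul_assoc,
      mul_inv_cancel_right, ← zpow_neg, ← zpow_add, ← zpow_mul]
    congr 1
    ring
  · exact dvd_sub_one_pow M.rmod _
  · intro k
    rw [← Subtype.coe_inj]
    push_cast
    rw [← zpow_mul, ← geom_mul_sub_one, show (p : ℤ) ^ τ * (k * (geom r (p ^ σ) * (r - 1))) =
      (p : ℤ) ^ τ * k * geom r (p ^ σ) * (r - 1) by ring, M.comm_ord,
      pow_dvd_mul_geom_iff M.odd M.rmod, Nat.cast_pow, mul_right_comm, ← pow_add]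
    rcases le_or_gt n (τ + σ) with h | h
    · simp [Nat.sub_eq_zero_of_le h, (pow_dvd_pow (p : ℤ) h).mul_right]
    conv_lhs => rw [show (p : ℤ) ^ n = (p : ℤ) ^ (τ + σ) * (p : ℤ) ^ (n - (τ + σ)) by
      rw [← pow_add]; congr 1; omega]
    rw [mul_dvd_mul_iff_left (pow_ne_zero _ hp0)]
  · rintro ⟨g, hg⟩
    obtain ⟨i, j, rfl⟩ := M.mem g
    have hj : (p : ℤ) ^ σ ∣ (j : ℤ) := (hσiff _).mp (Subgroup.mem_map.mpr ⟨_, hg, by
      rw [QuotientGroup.mk'_apply, QuotientGroup.mk_mul,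
        (QuotientGroup.eq_one_iff _).mpr (zpow_mem (mem_zpowers x) i), one_mul, zpow_natCast,
        QuotientGroup.mk_pow]⟩)
    obtain ⟨q, rfl⟩ : p ^ σ ∣ j := by exact_mod_cast hj
    have h1 : x ^ (i - -e * geom (r ^ p ^ σ) q) ∈ L := by
      have := mul_mem hg (inv_mem (pow_mem hy' q))
      rwa [M.pow_formula, mul_inv_rev, mul_assoc, ← mul_assoc (y ^ _), mul_inv_cancel, one_mul,
        ← zpow_neg, ← zpow_add, ← sub_eq_add_neg] at this
    obtain ⟨k, hk⟩ := (hτiff _).mp h1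
    refine ⟨k, q, Subtype.ext ?_⟩
    push_cast
    rw [M.pow_formula, ← zpow_mul, ← hk, ← mul_assoc, ← zpow_add, sub_add_cancel]
  · intro q
    have key : (⟨_, hy'⟩ : L) ^ q ∈ zpowers (⟨_, hx'⟩ : L) ↔ y ^ (p ^ σ * q) ∈ zpowers x := by
      constructor
      · intro h
        obtain ⟨k, hk⟩ := Subgroup.mem_zpowers_iff.mp h
        have hk' := congrArg Subtype.val hk
        push_cast at hk'
        rw [M.pow_formula, ← zpow_mul] at hk'
        rw [← inv_mul_cancel_left (x ^ (-e * geom (r ^ p ^ σ) q)) (y ^ (p ^ σ * q)), ← hk']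
        exact mul_mem (inv_mem (zpow_mem (mem_zpowers x) _)) (zpow_mem (mem_zpowers x) _)
      · intro h
        have hm : ((⟨_, hy'⟩ : L) ^ q : L).val ∈ zpowers x := by
          push_cast
          rw [M.pow_formula]
          exact mul_mem (zpow_mem (mem_zpowers x) _) h
        obtain ⟨k, hk⟩ := Subgroup.mem_zpowers_iff.mp hm
        have hkL : x ^ k ∈ L := hk ▸ SetLike.coe_mem _
        obtain ⟨m, rfl⟩ := (hτiff k).mp hkL
        refine Subgroup.mem_zpowers_iff.mpr ⟨m, Subtype.ext ?_⟩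
        rw [← hk, zpow_mul]
        rfl
    rw [key, M.y_mem]
    conv_lhs => rw [show p ^ b = p ^ σ * p ^ (b - σ) by
      rw [← pow_add, Nat.add_sub_cancel' hσ]]
    rw [Nat.mul_dvd_mul_iff_left (pow_pos hp.pos σ)]

theorem isMulCommutative_subgroup_iff [Finite G] (L : Subgroup G) :
    IsMulCommutative L ↔ Nat.card L ≤ (commutator G).index := by
  obtain ⟨τ, σ, hτ, hσ, x', y', r', M'⟩ := M.exists_subgroup_metaPres L
  have := M.n_le
  have := M.n_le_b
  rw [M'.isMulCommutative_iff, M'.card_eq, M.index_commutator,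
    Nat.pow_le_pow_iff_right (Fact.out : p.Prime).one_lt]
  omega

theorem card_mul_card_center_of_not_comm [Finite G] (L : Subgroup G)
    (hL : ¬ IsMulCommutative L) :
    Nat.card L * Nat.card (center L) = (commutator G).index ^ 2 := by
  obtain ⟨τ, σ, hτ, hσ, x', y', r', M'⟩ := M.exists_subgroup_metaPres L
  have := M.n_le
  have := M.n_le_b
  rw [M'.isMulCommutative_iff] at hL
  refine Nat.eq_of_mul_eq_mul_right
    (pow_pos (Fact.out : p.Prime).pos (2 * (n - (τ + σ)))) ?_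
  rw [mul_assoc, M'.card_center, M'.card_eq, M.index_commutator, ← pow_mul, ← pow_add, ← pow_add]
  congr 1
  omega

theorem maximal_isMulCommutative_iff [Finite G] (hG : IsPGroup p G) (L : Subgroup G) :
    Maximal (fun K : Subgroup G => IsMulCommutative K) L ↔
      Nat.card L = (commutator G).index := by
  constructor
  · intro hL
    have hLC : centralizer (L : Set G) = L := by
      refine le_antisymm (fun c hc => ?_) ((isMulCommutative_iff_le_centralizer L).mp hL.1)
      exact hL.2 (isMulCommutative_sup_zpowers hL.1 hc) le_sup_left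
        (le_sup_right (a := L) (mem_zpowers c))
    have hZ : center G ≤ L := hLC ▸ center_le_centralizer _
    have e := M.card_mul_card_centralizer hG hZ
    rw [hLC] at e
    have hn := M.n_le
    have h2 : Nat.card (center G) = p ^ (a + b - 2 * n) ∧ 2 * n ≤ a + b := by
      have hb := M.n_le_b
      refine ⟨Nat.eq_of_mul_eq_mul_right (pow_pos (Fact.out : p.Prime).pos (2 * n)) ?_, by omega⟩
      rw [M.card_center, ← pow_add]; congr 1; omega
    rw [h2.1, M.card_eq, ← pow_add, show a + b + (a + b - 2 * n) = (a + b - n) + (a + b - n) by omega,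
      pow_add, ← M.index_commutator, ← pow_two, ← pow_two] at e
    exact Nat.pow_left_injective two_ne_zero e
  · intro hL
    refine ⟨(M.isMulCommutative_subgroup_iff L).mpr hL.le, fun K hK hLK => ?_⟩
    exact (Subgroup.eq_of_le_of_card_ge hLK (hL ▸ (M.isMulCommutative_subgroup_iff K).mp hK)).ge

/-- A metacyclic p-group, p odd, is the product of two cyclic subgroups meeting trivially. -/
theorem exists_factorization [Finite G] :
    ∃ g h : G, zpowers g ⊓ zpowers h = ⊥ ∧ orderOf g * orderOf h = Nat.card G := by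
  have hp : p.Prime := Fact.out
  obtain ⟨e, he⟩ := Subgroup.mem_zpowers_iff.mp ((M.y_mem (p ^ b)).mpr dvd_rfl)
  obtain ⟨v, hv, hviff⟩ := exists_zpow_mem_iff (p := p) (H := zpowers (x ^ e)) (g := x) (c := a)
    (by rw [← M.ox, pow_orderOf_eq_one]; exact one_mem _)
  -- e = p^v * u and x^(p^v) is a power of x^e
  obtain ⟨u, hu⟩ := (hviff e).mp (mem_zpowers _)
  obtain ⟨w, hw⟩ := Subgroup.mem_zpowers_iff.mp ((hviff _).mpr (dvd_refl ((p : ℤ) ^ v)))
  have hpvw : ∀ q : ℕ, x ^ (e * q) = 1 ↔ p ^ (a - v) ∣ q := by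
    intro q
    rw [← Int.natCast_dvd_natCast, Nat.cast_pow]
    have hsplit : (p : ℤ) ^ a = (p : ℤ) ^ v * (p : ℤ) ^ (a - v) := by
      rw [← pow_add, Nat.add_sub_cancel' hv]
    constructor
    · intro h
      have : x ^ ((p : ℤ) ^ v * q) = 1 := by
        rw [zpow_mul, ← hw, ← zpow_mul, ← zpow_mul, show e * (w * (q : ℤ)) = e * q * w by ring,
          zpow_mul, h, one_zpow]
      rw [M.zpow_eq_one_iff, hsplit] at this
      exact (mul_dvd_mul_iff_left (pow_ne_zero _ (by exact_mod_cast hp.ne_zero))).mp this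
    · intro h
      rw [M.zpow_eq_one_iff, hu, hsplit, mul_assoc]
      exact mul_dvd_mul_left _ (h.mul_left u)
  have hordy : orderOf y = p ^ (b + (a - v)) := by
    apply Nat.dvd_antisymm
    · rw [orderOf_dvd_iff_pow_eq_one, pow_add, pow_mul, ← he, ← zpow_natCast, ← zpow_mul]
      exact (hpvw _).mpr dvd_rfl
    · obtain ⟨q, hq⟩ := (M.y_mem (orderOf y)).mp (by rw [pow_orderOf_eq_one]; exact one_mem _)
      rw [hq, pow_add]
      refine mul_dvd_mul_left _ ((hpvw q).mp ?_)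
      rw [zpow_mul, he, zpow_natCast, ← pow_mul, ← hq, pow_orderOf_eq_one]
  -- a unit inverse
  have hsolve : ∀ (j m : ℕ), ∃ i : ℤ, x ^ (i * geom (r ^ j) (p ^ m) + (p : ℤ) ^ m * u) = 1 := by
    intro j m
    obtain ⟨c, hc⟩ := (pow_dvd_geom_iff M.odd (dvd_sub_one_pow M.rmod j) m (p ^ m)).mpr dvd_rfl
    have hnc : ¬ (p : ℤ) ∣ c := by
      rintro ⟨t, rfl⟩
      have h1 := (pow_dvd_geom_iff M.odd (dvd_sub_one_pow M.rmod j) (m + 1) (p ^ m)).mp
        ⟨t, by rw [hc, pow_succ]; ring⟩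
      exact absurd (Nat.le_of_dvd (pow_pos hp.pos m) h1)
        (not_le.mpr (Nat.pow_lt_pow_right hp.one_lt m.lt_succ_self))
    obtain ⟨s, t, hst⟩ : IsCoprime c ((p : ℤ) ^ a) :=
      ((Nat.prime_iff_prime_int.mp hp).coprime_iff_not_dvd.mpr hnc).symm.pow_right
    refine ⟨-(u * s), (M.zpow_eq_one_iff _).mpr ⟨(p : ℤ) ^ m * u * t, ?_⟩⟩
    linear_combination -(u * s) * hc - (p : ℤ) ^ m * u * hst
  have hnat : ∀ {g c : G}, c ∈ zpowers g → ∃ q : ℕ, g ^ q = c :=
    fun hc => mem_powers_iff_mem_zpowers.mpr hc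
  by_cases hcase : b ≤ v ∨ v = a
  · -- complement to zpowers x
    obtain ⟨i₀, hi₀⟩ : ∃ i₀ : ℤ, (x ^ i₀ * y) ^ p ^ b = 1 := by
      rcases hcase with hbv | hva
      · obtain ⟨i, hi⟩ := hsolve 1 b
        refine ⟨(p : ℤ) ^ (v - b) * i, ?_⟩
        have h1 := M.pow_formula ((p : ℤ) ^ (v - b) * i) 1 (p ^ b)
        rw [pow_one y, one_mul] at h1
        rw [h1, ← he, ← zpow_add, hu, show (p : ℤ) ^ v = (p : ℤ) ^ b * (p : ℤ) ^ (v - b) by
          rw [← pow_add, Nat.add_sub_cancel' hbv],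
          show (p : ℤ) ^ (v - b) * i * geom (r ^ 1) (p ^ b) + (p : ℤ) ^ b * (p : ℤ) ^ (v - b) * u =
            (i * geom (r ^ 1) (p ^ b) + (p : ℤ) ^ b * u) * (p : ℤ) ^ (v - b) by ring,
          zpow_mul, hi, one_zpow]
      · refine ⟨0, ?_⟩
        rw [zpow_zero, one_mul, ← he, M.zpow_eq_one_iff, hu, hva]
        exact dvd_mul_right _ _
    have hmem : ∀ q : ℕ, (x ^ i₀ * y) ^ q ∈ zpowers x → p ^ b ∣ q := by
      intro q hq
      have h1 := M.pow_formula i₀ 1 q
      rw [pow_one y, one_mul] at h1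
      rw [h1, (zpowers x).mul_mem_cancel_left (zpow_mem (mem_zpowers x) _)] at hq
      exact (M.y_mem q).mp hq
    have hord : orderOf (x ^ i₀ * y) = p ^ b := Nat.dvd_antisymm
      (orderOf_dvd_of_pow_eq_one hi₀) (hmem _ (by rw [pow_orderOf_eq_one]; exact one_mem _))
    refine ⟨x, x ^ i₀ * y, ?_, by rw [M.ox, hord, M.card_eq, pow_add]⟩
    rw [eq_bot_iff]
    rintro c ⟨hc1, hc2⟩
    obtain ⟨q, rfl⟩ := hnat hc2
    obtain ⟨t, rfl⟩ := hmem q hc1
    rw [Subgroup.mem_bot, pow_mul, hi₀, one_pow]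
  · obtain ⟨hbv, hva⟩ : v < b ∧ v < a := by omega
    obtain ⟨i, hi⟩ := hsolve (p ^ (b - v)) v
    set z := x ^ i * y ^ p ^ (b - v) with hz
    have hsplit : p ^ (b - v) * p ^ v = p ^ b := by rw [← pow_add, Nat.sub_add_cancel hbv.le]
    have hzpow : z ^ p ^ v = 1 := by
      rw [hz, M.pow_formula, hsplit, ← he, ← zpow_add, hu]
      exact hi
    have hu' : ¬ (p : ℤ) ∣ u := by
      rintro ⟨u', rfl⟩
      have h2 : x ^ (e * w - (p : ℤ) ^ v) = 1 := by
        rw [zpow_sub, zpow_mul, hw, mul_inv_cancel]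
      rw [M.zpow_eq_one_iff] at h2
      have h3 : (p : ℤ) ^ (v + 1) ∣ (p : ℤ) ^ v := by
        have h4 : (p : ℤ) ^ (v + 1) ∣ e * w := ⟨u' * w, by rw [hu]; ring⟩
        have := dvd_sub h4 ((pow_dvd_pow (p : ℤ) hva).trans h2)
        rwa [sub_sub_cancel] at this
      have h5 : p ^ (v + 1) ∣ p ^ v := by exact_mod_cast h3
      exact absurd ((Nat.pow_dvd_pow_iff_le_right hp.one_lt).mp h5) (by omega)
    have hi' : ¬ (p : ℤ) ∣ i := by
      intro hdi
      obtain ⟨c, hc⟩ := (pow_dvd_geom_iff M.odd (dvd_sub_one_pow M.rmod (p ^ (b - v))) v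
        (p ^ v)).mpr dvd_rfl
      rw [M.zpow_eq_one_iff, hc] at hi
      have h1 := (pow_dvd_pow (p : ℤ) (show v + 1 ≤ a by omega)).trans hi
      rw [show i * ((p : ℤ) ^ v * c) + (p : ℤ) ^ v * u = (p : ℤ) ^ v * (i * c + u) by ring,
        pow_succ] at h1
      have h2 := (mul_dvd_mul_iff_left (pow_ne_zero _ (by exact_mod_cast hp.ne_zero))).mp h1
      exact hu' ((dvd_add_right (hdi.mul_right c)).mp h2)
    have hmem : ∀ q : ℕ, z ^ q ∈ zpowers y → p ^ v ∣ q := by
      intro q hq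
      obtain ⟨m, hm⟩ := Subgroup.mem_zpowers_iff.mp hq
      rw [hz, M.pow_formula, ← zpow_natCast y, ← mul_inv_eq_iff_eq_mul, ← zpow_sub] at hm
      obtain ⟨t, ht⟩ := M.y_zpow_mem (hm.symm ▸ zpow_mem (mem_zpowers x) _)
      have h1 : x ^ (i * geom (r ^ p ^ (b - v)) q) ∈ zpowers (x ^ e) := by
        rw [← hm, ht, zpow_mul, ← Nat.cast_pow, zpow_natCast, ← he]
        exact zpow_mem (mem_zpowers _) _
      have h2 := (hviff _).mp h1
      have h3 : (p : ℤ) ^ v ∣ geom (r ^ p ^ (b - v)) q :=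
        (((Nat.prime_iff_prime_int.mp hp).coprime_iff_not_dvd.mpr hi').pow_left).dvd_of_dvd_mul_left h2
      exact (pow_dvd_geom_iff M.odd (dvd_sub_one_pow M.rmod _) v q).mp h3
    have hord : orderOf z = p ^ v := Nat.dvd_antisymm (orderOf_dvd_of_pow_eq_one hzpow)
      (hmem _ (by rw [pow_orderOf_eq_one]; exact one_mem _))
    refine ⟨y, z, ?_, ?_⟩
    · rw [eq_bot_iff]
      rintro c ⟨hc1, hc2⟩
      obtain ⟨q, rfl⟩ := hnat hc2
      obtain ⟨t, rfl⟩ := hmem q hc1
      rw [Subgroup.mem_bot, pow_mul, hzpow, one_pow]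
    · rw [hordy, hord, M.card_eq, ← pow_add]
      congr 1
      omega

end MetaPres

end CfsgLib.PGroups
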