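import Mathlib
import Cfsg.Prelude
import Cfsg.Agent.Lib.PGroups.Omega
import Cfsg.Agent.Lib.Base.Rank

/-!
# An elementary abelian subgroup of order `p^4` forces a normal one, `p` odd

Let `V` be maximal normal elementary abelian of order at most `p^3`. It has order `p^3`, every
elementary abelian `A` of order `p^4` meets it in its `G`-invariant plane `P₂` and induces on it all
transvections with axis `P₂`. Two such subgroups that normalise one another coincide.
-/

set_option autoImplicit false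
set_option linter.unusedSectionVars false

namespace CfsgLib.PGroups.NormalRankFour

open Cfsg Subgroup
open scoped commutatorElement

universe u

variable {G : Type u} [Group G] [Finite G] {p : ℕ} [Fact p.Prime]

theorem sup_zpowers_eq {N M : Subgroup G} (hNM : N ≤ M) (h : Nat.card M = Nat.card N * p) {u : G}
    (hu : u ∈ M) (hu' : u ∉ N) : N ⊔ zpowers u = M := by
  have hle : N ⊔ zpowers u ≤ M := sup_le hNM (zpowers_le.2 hu)
  refine eq_of_le_of_card_ge hle ?_
  obtain ⟨t, ht⟩ := card_dvd_of_le (le_sup_left : N ≤ N ⊔ zpowers u)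
  have h1 : t ∣ p := Nat.dvd_of_mul_dvd_mul_left Nat.card_pos (h ▸ ht ▸ card_dvd_of_le hle)
  rcases (Nat.dvd_prime Fact.out).1 h1 with rfl | rfl
  · rw [mul_one] at ht
    exact absurd ((eq_of_le_of_card_ge le_sup_left ht.le).symm ▸
      mem_sup_right (mem_zpowers u) : u ∈ N) hu'
  · rw [ht, h]

/-- A normal chain step of index `p` is central modulo the smaller term. -/
theorem commutator_mem_of_step (hG : IsPGroup p G) {N M : Subgroup G} [N.Normal] [M.Normal]
    (hNM : N ≤ M) (h : Nat.card M = Nat.card N * p) (g : G) {v : G} (hv : v ∈ M) : ⁅g, v⁆ ∈ N := by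
  set π := QuotientGroup.mk' N
  haveI hQn : (M.map π).Normal :=
    Subgroup.Normal.map inferInstance π (QuotientGroup.mk'_surjective _)
  have hcard : Nat.card (M.map π) = p := by
    have h1 := Subgroup.relIndex_ker M π
    rw [QuotientGroup.ker_mk'] at h1
    have h2 := relIndex_mul_relIndex ⊥ N M bot_le hNM
    rw [relIndex_bot_left, relIndex_bot_left, h1, h] at h2
    exact Nat.eq_of_mul_eq_mul_left Nat.card_pos h2
  have hne : M.map π ≠ ⊥ := fun h0 => (Fact.out : p.Prime).ne_one (by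
    rw [← hcard, h0, Subgroup.card_bot])
  have hle : M.map π ≤ center _ := by
    have h1 := inf_center_ne_bot (hG.to_quotient N) hne
    have h2 := card_dvd_of_le (inf_le_left : M.map π ⊓ center (G ⧸ N) ≤ M.map π)
    rw [hcard] at h2
    rcases (Nat.dvd_prime Fact.out).1 h2 with h3 | h3
    · exact absurd (Subgroup.card_eq_one.1 h3) h1
    · exact (eq_of_le_of_card_ge inf_le_left (hcard.trans h3.symm).le) ▸ inf_le_right
  rw [← QuotientGroup.eq_one_iff]
  show π ⁅g, v⁆ = 1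
  rw [map_commutatorElement]
  exact commutatorElement_eq_one_iff_commute.2
    (Subgroup.mem_center_iff.1 (hle (mem_map_of_mem π hv)) (π g))

/-- The configuration: `V` normal elementary of order `p^3`, containing all elements of order `p`
of its centralizer, with a normal flag `P₁ < P₂ < V`. -/
structure Frame (p : ℕ) (V P₂ P₁ : Subgroup G) (v₃ v₂ : G) : Prop where
  pgroup : IsPGroup p G
  vn : V.Normal
  n₂ : P₂.Normal
  n₁ : P₁.Normal
  elem : IsElementaryAbelian p V
  omega : ∀ x : G, x ∈ centralizer (V : Set G) → x ^ p = 1 → x ∈ V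
  cV : Nat.card V = p ^ 3
  c₂ : Nat.card P₂ = p ^ 2
  c₁ : Nat.card P₁ = p
  le₂ : P₂ ≤ V
  le₁ : P₁ ≤ P₂
  mem₃ : v₃ ∈ V
  not₃ : v₃ ∉ P₂
  mem₂ : v₂ ∈ P₂
  not₂ : v₂ ∉ P₁

variable {V P₂ P₁ : Subgroup G} {v₃ v₂ : G}

theorem centralizes_of_sup {N M : Subgroup G} {u x : G} (h : N ⊔ zpowers u = M)
    (hN : ∀ n ∈ N, Commute x n) (hu : Commute x u) : ∀ m ∈ M, Commute x m := by
  have hle : M ≤ centralizer ({x} : Set G) := h ▸ sup_le
    (fun n hn => mem_centralizer_singleton_iff.2 (hN n hn).symm.eq)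
    (zpowers_le.2 (mem_centralizer_singleton_iff.2 hu.symm.eq))
  exact fun m hm => (mem_centralizer_singleton_iff.1 (hle hm) : Commute m x).symm

theorem mem_centralizer_V (F : Frame p V P₂ P₁ v₃ v₂) {x : G} (h₂ : ∀ n ∈ P₂, Commute x n)
    (h₃ : Commute x v₃) : x ∈ centralizer (V : Set G) := by
  have hsup := sup_zpowers_eq (p := p) F.le₂ (by rw [F.cV, F.c₂, ← pow_succ]) F.mem₃ F.not₃
  exact mem_centralizer_iff.2 fun v hv => (centralizes_of_sup hsup h₂ h₃ v hv).symm.eq

theorem central₁ (F : Frame p V P₂ P₁ v₃ v₂) (g : G) {z : G} (hz : z ∈ P₁) : Commute g z := by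
  haveI := F.n₁
  have h := commutator_mem_of_step F.pgroup (bot_le : ⊥ ≤ P₁)
    (by rw [F.c₁, Subgroup.card_bot, one_mul]) g hz
  rw [mem_bot] at h
  exact commutatorElement_eq_one_iff_commute.1 h

theorem comm_mem₂ (F : Frame p V P₂ P₁ v₃ v₂) (g : G) {v : G} (hv : v ∈ V) : ⁅g, v⁆ ∈ P₂ := by
  haveI := F.n₂; haveI := F.vn
  exact commutator_mem_of_step F.pgroup F.le₂ (by rw [F.cV, F.c₂, ← pow_succ]) g hv

theorem comm_mem₁ (F : Frame p V P₂ P₁ v₃ v₂) (g : G) {v : G} (hv : v ∈ P₂) : ⁅g, v⁆ ∈ P₁ := by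
  haveI := F.n₂; haveI := F.n₁
  exact commutator_mem_of_step F.pgroup F.le₁ (by rw [F.c₂, F.c₁, pow_two]) g hv

theorem commute_VV (F : Frame p V P₂ P₁ v₃ v₂) {a b : G} (ha : a ∈ V) (hb : b ∈ V) : Commute a b :=
  (Base.isElementaryAbelian_iff.1 F.elem).1 a ha b hb

/-- Counting through a map `y ↦ ⁅y, v⁆` that is a homomorphism. -/
theorem card_le_of_commutator {X K R : Subgroup G} {v : G}
    (hfix : ∀ y ∈ X, ∀ z ∈ R, Commute y z) (hR : ∀ y ∈ X, ⁅y, v⁆ ∈ R)
    (hRc : ∀ a ∈ R, ∀ b ∈ R, Commute a b) (hker : ∀ y ∈ X, Commute y v → y ∈ K) :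
    Nat.card X ≤ Nat.card (X ⊓ K : Subgroup G) * Nat.card R ∧
      (Nat.card (X ⊓ K : Subgroup G) * Nat.card R ≤ Nat.card X →
        ∀ r ∈ R, ∃ y ∈ X, ⁅y, v⁆ = r) := by
  let φ : X →* R := MonoidHom.mk' (fun y => ⟨⁅(y : G), v⁆, hR y y.2⟩) fun a b => Subtype.ext (by
    show ⁅(a : G) * b, v⁆ = ⁅(a : G), v⁆ * ⁅(b : G), v⁆
    rw [show ⁅(a : G) * b, v⁆ = a * ⁅(b : G), v⁆ * (a : G)⁻¹ * ⁅(a : G), v⁆ by
      simp only [commutatorElement_def]; group, (hfix a a.2 _ (hR b b.2)).eq,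
      mul_inv_cancel_right, (hRc _ (hR b b.2) _ (hR a a.2)).eq])
  have hk : Nat.card φ.ker ≤ Nat.card (X ⊓ K : Subgroup G) :=
    Nat.card_le_card_of_injective
      (fun y => (⟨((y : X) : G), (y : X).2, hker _ (y : X).2
        (commutatorElement_eq_one_iff_commute.1 (congrArg Subtype.val y.2))⟩ :
          (X ⊓ K : Subgroup G)))
      fun a b h => Subtype.ext (Subtype.ext (congrArg (fun t : (X ⊓ K : Subgroup G) => (t : G)) h))
  have hidx := φ.ker.card_mul_index
  rw [Subgroup.index_ker] at hidx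
  have hr : Nat.card φ.range ≤ Nat.card R := Subgroup.card_le_card_group _
  refine ⟨hidx ▸ Nat.mul_le_mul hk hr, fun h r hr' => ?_⟩
  have htop : φ.range = ⊤ := by
    refine Subgroup.eq_top_of_card_eq _ (le_antisymm hr ?_)
    refine Nat.le_of_mul_le_mul_left ?_ (Nat.card_pos (α := (X ⊓ K : Subgroup G)))
    exact h.trans (hidx ▸ Nat.mul_le_mul_right _ hk)
  obtain ⟨y, hy⟩ := htop.ge (mem_top (⟨r, hr'⟩ : R))
  exact ⟨y, y.2, congrArg Subtype.val hy⟩

/-- An elementary abelian subgroup of order `p^4` meets `V` in `P₂` and induces all transvections. -/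
theorem shape (F : Frame p V P₂ P₁ v₃ v₂) {X : Subgroup G} (hX : IsElementaryAbelian p X)
    (hX4 : Nat.card X = p ^ 4) :
    X ⊓ V = P₂ ∧ ∀ r ∈ P₂, ∃ y ∈ X, ⁅y, v₃⁆ = r := by
  have hpp : p.Prime := Fact.out
  obtain ⟨hXc, hXp⟩ := Base.isElementaryAbelian_iff.1 hX
  have hXC : ∀ y ∈ X, y ∈ centralizer (V : Set G) → y ∈ V := fun y hy h => F.omega y h (hXp y hy)
  obtain ⟨j, hj⟩ := CfsgLib.PGroups.card_subgroup_eq_pow F.pgroup (X ⊓ V)
  -- `X ⊓ V` is a plane
  have hlt : Nat.card (X ⊓ V : Subgroup G) < p ^ 3 := by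
    by_contra hle
    have hVX : V ≤ X := (eq_of_le_of_card_ge (inf_le_right : X ⊓ V ≤ V)
      (F.cV.le.trans (not_lt.1 hle))) ▸ inf_le_left
    have hXV : X ≤ V := fun y hy =>
      hXC y hy (mem_centralizer_iff.2 fun v hv => hXc v (hVX hv) y hy)
    have := card_le_of_le hXV
    rw [hX4, F.cV] at this
    exact absurd this (not_le.2 (Nat.pow_lt_pow_right hpp.one_lt (by norm_num)))
  set X₀ := X ⊓ centralizer (P₂ : Set G)
  have hc₀ : ∀ y ∈ X₀, ∀ z ∈ P₂, Commute y z := fun y hy z hz =>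
    (mem_centralizer_iff.1 hy.2 z hz : Commute z y).symm
  have hψ := (card_le_of_commutator (X := X) (K := centralizer (P₂ : Set G)) (R := P₁) (v := v₂)
    (fun y _ z hz => central₁ F y hz) (fun y _ => comm_mem₁ F y F.mem₂)
    (fun a _ b hb => central₁ F a hb)
    (fun y _ h => mem_centralizer_iff.2 fun z hz =>
      (centralizes_of_sup (sup_zpowers_eq (p := p) F.le₁ (by rw [F.c₂, F.c₁, pow_two]) F.mem₂ F.not₂)
        (fun n hn => central₁ F y hn) h z hz).symm.eq)).1
  have hplane : Nat.card (X ⊓ V : Subgroup G) = p ^ 2 := by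
    suffices h2 : p ^ 2 ≤ Nat.card (X ⊓ V : Subgroup G) by
      rw [hj] at h2 hlt ⊢
      have := (Nat.pow_lt_pow_iff_right hpp.one_lt).1 hlt
      have := (Nat.pow_le_pow_iff_right hpp.one_lt).1 h2
      rw [show j = 2 by omega]
    by_cases hfix : ∀ x ∈ X, Commute x v₂
    · have h1 := (card_le_of_commutator (X := X) (K := V) (R := P₂) (v := v₃)
        (fun y hy z hz => centralizes_of_sup (sup_zpowers_eq (p := p) F.le₁
          (by rw [F.c₂, F.c₁, pow_two]) F.mem₂ F.not₂) (fun n hn => central₁ F y hn) (hfix y hy)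
          z hz)
        (fun y _ => comm_mem₂ F y F.mem₃)
        (fun a ha b hb => commute_VV F (F.le₂ ha) (F.le₂ hb))
        (fun y hy h => hXC y hy (mem_centralizer_V F (fun z hz => centralizes_of_sup
          (sup_zpowers_eq (p := p) F.le₁ (by rw [F.c₂, F.c₁, pow_two]) F.mem₂ F.not₂)
          (fun n hn => central₁ F y hn) (hfix y hy) z hz) h))).1
      rw [hX4, F.c₂, show 4 = 2 + 2 from rfl, pow_add] at h1
      exact Nat.le_of_mul_le_mul_right h1 (pow_pos hpp.pos _)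
    · push_neg at hfix
      obtain ⟨x, hx, hxv⟩ := hfix
      have hR : ∀ y ∈ X₀, ⁅y, v₃⁆ ∈ P₁ := by
        intro y hy
        set u := ⁅y, v₃⁆
        set w := ⁅x, v₃⁆
        have hu : u ∈ P₂ := comm_mem₂ F y F.mem₃
        have hw : w ∈ P₂ := comm_mem₂ F x F.mem₃
        by_contra hu1
        have hxu : Commute x u := by
          have e1 : x * (y * v₃ * y⁻¹) * x⁻¹ = y * (x * v₃ * x⁻¹) * y⁻¹ := by
            have hxy : x * y = y * x := hXc x hx y hy.1
            calc x * (y * v₃ * y⁻¹) * x⁻¹ = (x * y) * v₃ * (x * y)⁻¹ := by group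
              _ = y * (x * v₃ * x⁻¹) * y⁻¹ := by rw [hxy]; group
          rw [show y * v₃ * y⁻¹ = u * v₃ by simp only [u, commutatorElement_def]; group,
            show x * v₃ * x⁻¹ = w * v₃ by simp only [w, commutatorElement_def]; group] at e1
          have e2 : x * u * x⁻¹ * (w * v₃) = w * (u * v₃) := by
            calc x * u * x⁻¹ * (w * v₃) = x * (u * v₃) * x⁻¹ := by
                  simp only [w, commutatorElement_def]; group
              _ = y * (w * v₃) * y⁻¹ := e1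
              _ = (y * w * y⁻¹) * (y * v₃ * y⁻¹) := by group
              _ = w * (u * v₃) := by
                  rw [(hc₀ y hy w hw).eq, mul_inv_cancel_right]
                  simp only [u, commutatorElement_def]; group
          rw [← mul_assoc w u, (commute_VV F (F.le₂ hw) (F.le₂ hu)).eq, mul_assoc u w] at e2
          exact (mul_inv_eq_iff_eq_mul.1 (mul_right_cancel e2) : x * u = u * x)
        exact hxv (centralizes_of_sup (sup_zpowers_eq (p := p) F.le₁
          (by rw [F.c₂, F.c₁, pow_two]) hu hu1) (fun n hn => central₁ F x hn) hxu v₂ F.mem₂)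
      have h1 := (card_le_of_commutator (X := X₀) (K := V) (R := P₁) (v := v₃)
        (fun y _ z hz => central₁ F y hz) hR (fun a _ b hb => central₁ F a hb)
        (fun y hy h => hXC y hy.1 (mem_centralizer_V F (hc₀ y hy) h))).1
      have h2 : Nat.card (X₀ ⊓ V : Subgroup G) ≤ Nat.card (X ⊓ V : Subgroup G) :=
        card_le_of_le (inf_le_inf_right _ inf_le_left)
      have h3 : p ^ 4 ≤ Nat.card (X ⊓ V : Subgroup G) * p * p := by
        rw [F.c₁] at hψ h1
        rw [← hX4]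
        exact hψ.trans (Nat.mul_le_mul_right _ (h1.trans (Nat.mul_le_mul_right _ h2)))
      rw [mul_assoc, ← pow_two, show 4 = 2 + 2 from rfl, pow_add] at h3
      exact Nat.le_of_mul_le_mul_right h3 (pow_pos hpp.pos _)
  -- it is `P₂`
  have hP : X ⊓ V = P₂ := by
    refine (eq_of_le_of_card_ge ?_ (hplane.trans F.c₂.symm).le).symm
    intro v hv
    by_contra hvW
    have hsup := sup_zpowers_eq (p := p) (inf_le_right : X ⊓ V ≤ V)
      (by rw [F.cV, hplane, ← pow_succ]) (F.le₂ hv) hvW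
    have h1 := (card_le_of_commutator (X := X) (K := V) (R := P₁) (v := v)
      (fun y _ z hz => central₁ F y hz) (fun y _ => comm_mem₁ F y hv)
      (fun a _ b hb => central₁ F a hb)
      (fun y hy h => hXC y hy (mem_centralizer_iff.2 fun z hz =>
        (centralizes_of_sup hsup (fun n hn => hXc y hy n hn.1) h z hz).symm.eq))).1
    rw [hX4, hplane, F.c₁, ← pow_succ] at h1
    exact absurd h1 (not_le.2 (Nat.pow_lt_pow_right hpp.one_lt (by norm_num)))
  refine ⟨hP, ?_⟩
  have hP₂X : P₂ ≤ X := hP ▸ inf_le_left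
  refine (card_le_of_commutator (X := X) (K := V) (R := P₂) (v := v₃)
    (fun y hy z hz => hXc y hy z (hP₂X hz)) (fun y _ => comm_mem₂ F y F.mem₃)
    (fun a ha b hb => commute_VV F (F.le₂ ha) (F.le₂ hb))
    (fun y hy h => hXC y hy (mem_centralizer_V F (fun z hz => hXc y hy z (hP₂X hz)) h))).2 ?_
  rw [hplane, F.c₂, hX4, ← pow_add]

/-- Two elementary abelian subgroups of order `p^4` that normalise each other coincide. -/
theorem eq_of_normalizing (F : Frame p V P₂ P₁ v₃ v₂) (hp : p ≠ 2) {A B : Subgroup G}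
    (hA : IsElementaryAbelian p A) (hA4 : Nat.card A = p ^ 4)
    (hB : IsElementaryAbelian p B) (hB4 : Nat.card B = p ^ 4)
    (hAB : ∀ b ∈ B, ∀ a ∈ A, b * a * b⁻¹ ∈ A) (hBA : ∀ a ∈ A, ∀ b ∈ B, a * b * a⁻¹ ∈ B) :
    B = A := by
  have hpp : p.Prime := Fact.out
  obtain ⟨hAc, hAp⟩ := Base.isElementaryAbelian_iff.1 hA
  obtain ⟨hBc, hBp⟩ := Base.isElementaryAbelian_iff.1 hB
  obtain ⟨hAV, hAsurj⟩ := shape F hA hA4
  obtain ⟨hBV, -⟩ := shape F hB hB4
  have hPA : P₂ ≤ A := hAV ▸ inf_le_left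
  have hPB : P₂ ≤ B := hBV ▸ inf_le_left
  -- `B ≤ A V`
  have hdec : ∀ b ∈ B, ∃ a ∈ A, a⁻¹ * b ∈ V := by
    intro b hb
    obtain ⟨a, ha, hab⟩ := hAsurj _ (comm_mem₂ F b F.mem₃)
    have h3 : a * v₃ * a⁻¹ = b * v₃ * b⁻¹ := by
      have := congrArg (· * v₃) hab
      simpa [commutatorElement_def, mul_assoc] using this
    refine ⟨a, ha, F.omega _ (mem_centralizer_V F (fun n hn => ?_) ?_) ?_⟩
    · exact (Commute.inv_left (hAc a ha n (hPA hn))).mul_left (hBc b hb n (hPB hn))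
    · show a⁻¹ * b * v₃ = v₃ * (a⁻¹ * b)
      calc a⁻¹ * b * v₃ = a⁻¹ * (b * v₃ * b⁻¹) * b := by group
        _ = v₃ * (a⁻¹ * b) := by rw [← h3]; group
    · have hc : ⁅b, a⁻¹⁆ ∈ A ∧ ⁅b, a⁻¹⁆ ∈ B := by
        constructor
        · rw [commutatorElement_def, inv_inv]
          exact mul_mem (hAB b hb _ (inv_mem ha)) ha
        · rw [commutatorElement_def, inv_inv, mul_assoc, mul_assoc]
          refine mul_mem hb ?_
          have := hBA a⁻¹ (inv_mem ha) b⁻¹ (inv_mem hb)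
          rwa [inv_inv, mul_assoc] at this
      rw [mul_pow_of_commute (hAc _ hc.1 _ (inv_mem ha)) (hBc _ hc.2 _ hb) p, inv_pow, hAp a ha,
        hBp b hb, inv_one, one_mul, one_mul]
      obtain ⟨k, hk⟩ := hpp.dvd_choose_self two_ne_zero (lt_of_le_of_ne hpp.two_le (Ne.symm hp))
      rw [hk, pow_mul, hAp _ hc.1, one_pow]
  by_contra hne
  obtain ⟨b, hb, hbA⟩ : ∃ b ∈ B, b ∉ A := by
    by_contra! h
    exact hne (eq_of_le_of_card_ge h (hA4.trans hB4.symm).le)
  obtain ⟨a', ha', hv⟩ := hdec b hb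
  set v := a'⁻¹ * b with hvdef
  have hvP : v ∉ P₂ := fun h => hbA (by
    have := mul_mem ha' (hPA h); rwa [hvdef, mul_inv_cancel_left] at this)
  haveI := F.n₂
  set π := QuotientGroup.mk' P₂
  -- `B / P₂` is not generated by the image of `b`
  obtain ⟨b', hb', hb'n⟩ : ∃ b' ∈ B, π b' ∉ zpowers (π b) := by
    by_contra! h
    have h1 : B.map π ≤ zpowers (π b) := by rintro _ ⟨y, hy, rfl⟩; exact h y hy
    have h2 := card_le_of_le h1
    rw [Nat.card_zpowers] at h2
    have h3 : orderOf (π b) ≤ p :=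
      Nat.le_of_dvd hpp.pos (orderOf_dvd_of_pow_eq_one (by rw [← map_pow, hBp b hb, map_one]))
    have h4 := Subgroup.relIndex_ker B π
    rw [QuotientGroup.ker_mk'] at h4
    have h5 := relIndex_mul_relIndex ⊥ P₂ B bot_le hPB
    rw [relIndex_bot_left, relIndex_bot_left, h4, F.c₂, hB4, show 4 = 2 + 2 from rfl, pow_add] at h5
    rw [Nat.eq_of_mul_eq_mul_left (pow_pos hpp.pos _) h5] at h2
    exact absurd (h2.trans h3) (not_le.2 (lt_self_pow₀ hpp.one_lt one_lt_two))
  obtain ⟨a'', ha'', hv'⟩ := hdec b' hb'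
  obtain ⟨i, hi⟩ : π (a''⁻¹ * b') ∈ zpowers (π v) := by
    have hsup := sup_zpowers_eq (p := p) F.le₂ (by rw [F.cV, F.c₂, ← pow_succ]) hv hvP
    have h1 := mem_map_of_mem π (hsup.ge hv')
    rwa [Subgroup.map_sup, (Subgroup.map_eq_bot_iff _).2 (QuotientGroup.ker_mk' P₂).ge,
      bot_sup_eq, MonoidHom.map_zpowers] at h1
  have hbv : Commute (π a') (π v) := by
    refine commutatorElement_eq_one_iff_commute.1 ?_
    rw [← map_commutatorElement]
    exact (QuotientGroup.eq_one_iff _).2 (comm_mem₂ F a' hv)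
  set a := b' * (b ^ i)⁻¹ with hadef
  have haB : a ∈ B := mul_mem hb' (inv_mem (zpow_mem hb i))
  have haA : a ∈ A := by
    have hπ : π a = π (a'' * (a' ^ i)⁻¹) := by
      have e1 : π b' = π a'' * π v ^ i := by
        rw [show π v ^ i = π (a''⁻¹ * b') from hi, ← map_mul, mul_inv_cancel_left]
      have e2 : π b = π a' * π v := by rw [← map_mul, hvdef, mul_inv_cancel_left]
      calc π a = π b' * (π b ^ i)⁻¹ := by simp only [hadef, map_mul, map_inv, map_zpow]
        _ = π a'' * π v ^ i * ((π a') ^ i * π v ^ i)⁻¹ := by rw [e1, e2, hbv.mul_zpow]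
        _ = π a'' * (π a' ^ i)⁻¹ := by group
        _ = π (a'' * (a' ^ i)⁻¹) := by simp only [map_mul, map_inv, map_zpow]
    have h1 : (a'' * (a' ^ i)⁻¹)⁻¹ * a ∈ P₂ := QuotientGroup.eq.1 hπ.symm
    have := mul_mem (mul_mem ha'' (inv_mem (zpow_mem ha' i))) (hPA h1)
    rwa [mul_inv_cancel_left] at this
  have haP : a ∉ P₂ := fun h => hb'n (by
    have : π a = 1 := (QuotientGroup.eq_one_iff _).2 h
    rw [hadef, map_mul, map_inv, mul_inv_eq_one, map_zpow] at this
    rw [this]; exact zpow_mem (mem_zpowers _) i)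
  -- but then `a` centralizes `V`
  have hav : Commute a v := (Commute.inv_right (hAc a haA a' ha')).mul_right (hBc a haB b hb)
  have hsup := sup_zpowers_eq (p := p) F.le₂ (by rw [F.cV, F.c₂, ← pow_succ]) hv hvP
  exact haP (hAV.le ⟨haA, F.omega a (mem_centralizer_iff.2 fun z hz =>
    (centralizes_of_sup hsup (fun n hn => hAc a haA n (hPA hn)) hav z hz).symm.eq) (hAp a haA)⟩)

/-- If `E` of order `p^4` is elementary and there is no normal one, a frame exists. -/
theorem exists_frame (hp : p ≠ 2) (hG : IsPGroup p G) {E : Subgroup G}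
    (hE : IsElementaryAbelian p E) (hE4 : Nat.card E = p ^ 4)
    (hno : ¬ ∃ A : Subgroup G, A.Normal ∧ IsElementaryAbelian p A ∧ Nat.card A = p ^ 4) :
    ∃ (V P₂ P₁ : Subgroup G) (v₃ v₂ : G), Frame p V P₂ P₁ v₃ v₂ := by
  have hpp : p.Prime := Fact.out
  obtain ⟨V, hV⟩ := Set.Finite.exists_maximal
    (s := {A : Subgroup G | A.Normal ∧ IsMulCommutative A ∧ ∀ a ∈ A, a ^ p ^ 1 = 1}) (Set.toFinite _)
    ⟨⊥, inferInstance, inferInstance, by simp⟩
  obtain ⟨hVn, hVab, hVe⟩ := hV.1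
  haveI := hVn
  have hVel : IsElementaryAbelian p V := ⟨hVab, fun a ha => by simpa using hVe a ha⟩
  have homega : ∀ x : G, x ∈ centralizer (V : Set G) → x ^ p = 1 → x ∈ V := fun x hx hxp =>
    mem_of_maximal_abelian_exponent hG (n := 1) (by rwa [pow_one]) hVab hVe
      (fun B h1 h2 h3 h4 => le_antisymm (hV.2 ⟨h1, h2, h3⟩ h4) h4) hx (by rwa [pow_one])
  obtain ⟨m, hm⟩ := card_subgroup_eq_pow hG V
  have hm3 : m ≤ 3 := by
    by_contra h
    obtain ⟨K, hK, -, hKV, hKc⟩ := exists_normal_card_eq hG (bot_le : ⊥ ≤ V) (k := 4)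
      (by rw [Subgroup.card_bot]; exact Nat.one_le_pow _ _ hpp.pos)
      (by rw [hm]; exact Nat.pow_le_pow_right hpp.pos (by omega))
    exact hno ⟨K, hK, Base.isElementaryAbelian_le hKV hVel, hKc⟩
  have hm3' : m = 3 := by
    by_contra hne
    have h1 : (centralizer (V : Set G)).index ≤ p :=
      (index_centralizer_le hG m hm).trans ((Nat.pow_le_pow_right hpp.pos
        ((Nat.choose_le_choose 2 (show m ≤ 2 by omega)).trans (by norm_num))).trans (pow_one p).le)
    obtain ⟨hEc, hEp⟩ := Base.isElementaryAbelian_iff.1 hE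
    have h2 : E ⊓ centralizer (V : Set G) ≤ V := fun e he => homega e he.2 (hEp e he.1)
    have h3 := card_le_of_le h2
    have h4 := relIndex_mul_relIndex ⊥ (E ⊓ centralizer (V : Set G)) E bot_le inf_le_left
    rw [relIndex_bot_left, relIndex_bot_left, inf_relIndex_left, hE4] at h4
    have h5 : (centralizer (V : Set G)).relIndex E ≤ p :=
      (Nat.le_of_dvd (Nat.pos_of_ne_zero index_ne_zero_of_finite)
        (relIndex_dvd_index_of_normal _ _)).trans h1
    have h6 : p ^ 4 ≤ p ^ m * p := h4 ▸ Nat.mul_le_mul (h3.trans hm.le) h5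
    rw [← pow_succ] at h6
    have := (Nat.pow_le_pow_iff_right hpp.one_lt).1 h6
    omega
  subst hm3'
  obtain ⟨P₂, hn₂, -, hle₂, hc₂⟩ := exists_normal_card_eq hG (bot_le : ⊥ ≤ V) (k := 2)
    (by rw [Subgroup.card_bot]; exact Nat.one_le_pow _ _ hpp.pos)
    (by rw [hm]; exact Nat.pow_le_pow_right hpp.pos (by norm_num))
  haveI := hn₂
  obtain ⟨P₁, hn₁, -, hle₁, hc₁⟩ := exists_normal_card_eq hG (bot_le : ⊥ ≤ P₂) (k := 1)
    (by rw [Subgroup.card_bot]; exact Nat.one_le_pow _ _ hpp.pos)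
    (by rw [hc₂]; exact Nat.pow_le_pow_right hpp.pos (by norm_num))
  obtain ⟨v₃, hv₃, hv₃'⟩ : ∃ v ∈ V, v ∉ P₂ := by
    by_contra! h
    have := card_le_of_le (h : V ≤ P₂)
    rw [hm, hc₂] at this
    exact absurd this (not_le.2 (Nat.pow_lt_pow_right hpp.one_lt (by norm_num)))
  obtain ⟨v₂, hv₂, hv₂'⟩ : ∃ v ∈ P₂, v ∉ P₁ := by
    by_contra! h
    have := card_le_of_le (h : P₂ ≤ P₁)
    rw [hc₁, hc₂] at this
    exact absurd this (not_le.2 (Nat.pow_lt_pow_right hpp.one_lt (by norm_num)))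
  exact ⟨V, P₂, P₁, v₃, v₂, ⟨hG, hVn, hn₂, hn₁, hVel, homega, hm, hc₂, by rwa [pow_one] at hc₁,
    hle₂, hle₁, hv₃, hv₃', hv₂, hv₂'⟩⟩

theorem main : ∀ (n : ℕ) (G : Type u) [Group G] [Finite G], Nat.card G = n → p ≠ 2 →
    IsPGroup p G → ∀ E : Subgroup G, IsElementaryAbelian p E → Nat.card E = p ^ 4 →
    ∃ A : Subgroup G, A.Normal ∧ IsElementaryAbelian p A ∧ Nat.card A = p ^ 4 := by
  intro n
  induction n using Nat.strong_induction_on with
  | _ n ih =>
    intro G _ _ hn hp hG E hE hE4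
    by_contra hno
    obtain ⟨V, P₂, P₁, v₃, v₂, F⟩ := exists_frame hp hG hE hE4 hno
    rcases eq_top_or_exists_le_coatom E with htop | ⟨M, hM, hEM⟩
    · exact hno ⟨E, htop ▸ inferInstance, hE, hE4⟩
    haveI := normal_of_isCoatom hG hM
    have hlt : Nat.card M < n := hn ▸ lt_of_le_of_ne (Subgroup.card_le_card_group M)
      fun h => hM.1 (Subgroup.eq_top_of_card_eq M h)
    obtain ⟨A', hA'n, hA'e, hA'c⟩ := ih _ hlt M rfl hp (hG.to_subgroup M) (E.subgroupOf M)
      (Base.isElementaryAbelian_subgroupOf hE M)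
      (by rw [Nat.card_congr (subgroupOfEquivOfLe hEM).toEquiv, hE4])
    set A := A'.map M.subtype
    have hA : IsElementaryAbelian p A := Base.isElementaryAbelian_map _ hA'e
    have hA4 : Nat.card A = p ^ 4 := by
      rw [Subgroup.card_map_of_injective M.subtype_injective, hA'c]
    have hMA : ∀ m ∈ M, ∀ a ∈ A, m * a * m⁻¹ ∈ A := by
      rintro m hm _ ⟨a, ha, rfl⟩
      exact ⟨⟨m, hm⟩ * a * ⟨m, hm⟩⁻¹, hA'n.conj_mem a ha _, rfl⟩
    refine hno ⟨A, ⟨fun a ha g => ?_⟩, hA, hA4⟩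
    set B := A.map (MulAut.conj g).toMonoidHom
    have hBM : B ≤ M := by
      rintro _ ⟨_, ⟨a, -, rfl⟩, rfl⟩
      exact (inferInstance : M.Normal).conj_mem a a.2 g
    have hMB : ∀ m ∈ M, ∀ b ∈ B, m * b * m⁻¹ ∈ B := by
      rintro m hm _ ⟨a, ha, rfl⟩
      refine ⟨(g⁻¹ * m * g) * a * (g⁻¹ * m * g)⁻¹, hMA _ ?_ a ha, ?_⟩
      · simpa using (inferInstance : M.Normal).conj_mem m hm g⁻¹
      · show g * _ * g⁻¹ = m * (g * a * g⁻¹) * m⁻¹
        group
    have hAM : A ≤ M := Subgroup.map_subtype_le A'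
    have := eq_of_normalizing F hp hA hA4 (Base.isElementaryAbelian_map _ hA)
      (by rw [Subgroup.card_map_of_injective (MulAut.conj g).injective, hA4])
      (fun b hb => hMA b (hBM hb)) (fun a ha => hMB a (hAM ha))
    exact this.le ⟨a, ha, rfl⟩

end CfsgLib.PGroups.NormalRankFour
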