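import Cfsg.Agent.Lib.PGroups.TwoClassCount

/-!
# In a group of odd order, more than `|P| / 2` classes of `r`-elements

force an abelian Sylow `r`-subgroup with a normal complement: a non-trivial `r'`-element of the
normaliser has orbits of length at least 3, and at least 5 when `r = 3`.
-/

set_option autoImplicit false
set_option linter.style.haveILetI false

universe u

namespace CfsgLib.PGroups.OddOrderClassCount

open Subgroup

variable {G : Type u} [Group G] [Finite G] {r : ℕ} [Fact r.Prime]

theorem two_mul_card_conjClasses_le (hr : r ≠ 2) {P : Type*} [Group P] [Finite P] (hP : IsPGroup r P)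
    (hna : ¬ IsMulCommutative P) : 2 * Nat.card (ConjClasses P) ≤ Nat.card P := by
  have hp : r.Prime := Fact.out
  have h3 : 3 ≤ r := by have := hp.two_le; omega
  have h := card_conjClasses_le hP hna
  -- sharpen `(r + 1) / (2 r)` using `|P : Z(P)| ≥ r²`
  have h' := mul_card_le_of_surjective (f := (ConjClasses.mk : P → ConjClasses P))
    ConjClasses.mk_surjective (· ∈ center P) (m := r) hp.one_le (fun a ha => by
      have h1 : Nat.card {a' // ConjClasses.mk a' = ConjClasses.mk a} =
          Nat.card (ConjClasses.mk a).carrier :=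
        Nat.card_congr (Equiv.subtypeEquivRight fun b =>
          ConjClasses.mem_carrier_iff_mk_eq.symm)
      rw [h1, ← ConjAct.orbit_eq_carrier_conjClasses]
      obtain ⟨k, hk⟩ := IsPGroup.card_orbit (p := r) (hP.of_equiv ConjAct.toConjAct) a
      rw [hk]
      refine Nat.le_self_pow (fun hk0 => ha ?_) r
      rw [hk0, pow_zero] at hk
      rw [Subgroup.mem_center_iff]
      intro g
      haveI := (Nat.card_eq_one_iff_unique.mp hk).1
      have hmem : g * a * g⁻¹ ∈ MulAction.orbit (ConjAct P) a :=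
        ⟨ConjAct.toConjAct g, ConjAct.smul_def _ _⟩
      have := congrArg Subtype.val (Subsingleton.elim (⟨_, hmem⟩ : MulAction.orbit (ConjAct P) a)
        ⟨a, MulAction.mem_orbit_self a⟩)
      exact mul_inv_eq_iff_eq_mul.mp this)
  have hZ : Nat.card (center P) * r ^ 2 ≤ Nat.card P := by
    rw [← Subgroup.card_mul_index (center P)]
    exact Nat.mul_le_mul_left _ (sq_le_index_center hP hna)
  have h'' : r * Nat.card (ConjClasses P) ≤ Nat.card P + (r - 1) * Nat.card (center P) := h'
  obtain ⟨q, rfl⟩ : ∃ q, r = q + 3 := ⟨r - 3, by omega⟩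
  simp only [show q + 3 - 1 = q + 2 by omega] at h''
  have h9 : 9 * Nat.card (center P) ≤ Nat.card P := by
    refine le_trans ?_ hZ
    rw [mul_comm]
    exact Nat.mul_le_mul_left _ (Nat.pow_le_pow_left (show 3 ≤ q + 3 by omega) 2)
  nlinarith

/-- An element of order prime to `r` normalising `P` and not centralising it. -/
theorem exists_coprime_normalizer (P : Sylow r G) (hab : IsMulCommutative ↥(P : Subgroup G)) {g : G}
    (hg : g ∈ normalizer ((P : Subgroup G) : Set G))
    (hgC : g ∉ centralizer ((P : Subgroup G) : Set G)) :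
    ∃ v ∈ normalizer ((P : Subgroup G) : Set G), v ∉ centralizer ((P : Subgroup G) : Set G) ∧
      (orderOf v).Coprime r := by
  obtain ⟨a, ha, b, hb, hab', ⟨k, hk⟩, hbr⟩ := CfsgLib.Transfer.exists_pPart_mul (p := r) g
  have haN : a ∈ normalizer ((P : Subgroup G) : Set G) := zpowers_le.2 hg ha
  refine ⟨b, zpowers_le.2 hg hb, fun hbC => hgC ?_, hbr⟩
  rw [← hab']
  refine mul_mem ?_ hbC
  obtain ⟨i, -, hi⟩ := (Nat.dvd_prime_pow (Fact.out : r.Prime)).1 hk
  have h1 : IsPGroup r (zpowers a) := IsPGroup.of_card (n := i) (by rw [Nat.card_zpowers, hi])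
  have := P.is_maximal' (h1.to_sup_of_normal_right' P.isPGroup' (zpowers_le.2 haN)) le_sup_right
  have haP : a ∈ (P : Subgroup G) := this.le (mem_sup_left (mem_zpowers a))
  exact mem_centralizer_iff.2 fun z hz => congrArg Subtype.val (hab.1.1 ⟨z, hz⟩ ⟨a, haP⟩)

theorem two_mul_card_piClasses_le (hr : r ≠ 2) (hodd : Odd (Nat.card G)) (P : Sylow r G) {v : G}
    (hv : v ∈ normalizer ((P : Subgroup G) : Set G))
    (hvC : v ∉ centralizer ((P : Subgroup G) : Set G)) (hvr : (orderOf v).Coprime r) :
    2 * Nat.card (piClasses {r} G) ≤ Nat.card (P : Subgroup G) := by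
  have hp : r.Prime := Fact.out
  have h3 : 3 ≤ r := by have := hp.two_le; omega
  have hov : Odd (orderOf v) := Odd.of_dvd_nat hodd (orderOf_dvd_natCard v)
  obtain ⟨m, hm1, hm, hmk⟩ : ∃ m, 1 ≤ m ∧ (m = 3 ∧ 5 ≤ r ∨ m = 5 ∧ r = 3) ∧
      ∀ d, 0 < d → d < m → Nat.Coprime (orderOf v) d := by
    have h12 : ∀ d, d = 1 ∨ d = 2 → Nat.Coprime (orderOf v) d := by
      rintro d (rfl | rfl)
      · exact Nat.coprime_one_right _
      · exact Nat.coprime_two_right.2 hov
    by_cases h : r = 3
    · subst h
      refine ⟨5, by norm_num, Or.inr ⟨rfl, rfl⟩, fun d h0 h5 => ?_⟩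
      rcases (show d = 1 ∨ d = 2 ∨ d = 3 ∨ d = 4 by omega) with rfl | rfl | rfl | rfl
      · exact h12 1 (Or.inl rfl)
      · exact h12 2 (Or.inr rfl)
      · exact hvr
      · exact (h12 2 (Or.inr rfl)).mul_right (h12 2 (Or.inr rfl))
    · refine ⟨3, by norm_num, Or.inl ⟨rfl, ?_⟩, fun d h0 hd => h12 d (by omega)⟩
      have : r ≠ 4 := fun h4 => absurd (h4 ▸ hp) (by norm_num)
      omega
  set C := (centralizer ({v} : Set G)).subgroupOf (P : Subgroup G)
  have h := mul_card_le_of_surjective (sylowClass_surjective P) (fun x => x ∈ C) (m := m) hm1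
    (fun x hx => by
      rw [Subgroup.mem_subgroupOf, mem_centralizer_singleton_iff] at hx
      have hmem : ∀ i : ℕ, v ^ i * (x : G) * (v ^ i)⁻¹ ∈ (P : Subgroup G) := fun i =>
        (Subgroup.mem_normalizer_iff.mp (pow_mem hv i) _).mp x.2
      let e : Fin m → {x' // sylowClass P x' = sylowClass P x} := fun i =>
        ⟨⟨_, hmem i⟩, Subtype.ext
          (ConjClasses.mk_eq_mk_iff_isConj.mpr (isConj_iff.mpr ⟨v ^ (i : ℕ), rfl⟩).symm)⟩
      have key : ∀ i j : ℕ, i < j → j < m →
          v ^ i * (x : G) * (v ^ i)⁻¹ ≠ v ^ j * (x : G) * (v ^ j)⁻¹ := by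
        intro i j hij hjm he
        obtain ⟨d, rfl⟩ := Nat.exists_eq_add_of_le hij.le
        rw [pow_add, mul_inv_rev, show v ^ i * v ^ d * (x : G) * ((v ^ d)⁻¹ * (v ^ i)⁻¹) =
          v ^ i * (v ^ d * (x : G) * (v ^ d)⁻¹) * (v ^ i)⁻¹ by group] at he
        have h1 : Commute (v ^ d) (x : G) :=
          (mul_inv_eq_iff_eq_mul.1 (mul_left_cancel (mul_right_cancel he)).symm :
            v ^ d * (x : G) = x * v ^ d)
        obtain ⟨t, ht⟩ := exists_pow_eq_self_of_coprime (x := v) (n := d)
          (hmk d (by omega) (by omega)).symm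
        exact hx (ht ▸ h1.pow_left t).eq.symm
      have hinj : Function.Injective e := by
        intro i j hij
        have hv' := congrArg (fun t : {x' // sylowClass P x' = sylowClass P x} =>
          ((t.1 : (P : Subgroup G)) : G)) hij
        rcases lt_trichotomy (i : ℕ) j with hlt | heq | hlt
        · exact absurd hv' (key i j hlt j.2)
        · exact Fin.ext heq
        · exact absurd hv'.symm (key j i hlt i.2)
      have := Nat.card_le_card_of_injective e hinj
      rwa [Nat.card_eq_fintype_card, Fintype.card_fin] at this)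
  have hCtop : C ≠ ⊤ := by
    intro ht
    refine hvC fun y hy => ?_
    have : (⟨y, hy⟩ : (P : Subgroup G)) ∈ C := ht ▸ Subgroup.mem_top _
    exact mem_centralizer_singleton_iff.mp (Subgroup.mem_subgroupOf.mp this)
  have hidx := Nat.le_of_dvd (Nat.pos_of_ne_zero Subgroup.FiniteIndex.index_ne_zero)
    (dvd_index_of_ne_top P.2 hCtop)
  have hC : Nat.card C * r ≤ Nat.card (P : Subgroup G) := by
    rw [← Subgroup.card_mul_index C]
    exact Nat.mul_le_mul_left _ hidx
  have h' : m * Nat.card (piClasses {r} G) ≤ Nat.card (P : Subgroup G) + (m - 1) * Nat.card C := h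
  rcases hm with ⟨rfl, h5⟩ | ⟨rfl, rfl⟩
  · have : Nat.card C * 5 ≤ Nat.card (P : Subgroup G) := (Nat.mul_le_mul_left _ h5).trans hC
    omega
  · omega

theorem hasNormalPComplement (hr : r ≠ 2) (hodd : Odd (Nat.card G)) (P : Sylow r G)
    (hk : Nat.card (P : Subgroup G) < 2 * Nat.card (piClasses {r} G)) :
    Cfsg.HasNormalPComplement r G ∧ IsMulCommutative ↥(P : Subgroup G) := by
  have hab : IsMulCommutative ↥(P : Subgroup G) := by
    by_contra hna
    have := two_mul_card_conjClasses_le hr P.2 hna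
    have := card_piClasses_le_conjClasses P
    omega
  refine ⟨CfsgLib.Transfer.hasNormalPComplement_of_normalizer_le_centralizer P fun g hg => ?_, hab⟩
  by_contra hgC
  obtain ⟨v, hv, hvC, hvr⟩ := exists_coprime_normalizer P hab hg hgC
  have := two_mul_card_piClasses_le hr hodd P hv hvC hvr
  omega

end CfsgLib.PGroups.OddOrderClassCount
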