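import Mathlib
import Cfsg.Prelude.Def_LocalStructure
import Cfsg.Agent.Lib.Base.MinimalNormal
import Cfsg.Agent.Lib.Base.Transport

/-!
# Minimal non-`p`-closed groups
-/

set_option linter.style.haveILetI false
set_option autoImplicit false

namespace CfsgLib.PGroups

open Subgroup

section Field

variable {M : Type*} [AddCommGroup M] [Finite M]

theorem card_le_of_pow_eq {R : Type*} [CommRing R] [IsDomain R] [Finite R] {N : ℕ} (hN : 1 < N)
    (h : ∀ x : R, x ^ N = x) : Nat.card R ≤ N := by
  classical
  haveI : Fintype R := Fintype.ofFinite R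
  have hdeg : (Polynomial.X ^ N - Polynomial.X : Polynomial R).natDegree = N := by
    rw [Polynomial.natDegree_sub_eq_left_of_natDegree_lt] <;> simp [hN]
  have hne : (Polynomial.X ^ N - Polynomial.X : Polynomial R) ≠ 0 := by
    intro h0
    rw [h0, Polynomial.natDegree_zero] at hdeg
    omega
  have hsub : (Finset.univ : Finset R).val ≤
      (Polynomial.X ^ N - Polynomial.X : Polynomial R).roots := by
    rw [Multiset.le_iff_subset Finset.univ.nodup]
    intro x _
    rw [Polynomial.mem_roots hne]
    simp [h x]
  have h1 := (Multiset.card_le_card hsub).trans (Polynomial.card_roots' _)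
  rw [hdeg] at h1
  simpa using h1

/-- An elementary abelian `q`-group with an irreducible endomorphism `φ` satisfying `φ ^ p = 1`
has at most `q ^ e` elements when `q ^ e ≡ 1 [MOD p]`. -/
theorem card_le_of_irreducible_end {p q e : ℕ} (hq : q.Prime) (φ : AddMonoid.End M)
    (hM : ∀ m : M, q • m = 0) (hφ : φ ^ p = 1) (hqe : q ^ e ≡ 1 [MOD p]) (he : e ≠ 0)
    (hirr : ∀ B : AddSubgroup M, (∀ b ∈ B, φ b ∈ B) → B = ⊥ ∨ B = ⊤) :
    Nat.card M ≤ q ^ e := by
  classical
  rcases subsingleton_or_nontrivial M with h | h
  · rw [Nat.card_of_subsingleton (0 : M)]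
    exact Nat.one_le_pow _ _ hq.pos
  obtain ⟨a, ha⟩ := exists_ne (0 : M)
  haveI : Finite (AddMonoid.End M) := Finite.of_injective (fun f : AddMonoid.End M => (f : M → M))
    DFunLike.coe_injective
  set R := Subring.closure ({φ} : Set (AddMonoid.End M)) with hR
  have hcomm : ∀ r ∈ R, r * φ = φ * r := by
    intro r hr
    have hle : R ≤ Subring.centralizer ({φ} : Set (AddMonoid.End M)) := Subring.closure_le.mpr (by
      intro x hx
      rw [Set.mem_singleton_iff] at hx
      subst hx
      rw [SetLike.mem_coe, Subring.mem_centralizer_iff]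
      intro g hg
      rw [Set.mem_singleton_iff] at hg
      rw [hg])
    exact ((Subring.mem_centralizer_iff).mp (hle hr) φ (Set.mem_singleton φ)).symm
  have hRR : ∀ r ∈ R, ∀ s ∈ R, r * s = s * r := by
    intro r hr s hs
    have hle : R ≤ Subring.centralizer (R : Set (AddMonoid.End M)) := Subring.closure_le.mpr (by
      intro x hx
      rw [Set.mem_singleton_iff] at hx
      subst hx
      rw [SetLike.mem_coe, Subring.mem_centralizer_iff]
      exact hcomm)
    exact ((Subring.mem_centralizer_iff).mp (hle hr) s hs).symm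
  letI : CommRing R :=
    { (inferInstance : Ring R) with mul_comm := fun x y => Subtype.ext (hRR x x.2 y y.2) }
  have hinj : ∀ r ∈ R, r ≠ 0 → ∀ m : M, r m = 0 → m = 0 := by
    intro r hr hr0 m hm
    let K : AddSubgroup M :=
      { carrier := {b | r b = 0}
        add_mem' := fun {u v} (hu : r u = 0) (hv : r v = 0) => by
          show r (u + v) = 0
          rw [map_add, hu, hv, add_zero]
        zero_mem' := map_zero r
        neg_mem' := fun {u} (hu : r u = 0) => by
          show r (-u) = 0
          rw [map_neg, hu, neg_zero] }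
    rcases hirr K (fun b (hb : r b = 0) => by
        have h1 : r (φ b) = φ (r b) := congrArg (fun f : AddMonoid.End M => f b) (hcomm r hr)
        show r (φ b) = 0
        rw [h1, hb, map_zero]) with h0 | h0
    · have : m ∈ K := hm
      rw [h0] at this
      exact this
    · refine absurd (AddMonoidHom.ext fun x => ?_) hr0
      have : x ∈ K := h0 ▸ AddSubgroup.mem_top x
      exact this
  haveI : Nontrivial R := ⟨⟨0, 1, fun h => ha (by
    have h1 := congrArg (fun f : R => (f : AddMonoid.End M) a) h
    simpa using h1.symm)⟩⟩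
  haveI : NoZeroDivisors R := ⟨fun {x y} hxy => by
    by_contra hne
    push Not at hne
    obtain ⟨hx, hy⟩ := hne
    apply hy
    refine Subtype.ext (AddMonoidHom.ext fun m => ?_)
    refine hinj x x.2 (fun h => hx (Subtype.ext h)) _ ?_
    exact congrArg (fun f : R => (f : AddMonoid.End M) m) hxy⟩
  haveI : IsDomain R := NoZeroDivisors.to_isDomain R
  have hq0 : (q : R) = 0 := by
    refine Subtype.ext (AddMonoidHom.ext fun m => ?_)
    show ((q : R) : AddMonoid.End M) m = 0
    rw [SubringClass.coe_natCast, AddMonoid.End.natCast_apply]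
    exact hM m
  haveI : CharP R q := (CharP.charP_iff_prime_eq_zero hq).mpr hq0
  haveI : Fact q.Prime := ⟨hq⟩
  have hφR : φ ∈ R := Subring.subset_closure (Set.mem_singleton φ)
  have hfrob : ∀ x : R, x ^ q ^ e = x := by
    rintro ⟨x, hx⟩
    induction hx using Subring.closure_induction with
    | mem y hy =>
      rw [Set.mem_singleton_iff] at hy
      apply Subtype.ext
      show y ^ q ^ e = y
      rw [hy, pow_eq_pow_mod _ hφ]
      rw [show q ^ e % p = 1 % p from hqe, ← pow_eq_pow_mod _ hφ, pow_one]
    | zero => exact zero_pow (pow_ne_zero _ hq.ne_zero)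
    | one => exact one_pow _
    | add u v hu hv ihu ihv =>
      show ((⟨u, hu⟩ : R) + ⟨v, hv⟩) ^ q ^ e = _
      rw [add_pow_char_pow, ihu, ihv]
      rfl
    | neg u hu ihu =>
      have h2 : ((⟨u, hu⟩ : R) + -⟨u, hu⟩) ^ q ^ e = 0 := by
        rw [add_neg_cancel]; exact zero_pow (pow_ne_zero _ hq.ne_zero)
      rw [add_pow_char_pow, ihu] at h2
      exact eq_neg_of_add_eq_zero_right h2
    | mul u v hu hv ihu ihv =>
      show ((⟨u, hu⟩ : R) * ⟨v, hv⟩) ^ q ^ e = _
      rw [mul_pow, ihu, ihv]
      rfl
  have hcardR : Nat.card R ≤ q ^ e :=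
    card_le_of_pow_eq (Nat.one_lt_pow he hq.one_lt) hfrob
  refine le_trans (Nat.card_le_card_of_surjective (fun r : R => (r : AddMonoid.End M) a) ?_) hcardR
  let B : AddSubgroup M :=
    { carrier := Set.range (fun r : R => (r : AddMonoid.End M) a)
      add_mem' := fun {u v} ⟨r, hr⟩ ⟨s, hs⟩ => ⟨r + s, by rw [← hr, ← hs]; rfl⟩
      zero_mem' := ⟨0, by simp⟩
      neg_mem' := fun {u} ⟨r, hr⟩ => ⟨-r, by rw [← hr]; rfl⟩ }
  have hB : B = ⊤ := by
    refine (hirr B ?_).resolve_left ?_
    · rintro b ⟨r, rfl⟩
      exact ⟨⟨φ, hφR⟩ * r, rfl⟩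
    · intro h
      have : a ∈ B := ⟨1, by simp⟩
      rw [h] at this
      exact ha this
  intro m
  have : m ∈ B := hB ▸ AddSubgroup.mem_top m
  exact this

end Field

variable {G : Type*} [Group G] {p : ℕ}

theorem isPClosed_of_isPGroup (h : IsPGroup p G) : Cfsg.IsPClosed p G := by
  intro P
  have hP : (P : Subgroup G) = ⊤ := (P.is_maximal' (Q := ⊤) (h.to_subgroup ⊤) le_top).symm
  rw [hP]
  infer_instance

theorem isPClosed_of_not_dvd [Finite G] [hp : Fact p.Prime] (h : ¬ p ∣ Nat.card G) :
    Cfsg.IsPClosed p G := by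
  intro P
  have hP : (P : Subgroup G) = ⊥ := by
    obtain ⟨k, hk⟩ := IsPGroup.iff_card.mp P.isPGroup'
    rcases k with _ | k
    · exact eq_bot_of_card_eq _ (by rw [hk, pow_zero])
    · exact absurd ((dvd_pow_self p k.succ_ne_zero).trans (hk ▸ card_subgroup_dvd_card (P : Subgroup G))) h
  rw [hP]
  infer_instance

/-- A non-abelian extension of an elementary abelian `q`-group which is minimal normal, by a group
of order `p ≠ q`. -/
theorem minimal_nonclosed [Finite G] [hp : Fact p.Prime] {q : ℕ} (hq : q.Prime) (hpq : q ≠ p)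
    (hna : ¬ IsMulCommutative G) (A : Subgroup G) [A.Normal] (hA : Cfsg.IsElementaryAbelian q A)
    (hidx : A.index = p)
    (hmin : ∀ B : Subgroup G, B.Normal → B ≤ A → B = ⊥ ∨ B = A) :
    Nat.card A = q ^ orderOf (q : ZMod p) ∧ ¬ Cfsg.IsPClosed p G ∧
      (∀ H : Subgroup G, H ≠ ⊤ → Cfsg.IsPClosed p H) ∧
      ∀ (N : Subgroup G) [N.Normal], N ≠ ⊥ → Cfsg.IsPClosed p (G ⧸ N) := by
  classical
  haveI := hA.1
  haveI : Fact q.Prime := ⟨hq⟩
  have hAq : IsPGroup q A := fun a => ⟨1, by rw [pow_one]; exact Subtype.ext (hA.2 a a.2)⟩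
  obtain ⟨n, hn⟩ := IsPGroup.iff_card.mp hAq
  have hcard : Nat.card G = q ^ n * p := by rw [← hn, ← hidx, card_mul_index]
  have hcop : (Nat.card A).Coprime p := by
    rw [hn]; exact Nat.Coprime.pow_left _ ((Nat.coprime_primes hq hp.out).mpr hpq)
  obtain ⟨x, hx⟩ := exists_prime_orderOf_dvd_card' (G := G) p (hcard ▸ dvd_mul_left p _)
  have hAout : ∀ y : G, y ∉ A → A ⊔ zpowers y = ⊤ := by
    intro y hy
    have h1 : (A ⊔ zpowers y).index ∣ p := hidx ▸ index_dvd_of_le le_sup_left
    rcases (Nat.dvd_prime hp.out).mp h1 with h | h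
    · exact index_eq_one.mp h
    · exfalso
      have h2 := Subgroup.relIndex_mul_index (le_sup_left : A ≤ A ⊔ zpowers y)
      rw [hidx, h] at h2
      have h3 : A.relIndex (A ⊔ zpowers y) = 1 := (Nat.mul_eq_right hp.out.ne_zero).mp h2
      exact hy (relIndex_eq_one.mp h3 (mem_sup_right (mem_zpowers y)))
  have hxA : x ∉ A := by
    intro h
    have h1 : orderOf x ∣ Nat.card A := by
      rw [← Subgroup.orderOf_mk x h]; exact orderOf_dvd_natCard _
    rw [hx] at h1
    exact hp.out.ne_one (Nat.eq_one_of_dvd_coprimes hcop h1 dvd_rfl)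
  have htop := hAout x hxA
  -- subgroups of `A` invariant under an element outside `A` are normal
  have hinvnormal : ∀ B : Subgroup G, B ≤ A → ∀ y : G, y ∉ A → (∀ b ∈ B, y * b * y⁻¹ ∈ B) →
      B.Normal := by
    intro B hBA y hy hBy
    rw [← normalizer_eq_top_iff, eq_top_iff, ← hAout y hy]
    refine sup_le ?_ ?_
    · refine le_trans ?_ (centralizer_le_normalizer _)
      intro a ha
      rw [mem_centralizer_iff]
      intro b hb
      exact congrArg Subtype.val ((IsMulCommutative.is_comm (M := A)).comm ⟨b, hBA hb⟩ ⟨a, ha⟩)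
    · rw [zpowers_le]
      have hle : B.map (MulAut.conj y).toMonoidHom ≤ B := by
        rintro _ ⟨b, hb, rfl⟩
        exact hBy b hb
      exact CfsgLib.Base.map_conj_eq_self_iff.mp
        (eq_of_le_of_card_ge hle (by rw [CfsgLib.Base.card_map_conj]))
  have hfix : ∀ a ∈ A, x * a * x⁻¹ = a → a = 1 := by
    intro a ha hxa
    have hB : ∀ b ∈ zpowers a, x * b * x⁻¹ ∈ zpowers a := by
      rintro _ ⟨i, rfl⟩
      exact ⟨i, by show a ^ i = x * a ^ i * x⁻¹; rw [← conj_zpow, hxa]⟩
    rcases hmin _ (hinvnormal _ (zpowers_le.mpr ha) x hxA hB) (zpowers_le.mpr ha) with h | h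
    · exact zpowers_eq_bot.mp h
    · exfalso
      apply hna
      have hc : A ⊔ zpowers x ≤ centralizer ({x} : Set G) := by
        refine sup_le ?_ (zpowers_le.mpr (mem_centralizer_singleton_iff.mpr rfl))
        rw [← h, zpowers_le, mem_centralizer_singleton_iff]
        exact (mul_inv_eq_iff_eq_mul.mp hxa).symm
      rw [htop] at hc
      have hxc : x ∈ center G := mem_center_iff.mpr fun g =>
        mem_centralizer_singleton_iff.mp (hc (mem_top g))
      have hAc : A ≤ center G := by
        intro b hb
        have hle : A ⊔ zpowers x ≤ centralizer ({b} : Set G) := by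
          refine sup_le (fun c hc' => mem_centralizer_singleton_iff.mpr
            (congrArg Subtype.val ((IsMulCommutative.is_comm (M := A)).comm ⟨c, hc'⟩ ⟨b, hb⟩))) ?_
          rw [zpowers_le, mem_centralizer_singleton_iff]
          exact (mem_center_iff.mp hxc b).symm
        rw [htop] at hle
        exact mem_center_iff.mpr fun g => mem_centralizer_singleton_iff.mp (hle (mem_top g))
      have htc : center G = ⊤ := top_le_iff.mp (htop ▸ sup_le hAc (zpowers_le.mpr hxc))
      exact ⟨⟨fun u v => (mem_center_iff.mp (htc ▸ mem_top v) u)⟩⟩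
  -- the subgroup generated by `x` is a self-normalizing Sylow subgroup
  have hxcard : Nat.card (zpowers x) = p ^ 1 := by rw [Nat.card_zpowers, hx, pow_one]
  let S : Sylow p G := Sylow.ofCard (zpowers x) (by
    rw [hxcard, hcard, Nat.factorization_mul (pow_ne_zero _ hq.ne_zero) hp.out.ne_zero,
      Finsupp.add_apply, hp.out.factorization_self, Nat.factorization_eq_zero_of_not_dvd, zero_add]
    intro h
    exact hpq ((Nat.prime_dvd_prime_iff_eq hp.out hq).mp (hp.out.dvd_of_dvd_pow h)).symm)
  have hAx : A ⊓ zpowers x = ⊥ := CfsgLib.Base.inf_eq_bot_of_coprime (by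
    rw [hxcard, pow_one]; exact hcop)
  have hNA : normalizer ((zpowers x : Subgroup G) : Set G) ⊓ A = ⊥ := by
    rw [eq_bot_iff]
    rintro a ⟨haN, haA⟩
    have h1 : x * a * x⁻¹ * a⁻¹ ∈ A ⊓ zpowers x := by
      refine ⟨mul_mem ((inferInstance : A.Normal).conj_mem a haA x) (A.inv_mem haA), ?_⟩
      have h2 := (mem_normalizer_iff.mp haN x⁻¹).mp (inv_mem (mem_zpowers x))
      have h3 := mul_mem (mem_zpowers x) h2
      simpa [mul_assoc] using h3
    rw [hAx, mem_bot, mul_inv_eq_one] at h1
    exact hfix a haA h1
  have hsylow : Nat.card (Sylow p G) = q ^ n := by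
    rw [S.card_eq_index_normalizer]
    have hN : normalizer ((zpowers x : Subgroup G) : Set G) = zpowers x := by
      refine le_antisymm ?_ le_normalizer |>.trans rfl
      refine (eq_of_le_of_card_ge (le_normalizer) ?_).ge
      have h1 := CfsgLib.Base.card_sup_of_disjoint _ A hNA
      have h2 := Nat.le_of_dvd Nat.card_pos
        (card_subgroup_dvd_card (normalizer ((zpowers x : Subgroup G) : Set G) ⊔ A))
      rw [h1, hcard, hn, mul_comm (q ^ n)] at h2
      rw [hxcard, pow_one]
      exact Nat.le_of_mul_le_mul_right h2 (Nat.pow_pos hq.pos)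
    change (normalizer ((zpowers x : Subgroup G) : Set G)).index = _
    rw [hN]
    have h3 := card_mul_index (zpowers x)
    rw [hxcard, pow_one, hcard, mul_comm (q ^ n)] at h3
    exact Nat.eq_of_mul_eq_mul_left hp.out.pos h3
  have hn0 : n ≠ 0 := by
    intro h
    apply hna
    have h1 : Nat.card G = p := by rw [hcard, h, pow_zero, one_mul]
    haveI := isCyclic_of_prime_card h1
    exact IsCyclic.isMulCommutative
  refine ⟨?_, ?_, ?_, ?_⟩
  · -- the order of `A`
    letI : CommGroup A :=
      { (inferInstance : Group A) with mul_comm := fun a b => IsMulCommutative.is_comm.comm a b }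
    let φ : AddMonoid.End (Additive A) := MonoidHom.toAdditive
      { toFun := fun a : A => (⟨x * a * x⁻¹, (inferInstance : A.Normal).conj_mem _ a.2 x⟩ : A)
        map_one' := Subtype.ext (by simp)
        map_mul' := fun a b => Subtype.ext (by simp [mul_assoc]) }
    have hφk : ∀ (k : ℕ) (a : Additive A),
        (((φ ^ k : AddMonoid.End (Additive A)) a).toMul : G) = x ^ k * (a.toMul : G) * (x ^ k)⁻¹ := by
      intro k
      induction k with
      | zero =>
        intro a
        rw [pow_zero, pow_zero, inv_one, mul_one, one_mul]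
        rfl
      | succ k ih =>
        intro a
        rw [pow_succ', pow_succ']
        show x * (((φ ^ k : AddMonoid.End (Additive A)) a).toMul : G) * x⁻¹ = _
        rw [ih]
        group
    have hφp : φ ^ p = 1 := by
      refine AddMonoidHom.ext fun a => ?_
      apply Additive.toMul.injective
      apply Subtype.ext
      refine (hφk p a).trans ?_
      rw [← hx, pow_orderOf_eq_one, one_mul, inv_one, mul_one]
      rfl
    set e := orderOf (q : ZMod p) with he
    have hq1 : (q : ZMod p) ≠ 0 := by
      rw [Ne, ZMod.natCast_eq_zero_iff]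
      intro h
      exact hpq ((Nat.prime_dvd_prime_iff_eq hp.out hq).mp h).symm
    have he0 : e ≠ 0 := by
      intro h
      have h1 := ZMod.pow_card_sub_one_eq_one hq1
      have h2 := orderOf_dvd_of_pow_eq_one h1
      rw [← he, h, zero_dvd_iff] at h2
      have := hp.out.two_le
      omega
    have hqe : q ^ e ≡ 1 [MOD p] := by
      rw [← ZMod.natCast_eq_natCast_iff, Nat.cast_pow, Nat.cast_one]
      exact pow_orderOf_eq_one _
    have hen : e ∣ n := by
      refine orderOf_dvd_of_pow_eq_one ?_
      rw [← Nat.cast_pow, ← Nat.cast_one, ZMod.natCast_eq_natCast_iff, ← hsylow]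
      exact card_sylow_modEq_one p G
    have hle : Nat.card (Additive A) ≤ q ^ e := by
      refine card_le_of_irreducible_end (p := p) hq φ (fun m => ?_) hφp hqe he0 ?_
      · apply Additive.toMul.injective
        rw [toMul_nsmul, toMul_zero]
        exact Subtype.ext (by rw [coe_pow, coe_one]; exact hA.2 _ m.toMul.2)
      · intro B hB
        let B' : Subgroup G := (AddSubgroup.toSubgroup' B).map A.subtype
        have hB'A : B' ≤ A := map_subtype_le _
        have hmem : ∀ m : Additive A, m ∈ B ↔ ((m.toMul : A) : G) ∈ B' := by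
          intro m
          constructor
          · intro hm
            exact ⟨m.toMul, hm, rfl⟩
          · rintro ⟨c, hc, hceq⟩
            have hcm : c = m.toMul := Subtype.ext hceq
            subst hcm
            exact hc
        have hB'n : B'.Normal := hinvnormal B' hB'A x hxA (by
          rintro _ ⟨c, hc, rfl⟩
          exact (hmem (φ (Additive.ofMul c))).mp (hB _ hc))
        rcases hmin B' hB'n hB'A with h | h
        · left
          rw [AddSubgroup.eq_bot_iff_forall]
          intro m hm
          have := (hmem m).mp hm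
          rw [h, mem_bot] at this
          exact Additive.toMul.injective (Subtype.ext this)
        · right
          rw [AddSubgroup.eq_top_iff']
          intro m
          rw [hmem, h]
          exact m.toMul.2
    rw [show Nat.card (Additive A) = Nat.card A from rfl, hn,
      Nat.pow_le_pow_iff_right hq.one_lt] at hle
    rw [hn, le_antisymm hle (Nat.le_of_dvd (Nat.pos_of_ne_zero hn0) hen)]
  · intro hcl
    haveI := hcl S
    haveI : Unique (Sylow p G) := Sylow.unique_of_normal S (hcl S)
    rw [Nat.card_unique] at hsylow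
    exact (Nat.one_lt_pow hn0 hq.one_lt).ne hsylow
  · intro H hH
    by_cases hpH : p ∣ Nat.card H
    · obtain ⟨⟨y, hyH⟩, hy⟩ := exists_prime_orderOf_dvd_card' (G := H) p hpH
      rw [orderOf_mk] at hy
      have hyA : y ∉ A := by
        intro h
        have h1 : orderOf y ∣ Nat.card A := by
          rw [← Subgroup.orderOf_mk y h]; exact orderOf_dvd_natCard _
        rw [hy] at h1
        exact hp.out.ne_one (Nat.eq_one_of_dvd_coprimes hcop h1 dvd_rfl)
      have hn' : (A ⊓ H).Normal := hinvnormal _ inf_le_left y hyA (fun b hb =>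
        ⟨(inferInstance : A.Normal).conj_mem b hb.1 y,
          mul_mem (mul_mem hyH hb.2) (H.inv_mem hyH)⟩)
      rcases hmin _ hn' inf_le_left with h | h
      · refine isPClosed_of_isPGroup (IsPGroup.of_card (n := 1) ?_)
        have h1 := CfsgLib.Base.card_sup_of_disjoint H A (by rw [inf_comm, h])
        have h2 : Nat.card ↥(H ⊔ A) ∣ Nat.card G := card_subgroup_dvd_card _
        rw [h1, hcard, hn, mul_comm (q ^ n)] at h2
        have h3 : Nat.card H ∣ p := Nat.dvd_of_mul_dvd_mul_right (Nat.pow_pos hq.pos) h2
        rw [pow_one]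
        exact Nat.dvd_antisymm h3 hpH
      · exfalso
        apply hH
        rw [eq_top_iff, ← hAout y hyA]
        exact sup_le (h ▸ inf_le_right) (zpowers_le.mpr hyH)
    · exact isPClosed_of_not_dvd hpH
  · intro N _ hN
    rcases hmin (N ⊓ A) inferInstance inf_le_right with h | h
    · exfalso
      apply hN
      rw [eq_bot_iff]
      intro z hz
      have hzc : ∀ a ∈ A, z * a = a * z := by
        intro a ha
        have hc : z * a * z⁻¹ * a⁻¹ ∈ N ⊓ A := by
          refine ⟨?_, mul_mem ((inferInstance : A.Normal).conj_mem a ha z) (A.inv_mem ha)⟩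
          rw [mul_assoc, mul_assoc z]
          exact mul_mem hz (by
            rw [← mul_assoc]
            exact (inferInstance : N.Normal).conj_mem _ (N.inv_mem hz) a)
        rw [h, mem_bot, mul_inv_eq_one] at hc
        exact mul_inv_eq_iff_eq_mul.mp hc
      by_contra hz1
      rw [mem_bot] at hz1
      have hzA : z ∉ A := fun hA' => hz1 (by
        have : z ∈ N ⊓ A := ⟨hz, hA'⟩
        rwa [h, mem_bot] at this)
      -- then `A` is central
      apply hna
      have hAc : A ≤ center G := by
        intro a ha
        have hle : A ⊔ zpowers z ≤ centralizer ({a} : Set G) := sup_le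
          (fun c hc => mem_centralizer_singleton_iff.mpr
            (congrArg Subtype.val ((IsMulCommutative.is_comm (M := A)).comm ⟨c, hc⟩ ⟨a, ha⟩)))
          (zpowers_le.mpr (mem_centralizer_singleton_iff.mpr (hzc a ha)))
        rw [hAout z hzA] at hle
        exact mem_center_iff.mpr fun g => mem_centralizer_singleton_iff.mp (hle (mem_top g))
      have hxc : x ∈ center G := by
        have hle : A ⊔ zpowers x ≤ centralizer ({x} : Set G) := sup_le
          (fun c hc => mem_centralizer_singleton_iff.mpr (mem_center_iff.mp (hAc hc) x).symm)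
          (zpowers_le.mpr (mem_centralizer_singleton_iff.mpr rfl))
        rw [htop] at hle
        exact mem_center_iff.mpr fun g => mem_centralizer_singleton_iff.mp (hle (mem_top g))
      have htc : center G = ⊤ := top_le_iff.mp (htop ▸ sup_le hAc (zpowers_le.mpr hxc))
      exact ⟨⟨fun u v => (mem_center_iff.mp (htc ▸ mem_top v) u)⟩⟩
    · have hAN : A ≤ N := h ▸ inf_le_left
      have h1 : N.index ∣ p := hidx ▸ index_dvd_of_le hAN
      refine isPClosed_of_isPGroup ?_
      rcases (Nat.dvd_prime hp.out).mp h1 with h2 | h2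
      · exact IsPGroup.of_card (n := 0) (by rw [pow_zero]; exact h2)
      · exact IsPGroup.of_card (n := 1) (by rw [pow_one]; exact h2)

end CfsgLib.PGroups
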