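import Cfsg.Agent.Lib.PGroups.OddOrderClassCount
import Cfsg.Prelude.Def_OddOrderLocal

/-!
# More than half of `|G|_π` classes of π-elements, `2 ∈ π`
-/

set_option autoImplicit false
set_option linter.style.haveILetI false

universe u

namespace CfsgLib.PGroups.PiClassCountTwo

open Subgroup
open scoped commutatorElement

variable {G : Type u} [Group G] [Finite G]

theorem half_lt_prime_part {π : Finset ℕ} (hπ : ∀ r ∈ π, r.Prime) {r : ℕ} [Fact r.Prime] (hr : r ∈ π)
    (hk : piPart π (Nat.card G) < 2 * Nat.card (piClasses π G)) (P : Sylow r G) :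
    Nat.card (P : Subgroup G) < 2 * Nat.card (piClasses {r} G) := by
  have hle := card_piClasses_le_mul hπ hr (G := G)
  by_contra hge
  push Not at hge
  rw [piPart, ← Finset.mul_prod_erase π _ hr, ← P.card_eq_multiplicity] at hk
  have := Nat.mul_le_mul_right (piPart (π.erase r) (Nat.card G)) hge
  simp only [piPart] at this hle
  nlinarith

theorem main (π : Finset ℕ) (hπ : ∀ r ∈ π, r.Prime) (h2 : 2 ∈ π)
    (hk : piPart π (Nat.card G) < 2 * Nat.card (piClasses π G)) :
    (∃ N : Subgroup G, N.Normal ∧ (∀ r : ℕ, r.Prime → r ∣ Nat.card ↥N → r ∉ π) ∧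
        ∀ r : ℕ, r.Prime → r ∣ N.index → r ∈ π) ∧
      ∃ H : Subgroup G, Cfsg.IsPiHall ((↑π : Set ℕ) \ {2}) H ∧ IsMulCommutative ↥H := by
  classical
  haveI : Fact (Nat.Prime 2) := ⟨Nat.prime_two⟩
  obtain ⟨P₂⟩ : Nonempty (Sylow 2 G) := inferInstance
  have h2c := TwoClassCount.hasNormalPComplement P₂ (half_lt_prime_part hπ h2 hk P₂)
  obtain ⟨O, hO, hOc⟩ := (CfsgLib.Transfer.exists_normal_isComplement'_iff P₂).mpr h2c
  haveI := hO
  have hO2 : ¬ 2 ∣ Nat.card O := CfsgLib.Transfer.card_eq_of_isComplement' P₂ hOc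
  have hOi : ∃ k, O.index = 2 ^ k := CfsgLib.Transfer.index_pow_of_isComplement' P₂ hOc
  have hOodd : Odd (Nat.card O) := Nat.odd_iff.2 (by omega)
  -- in the odd part
  have key : ∀ r ∈ π.erase 2, ∃ M : Subgroup O, M.Normal ∧ ¬ r ∣ Nat.card M ∧
      (∃ k, M.index = r ^ k) ∧ commutator O ≤ M := by
    intro r hr
    obtain ⟨hr2, hrπ⟩ := Finset.mem_erase.1 hr
    haveI : Fact r.Prime := ⟨hπ r hrπ⟩
    obtain ⟨R⟩ : Nonempty (Sylow r O) := inferInstance
    obtain ⟨P, hP⟩ := (R.isPGroup'.map O.subtype).exists_le_sylow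
    have hPO : (P : Subgroup G) ≤ O := by
      intro x hx
      obtain ⟨k, hk'⟩ := IsPGroup.iff_orderOf.1 P.isPGroup' ⟨x, hx⟩
      obtain ⟨j, hj⟩ := hOi
      rw [← QuotientGroup.eq_one_iff, ← orderOf_eq_one_iff]
      refine Nat.eq_one_of_dvd_coprimes (a := r ^ k) (b := 2 ^ j)
        (((Nat.coprime_primes (hπ r hrπ) Nat.prime_two).2 hr2).pow _ _) ?_ ?_
      · exact (orderOf_map_dvd (QuotientGroup.mk' O) x).trans
          (by rw [← hk', Subgroup.orderOf_mk])
      · rw [← hj]; exact orderOf_dvd_natCard _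
    have hPR : Nat.card (R : Subgroup O) = Nat.card (P : Subgroup G) := by
      refine le_antisymm ?_ ?_
      · rw [← Subgroup.card_map_of_injective O.subtype_injective (K := (R : Subgroup O))]
        exact card_le_of_le hP
      · rw [← Nat.card_congr (subgroupOfEquivOfLe hPO).toEquiv]
        obtain ⟨Q, hQ⟩ := (P.isPGroup'.of_equiv (subgroupOfEquivOfLe hPO).symm).exists_le_sylow
        exact (card_le_of_le hQ).trans_eq (by rw [Q.card_eq_multiplicity, R.card_eq_multiplicity])
    -- classes of `r`-elements of `O` cover those of `G`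
    have hle : Nat.card (piClasses {r} G) ≤ Nat.card (piClasses {r} O) := by
      have hval : ∀ c : piClasses {r} O, ∀ y ∈ (ConjClasses.mk ((c.1.out : O) : G)).carrier,
          ∀ s : ℕ, s.Prime → s ∣ orderOf y → s ∈ ({r} : Finset ℕ) := by
        intro c y hy s hs hd
        obtain ⟨g, hg⟩ := isConj_iff.mp (ConjClasses.mk_eq_mk_iff_isConj.mp
          (ConjClasses.mem_carrier_iff_mk_eq.mp hy).symm)
        rw [← hg, show g * ((c.1.out : O) : G) * g⁻¹ = MulAut.conj g ((c.1.out : O) : G) from rfl,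
          MulEquiv.orderOf_eq, Subgroup.orderOf_coe] at hd
        exact c.2 _ (ConjClasses.mem_carrier_iff_mk_eq.mpr (Quotient.out_eq c.1)) s hs hd
      refine Nat.card_le_card_of_surjective
        (fun c => (⟨ConjClasses.mk ((c.1.out : O) : G), hval c⟩ : piClasses {r} G)) ?_
      intro d
      obtain ⟨⟨x, hx⟩, hxd⟩ := sylowClass_surjective P d
      have hxr : ∀ y ∈ (ConjClasses.mk (⟨x, hPO hx⟩ : O)).carrier,
          ∀ s : ℕ, s.Prime → s ∣ orderOf y → s ∈ ({r} : Finset ℕ) := by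
        intro y hy s hs hd
        obtain ⟨g, hg⟩ := isConj_iff.mp (ConjClasses.mk_eq_mk_iff_isConj.mp
          (ConjClasses.mem_carrier_iff_mk_eq.mp hy).symm)
        rw [← hg, show g * (⟨x, hPO hx⟩ : O) * g⁻¹ = MulAut.conj g (⟨x, hPO hx⟩ : O) from rfl,
          MulEquiv.orderOf_eq, Subgroup.orderOf_mk] at hd
        exact Finset.mem_singleton.mpr (mem_of_prime_dvd_orderOf P.2 ⟨x, hx⟩ s hs
          (by rwa [Subgroup.orderOf_mk]))
      refine ⟨⟨ConjClasses.mk ⟨x, hPO hx⟩, hxr⟩, ?_⟩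
      rw [← hxd]
      refine Subtype.ext (ConjClasses.mk_eq_mk_iff_isConj.mpr ?_)
      exact O.subtype.map_isConj (ConjClasses.mk_eq_mk_iff_isConj.mp
        (Quotient.out_eq (ConjClasses.mk (⟨x, hPO hx⟩ : O))))
    have hk' : Nat.card (R : Subgroup O) < 2 * Nat.card (piClasses {r} O) := by
      have := half_lt_prime_part hπ hrπ hk P
      omega
    obtain ⟨hc, hab⟩ := OddOrderClassCount.hasNormalPComplement hr2 hOodd R hk'
    obtain ⟨M, hM, hMc⟩ := (CfsgLib.Transfer.exists_normal_isComplement'_iff R).mpr hc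
    haveI := hM
    refine ⟨M, hM, CfsgLib.Transfer.card_eq_of_isComplement' R hMc,
      CfsgLib.Transfer.index_pow_of_isComplement' R hMc, ?_⟩
    rw [commutator_eq_closure, Subgroup.closure_le]
    rintro _ ⟨g, g', rfl⟩
    obtain ⟨⟨a, b⟩, hab', -⟩ := hMc.existsUnique g
    obtain ⟨⟨a', b'⟩, hab'', -⟩ := hMc.existsUnique g'
    have hga : (g : O ⧸ M) = (b : O) := by
      rw [← hab', QuotientGroup.mk_mul, (QuotientGroup.eq_one_iff (a : O)).mpr a.2, one_mul]
    have hgb : (g' : O ⧸ M) = (b' : O) := by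
      rw [← hab'', QuotientGroup.mk_mul, (QuotientGroup.eq_one_iff (a' : O)).mpr a'.2, one_mul]
    have h5 : (b : O) * b' = b' * b := congrArg Subtype.val (hab.is_comm.comm b b')
    rw [SetLike.mem_coe, ← QuotientGroup.eq_one_iff, ← QuotientGroup.mk'_apply,
      map_commutatorElement, commutatorElement_eq_one_iff_mul_comm, QuotientGroup.mk'_apply,
      QuotientGroup.mk'_apply, hga, hgb, ← QuotientGroup.mk_mul, ← QuotientGroup.mk_mul, h5]
  have hinf : ∀ s : Finset ℕ, s ⊆ π.erase 2 → ∃ M : Subgroup O, M.Normal ∧ commutator O ≤ M ∧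
      (∀ r ∈ s, ¬ r ∣ Nat.card M) ∧ ∀ q : ℕ, q.Prime → q ∣ M.index → q ∈ π.erase 2 := by
    intro s
    induction s using Finset.induction_on with
    | empty =>
      exact fun _ => ⟨⊤, inferInstance, le_top, by simp, fun q hq h => by
        rw [Subgroup.index_top] at h; exact absurd (Nat.dvd_one.mp h) hq.ne_one⟩
    | insert r s _ ih =>
      intro hs
      obtain ⟨A, hA, hAc, hAd, hAi⟩ := ih ((Finset.subset_insert r s).trans hs)
      obtain ⟨B, hB, hBd, ⟨k, hk⟩, hBc⟩ := key r (hs (Finset.mem_insert_self r s))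
      haveI := hA
      haveI := hB
      refine ⟨A ⊓ B, inferInstance, le_inf hAc hBc, fun t ht => ?_, fun q hq h => ?_⟩
      · rcases Finset.mem_insert.mp ht with rfl | ht
        · exact fun h => hBd (h.trans (Subgroup.card_dvd_of_le inf_le_right))
        · exact fun h => hAd t ht (h.trans (Subgroup.card_dvd_of_le inf_le_left))
      · rw [← Subgroup.relIndex_mul_index (inf_le_right : A ⊓ B ≤ B), Subgroup.inf_relIndex_right] at h
        rcases hq.dvd_mul.mp h with h | h
        · exact hAi q hq (h.trans (Subgroup.relIndex_dvd_index_of_normal A B))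
        · rw [hk] at h
          exact (Nat.prime_dvd_prime_iff_eq hq (hπ r (Finset.mem_of_mem_erase
            (hs (Finset.mem_insert_self r s))))).mp
            (hq.dvd_of_dvd_pow h) ▸ hs (Finset.mem_insert_self r s)
  obtain ⟨M, hM, hMc, hMd, hMi⟩ := hinf _ subset_rfl
  haveI := hM
  set K := M.map O.subtype
  have hMcard : Nat.card K = Nat.card M := Subgroup.card_map_of_injective O.subtype_injective
  have hcopM : Nat.Coprime (Nat.card M) M.index :=
    Nat.coprime_of_dvd' fun q hq h1 h2 => absurd h1 (hMd q (hMi q hq h2))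
  refine ⟨⟨K, ⟨?_⟩, fun r hr hd hrπ => ?_, fun r hr hd => ?_⟩, ?_⟩
  · rintro _ ⟨m, hm, rfl⟩ g
    refine ⟨⟨g * (m : G) * g⁻¹, hO.conj_mem _ m.2 g⟩, ?_, rfl⟩
    refine (QuotientGroup.eq_one_iff _).1 (orderOf_eq_one_iff.1
      (Nat.eq_one_of_dvd_coprimes hcopM ?_ (orderOf_dvd_natCard _)))
    refine (orderOf_map_dvd (QuotientGroup.mk' M) _).trans ?_
    rw [Subgroup.orderOf_mk, ← MulAut.conj_apply, MulEquiv.orderOf_eq, Subgroup.orderOf_coe]
    simpa using orderOf_dvd_natCard (⟨m, hm⟩ : M)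
  · rw [hMcard] at hd
    by_cases hr2 : r = 2
    · exact hO2 (hr2 ▸ hd.trans (Subgroup.card_subgroup_dvd_card M))
    · exact hMd r (Finset.mem_erase.2 ⟨hr2, hrπ⟩) hd
  · rw [show K.index = M.index * O.index from Subgroup.index_map_subtype M] at hd
    rcases hr.dvd_mul.mp hd with h | h
    · exact Finset.mem_of_mem_erase (hMi r hr h)
    · obtain ⟨j, hj⟩ := hOi
      rw [hj] at h
      rw [(Nat.prime_dvd_prime_iff_eq hr Nat.prime_two).mp (hr.dvd_of_dvd_pow h)]
      exact h2
  · obtain ⟨H, hH⟩ := Subgroup.exists_right_complement'_of_coprime (N := M) hcopM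
    refine ⟨H.map O.subtype, ⟨fun q hq hd => ?_, fun q hq hqπ hd => ?_⟩, ⟨⟨?_⟩⟩⟩
    · rw [Subgroup.card_map_of_injective O.subtype_injective, ← hH.symm.index_eq_card] at hd
      exact ⟨Finset.mem_of_mem_erase (hMi q hq hd), (Finset.mem_erase.1 (hMi q hq hd)).1⟩
    · rw [Subgroup.index_map_subtype H, hH.index_eq_card] at hd
      rcases hq.dvd_mul.mp hd with h | h
      · exact hMd q (Finset.mem_erase.2 ⟨hqπ.2, hqπ.1⟩) h
      · obtain ⟨j, hj⟩ := hOi
        rw [hj] at h
        exact hqπ.2 ((Nat.prime_dvd_prime_iff_eq hq Nat.prime_two).mp (hq.dvd_of_dvd_pow h))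
    · rintro ⟨_, a, ha, rfl⟩ ⟨_, b, hb, rfl⟩
      refine Subtype.ext (congrArg O.subtype (commutatorElement_eq_one_iff_mul_comm.mp ?_))
      exact Subgroup.disjoint_def.mp hH.disjoint
        (hMc (Subgroup.commutator_mem_commutator (Subgroup.mem_top _) (Subgroup.mem_top _)))
        (by rw [commutatorElement_def]; exact mul_mem (mul_mem (mul_mem ha hb) (inv_mem ha)) (inv_mem hb))

end CfsgLib.PGroups.PiClassCountTwo
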