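import Mathlib
import Cfsg.Agent.Lib.Base.ThompsonFPF
import Cfsg.Agent.Lib.Base.Cores
import Cfsg.Agent.Lib.Coprime.Action
import Cfsg.Agent.Lib.PGroups.Basic
import Cfsg.Agent.Lib.FT.OddOrderTheorem

/-!
# A normal subgroup with a coset of prime power elements having maximal centralizers is solvable
-/

set_option autoImplicit false
set_option linter.style.haveILetI false

namespace CfsgLib.PGroups

open Subgroup

universe u

variable {G : Type u} [Group G] [Finite G]

theorem isPGroup_of_forall_prime {p : ℕ} [Fact p.Prime] (H : Subgroup G)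
    (h : ∀ r : ℕ, r.Prime → r ≠ p → ∀ n ∈ H, orderOf n ≠ r) : IsPGroup p H := by
  refine IsPGroup.of_card (n := (Nat.card H).primeFactorsList.length)
    (Nat.eq_prime_pow_of_unique_prime_dvd Nat.card_pos.ne' fun {d} hd hdvd => ?_)
  by_contra hne
  haveI := Fact.mk hd
  obtain ⟨n, hn⟩ := exists_prime_orderOf_dvd_card' (G := H) d hdvd
  exact h d hd hne n n.2 (by rw [Subgroup.orderOf_coe]; exact hn)

theorem isSolvable_of_normal_of_quotient {N K : Subgroup G} [K.Normal]
    (hK : Group.IsSolvable K) (hNK : Group.IsSolvable (N.map (QuotientGroup.mk' K))) :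
    Group.IsSolvable N := by
  let f := (QuotientGroup.mk' K).subgroupMap N
  have hker : Group.IsSolvable f.ker := by
    haveI := hK
    refine Group.isSolvable_of_isSolvable_injective (f :=
      ({ toFun := fun z => ⟨((z : N) : G), ?_⟩, map_one' := rfl, map_mul' := fun _ _ => rfl } : f.ker →* K))
      fun a b h => ?_
    · exact (QuotientGroup.eq_one_iff _).1 (congrArg Subtype.val z.2)
    · exact Subtype.ext (Subtype.ext (congrArg (fun w : K => (w : G)) h))
  haveI := hker
  haveI := hNK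
  exact Group.isSolvable_of_ker_le_range f.ker.subtype f (by rw [range_subtype])

/-- **Prime power cosets with maximal centralizers.** -/
theorem isSolvable_of_primePow_maximal (N : Subgroup G) [N.Normal] (hN : N ≠ ⊤)
    (h : ∀ x : G, x ∉ N → IsPrimePow (orderOf x) ∧ IsCoatom (centralizer ({x} : Set G))) :
    Group.IsSolvable N := by
  classical
  obtain ⟨g₀, hg₀⟩ : ∃ g : G, g ∉ N := by
    by_contra hall
    push Not at hall
    exact hN (eq_top_iff.2 fun g _ => hall g)
  obtain ⟨p, hp, hpd⟩ := Nat.exists_prime_and_dvd (n := Nat.card (G ⧸ N))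
    (fun hc => hg₀ ((QuotientGroup.eq_one_iff g₀).1
      (@Subsingleton.elim _ (Nat.card_eq_one_iff_unique.1 hc).1 _ _)))
  haveI := Fact.mk hp
  obtain ⟨q₀, hq₀⟩ := exists_prime_orderOf_dvd_card' (G := G ⧸ N) p hpd
  obtain ⟨x, rfl⟩ := QuotientGroup.mk_surjective q₀
  set X : Set G := {y : G | (y : G ⧸ N) = (x : G ⧸ N)} with hX
  have hXN : ∀ y ∈ X, y ∉ N := fun y hy hyN => by
    rw [← QuotientGroup.eq_one_iff] at hyN
    rw [← show (y : G ⧸ N) = (x : G ⧸ N) from hy, hyN, orderOf_one] at hq₀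
    exact hp.ne_one hq₀.symm
  have hXp : ∀ y ∈ X, ∃ k, orderOf y = p ^ k := by
    intro y hy
    obtain ⟨r, k, hr, -, hrk⟩ := (isPrimePow_nat_iff _).1 (h y (hXN y hy)).1
    have h1 : p ∣ orderOf y := by
      rw [← hq₀, ← show (y : G ⧸ N) = (x : G ⧸ N) from hy]
      exact orderOf_map_dvd (QuotientGroup.mk' N) y
    rw [← hrk] at h1
    exact ⟨k, by rw [(Nat.prime_dvd_prime_iff_eq hp hr).1 (hp.dvd_of_dvd_pow h1), hrk]⟩
  have hXpow : ∀ y ∈ X, y ^ p ∈ N := fun y hy => by
    rw [← QuotientGroup.eq_one_iff, QuotientGroup.mk_pow, show (y : G ⧸ N) = (x : G ⧸ N) from hy,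
      ← hq₀, pow_orderOf_eq_one]
  have hmul : ∀ y ∈ X, ∀ n ∈ N, y * n ∈ X := fun y hy n hn => by
    show ((y * n : G) : G ⧸ N) = _
    rw [QuotientGroup.mk_mul, (QuotientGroup.eq_one_iff n).2 hn, mul_one]; exact hy
  have hcp : ∀ y ∈ X, IsPGroup p (centralizer ({y} : Set G) ⊓ N : Subgroup G) := by
    intro y hy
    refine isPGroup_of_forall_prime _ fun r hr hrp n hn hnr => ?_
    obtain ⟨k, hk⟩ := hXp y hy
    obtain ⟨j, hj⟩ := hXp _ (hmul y hy n hn.2)
    have hcop : Nat.Coprime (orderOf y) (orderOf n) := by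
      rw [hk, hnr]; exact Nat.Coprime.pow_left k ((Nat.coprime_primes hp hr).2 (Ne.symm hrp))
    rw [(show Commute y n from (mem_centralizer_singleton_iff.1 hn.1).symm).orderOf_mul_eq_mul_orderOf_of_coprime hcop,
      hnr] at hj
    exact hrp ((Nat.prime_dvd_prime_iff_eq hr hp).1 (hr.dvd_of_dvd_pow (n := j) (hj ▸ dvd_mul_left r _)))
  by_contra hns
  have hnp : ¬ IsPGroup p N := fun hp' => hns (by
    haveI := hp'.isNilpotent
    infer_instance)
  -- each centralizer meets `N` in a self-normalizing Sylow subgroup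
  have hkey : ∀ y ∈ X, normalizer ((centralizer ({y} : Set G) ⊓ N : Subgroup G) : Set G) ≤ centralizer ({y} : Set G) ∧
      ∃ S : Sylow p N, (S : Subgroup N).map N.subtype = centralizer ({y} : Set G) ⊓ N := by
    intro y hy
    set C := centralizer ({y} : Set G) with hC
    set P := C ⊓ N with hP
    have hmax : IsCoatom C := (h y (hXN y hy)).2
    have hPp : IsPGroup p P := hcp y hy
    have hNC : ¬ N ≤ C := fun hle => hnp (hPp.to_le (le_inf hle le_rfl))
    have hle : C ≤ normalizer (P : Set G) := by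
      refine le_trans ?_ (CfsgLib.Coprime.le_normalizer_inf_inf (A := C) le_normalizer
        ((le_of_eq_of_le rfl le_top).trans (normalizer_eq_top (H := N)).ge))
      exact le_rfl
    rcases (eq_or_lt_of_le hle) with heq | hlt
    · refine ⟨heq.ge, ?_⟩
      have hPN : IsPGroup p (P.subgroupOf N) :=
        hPp.comap_of_injective N.subtype N.subtype_injective
      obtain ⟨S, hS⟩ := hPN.exists_le_sylow
      refine ⟨S, le_antisymm ?_ ?_⟩
      · rcases hS.lt_or_eq with hlt' | heq'
        · exfalso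
          have hsub : (P.subgroupOf N).subgroupOf (S : Subgroup N) < ⊤ := by
            rw [lt_top_iff_ne_top, Ne, subgroupOf_eq_top]
            exact not_le_of_gt hlt'
          obtain ⟨s, hsn, hsm⟩ := SetLike.exists_of_lt (lt_normalizer S.2 hsub)
          refine hsm ?_
          show ((s : N) : G) ∈ P
          refine ⟨heq.ge (mem_normalizer_fintype fun a ha => ?_), (s : N).2⟩
          have ha' : (⟨a, ha.2⟩ : N) ∈ P.subgroupOf N := ha
          exact (mem_normalizer_iff.1 hsn ⟨⟨a, ha.2⟩, hS ha'⟩).1 ha'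
        · rw [← heq']
          rintro _ ⟨z, hz, rfl⟩
          exact hz
      · intro z hz
        exact ⟨⟨z, hz.2⟩, hS hz, rfl⟩
    · exfalso
      haveI : P.Normal := normalizer_eq_top_iff.1 (hmax.2 _ hlt)
      set π := QuotientGroup.mk' P with hπ
      set L := N ⊓ (centralizer ({π y} : Set (G ⧸ P))).comap π with hL
      have hPL : P ≤ L := fun z hz => ⟨hz.2, show π z ∈ centralizer ({π y} : Set (G ⧸ P)) by
        rw [mem_centralizer_singleton_iff, hπ, QuotientGroup.mk'_apply, (QuotientGroup.eq_one_iff z).2 hz,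
          one_mul, mul_one]⟩
      have hCL : C ≤ normalizer (L : Set G) := by
        refine fun c hc => mem_normalizer_fintype fun l hl => ⟨Subgroup.Normal.conj_mem inferInstance l hl.1 c, ?_⟩
        have h1 : π c * π y = π y * π c := by rw [← map_mul, ← map_mul, mem_centralizer_singleton_iff.1 hc]
        have h2 : π l * π y = π y * π l := mem_centralizer_singleton_iff.1 hl.2
        show π (c * l * c⁻¹) ∈ centralizer ({π y} : Set (G ⧸ P))
        rw [map_mul, map_mul, map_inv]
        exact mul_mem (mul_mem (mem_centralizer_singleton_iff.2 h1) (mem_centralizer_singleton_iff.2 h2))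
          (inv_mem (mem_centralizer_singleton_iff.2 h1))
      by_cases hLC : L ≤ C
      · -- `y` acts fixed-point-freely on `N / P`
        set M := N.map π with hM
        haveI : M.Normal := Subgroup.Normal.map inferInstance π (QuotientGroup.mk'_surjective P)
        have hfpf : MonoidHom.FixedPointFree ((MulAut.conjNormal (π y) : MulAut M) : M → M) := by
          rintro ⟨_, n, hn, rfl⟩ hfix
          have h1 : π y * π n * (π y)⁻¹ = π n := by
            have := congrArg (fun z : M => (z : G ⧸ P)) hfix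
            simpa [MulAut.conjNormal_apply] using this
          have hnL : n ∈ L := ⟨hn, mem_centralizer_singleton_iff.2 (mul_inv_eq_iff_eq_mul.1 h1).symm⟩
          exact Subtype.ext ((QuotientGroup.eq_one_iff n).2 ⟨hLC hnL, hn⟩)
        have hpow : (MulAut.conjNormal (π y) : MulAut M) ^ p = 1 := by
          rw [← map_pow, ← map_pow, hπ, QuotientGroup.mk'_apply, (QuotientGroup.eq_one_iff _).2
            (show y ^ p ∈ P from ⟨pow_mem (mem_centralizer_singleton_iff.2 rfl) p, hXpow y hy⟩), map_one]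
        haveI := CfsgLib.Base.isNilpotent_of_fixedPointFree _ hfpf hp hpow
        haveI := hPp.isNilpotent
        exact hns (isSolvable_of_normal_of_quotient (K := P) inferInstance inferInstance)
      · have htop : C ⊔ L = ⊤ := hmax.2 _ (lt_of_le_of_ne le_sup_left fun he => hLC (he ▸ le_sup_right))
        have hNL : N ≤ L := by
          intro n hn
          have hn' : n ∈ ((C ⊔ L : Subgroup G) : Set G) := by rw [htop]; exact mem_top n
          rw [coe_mul_of_left_le_normalizer_right _ _ hCL] at hn'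
          obtain ⟨c, hc, l, hl, rfl⟩ := hn'
          exact mul_mem (hPL ⟨hc, (mul_mem_cancel_right (show l ∈ N from hl.1)).1 hn⟩) hl
        refine hnp (isPGroup_of_forall_prime _ fun r hr hrp n hn hnr => ?_)
        haveI := Fact.mk hr
        obtain ⟨j, hj⟩ := hXp _ (hmul y hy n hn)
        obtain ⟨k, hk⟩ := hXp y hy
        have hπy : π y ≠ 1 := fun h1 => hXN y hy ((QuotientGroup.eq_one_iff y).1 h1).2
        have hπn : π n ≠ 1 := fun h1 => by
          obtain ⟨i, hi⟩ := IsPGroup.iff_orderOf.1 hPp ⟨n, (QuotientGroup.eq_one_iff n).1 h1⟩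
          rw [← Subgroup.orderOf_coe, Subtype.coe_mk, hnr] at hi
          exact hrp ((Nat.prime_dvd_prime_iff_eq hr hp).1 (hr.dvd_of_dvd_pow (n := i) hi.dvd))
        have hon : orderOf (π n) = r := orderOf_eq_prime (by
          rw [← map_pow, ← hnr, pow_orderOf_eq_one, map_one]) hπn
        have hoy : orderOf (π y) ∣ p ^ k := hk ▸ orderOf_map_dvd π y
        have hcomm : Commute (π y) (π n) := (mem_centralizer_singleton_iff.1 (hNL hn).2).symm
        have h2 : orderOf (π y) * r ∣ p ^ j := by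
          rw [← hon, ← hcomm.orderOf_mul_eq_mul_orderOf_of_coprime ?_, ← map_mul, ← hj]
          · exact orderOf_map_dvd π _
          · rw [hon]
            exact Nat.Coprime.coprime_dvd_left hoy (Nat.Coprime.pow_left k ((Nat.coprime_primes hp hr).2 (Ne.symm hrp)))
        exact hrp ((Nat.prime_dvd_prime_iff_eq hr hp).1 (hr.dvd_of_dvd_pow (n := j) (dvd_trans (dvd_mul_left r _) h2)))
  have hxX : x ∈ X := rfl
  obtain ⟨hnorm, S, hS⟩ := hkey x hxX
  set C := centralizer ({x} : Set G) with hC
  set P := C ⊓ N with hP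
  -- every element of the coset is conjugate into `x Z(P)`
  set Z := P ⊓ centralizer (P : Set G) with hZ
  have hconj : ∀ y ∈ X, ∃ u ∈ Z, ∃ m ∈ N, y = m * (x * u) * m⁻¹ := by
    intro y hy
    obtain ⟨-, S', hS'⟩ := hkey y hy
    obtain ⟨n, hn⟩ := MulAction.exists_smul_eq N S' S
    have hy' : (n : G) * y * (n : G)⁻¹ ∈ X := by
      show (((n : G) * y * (n : G)⁻¹ : G) : G ⧸ N) = _
      rw [QuotientGroup.mk_mul, QuotientGroup.mk_mul, QuotientGroup.mk_inv, (QuotientGroup.eq_one_iff (n : G)).2 n.2,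
        inv_one, one_mul, mul_one]
      exact hy
    have hPc : ∀ a ∈ P, ((n : G) * y * (n : G)⁻¹) * a = a * ((n : G) * y * (n : G)⁻¹) := by
      intro a ha
      obtain ⟨b, hb, rfl⟩ := hS.ge ha
      rw [← hn] at hb
      obtain ⟨c, hc, hcb⟩ := hb
      have h1 : (c : G) ∈ centralizer ({y} : Set G) ⊓ N := hS' ▸ ⟨c, hc, rfl⟩
      have h2 := mem_centralizer_singleton_iff.1 h1.1
      rw [← hcb]
      show (n : G) * y * (n : G)⁻¹ * ((n : G) * c * (n : G)⁻¹) = (n : G) * c * (n : G)⁻¹ * ((n : G) * y * (n : G)⁻¹)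
      calc _ = (n : G) * (y * c) * (n : G)⁻¹ := by group
        _ = (n : G) * (c * y) * (n : G)⁻¹ := by rw [h2]
        _ = _ := by group
    set u := x⁻¹ * ((n : G) * y * (n : G)⁻¹) with hu
    have huN : u ∈ N := QuotientGroup.eq.1 (show (x : G ⧸ N) = _ from hy'.symm)
    have huP : u ∈ centralizer (P : Set G) := fun a ha => by
      have h1 := hPc a ha
      have h2 : Commute a x := mem_centralizer_singleton_iff.1 ha.1
      show a * (x⁻¹ * ((n : G) * y * (n : G)⁻¹)) = x⁻¹ * ((n : G) * y * (n : G)⁻¹) * a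
      rw [← mul_assoc, h2.inv_right.eq, mul_assoc, ← h1, ← mul_assoc]
    refine ⟨u, ⟨⟨hnorm (centralizer_le_normalizer _ huP), huN⟩, huP⟩, (n : G)⁻¹, inv_mem n.2, ?_⟩
    rw [hu, mul_inv_cancel_left, inv_inv]; group
  -- counting
  have hcardX : Nat.card X = Nat.card N := by
    refine Nat.card_congr
      { toFun := fun y => ⟨x⁻¹ * y.1, QuotientGroup.eq.1 y.2.symm⟩
        invFun := fun n => ⟨x * n.1, hmul x hxX n.1 n.2⟩
        left_inv := fun y => Subtype.ext (mul_inv_cancel_left _ _)
        right_inv := fun n => Subtype.ext (inv_mul_cancel_left _ _) }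
  let Φ : Z × (N ⧸ (S : Subgroup N)) → X := fun a =>
    ⟨((a.2.out : N) : G) * (x * a.1) * ((a.2.out : N) : G)⁻¹, by
      show (_ : G ⧸ N) = _
      rw [QuotientGroup.mk_mul, QuotientGroup.mk_mul, QuotientGroup.mk_inv,
        (QuotientGroup.eq_one_iff ((a.2.out : N) : G)).2 (a.2.out : N).2, inv_one, one_mul, mul_one,
        QuotientGroup.mk_mul, (QuotientGroup.eq_one_iff (a.1 : G)).2 a.1.2.1.2, mul_one]⟩
  have hΦ : Function.Surjective Φ := by
    rintro ⟨y, hy⟩
    obtain ⟨u, hu, m, hm, rfl⟩ := hconj y hy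
    refine ⟨(⟨u, hu⟩, QuotientGroup.mk ⟨m, hm⟩), Subtype.ext ?_⟩
    obtain ⟨s, hs⟩ := QuotientGroup.mk_out_eq_mul (S : Subgroup N) ⟨m, hm⟩
    show ((Quotient.out (QuotientGroup.mk (s := (S : Subgroup N)) (⟨m, hm⟩ : N)) : N) : G) * (x * u) * _⁻¹ = _
    rw [hs]
    have hsP : ((s : N) : G) ∈ P := hS ▸ ⟨s, s.2, rfl⟩
    have h1 : Commute ((s : N) : G) (x * u) :=
      Commute.mul_right (mem_centralizer_singleton_iff.1 hsP.1) (hu.2 _ hsP)
    show m * ((s : N) : G) * (x * u) * (m * ((s : N) : G))⁻¹ = _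
    calc _ = m * (((s : N) : G) * (x * u) * ((s : N) : G)⁻¹) * m⁻¹ := by group
      _ = _ := by rw [h1.eq, mul_inv_cancel_right]
  have hle := Nat.card_le_card_of_surjective Φ hΦ
  rw [hcardX, Nat.card_prod, Subgroup.card_eq_card_quotient_mul_card_subgroup (S : Subgroup N),
    mul_comm (Nat.card Z)] at hle
  have hSP : Nat.card (S : Subgroup N) = Nat.card P := by
    rw [← card_map_of_injective N.subtype_injective, hS]
  have hPZ : P ≤ Z := (eq_of_le_of_card_ge inf_le_left
    (hSP ▸ Nat.le_of_mul_le_mul_left hle Nat.card_pos)).ge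
  have hSab : normalizer ((S : Subgroup N) : Set N) ≤ centralizer ((S : Subgroup N) : Set N) := by
    intro m hm
    have hmP : (m : G) ∈ P := by
      refine ⟨hnorm (mem_normalizer_fintype fun a ha => ?_), m.2⟩
      obtain ⟨b, hb, rfl⟩ := hS.ge ha
      refine hS.le ?_
      exact ⟨m * b * m⁻¹, (mem_normalizer_iff.1 hm b).1 hb, rfl⟩
    exact fun b hb => Subtype.ext ((hPZ hmP).2 _ (hS ▸ ⟨b, hb, rfl⟩))
  set K := (MonoidHom.transferSylow S hSab).ker with hK
  have hKc : (Nat.card K).Coprime p :=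
    ((hp.coprime_iff_not_dvd).2 (MonoidHom.not_dvd_card_ker_transferSylow S hSab)).symm
  set K' := (Cfsg.pPrimeCore p N).map N.subtype with hK'
  haveI : K'.Normal := ConjAct.normal_of_characteristic_of_normal
  have hK'N : K' ≤ N := map_subtype_le _
  have hK'c : (Nat.card K').Coprime p := by
    rw [hK', card_map_of_injective N.subtype_injective]; exact CfsgLib.Base.pPrimeCore_coprime p N
  have hquot : IsPGroup p (N ⧸ Cfsg.pPrimeCore p N) := by
    obtain ⟨a, ha⟩ := IsPGroup.iff_card.1 S.2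
    have h1 : (Cfsg.pPrimeCore p N).index ∣ p ^ a := by
      rw [← ha, ← (MonoidHom.ker_transferSylow_isComplement' S hSab).symm.index_eq_card]
      exact index_dvd_of_le (CfsgLib.Base.le_pPrimeCore hKc)
    obtain ⟨b, -, hb⟩ := (Nat.dvd_prime_pow hp).1 h1
    exact IsPGroup.of_card (n := b) hb
  refine hns ?_
  suffices hsK : Group.IsSolvable K' by
    haveI : Group.IsSolvable (Cfsg.pPrimeCore p N) := by
      haveI := hsK
      exact Group.isSolvable_of_isSolvable_injective
        (f := ((Cfsg.pPrimeCore p N).equivMapOfInjective N.subtype N.subtype_injective).toMonoidHom)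
        (MulEquiv.injective _)
    haveI : Group.IsSolvable (N ⧸ Cfsg.pPrimeCore p N) := by
      haveI := hquot.isNilpotent
      infer_instance
    exact Group.isSolvable_of_ker_le_range (Cfsg.pPrimeCore p N).subtype (QuotientGroup.mk' (Cfsg.pPrimeCore p N))
      (by rw [QuotientGroup.ker_mk', range_subtype])
  by_cases hbot : K' = ⊥
  · rw [hbot]; infer_instance
  obtain ⟨r, hr, hrd⟩ := Nat.exists_prime_and_dvd (n := Nat.card K') (by
    rw [Ne, card_eq_one]; exact hbot)
  haveI := Fact.mk hr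
  set A := zpowers x with hA
  have hAK : A ≤ normalizer (K' : Set G) := by rw [normalizer_eq_top]; exact le_top
  obtain ⟨k, hk⟩ := hXp x hxX
  have hcop : (Nat.card A).Coprime (Nat.card K') := by
    rw [hA, Nat.card_zpowers, hk]; exact Nat.Coprime.pow_left k hK'c.symm
  have hsolv : Group.IsSolvable A ∨ Group.IsSolvable K' :=
    Or.inl (Group.isSolvable_of_comm fun a b => mul_comm' a b)
  have hCA : ∀ z ∈ K', z ∈ C → z = 1 := by
    intro z hz hzC
    have h1 : orderOf z ∣ Nat.card K' := Subgroup.orderOf_coe (⟨z, hz⟩ : K') ▸ orderOf_dvd_natCard (⟨z, hz⟩ : K')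
    obtain ⟨i, hi⟩ := IsPGroup.iff_orderOf.1 (hcp x hxX) ⟨z, hzC, hK'N hz⟩
    replace hi : orderOf z = p ^ i := by rw [← Subgroup.orderOf_coe] at hi; exact hi
    rw [← orderOf_eq_one_iff]
    exact Nat.eq_one_of_dvd_coprimes (Nat.Coprime.pow_right i hK'c) h1 hi.dvd
  obtain ⟨Q, hQA⟩ := CfsgLib.Coprime.exists_invariant_sylow (p := r) hAK hcop hsolv
  set Q' := (Q : Subgroup K').map K'.subtype with hQ'
  have hCQ : C ≤ normalizer (Q' : Set G) := by
    intro c hc
    -- the conjugate is another invariant Sylow subgroup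
    let φ : MulAut K' := MulAut.conjNormal c
    let R : Sylow r K' := φ • Q
    have hR : (R : Subgroup K').map K'.subtype = Q'.map (MulAut.conj c).toMonoidHom := by
      ext z
      constructor
      · rintro ⟨_, ⟨w, hw, rfl⟩, rfl⟩
        exact ⟨w, ⟨w, hw, rfl⟩, rfl⟩
      · rintro ⟨_, ⟨w, hw, rfl⟩, rfl⟩
        exact ⟨φ w, ⟨w, hw, rfl⟩, rfl⟩
    have hRA : A ≤ normalizer ((R : Subgroup K').map K'.subtype : Set G) := by
      rw [hR, hA, zpowers_le, ← CfsgLib.Base.map_conj_eq_self_iff, Subgroup.map_map]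
      have h1 : (MulAut.conj x).toMonoidHom.comp (MulAut.conj c).toMonoidHom =
          (MulAut.conj c).toMonoidHom.comp (MulAut.conj x).toMonoidHom := by
        have hcx : c * x = x * c := mem_centralizer_singleton_iff.1 hc
        ext z
        show x * (c * z * c⁻¹) * x⁻¹ = c * (x * z * x⁻¹) * c⁻¹
        rw [show x * (c * z * c⁻¹) * x⁻¹ = (x * c) * z * (x * c)⁻¹ by group, ← hcx]
        group
      rw [h1, ← Subgroup.map_map, CfsgLib.Base.map_conj_eq_self_iff.2 (hQA (mem_zpowers x))]
    obtain ⟨d, hd, hdR⟩ := CfsgLib.Coprime.invariant_sylow_conj hAK hcop hsolv Q R hQA hRA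
    have hd1 : d = 1 := Subtype.ext (hCA _ d.2 (mem_centralizer_singleton_iff.2
      (mem_centralizer_iff.1 hd x (mem_zpowers x)).symm))
    rw [hd1, map_one, one_smul] at hdR
    rw [← CfsgLib.Base.map_conj_eq_self_iff, ← hR, ← hdR]
  have hQne : ¬ Q' ≤ C := fun hle => by
    refine Q.ne_bot_of_dvd_card hrd (eq_bot_iff.2 fun z hz => mem_bot.2 (Subtype.ext ?_))
    exact hCA _ z.2 (hle ⟨z, hz, rfl⟩)
  have htop : C ⊔ Q' = ⊤ := (h x (hXN x hxX)).2.2 _
    (lt_of_le_of_ne le_sup_left fun he => hQne ((le_sup_right : Q' ≤ C ⊔ Q').trans he.ge))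
  have hKQ : K' ≤ Q' := by
    intro z hz
    have hz' : z ∈ ((C ⊔ Q' : Subgroup G) : Set G) := by rw [htop]; exact mem_top z
    rw [coe_mul_of_left_le_normalizer_right _ _ hCQ] at hz'
    obtain ⟨c, hc, w, hw, rfl⟩ := hz'
    have hwK : w ∈ K' := map_subtype_le _ hw
    rw [hCA c ((mul_mem_cancel_right hwK).1 hz) hc]
    simpa using hw
  have hQp : IsPGroup r K' := (Q.2.map K'.subtype).to_le hKQ
  haveI := hQp.isNilpotent
  infer_instance

end CfsgLib.PGroups
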