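import Cfsg.Agent.S3888
import Cfsg.Agent.Lib.PGroups.SmallClassPower
import Cfsg.Agent.Lib.PLocal.CyclicMaxApps
import Cfsg.Agent.Lib.Base.Rank

/-!
# `p > 3`, `p`-rank at most two: `Ω₁` has exponent `p`

By Blackburn's theorem the group is metacyclic or has class at most three.
-/

set_option autoImplicit false

namespace CfsgLib.PGroups.RankTwoOmega

open Cfsg Subgroup
open scoped commutatorElement

variable {R : Type*} [Group R] {p : ℕ} [Fact p.Prime]

theorem commutator_eq_of_conj {x y u : R} (hu : ∀ g, Commute u g) (h : x⁻¹ * y * x = y * u) :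
    ⁅y, x⁆ = u := by
  have h1 : y * x = x * y * u := by
    rw [mul_assoc x, ← h]; group
  rw [commutatorElement_def, h1, mul_assoc x y, ← (hu y).eq]
  rw [show x * (u * y) * y⁻¹ * x⁻¹ = x * u * x⁻¹ by group, ← (hu x).eq, mul_inv_cancel_right]

theorem smallClass_of_gens (hp : 3 < p) {x y z u : R}
    (hgen : Subgroup.closure ({x, y, z} : Set R) = ⊤) (hu : ∀ g, Commute u g)
    (hyz : y * z = z * y) (hxy : x⁻¹ * y * x = y * u)
    (hxz : x * z = z * x ∨ x⁻¹ * z * x = y * z) :
    SmallClassPower.SmallClass R p := by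
  have hu1 : u ∈ Subgroup.upperCentralSeries R 1 := by
    rw [Subgroup.upperCentralSeries_one, Subgroup.mem_center_iff]
    exact fun g => ((hu g).eq).symm
  have hyx := commutator_eq_of_conj hu hxy
  have hy2 : y ∈ Subgroup.upperCentralSeries R 2 :=
    SmallClassPower.mem_upperCentralSeries_of_generators hgen (by
      rintro s (rfl | rfl | rfl)
      · rw [hyx]; exact hu1
      · rw [commutatorElement_self]; exact one_mem _
      · rw [commutatorElement_eq_one_iff_commute.2 hyz]; exact one_mem _)
  have h12 : Subgroup.upperCentralSeries R 1 ≤ Subgroup.upperCentralSeries R 2 :=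
    Subgroup.upperCentralSeries_mono R one_le_two
  have hzx : ⁅z, x⁆ ∈ Subgroup.upperCentralSeries R 2 := by
    rcases hxz with h | h
    · rw [commutatorElement_eq_one_iff_commute.2 h.symm]; exact one_mem _
    · rw [commutatorElement_def,
        show z * x * z⁻¹ * x⁻¹ = x * (x⁻¹ * z * x * z⁻¹) * x⁻¹ by group, h, mul_inv_cancel_right]
      exact (inferInstance : (Subgroup.upperCentralSeries R 2).Normal).conj_mem y hy2 x
  have hx3 : x ∈ Subgroup.upperCentralSeries R 3 :=
    SmallClassPower.mem_upperCentralSeries_of_generators hgen (by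
      rintro s (rfl | rfl | rfl)
      · rw [commutatorElement_self]; exact one_mem _
      · rw [← commutatorElement_inv, hyx]; exact inv_mem (h12 hu1)
      · rw [← commutatorElement_inv]; exact inv_mem hzx)
  have hz3 : z ∈ Subgroup.upperCentralSeries R 3 :=
    SmallClassPower.mem_upperCentralSeries_of_generators hgen (by
      rintro s (rfl | rfl | rfl)
      · exact hzx
      · rw [commutatorElement_eq_one_iff_commute.2 hyz.symm]; exact one_mem _
      · rw [commutatorElement_self]; exact one_mem _)
  have h3 : Subgroup.upperCentralSeries R 3 = ⊤ := by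
    rw [eq_top_iff, ← hgen, closure_le]
    rintro s (rfl | rfl | rfl)
    · exact hx3
    · exact Subgroup.upperCentralSeries_mono R (by omega : 2 ≤ 3) hy2
    · exact hz3
  exact Or.inr ⟨hp, Subgroup.lowerCentralSeries_eq_bot_iff_upperCentralSeries_eq_top.2 h3⟩

theorem exponent [Finite R] (hp : 3 < p) (hR : IsPGroup p R)
    (hrk : ∀ E : Subgroup R, IsElementaryAbelian p E → Nat.card E ≤ p ^ 2) {g : R}
    (hg : g ∈ Subgroup.closure {x : R | x ^ p = 1}) : g ^ p = 1 := by
  have hpp : p.Prime := Fact.out
  by_cases hcyc : IsCyclic R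
  · letI := hcyc.commGroup
    induction hg using Subgroup.closure_induction with
    | mem a ha => exact ha
    | one => exact one_pow p
    | mul a b _ _ ha hb => rw [mul_pow, ha, hb, one_mul]
    | inv a _ ha => rw [inv_pow, ha, inv_one]
  obtain ⟨n, hn⟩ := IsPGroup.iff_card.1 hR
  rcases Cfsg.Agent.S3888.result (p := p) (by omega) n hn (CfsgLib.Base.pRankLE_iff.2 hrk) with
    hm | ⟨-, x, y, z, hgen, -, -, -, hxz, hyz, hxy⟩ |
      ⟨hn4, s, x, y, z, -, hgen, -, hy, -, hyz, hxy, hxz⟩ | ⟨h3, -⟩
  · have h := (CfsgLib.PLocal.omegaOne_metacyclic (by omega) hR hm hcyc).1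
    refine h.2 g (?_ : g ∈ omegaOne p (⊤ : Subgroup R))
    rw [omegaOne, show {x : R | x ∈ (⊤ : Subgroup R) ∧ x ^ p = 1} = {x : R | x ^ p = 1} by simp]
    exact hg
  · refine SmallClassPower.omega_exponent
      (smallClass_of_gens hp hgen (u := z ^ p ^ (n - 3)) (fun a => ?_) hyz hxy (Or.inl hxz)) hg
    have h1 : Subgroup.closure ({x, y, z} : Set R) ≤ centralizer ({z ^ p ^ (n - 3)} : Set R) := by
      rw [closure_le]
      rintro t (rfl | rfl | rfl)
      · exact mem_centralizer_singleton_iff.2 (Commute.pow_right hxz _).eq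
      · exact mem_centralizer_singleton_iff.2 (Commute.pow_right hyz _).eq
      · exact mem_centralizer_singleton_iff.2 (Commute.self_pow t _).eq
    exact (mem_centralizer_singleton_iff.1 (h1 (hgen ▸ mem_top a))).symm
  · refine SmallClassPower.omega_exponent
      (smallClass_of_gens hp hgen (u := z ^ (s * p ^ (n - 3))) (fun a => ?_) hyz hxy
        (Or.inr hxz)) hg
    set m := s * p ^ (n - 3) with hm
    have hym : y ^ m = 1 := by
      rw [hm, show n - 3 = (n - 4) + 1 by omega, pow_succ, ← mul_assoc, mul_comm, pow_mul, hy,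
        one_pow]
    have hx' : x⁻¹ * z ^ m * x = z ^ m := by
      have h0 : (x⁻¹ * z * x⁻¹⁻¹) ^ m = x⁻¹ * z ^ m * x⁻¹⁻¹ := conj_pow
      rw [inv_inv, hxz, Commute.mul_pow hyz, hym, one_mul] at h0
      exact h0.symm
    have h1 : Subgroup.closure ({x, y, z} : Set R) ≤ centralizer ({z ^ m} : Set R) := by
      rw [closure_le]
      rintro t (rfl | rfl | rfl)
      · refine mem_centralizer_singleton_iff.2 ?_
        rw [mul_assoc, inv_mul_eq_iff_eq_mul] at hx'
        exact hx'.symm
      · exact mem_centralizer_singleton_iff.2 (Commute.pow_right hyz _).eq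
      · exact mem_centralizer_singleton_iff.2 (Commute.self_pow t _).eq
    exact (mem_centralizer_singleton_iff.1 (h1 (hgen ▸ mem_top a))).symm
  · omega

end CfsgLib.PGroups.RankTwoOmega
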