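import Cfsg.Agent.Lib.OddOrder.RankTwoStructure
import Cfsg.Agent.Lib.PLocal.RegularMetacyclic

/-!
`p`-groups of rank at most two, `p ≥ 5`: either metacyclic, or the elements of order dividing `p`
form a subgroup of order `p ^ 3`.
-/

set_option autoImplicit false
set_option linter.unusedSectionVars false

open scoped commutatorElement

namespace CfsgLib.PGroups.RankTwoShape

open Cfsg CfsgLib.OddOrder
open Subgroup

variable {R : Type*} [Group R] [Finite R] {p : ℕ} [Fact p.Prime]

/-- The data of a non-metacyclic group of rank two. -/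
structure Shape (p : ℕ) (X U : Subgroup R) : Prop where
  mem_iff : ∀ x, x ∈ X ↔ x ^ p = 1
  cardX : Nat.card X = p ^ 3
  le : U ≤ X
  normal : U.Normal
  comm : ∀ a ∈ U, ∀ b ∈ U, a * b = b * a
  cardU : Nat.card U = p ^ 2
  index : (centralizer (U : Set R)).index = p
  omega : ∀ z : R, z ∈ centralizer (U : Set R) → z ^ p = 1 → z ∈ U
  comm_center : ∀ g : R, ∀ u ∈ U, ⁅g, u⁆ ∈ U ⊓ center R

theorem metacyclic_or_shape (hp5 : 5 ≤ p) (hR : IsPGroup p R) (hr : PRankLE p 2 R)
    (hnc : ¬ IsCyclic R) : IsMetacyclic R ∨ ∃ X U : Subgroup R, Shape p X U := by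
  classical
  have hpp : p.Prime := Fact.out
  have hp : p ≠ 2 := by omega
  obtain ⟨U, -, hUn, hUe, hU2⟩ := CfsgLib.PLocal.exists_normal_elementary_sq hp hR ⊤ (fun h =>
    hnc (isCyclic_of_surjective (Subgroup.topEquiv (G := R)).toMonoidHom
      (Subgroup.topEquiv (G := R)).surjective))
  obtain ⟨hUc, hUp⟩ := CfsgLib.Base.isElementaryAbelian_iff.1 hUe
  set C := centralizer (U : Set R) with hC
  have hUC : U ≤ C := le_centralizer_iff_isMulCommutative.2 hUe.1
  have hΩ : ∀ z : R, z ∈ C → z ^ p = 1 → z ∈ U := by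
    intro z hz hzp
    have hB := CfsgLib.Base.isElementaryAbelian_sup hUe (CfsgLib.Base.isElementaryAbelian_zpowers hzp)
      (le_centralizer_iff.1 (zpowers_le.2 hz))
    have h1 : U ⊔ zpowers z = U := (eq_of_le_of_card_ge le_sup_left
      (hU2 ▸ CfsgLib.Base.pRankLE_iff.1 hr _ hB)).symm
    exact h1.le (mem_sup_right (mem_zpowers z))
  have hCn : C.Normal := inferInstance
  by_cases hall : ∀ e : R, e ^ p = 1 → e ∈ C
  · left
    refine CfsgLib.PLocal.isMetacyclic_of_card_omegaOne_le (by omega) hR ?_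
    rw [← hU2]
    refine card_le_of_le ?_
    rw [omegaOne, closure_le]
    rintro w ⟨-, hw⟩
    exact hΩ w (hall w hw) hw
  right
  push Not at hall
  obtain ⟨e, hep, heC⟩ := hall
  have hidx : C.index ≤ p := by simpa using CfsgLib.PGroups.index_centralizer_le hR 2 hU2
  have hCidx : C.index = p := by
    obtain ⟨i, hi⟩ := hR.index C
    rcases Nat.eq_zero_or_pos i with h0 | h0
    · exfalso
      exact heC (index_eq_one.1 (by rw [hi, h0, pow_zero] : C.index = 1) ▸ mem_top e)
    · rw [hi] at hidx ⊢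
      have : i ≤ 1 := (Nat.pow_le_pow_iff_right hpp.one_lt).1 (hidx.trans (pow_one p).ge)
      rw [show i = 1 by omega, pow_one]
  -- the line `U ∩ Z(R)`
  have hne : ¬ U ≤ center R := fun h => by
    have : C = ⊤ := eq_top_iff.2 fun u _ => mem_centralizer_iff.2 fun v hv =>
      (mem_center_iff.1 (h hv) u).symm
    rw [this, index_top] at hCidx
    exact hpp.ne_one hCidx.symm
  have hline : Nat.card ↥(U ⊓ center R) = p := by
    obtain ⟨i, hi⟩ := IsPGroup.iff_card.mp (hR.to_subgroup (U ⊓ center R))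
    have hi0 : i ≠ 0 := fun h => CfsgLib.PGroups.inf_center_ne_bot hR (N := U)
      (fun hb => by rw [hb, card_bot] at hU2; exact (Nat.one_lt_pow two_ne_zero hpp.one_lt).ne hU2)
      (card_eq_one.1 (by rw [hi, h, pow_zero]))
    have hlt : U ⊓ center R < U := lt_of_le_of_ne inf_le_left fun h => hne (inf_eq_left.1 h)
    have h2 := CfsgLib.PLocal.card_lt_of_lt hlt
    rw [hi, hU2, Nat.pow_lt_pow_iff_right hpp.one_lt] at h2
    rw [hi, show i = 1 by omega, pow_one]
  have hzeta : ∀ g : R, ∀ u ∈ U, ⁅g, u⁆ ∈ U ⊓ center R := fun g u hu =>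
    commutator_mem_line hUe hU2 inf_le_left hline (normalizer_eq_top U ▸ mem_top g)
      (hR.to_subgroup _) (mem_centralizer_iff.2 fun v hv => (mem_center_iff.1 hv.2 g).symm) hu
  have hprod : ∀ x c : R, c ∈ C → ⁅x, c⁆ ∈ U → (c * x) ^ p = c ^ p * x ^ p := by
    intro x c hc hδ
    have hz := hzeta x _ hδ
    exact mul_pow_unipotent hp5 (mem_centralizer_iff.1 hc _ hδ).symm
      (mem_center_iff.1 hz.2 c) (mem_center_iff.1 hz.2 x) (hUc _ hδ _ hz.1) (hUp _ hδ) (hUp _ hz.1)
  -- the subgroups generated by `U` and such elements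
  have hE : ∀ e, e ∉ C → e ^ p = 1 →
      Nat.card ↥(zpowers e ⊔ U) = p ^ 3 ∧ ∀ v ∈ zpowers e ⊔ U, v ^ p = 1 := by
    intro e heC hep
    have hord : orderOf e = p := orderOf_eq_prime hep fun h => heC (h ▸ one_mem C)
    have hdisj : zpowers e ⊓ U = ⊥ := by
      refine (eq_bot_iff_forall _).2 ?_
      rintro v ⟨hv, hvU⟩
      by_contra hv1
      obtain ⟨i, rfl⟩ := mem_zpowers_iff.1 hv
      have hgen : zpowers (e ^ i) = zpowers e := by
        refine eq_of_le_of_card_ge (zpowers_le.2 hv) ?_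
        rw [Nat.card_zpowers, Nat.card_zpowers, hord, orderOf_eq_prime (hUp _ hvU) hv1]
      exact heC (hUC ((hgen ▸ zpowers_le.2 hvU : zpowers e ≤ U) (mem_zpowers e)))
    refine ⟨?_, fun v hv => ?_⟩
    · have h1 := CfsgLib.Base.card_sup_mul_card_inf (zpowers e) U
      rw [hdisj, card_bot, mul_one, Nat.card_zpowers, hord, hU2] at h1
      rw [h1]; ring
    · rw [sup_comm, mem_sup_of_normal_left] at hv
      obtain ⟨u, hu, w, hw, rfl⟩ := hv
      obtain ⟨i, rfl⟩ := mem_zpowers_iff.1 hw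
      rw [hprod _ u (hUC hu) (hzeta _ u hu).1, hUp u hu, one_mul, ← zpow_natCast, ← zpow_mul,
        mul_comm, zpow_mul, zpow_natCast, hep, one_zpow]
  have hsame : ∀ e y : R, e ∉ C → e ^ p = 1 → y ∉ C → y ^ p = 1 →
      e ∈ normalizer ((zpowers y ⊔ U : Subgroup R) : Set R) →
      y ∈ normalizer ((zpowers e ⊔ U : Subgroup R) : Set R) → y ∈ zpowers e ⊔ U := by
    intro e y heC hep hyC hyp hey hye
    by_contra hy
    set E0 := zpowers e ⊔ U with hE0
    set E1 := zpowers y ⊔ U with hE1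
    -- replace `e` by a power congruent to `y` modulo `C`
    obtain ⟨i, hi⟩ : ∃ i : ℤ, y * (e ^ i)⁻¹ ∈ C := by
      have hlt : C < C ⊔ zpowers e := left_lt_sup.2 fun h => heC (h (mem_zpowers e))
      have htop : C ⊔ zpowers e = ⊤ := by
        refine index_eq_one.1 (((Nat.dvd_prime hpp).1 (hCidx ▸ index_dvd_of_le hlt.le)).resolve_right
          fun h1 => (CfsgLib.PLocal.card_lt_of_lt hlt).ne ?_)
        have e1 := C.card_mul_index
        have e2 := (C ⊔ zpowers e).card_mul_index
        rw [hCidx] at e1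
        rw [h1] at e2
        exact Nat.eq_of_mul_eq_mul_right hpp.pos (e1.trans e2.symm)
      obtain ⟨c, hc, w, hw, hyw⟩ := mem_sup_of_normal_left.1 (htop.ge (mem_top y))
      obtain ⟨i, rfl⟩ := mem_zpowers_iff.1 hw
      exact ⟨i, by rw [← hyw, mul_inv_cancel_right]; exact hc⟩
    set x := e ^ i with hx
    have hxE0 : x ∈ E0 := mem_sup_left (zpow_mem (mem_zpowers e) i)
    have hyE1 : y ∈ E1 := mem_sup_left (mem_zpowers y)
    have hxN : x ∈ normalizer (E1 : Set R) := zpow_mem hey i
    have hinf : E0 ⊓ E1 = U := by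
      refine (eq_of_le_of_card_ge (le_inf le_sup_right le_sup_right) ?_).symm
      have hlt : E0 ⊓ E1 < E1 := lt_of_le_of_ne inf_le_right fun h => hy (h.ge hyE1).1
      obtain ⟨j, hj⟩ := IsPGroup.iff_card.mp (hR.to_subgroup (E0 ⊓ E1))
      have h2 := CfsgLib.PLocal.card_lt_of_lt hlt
      rw [hj, (hE y hyC hyp).1, Nat.pow_lt_pow_iff_right hpp.one_lt] at h2
      rw [hj, hU2]
      exact Nat.pow_le_pow_right hpp.pos (by omega)
    have hδ : ⁅x, y * x⁻¹⁆ ∈ U := by
      have e1 : ⁅x, y * x⁻¹⁆ = ⁅x, y⁆ := by simp only [commutatorElement_def]; group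
      rw [e1, ← hinf]
      refine ⟨?_, ?_⟩
      · rw [commutatorElement_def, show x * y * x⁻¹ * y⁻¹ = x * (y * x⁻¹ * y⁻¹) by group]
        exact E0.mul_mem hxE0 ((mem_normalizer_iff.1 hye _).1 (E0.inv_mem hxE0))
      · rw [commutatorElement_def]
        exact E1.mul_mem ((mem_normalizer_iff.1 hxN _).1 hyE1) (E1.inv_mem hyE1)
    have h1 := hprod x (y * x⁻¹) hi hδ
    rw [inv_mul_cancel_right, hyp, (hE e heC hep).2 x hxE0, mul_one] at h1
    have h2 : y * x⁻¹ ∈ E0 := mem_sup_right (hΩ _ hi h1.symm)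
    exact hy (by simpa using E0.mul_mem h2 hxE0)
  set E := zpowers e ⊔ U with hEdef
  have hconj : ∀ (g : R), (zpowers e ⊔ U).map (MulAut.conj g).toMonoidHom =
      zpowers (g * e * g⁻¹) ⊔ U := by
    intro g
    rw [Subgroup.map_sup, MonoidHom.map_zpowers]
    congr 1
    exact mem_normalizer_iff_map_conj_eq.1 (normalizer_eq_top U ▸ mem_top g)
  have hEn : E.Normal := by
    rw [← normalizer_eq_top_iff]
    by_contra hne'
    have hnc := hR.isNilpotent
    have hlt := (Group.normalizerCondition_of_isNilpotent (G := R)) (normalizer (E : Set R))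
      (lt_top_iff_ne_top.2 hne')
    obtain ⟨g, hg, hgN⟩ := SetLike.exists_of_lt hlt
    set y := g * e * g⁻¹ with hy
    have hyC : y ∉ C := fun h => heC (by simpa [hy, mul_assoc] using hCn.conj_mem _ h g⁻¹)
    have hyp : y ^ p = 1 := by rw [hy, conj_pow, hep, mul_one, mul_inv_cancel]
    have hmapN : (normalizer (E : Set R)).map (MulAut.conj g).toMonoidHom =
        normalizer (E : Set R) := mem_normalizer_iff_map_conj_eq.1 hg
    have hyN : y ∈ normalizer (E : Set R) :=
      hmapN.le ⟨e, le_normalizer (mem_sup_left (mem_zpowers e)), rfl⟩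
    have heN : e ∈ normalizer ((zpowers y ⊔ U : Subgroup R) : Set R) := by
      rw [← hconj g, ← hEdef]
      have h1 : e ∈ (normalizer (E : Set R)).map (MulAut.conj g).toMonoidHom := by
        rw [hmapN]; exact le_normalizer (mem_sup_left (mem_zpowers e))
      exact le_normalizer_map _ h1
    have hyE := hsame e y heC hep hyC hyp heN hyN
    refine hgN ?_
    rw [mem_normalizer_iff_map_conj_eq]
    refine eq_of_le_of_card_ge ?_ (card_map_of_injective (MulAut.conj g).injective).ge
    exact ((congrArg (Subgroup.map _) hEdef).trans (hconj g)).le.trans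
      (sup_le (zpowers_le.2 hyE) le_sup_right)
  refine ⟨E, U, fun v => ⟨(hE e heC hep).2 v, fun hv => ?_⟩, (hE e heC hep).1, le_sup_right, hUn,
    hUc, hU2, hCidx, hΩ, hzeta⟩
  by_cases hvC : v ∈ C
  · exact mem_sup_right (hΩ v hvC hv)
  -- every such subgroup is normal
  have hn2 : (zpowers v ⊔ U).Normal := by
    rw [← normalizer_eq_top_iff]
    by_contra hne'
    have hnc := hR.isNilpotent
    have hlt := (Group.normalizerCondition_of_isNilpotent (G := R)) (normalizer ((zpowers v ⊔ U : Subgroup R) : Set R))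
      (lt_top_iff_ne_top.2 hne')
    obtain ⟨g, hg, hgN⟩ := SetLike.exists_of_lt hlt
    set y := g * v * g⁻¹ with hy
    have hyC : y ∉ C := fun h => hvC (by simpa [hy, mul_assoc] using hCn.conj_mem _ h g⁻¹)
    have hyp : y ^ p = 1 := by rw [hy, conj_pow, hv, mul_one, mul_inv_cancel]
    have hmapN := mem_normalizer_iff_map_conj_eq.1 hg
    have hyN : y ∈ normalizer ((zpowers v ⊔ U : Subgroup R) : Set R) :=
      hmapN.le ⟨v, le_normalizer (mem_sup_left (mem_zpowers v)), rfl⟩
    have hmap : (zpowers v ⊔ U).map (MulAut.conj g).toMonoidHom = zpowers y ⊔ U := by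
      rw [Subgroup.map_sup, MonoidHom.map_zpowers]
      congr 1
      exact mem_normalizer_iff_map_conj_eq.1 (normalizer_eq_top U ▸ mem_top g)
    have hvN : v ∈ normalizer ((zpowers y ⊔ U : Subgroup R) : Set R) := by
      rw [← hmap]
      refine le_normalizer_map _ ?_
      exact hmapN.ge (le_normalizer (mem_sup_left (mem_zpowers v)))
    refine hgN ?_
    rw [mem_normalizer_iff_map_conj_eq]
    refine eq_of_le_of_card_ge ?_ (card_map_of_injective (MulAut.conj g).injective).ge
    exact hmap.le.trans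
      (sup_le (zpowers_le.2 (hsame v y hvC hv hyC hyp hvN hyN)) le_sup_right)
  exact hsame e v heC hep hvC hv (normalizer_eq_top (H := zpowers v ⊔ U) ▸ mem_top e)
    (normalizer_eq_top (H := E) ▸ mem_top v)

end CfsgLib.PGroups.RankTwoShape
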