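import Mathlib
import Cfsg.Agent.Lib.PGroups.Basic
import Cfsg.Agent.Lib.Base.Transport
import Cfsg.Agent.S3807

/-!
# The normalizer tower of a self-centralizing abelian subgroup of index p in its normalizer
-/

set_option autoImplicit false
set_option linter.style.haveILetI false

universe u

namespace CfsgLib.PGroups

open Subgroup
open scoped commutatorElement

variable {p : ℕ} [Fact p.Prime]

theorem relIndex_normalizer_of_lt {P : Type u} [Group P] [Finite P] (hP : IsPGroup p P)
    {H G : Subgroup P} (hH : H.relIndex (normalizer (H : Set P)) = p) (hlt : H < G) :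
    normalizer (H : Set P) ≤ G := by
  have hn := lt_normalizer (hP.to_subgroup G) (H := H.subgroupOf G) (lt_top_iff_ne_top.mpr fun h =>
    hlt.not_ge (subgroupOf_eq_top.mp h))
  have hlt' : H < G ⊓ normalizer (H : Set P) := by
    refine lt_of_le_of_ne (le_inf hlt.le le_normalizer) fun h => hn.ne ?_
    refine le_antisymm hn.le fun x hx => ?_
    rw [← subgroupOf_normalizer_eq hlt.le, mem_subgroupOf] at hx
    rw [mem_subgroupOf]
    exact h.ge ⟨x.2, hx⟩
  have hrel := relIndex_mul_relIndex H (G ⊓ normalizer (H : Set P)) (normalizer (H : Set P))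
    hlt'.le inf_le_right
  rw [hH] at hrel
  rcases (Nat.prime_mul_iff.mp (hrel.symm ▸ (Fact.out : p.Prime))) with ⟨-, h⟩ | ⟨-, h⟩
  · exact (relIndex_eq_one.mp h).trans inf_le_left
  · exact absurd (relIndex_eq_one.mp h) hlt'.not_ge

/-- Steps of index p and classes in the normalizer tower. -/
theorem softTower_aux : ∀ (m : ℕ) {P : Type u} [Group P] [Finite P], IsPGroup p P → Nat.card P ≤ m →
    ∀ E : Subgroup P, IsMulCommutative E → centralizer (E : Set P) ≤ E →
    E.relIndex (normalizer (E : Set P)) = p →
    ∀ K : Subgroup P, E ≤ K → K ≠ ⊤ →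
      K.relIndex (normalizer (K : Set P)) = p ∧
      ∀ (i : ℕ) [Group.IsNilpotent K], E.relIndex K = p ^ i → Group.nilpotencyClass K = i + 1 := by
  intro m
  induction m with
  | zero =>
    intro P _ _ _ hc
    exact absurd hc (not_le.mpr Nat.card_pos)
  | succ m ihm =>
  intro P _ _ hP hcard E hEab hC hN
  have hp : p.Prime := Fact.out
  have hEE : ∀ a ∈ E, ∀ b ∈ E, a * b = b * a := fun a ha b hb =>
    congrArg Subtype.val (hEab.is_comm.comm (⟨a, ha⟩ : E) ⟨b, hb⟩)
  haveI : Nontrivial E := by
    rw [Subgroup.nontrivial_iff_ne_bot]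
    intro h
    have h2 : (⊤ : Subgroup P) ≤ ⊥ := by
      rw [← h]; refine le_trans ?_ hC
      intro g _ a ha
      rw [h] at ha
      rw [mem_bot.mp ha, one_mul, mul_one]
    haveI : Subsingleton P :=
      ⟨fun a b => (mem_bot.mp (h2 (mem_top a))).trans (mem_bot.mp (h2 (mem_top b))).symm⟩
    rw [Subsingleton.elim (normalizer (E : Set P)) E, relIndex_self] at hN
    exact hp.ne_one hN.symm
  intro K
  induction hk : Nat.card K using Nat.strong_induction_on generalizing K with
  | _ c ih =>
  intro hEK hKT
  subst hk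
  rcases hEK.eq_or_lt with rfl | hlt
  · refine ⟨hN, fun i hnil hi => ?_⟩
    rw [relIndex_self] at hi
    rcases i with _ | i
    · haveI := hEab
      refine le_antisymm (Group.IsNilpotent.nilpotencyClass_le_one_iff.mpr hEab) ?_
      refine Nat.one_le_iff_ne_zero.mpr fun h0 => ?_
      exact not_subsingleton E (Group.nilpotencyClass_zero_iff_subsingleton.mp h0)
    · exact absurd hi.symm (Nat.one_lt_pow (by omega) hp.one_lt).ne'
  set N₁ := normalizer (E : Set P) with hN₁
  have hN₁K : N₁ ≤ K := relIndex_normalizer_of_lt hP hN hlt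
  set L := normalizer (K : Set P) with hL
  have hKL : K < L := lt_normalizer hP (lt_top_iff_ne_top.mpr hKT)
  have hclosed : ∀ H : Subgroup P, E ≤ H → H ≤ K → L ≤ normalizer (H : Set P) → H = K := by
    intro H hEH hHK hLH
    by_contra hne
    have hHlt : H < K := lt_of_le_of_ne hHK hne
    have hc : Nat.card H < Nat.card K := lt_of_le_of_ne (card_le_of_le hHK) fun h =>
      hne (eq_of_le_of_card_ge hHK h.ge)
    have h1 := (ih _ hc H rfl hEH (ne_top_of_lt hHlt)).1
    have h2 := relIndex_normalizer_of_lt hP h1 hHlt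
    exact hKL.not_ge (hLH.trans h2)
  -- the centre of `K` as a subgroup of `P`
  set ZK := (center K).map K.subtype with hZK
  have hmemZ : ∀ z, z ∈ ZK ↔ z ∈ K ∧ ∀ k ∈ K, k * z = z * k := by
    intro z
    constructor
    · rintro ⟨w, hw, rfl⟩
      exact ⟨w.2, fun k hk => congrArg Subtype.val (mem_center_iff.mp hw ⟨k, hk⟩)⟩
    · rintro ⟨hz, h⟩
      exact ⟨⟨z, hz⟩, mem_center_iff.mpr fun k => Subtype.ext (h k k.2), rfl⟩
  have hZE : ZK ≤ E := fun z hz => hC fun e he => ((hmemZ z).mp hz).2 e (hEK he)
  have hcenter : ∀ Y : Subgroup P, Y ≤ E → L ≤ normalizer (Y : Set P) → Y ≤ ZK := by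
    intro Y hYE hLY
    have h1 : K ⊓ centralizer (Y : Set P) = K := by
      refine hclosed _ (le_inf hEK fun e he y hy => hEE y (hYE hy) e he) inf_le_left ?_
      intro l hl
      refine mem_normalizer_fintype ?_
      rintro k ⟨hkK, hkY⟩
      refine ⟨(mem_normalizer_iff.mp hl k).mp hkK, fun y hy => ?_⟩
      have hy' : l⁻¹ * y * l ∈ Y := by
        have := (mem_normalizer_iff.mp (hLY (inv_mem hl)) y).mp hy
        rwa [inv_inv] at this
      calc y * (l * k * l⁻¹) = l * ((l⁻¹ * y * l) * k) * l⁻¹ := by group
        _ = l * (k * (l⁻¹ * y * l)) * l⁻¹ := by rw [hkY _ hy']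
        _ = l * k * l⁻¹ * y := by group
    intro y hy
    exact (hmemZ y).mpr ⟨hEK (hYE hy), fun k hk => ((h1.ge hk).2 y hy).symm⟩
  -- `N₁' ≤ Z(K)`
  have hN₁ab : ∀ a ∈ N₁, ∀ b ∈ N₁, ⁅a, b⁆ ∈ ZK := by
    let Y := (Subgroup.upperCentralSeries K 2).map K.subtype
    have hLY : L ≤ normalizer (Y : Set P) :=
      CfsgLib.Base.normalizer_le_normalizer_map_subtype K (Subgroup.upperCentralSeries K 2)
    have hY2 : ∀ b ∈ Y, ∀ k ∈ K, ⁅b, k⁆ ∈ ZK := by
      rintro _ ⟨b, hb, rfl⟩ k hk
      refine ⟨⁅b, (⟨k, hk⟩ : K)⁆, ?_, by rw [map_commutatorElement]; rfl⟩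
      have h1 := (Subgroup.mem_upperCentralSeries_succ_iff.mp hb) ⟨k, hk⟩
      rwa [Subgroup.upperCentralSeries_one] at h1
    by_cases hYE : Y ≤ E
    · exfalso
      have hle := hcenter Y hYE hLY
      haveI := (hP.to_subgroup K).isNilpotent
      have h21 : Subgroup.upperCentralSeries K 2 ≤ Subgroup.upperCentralSeries K 1 := by
        intro b hb
        rw [Subgroup.upperCentralSeries_one]
        obtain ⟨w, hw, hwb⟩ := hle (mem_map_of_mem K.subtype hb)
        rwa [← K.subtype_injective hwb]
      have hst : ∀ j, 1 ≤ j → Subgroup.upperCentralSeries K j ≤ Subgroup.upperCentralSeries K 1 := by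
        intro j hj
        induction j, hj using Nat.le_induction with
        | base => exact le_rfl
        | succ j _ ihj =>
          intro b hb
          refine h21 (Subgroup.mem_upperCentralSeries_succ_iff.mpr fun k => ?_)
          exact ihj (Subgroup.mem_upperCentralSeries_succ_iff.mp hb k)
      obtain ⟨j, hj⟩ := Group.IsNilpotent.nilpotent K
      have htop : Subgroup.upperCentralSeries K 1 = ⊤ := by
        have hmono := Subgroup.upperCentralSeries_mono K (Nat.le_add_right j 1)
        rw [hj, top_le_iff] at hmono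
        exact top_le_iff.mp (hmono ▸ hst (j + 1) (by omega))
      rw [Subgroup.upperCentralSeries_one] at htop
      refine hlt.not_ge fun k hk => hC fun e he => ?_
      exact congrArg Subtype.val (mem_center_iff.mp (htop ▸ mem_top (⟨k, hk⟩ : K)) ⟨e, hEK he⟩)
    · obtain ⟨b, hbY, hbE⟩ := SetLike.not_le_iff_exists.mp hYE
      have hbK : b ∈ K := map_subtype_le _ hbY
      have hbN : b ∈ N₁ := by
        refine mem_normalizer_fintype fun e he => ?_
        have h1 := hZE (hY2 b hbY e (hEK he))
        have h2 : b * e * b⁻¹ = ⁅b, e⁆ * e := by rw [commutatorElement_def]; group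
        show b * e * b⁻¹ ∈ E
        rw [h2]; exact mul_mem h1 he
      have hsup : N₁ = E ⊔ zpowers b := by
        refine le_antisymm ?_ (sup_le le_normalizer (zpowers_le.mpr hbN))
        refine relIndex_normalizer_of_lt hP hN (lt_of_le_of_ne le_sup_left fun h => hbE ?_)
        exact h ▸ mem_sup_right (mem_zpowers b)
      haveI hZn : (ZK.subgroupOf K).Normal := by
        rw [hZK, show (map K.subtype (center K)).subgroupOf K = center K from
          comap_map_eq_self_of_injective K.subtype_injective _]; infer_instance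
      let q := QuotientGroup.mk' (ZK.subgroupOf K)
      have key : ∀ a ∈ N₁, ∀ c ∈ N₁, ∀ (ha : a ∈ K) (hc : c ∈ K),
          q ⟨a, ha⟩ * q ⟨c, hc⟩ = q ⟨c, hc⟩ * q ⟨a, ha⟩ := by
        have hgen : ∀ a ∈ E ⊔ zpowers b, ∀ c ∈ E ⊔ zpowers b, ∀ (ha : a ∈ K) (hc : c ∈ K),
            q ⟨a, ha⟩ * q ⟨c, hc⟩ = q ⟨c, hc⟩ * q ⟨a, ha⟩ := by
          have hcomm : IsMulCommutative
              ↥((E.subgroupOf K ⊔ zpowers (⟨b, hbK⟩ : K)).map q) := by
            have hset : (E.subgroupOf K ⊔ zpowers (⟨b, hbK⟩ : K)).map q =
                Subgroup.closure (q '' ((E.subgroupOf K : Set K) ∪ {(⟨b, hbK⟩ : K)})) := by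
              rw [← MonoidHom.map_closure, Subgroup.closure_union, Subgroup.closure_eq,
                ← zpowers_eq_closure]
            rw [hset]
            refine isMulCommutative_closure ?_
            have hbe : ∀ e ∈ E.subgroupOf K, q (⟨b, hbK⟩ : K) * q e = q e * q ⟨b, hbK⟩ := by
              intro e he
              rw [← commutatorElement_eq_one_iff_mul_comm, ← map_commutatorElement]
              refine (QuotientGroup.eq_one_iff _).mpr ?_
              exact hY2 b hbY e e.2
            rintro _ ⟨x, hx, rfl⟩ _ ⟨y, hy, rfl⟩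
            rcases hx with hx | hx <;> rcases hy with hy | hy
            · rw [← map_mul, ← map_mul]; exact congrArg q (Subtype.ext (hEE x hx y hy))
            · rw [Set.mem_singleton_iff.mp hy]; exact (hbe x hx).symm
            · rw [Set.mem_singleton_iff.mp hx]; exact hbe y hy
            · rw [Set.mem_singleton_iff.mp hx, Set.mem_singleton_iff.mp hy]
          intro a ha c hc haK hcK
          have himg : ∀ a ∈ E ⊔ zpowers b, ∀ ha : a ∈ K,
              q ⟨a, ha⟩ ∈ (E.subgroupOf K ⊔ zpowers (⟨b, hbK⟩ : K)).map q := by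
            intro a ha haK
            refine mem_map_of_mem q ?_
            have hle : E ⊔ zpowers b ≤ (E.subgroupOf K ⊔ zpowers (⟨b, hbK⟩ : K)).map K.subtype := by
              refine sup_le (fun e he => ⟨⟨e, hEK he⟩, mem_sup_left he, rfl⟩) (zpowers_le.mpr ?_)
              exact ⟨⟨b, hbK⟩, mem_sup_right (mem_zpowers _), rfl⟩
            obtain ⟨w, hw, hwa⟩ := hle ha
            rwa [show (⟨a, haK⟩ : K) = w from Subtype.ext hwa.symm]
          exact congrArg Subtype.val
            (hcomm.is_comm.comm ⟨_, himg a ha haK⟩ ⟨_, himg c hc hcK⟩)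
        rw [hsup]; exact hgen
      intro a ha c hc
      have h := key a ha c hc (hN₁K ha) (hN₁K hc)
      rw [← commutatorElement_eq_one_iff_mul_comm, ← map_commutatorElement] at h
      have h' := (QuotientGroup.eq_one_iff _).mp h
      exact h'
  have hZn : L ≤ normalizer (ZK : Set P) := CfsgLib.Base.normalizer_le_normalizer_map_subtype K (center K)
  -- the two cases
  by_cases hK1 : K = N₁
  · subst hK1
    have hKna : ¬ IsMulCommutative N₁ := fun h => hlt.not_ge fun k hk => hC fun e he =>
      congrArg Subtype.val (h.is_comm.comm (⟨e, hEK he⟩ : N₁) ⟨k, hk⟩)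
    have hKp := hP.to_subgroup N₁
    have hEi : (E.subgroupOf N₁).index = p := hN
    have hEc : IsMulCommutative ↥(E.subgroupOf N₁) :=
      ⟨⟨fun a b => Subtype.ext (Subtype.ext (hEE _ a.2 _ b.2))⟩⟩
    refine ⟨?_, fun i hnil hi => ?_⟩
    · obtain ⟨-, ⟨-, -, -, hcount⟩ | ⟨-, huniq⟩⟩ :=
        Cfsg.Agent.S3807.result p hKp hKna (E.subgroupOf N₁) hEc hEi
      · -- `L` moves `E` among at most `p + 1` abelian maximal subgroups
        let act : L → {B : Subgroup N₁ // IsMulCommutative ↥B ∧ B.index = p} := fun g =>
          ⟨(E.map (MulAut.conj (g : P)).toMonoidHom).subgroupOf N₁, by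
            have hle : E.map (MulAut.conj (g : P)).toMonoidHom ≤ N₁ := by
              rintro _ ⟨e, he, rfl⟩
              exact (mem_normalizer_iff.mp g.2 e).mp (hEK he)
            refine ⟨⟨⟨fun a b => Subtype.ext (Subtype.ext ?_)⟩⟩, ?_⟩
            · obtain ⟨a', ha', hae⟩ := a.2
              obtain ⟨b', hb', hbe⟩ := b.2
              show ((a : N₁) : P) * ((b : N₁) : P) = ((b : N₁) : P) * ((a : N₁) : P)
              have hae' : MulAut.conj (g : P) a' = ((a : N₁) : P) := hae
              have hbe' : MulAut.conj (g : P) b' = ((b : N₁) : P) := hbe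
              rw [← hae', ← hbe', ← map_mul, ← map_mul, hEE a' ha' b' hb']
            · have h1 := card_mul_index ((E.map (MulAut.conj (g : P)).toMonoidHom).subgroupOf N₁)
              rw [Nat.card_congr (subgroupOfEquivOfLe hle).toEquiv,
                ← Nat.card_congr (equivMapOfInjective E _ (MulAut.conj (g : P)).injective).toEquiv,
                ← card_mul_index (E.subgroupOf N₁), hEi,
                Nat.card_congr (subgroupOfEquivOfLe hEK).toEquiv] at h1
              exact Nat.eq_of_mul_eq_mul_left Nat.card_pos h1⟩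
        have hfib : ∀ g g' : L, act g = act g' → g⁻¹ * g' ∈ N₁.subgroupOf L := by
          intro g g' h
          have hle : ∀ g : L, E.map (MulAut.conj (g : P)).toMonoidHom ≤ N₁ := by
            rintro g _ ⟨e, he, rfl⟩
            exact (mem_normalizer_iff.mp g.2 e).mp (hEK he)
          have h1 : (E.map (MulAut.conj (g : P)).toMonoidHom) =
              E.map (MulAut.conj (g' : P)).toMonoidHom := by
            have h2 := congrArg (Subgroup.map N₁.subtype) (congrArg Subtype.val h)
            simp only [act] at h2
            rwa [map_subgroupOf_eq_of_le (hle g), map_subgroupOf_eq_of_le (hle g')] at h2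
          show (g : P)⁻¹ * g' ∈ N₁
          rw [hN₁, mem_normalizer_iff_map_conj_eq]
          have h3 := congrArg (Subgroup.map (MulAut.conj (g : P)⁻¹).toMonoidHom) h1.symm
          rw [map_map, map_map] at h3
          convert h3 using 1
          · congr 1
            ext x; simp [mul_assoc]
          · symm
            convert Subgroup.map_id E using 2
            ext x; simp [mul_assoc]
        let φ : L ⧸ N₁.subgroupOf L → {B : Subgroup N₁ // IsMulCommutative ↥B ∧ B.index = p} :=
          fun x => act x.out
        have hφ : Function.Injective φ := by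
          intro x y h
          rw [← QuotientGroup.out_eq' x, ← QuotientGroup.out_eq' y]
          exact QuotientGroup.eq.mpr (hfib _ _ h)
        have hle := Nat.card_le_card_of_injective φ hφ
        rw [hcount] at hle
        obtain ⟨k, hk⟩ := index_eq_pow (hP.to_subgroup L) (N₁.subgroupOf L)
        show (N₁.subgroupOf L).index = p
        rcases k with _ | _ | k
        · rw [pow_zero, index_eq_one, subgroupOf_eq_top] at hk
          exact absurd hk hKL.not_ge
        · rw [hk, pow_one]
        · exfalso
          rw [← index_eq_card, hk] at hle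
          have h2 : p ^ 2 ≤ p ^ (k + 1 + 1) := Nat.pow_le_pow_right hp.pos (by omega)
          nlinarith [hp.two_le]
      · exfalso
        refine hKL.not_ge fun l hl => ?_
        rw [hN₁, mem_normalizer_iff_map_conj_eq]
        have hle : E.map (MulAut.conj l).toMonoidHom ≤ N₁ := by
          rintro _ ⟨e, he, rfl⟩
          exact (mem_normalizer_iff.mp hl e).mp (hEK he)
        have h1 := huniq ((E.map (MulAut.conj l).toMonoidHom).subgroupOf N₁) ?_ ?_
        · have h2 := congrArg (Subgroup.map N₁.subtype) h1
          rwa [map_subgroupOf_eq_of_le hle, map_subgroupOf_eq_of_le hEK] at h2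
        · refine ⟨⟨fun a b => Subtype.ext (Subtype.ext ?_)⟩⟩
          obtain ⟨a', ha', hae⟩ := a.2
          obtain ⟨b', hb', hbe⟩ := b.2
          show ((a : N₁) : P) * ((b : N₁) : P) = ((b : N₁) : P) * ((a : N₁) : P)
          have hae' : MulAut.conj l a' = ((a : N₁) : P) := hae
          have hbe' : MulAut.conj l b' = ((b : N₁) : P) := hbe
          rw [← hae', ← hbe', ← map_mul, ← map_mul, hEE a' ha' b' hb']
        · have h1 := card_mul_index ((E.map (MulAut.conj l).toMonoidHom).subgroupOf N₁)
          rw [Nat.card_congr (subgroupOfEquivOfLe hle).toEquiv,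
            ← Nat.card_congr (equivMapOfInjective E _ (MulAut.conj l).injective).toEquiv,
            ← card_mul_index (E.subgroupOf N₁), hEi,
            Nat.card_congr (subgroupOfEquivOfLe hEK).toEquiv] at h1
          exact Nat.eq_of_mul_eq_mul_left Nat.card_pos h1
    · have hi1 : i = 1 := Nat.pow_right_injective hp.two_le (hi.symm.trans (hN.trans (pow_one p).symm))
      subst hi1
      refine le_antisymm ?_ ?_
      · haveI : IsMulCommutative (N₁ ⧸ center N₁) := ⟨⟨fun x y => ?_⟩⟩
        · haveI : Nontrivial N₁ := (inclusion_injective hEK).nontrivial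
          rw [Group.nilpotencyClass_eq_quotient_center_plus_one]
          exact Nat.succ_le_succ (Group.IsNilpotent.nilpotencyClass_le_one_iff.mpr inferInstance)
        · induction x using QuotientGroup.induction_on with
          | H x =>
            induction y using QuotientGroup.induction_on with
            | H y =>
              show QuotientGroup.mk' (center N₁) x * QuotientGroup.mk' (center N₁) y = _
              rw [← commutatorElement_eq_one_iff_mul_comm.mp ?_]
              rotate_left
              · rw [← map_commutatorElement]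
                refine (QuotientGroup.eq_one_iff _).mpr ?_
                obtain ⟨w, hw, hwe⟩ := hN₁ab y y.2 x x.2
                have : ⁅y, x⁆ = w := Subtype.ext (by
                  rw [show (w : P) = ⁅(y : P), (x : P)⁆ from hwe]; rfl)
                exact this ▸ hw
              · rfl
      · by_contra h
        exact hKna (Group.IsNilpotent.nilpotencyClass_le_one_iff.mp (by omega))
  -- `K` lies above `N₁`
  have hN1lt : N₁ < K := lt_of_le_of_ne hN₁K (Ne.symm hK1)
  have hN₁c : Nat.card N₁ < Nat.card K := lt_of_le_of_ne (card_le_of_le hN₁K) fun h =>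
    hK1 (eq_of_le_of_card_ge hN₁K h.ge).symm
  have hstep := (ih _ hN₁c N₁ rfl le_normalizer (ne_top_of_lt hN1lt)).1
  have hN₂K := relIndex_normalizer_of_lt hP hstep hN1lt
  let Z := ZK.subgroupOf L
  haveI : Z.Normal := normal_subgroupOf_of_le_normalizer hZn
  have hZKK : ZK ≤ K := map_subtype_le _
  let f := QuotientGroup.mk' Z
  have hfs : Function.Surjective f := QuotientGroup.mk'_surjective Z
  have hker : ∀ H : Subgroup P, ZK ≤ H → ((H.subgroupOf L).map f).comap f = H.subgroupOf L := by
    intro H hH
    rw [comap_map_eq, QuotientGroup.ker_mk', sup_eq_left]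
    exact comap_mono hH
  have hZ1 : ZK ≤ N₁ := hZE.trans le_normalizer
  have hcardQ : Nat.card (L ⧸ Z) ≤ m := by
    have h1 := card_eq_card_quotient_mul_card_subgroup Z
    have h2 : 2 ≤ Nat.card Z := by
      haveI := (hP.to_subgroup K).isNilpotent
      haveI : Nontrivial K := (inclusion_injective hEK).nontrivial
      have h3 : Nat.card Z = Nat.card (center K) := by
        rw [Nat.card_congr (subgroupOfEquivOfLe (hZKK.trans hKL.le)).toEquiv]
        exact (Nat.card_congr (equivMapOfInjective (center K) _ K.subtype_injective).toEquiv).symm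
      rw [h3]
      exact Finite.one_lt_card_iff_nontrivial.mpr
        ((Subgroup.nontrivial_iff_ne_bot _).mpr (Group.IsNilpotent.center_ne_bot K))
    have h4 := card_le_card_group L
    have h5 : 0 < Nat.card (L ⧸ Z) := Nat.card_pos
    nlinarith
  set E' := (N₁.subgroupOf L).map f with hE'
  have hE'ab : IsMulCommutative E' := by
    refine ⟨⟨?_⟩⟩
    rintro ⟨_, a, ha, rfl⟩ ⟨_, b, hb, rfl⟩
    refine Subtype.ext ?_
    show f a * f b = f b * f a
    rw [← commutatorElement_eq_one_iff_mul_comm, ← map_commutatorElement]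
    exact (QuotientGroup.eq_one_iff _).mpr (hN₁ab a ha b hb)
  have hCE' : centralizer (E' : Set (L ⧸ Z)) ≤ E' := by
    intro x hx
    obtain ⟨g, rfl⟩ := hfs x
    refine mem_map_of_mem f ?_
    show (g : P) ∈ N₁
    refine mem_normalizer_fintype fun e he => ?_
    have he' : e ∈ L := hKL.le (hEK he)
    have h1 := hx (f ⟨e, he'⟩) (mem_map_of_mem f (show e ∈ N₁ from le_normalizer he))
    rw [← commutatorElement_eq_one_iff_mul_comm, ← map_commutatorElement] at h1
    have h2' := (QuotientGroup.eq_one_iff _).mp h1
    have h2 : ⁅e, (g : P)⁆ ∈ E := hZE h2'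
    have h3 : (g : P) * e * (g : P)⁻¹ = ⁅e, (g : P)⁆⁻¹ * e := by rw [commutatorElement_def]; group
    show (g : P) * e * (g : P)⁻¹ ∈ E
    rw [h3]; exact mul_mem (inv_mem h2) he
  have hN' : E'.relIndex (normalizer (E' : Set (L ⧸ Z))) = p := by
    rw [← map_comap_eq_self_of_surjective hfs (normalizer (E' : Set (L ⧸ Z))), ← relIndex_comap,
      comap_normalizer_eq_of_surjective E' hfs, hE', hker N₁ hZ1,
      ← subgroupOf_normalizer_eq (hN₁K.trans hKL.le),
      relIndex_subgroupOf (hN₂K.trans hKL.le)]
    exact hstep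
  set K' := (K.subgroupOf L).map f with hK'
  have hK'T : K' ≠ ⊤ := by
    intro h
    have h1 := congrArg (Subgroup.comap f) h
    rw [hK', hker K hZKK, comap_top, subgroupOf_eq_top] at h1
    exact hKL.not_ge h1
  obtain ⟨hs, hcl⟩ := ihm ((hP.to_subgroup L).to_quotient Z) hcardQ E' hE'ab hCE' hN' K'
    (map_mono (comap_mono hN₁K)) hK'T
  refine ⟨?_, fun i hnil hi => ?_⟩
  · haveI : K'.Normal := (normal_subgroupOf_of_le_normalizer (le_rfl : L ≤ normalizer (K : Set P))).map f hfs
    rw [normalizer_eq_top, relIndex_top_right, ← index_comap_of_surjective K' hfs, hK', hker K hZKK] at hs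
    exact hs
  · obtain ⟨i', rfl⟩ : ∃ i', i = i' + 1 := by
      rcases i with _ | i'
      · rw [pow_zero, relIndex_eq_one] at hi
        exact absurd hi hlt.not_ge
      · exact ⟨i', rfl⟩
    have hrel : N₁.relIndex K = p ^ i' := by
      have h1 := relIndex_mul_relIndex E N₁ K le_normalizer hN₁K
      rw [hN, hi, pow_succ'] at h1
      exact Nat.eq_of_mul_eq_mul_left hp.pos h1
    have hrel' : E'.relIndex K' = p ^ i' := by
      rw [← map_comap_eq_self_of_surjective hfs K', ← relIndex_comap, hE', hK', hker N₁ hZ1, hker K hZKK,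
        relIndex_subgroupOf hKL.le, hrel]
    haveI : Group.IsNilpotent K' := ((hP.to_subgroup L).to_quotient Z).to_subgroup K' |>.isNilpotent
    have hK'cl := hcl i' hrel'
    let g : K →* K' := ((f.comp (inclusion hKL.le)).codRestrict K' fun k =>
      mem_map_of_mem f (show ((inclusion hKL.le k : L) : P) ∈ K from k.2))
    have hg : Function.Surjective g := by
      rintro ⟨_, a, ha, rfl⟩
      exact ⟨⟨a, ha⟩, rfl⟩
    have hgk : g.ker = center K := by
      ext k
      rw [MonoidHom.mem_ker, ← Subtype.coe_inj]
      show f (inclusion hKL.le k) = 1 ↔ _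
      rw [QuotientGroup.mk'_apply, QuotientGroup.eq_one_iff]
      show (k : P) ∈ ZK ↔ _
      exact mem_map_iff_mem K.subtype_injective
    haveI : Nontrivial K := (inclusion_injective hEK).nontrivial
    have hiso : K ⧸ center K ≃* K' :=
      (QuotientGroup.quotientMulEquivOfEq hgk.symm).trans
        (QuotientGroup.quotientKerEquivOfSurjective g hg)
    rw [Group.nilpotencyClass_eq_quotient_center_plus_one]
    congr 1
    rw [← hK'cl]
    exact le_antisymm (Group.nilpotencyClass_le_of_surjective hiso.symm.toMonoidHom hiso.symm.surjective)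
      (Group.nilpotencyClass_le_of_surjective hiso.toMonoidHom hiso.surjective)

end CfsgLib.PGroups
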