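import Cfsg.Agent.Lib.PGroups.ClassCount
import Cfsg.Agent.Lib.Involutions.CentricFusion

/-!
# More than `|P| / 2` classes of 2-elements force a normal 2-complement

If an element `y` of odd order acts non-trivially on a centric `Q ≤ P`, then the elements of `Q`
outside `C_Q(y)` (index at least 4) fall in fibres of size at least 3 and those of `P ∖ Q`, being
non-central, in fibres of size at least 2.
-/

set_option autoImplicit false
set_option linter.style.haveILetI false

universe u

namespace CfsgLib.PGroups.TwoClassCount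

open Subgroup

/-- If each point has `K ≤ (fibre size) * (weight)`, then `K * |β|` is at most the total weight. -/
theorem weighted_card_le {α β : Type*} [Fintype α] [Finite β] {f : α → β}
    (hf : Function.Surjective f) (w : α → ℕ) (K : ℕ)
    (h : ∀ a, K ≤ Nat.card {a' // f a' = f a} * w a) : K * Nat.card β ≤ ∑ a, w a := by
  classical
  haveI := Fintype.ofFinite β
  rw [← Finset.sum_fiberwise_of_maps_to (g := f) (t := Finset.univ) (fun a _ => Finset.mem_univ _),
    Nat.card_eq_fintype_card, ← Finset.card_univ, mul_comm, ← smul_eq_mul, ← Finset.sum_const]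
  refine Finset.sum_le_sum fun b _ => ?_
  set s := Finset.univ.filter fun a => f a = b with hs
  obtain ⟨a₀, ha₀⟩ := hf b
  have hmem : a₀ ∈ s := Finset.mem_filter.2 ⟨Finset.mem_univ _, ha₀⟩
  have hpos : 0 < s.card := Finset.card_pos.2 ⟨a₀, hmem⟩
  refine Nat.le_of_mul_le_mul_left ?_ hpos
  rw [Finset.mul_sum, ← smul_eq_mul, ← Finset.sum_const]
  refine Finset.sum_le_sum fun a ha => ?_
  have hab : f a = b := (Finset.mem_filter.1 ha).2
  have h1 := h a
  rw [Nat.card_eq_fintype_card, Fintype.card_subtype, hab] at h1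
  exact h1

variable {G : Type u} [Group G] [Finite G]

theorem no_action (P : Sylow 2 G)
    (hk : Nat.card (P : Subgroup G) < 2 * Nat.card (piClasses {2} G))
    {D : Subgroup G} (hD : CfsgLib.Involutions.CentricIn D (P : Subgroup G)) {y : G}
    (hy : y ∈ normalizer (D : Set G)) (hodd : Odd (orderOf y)) :
    ∀ a ∈ D, Commute y a := by
  classical
  by_contra hne
  push Not at hne
  obtain ⟨a₀, ha₀, hne⟩ := hne
  set Ph := (P : Subgroup G)
  haveI := Fintype.ofFinite Ph
  set C := D ⊓ centralizer ({y} : Set G) with hCdef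
  have hCD : C ≤ D := inf_le_left
  have ha₀C : a₀ ∉ C := fun h => hne (mem_centralizer_singleton_iff.1 h.2).symm
  have hconj : ∀ a ∈ D, y * a * y⁻¹ ∈ D := fun a ha => (mem_normalizer_iff.1 hy a).1 ha
  -- `C` has index at least four in `D`
  have hD2 : IsPGroup 2 D := P.isPGroup'.to_le hD.1
  have hidx : 4 ≤ C.relIndex D := by
    obtain ⟨i, hi⟩ := hD2.index (C.subgroupOf D)
    change C.relIndex D = 2 ^ i at hi
    have hi2 : 2 ≤ i := by
      by_contra hi2
      rcases (show i = 0 ∨ i = 1 by omega) with rfl | rfl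
      · exact ha₀C ((relIndex_eq_one.1 (by rw [hi, pow_zero])) ha₀)
      · have h2 : (C.subgroupOf D).index = 2 := hi
        have hya : y * a₀ * y⁻¹ ∉ C := fun h => hne (by
          have h1 := mem_centralizer_singleton_iff.1 h.2
          show y * a₀ = a₀ * y
          have h3 : y * a₀ * y⁻¹ * y = y * (y * a₀ * y⁻¹) := h1
          rw [inv_mul_cancel_right] at h3
          have h4 : a₀ = y * a₀ * y⁻¹ := mul_left_cancel h3
          exact mul_inv_eq_iff_eq_mul.1 h4.symm)
        have hc : a₀⁻¹ * (y * a₀ * y⁻¹) ∈ C := by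
          have := (mul_mem_iff_of_index_two h2 (a := (⟨a₀⁻¹, inv_mem ha₀⟩ : D))
            (b := ⟨y * a₀ * y⁻¹, hconj a₀ ha₀⟩)).2 (by
              simp only [mem_subgroupOf]
              exact iff_of_false (fun h => ha₀C (inv_mem_iff.1 h)) hya)
          simpa [mem_subgroupOf] using this
        set c := a₀⁻¹ * (y * a₀ * y⁻¹) with hcdef
        have hyc : Commute y c := (mem_centralizer_singleton_iff.1 hc.2).symm
        have hpow : ∀ k : ℕ, y ^ k * a₀ * (y ^ k)⁻¹ = a₀ * c ^ k := by
          intro k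
          induction k with
          | zero => simp
          | succ k ih =>
            calc y ^ (k + 1) * a₀ * (y ^ (k + 1))⁻¹ = y * (y ^ k * a₀ * (y ^ k)⁻¹) * y⁻¹ := by
                  rw [pow_succ']; group
              _ = (y * a₀ * y⁻¹) * (y * c ^ k * y⁻¹) := by rw [ih]; group
              _ = a₀ * c ^ (k + 1) := by
                  rw [(hyc.pow_right k).eq, mul_inv_cancel_right, show y * a₀ * y⁻¹ = a₀ * c by
                    rw [hcdef, mul_inv_cancel_left], mul_assoc, ← pow_succ']
        have hcn : c ^ orderOf y = 1 := by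
          have := hpow (orderOf y)
          rw [pow_orderOf_eq_one, inv_one, mul_one, one_mul] at this
          exact (left_eq_mul.1 this)
        obtain ⟨m, hm⟩ := hD2 ⟨c, hc.1⟩
        have hc1 : c = 1 := orderOf_eq_one_iff.1 (Nat.eq_one_of_dvd_coprimes
          ((Nat.coprime_two_right.2 hodd).pow_right m) (orderOf_dvd_of_pow_eq_one hcn)
          (orderOf_dvd_of_pow_eq_one (congrArg Subtype.val hm)))
        refine hne (mul_inv_eq_iff_eq_mul.1 ?_ : y * a₀ = a₀ * y)
        have := hpow 1
        rwa [pow_one, pow_one, hc1, mul_one] at this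
    rw [hi]
    exact (Nat.pow_le_pow_right two_pos hi2)
  -- fibres
  let f := sylowClass P
  have key : ∀ x : Ph, ∀ g : G, ∀ hg : g * (x : G) * g⁻¹ ∈ Ph, f ⟨_, hg⟩ = f x := fun x g hg =>
    Subtype.ext (ConjClasses.mk_eq_mk_iff_isConj.mpr (isConj_iff.mpr ⟨g, rfl⟩).symm)
  let w : Ph → ℕ := fun x => if (x : G) ∈ C then 6 else if (x : G) ∈ D then 2 else 3
  have hw : ∀ x : Ph, 6 ≤ Nat.card {x' // f x' = f x} * w x := by
    intro x
    haveI : Nonempty {x' // f x' = f x} := ⟨⟨x, rfl⟩⟩
    by_cases hxC : (x : G) ∈ C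
    · simp only [w, if_pos hxC]
      exact Nat.le_mul_of_pos_left _ Nat.card_pos
    by_cases hxD : (x : G) ∈ D
    · simp only [w, if_neg hxC, if_pos hxD]
      have h1 : y * (x : G) * y⁻¹ ∈ Ph := hD.1 (hconj _ hxD)
      have h2 : y * (y * (x : G) * y⁻¹) * y⁻¹ ∈ Ph := hD.1 (hconj _ (hconj _ hxD))
      have n1 : y * (x : G) * y⁻¹ ≠ x := fun h => hxC ⟨hxD, mem_centralizer_singleton_iff.2
        (mul_inv_eq_iff_eq_mul.1 h).symm⟩
      have n2 : y * (y * (x : G) * y⁻¹) * y⁻¹ ≠ x := fun h => by
        have hc2 : Commute (y ^ 2) (x : G) := by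
          refine (mul_inv_eq_iff_eq_mul.1 ?_ : y ^ 2 * (x : G) = x * y ^ 2)
          rw [pow_two, mul_inv_rev]
          simpa [mul_assoc] using h
        obtain ⟨k, hk⟩ := hodd
        have hyk : (y ^ 2) ^ (k + 1) = y := by
          rw [← pow_mul, show 2 * (k + 1) = orderOf y + 1 by omega, pow_succ, pow_orderOf_eq_one,
            one_mul]
        have := hc2.pow_left (k + 1)
        rw [hyk] at this
        exact n1 (by rw [this.eq, mul_inv_cancel_right])
      let e : Fin 3 → {x' // f x' = f x} :=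
        ![⟨x, rfl⟩, ⟨⟨_, h1⟩, key x y h1⟩,
          ⟨⟨_, h2⟩, (key ⟨_, h1⟩ y h2).trans (key x y h1)⟩]
      have he : Function.Injective e := by
        intro i j hij
        have hv := congrArg (fun t : {x' // f x' = f x} => ((t.1 : Ph) : G)) hij
        fin_cases i <;> fin_cases j <;> simp [e] at hv ⊢
        all_goals first | exact n1 hv | exact n1 hv.symm | exact n2 hv | exact n2 hv.symm
      have := Nat.card_le_card_of_injective e he
      rw [Nat.card_eq_fintype_card, Fintype.card_fin] at this
      omega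
    · simp only [w, if_neg hxC, if_neg hxD]
      obtain ⟨s, hs, hsx⟩ : ∃ s ∈ Ph, s * (x : G) * s⁻¹ ≠ x := by
        by_contra! h
        exact hxD (hD.2 _ x.2 (mem_centralizer_iff.2 fun d hd =>
          mul_inv_eq_iff_eq_mul.1 (h d (hD.1 hd))))
      have h1 : s * (x : G) * s⁻¹ ∈ Ph := mul_mem (mul_mem hs x.2) (inv_mem hs)
      haveI : Nontrivial {x' // f x' = f x} :=
        ⟨⟨⟨_, key x s h1⟩, ⟨x, rfl⟩, fun he => hsx (congrArg Subtype.val (congrArg Subtype.val he))⟩⟩
      have := Finite.one_lt_card (α := {x' // f x' = f x})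
      omega
  have hsum : 6 * Nat.card (piClasses {2} G) ≤ ∑ x : Ph, w x := by
    convert weighted_card_le (sylowClass_surjective P) w 6 hw
  -- the total weight
  have hcardC : (Finset.univ.filter fun x : Ph => (x : G) ∈ C).card = Nat.card C := by
    rw [← Fintype.card_subtype, ← Nat.card_eq_fintype_card]
    exact Nat.card_congr (subgroupOfEquivOfLe (hCD.trans hD.1)).toEquiv
  have hcardD : (Finset.univ.filter fun x : Ph => (x : G) ∈ D).card = Nat.card D := by
    rw [← Fintype.card_subtype, ← Nat.card_eq_fintype_card]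
    exact Nat.card_congr (subgroupOfEquivOfLe hD.1).toEquiv
  have hpt : ∀ x : Ph, w x + (if (x : G) ∈ D then 1 else 0) =
      3 + (if (x : G) ∈ C then 4 else 0) := by
    intro x
    by_cases hxC : (x : G) ∈ C
    · simp [w, hxC, hCD hxC]
    · by_cases hxD : (x : G) ∈ D <;> simp [w, hxC, hxD]
  have htot := Finset.sum_congr rfl fun x (_ : x ∈ (Finset.univ : Finset Ph)) => hpt x
  rw [Finset.sum_add_distrib, Finset.sum_add_distrib, ← Finset.sum_filter, ← Finset.sum_filter,
    Finset.sum_const, Finset.sum_const, Finset.sum_const, Finset.card_univ,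
    ← Nat.card_eq_fintype_card, hcardC, hcardD, smul_eq_mul, smul_eq_mul, smul_eq_mul] at htot
  have h4 : Nat.card C * 4 ≤ Nat.card D := by
    have h := relIndex_mul_relIndex ⊥ C D bot_le hCD
    rw [relIndex_bot_left, relIndex_bot_left] at h
    rw [← h]
    exact Nat.mul_le_mul_left _ hidx
  omega

theorem hasNormalPComplement (P : Sylow 2 G)
    (hk : Nat.card (P : Subgroup G) < 2 * Nat.card (piClasses {2} G)) :
    Cfsg.HasNormalPComplement 2 G :=
  CfsgLib.Involutions.hasNormalPComplement_of_centric P fun _ hD _ hy hyp =>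
    no_action P hk hD hy (Nat.coprime_two_right.1 hyp)

/-- With a normal complement the classes of 2-elements are those of the Sylow subgroup. -/
theorem card_piClasses_eq {p : ℕ} [Fact p.Prime] (P : Sylow p G)
    (h : Cfsg.HasNormalPComplement p G) :
    Nat.card (piClasses {p} G) = Nat.card (ConjClasses (P : Subgroup G)) := by
  refine le_antisymm (card_piClasses_le_conjClasses P) ?_
  obtain ⟨N, hN, hc⟩ := (CfsgLib.Transfer.exists_normal_isComplement'_iff P).mpr h
  haveI := hN
  refine Nat.card_le_card_of_injective (fun c => sylowClass P c.out) fun c d hcd => ?_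
  obtain ⟨g, hg⟩ := isConj_iff.mp (ConjClasses.mk_eq_mk_iff_isConj.mp (congrArg Subtype.val hcd))
  obtain ⟨⟨a, b⟩, hgab, -⟩ := hc.existsUnique g
  have hgab' : (a : G) * (b : G) = g := hgab
  set x : (P : Subgroup G) := c.out
  set z : (P : Subgroup G) := d.out
  have hy : (z : G) = a * ((b * x * b⁻¹ : (P : Subgroup G)) : G) * (a : G)⁻¹ := by
    rw [← hg, ← hgab']; push_cast; group
  have hmem : ((b * x * b⁻¹ : (P : Subgroup G)) : G)⁻¹ * z ∈ N := by
    rw [hy, ← mul_assoc, ← mul_assoc]
    refine mul_mem ?_ (inv_mem a.2)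
    simpa [mul_assoc] using hN.conj_mem a a.2 ((b * x * b⁻¹ : (P : Subgroup G)) : G)⁻¹
  have h1 := (Subgroup.disjoint_def.mp hc.disjoint) hmem
    (mul_mem (inv_mem (b * x * b⁻¹ : (P : Subgroup G)).2) z.2)
  have h2 : b * x * b⁻¹ = z := Subtype.ext (inv_mul_eq_one.mp h1)
  calc c = ConjClasses.mk x := (Quotient.out_eq c).symm
    _ = ConjClasses.mk z := ConjClasses.mk_eq_mk_iff_isConj.mpr (isConj_iff.mpr ⟨b, h2⟩)
    _ = d := Quotient.out_eq d

end CfsgLib.PGroups.TwoClassCount
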