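import Cfsg.Agent.Lib.PGroups.Basic
import Cfsg.Agent.Lib.Involutions.Dihedral

/-!
2-groups `T` of order at least `2^14` with `|Z₄(T)| = 16` in which the Frattini subgroup of `W = C(Z₃(T))` has order
at most 8 and lies in all subgroups of `W` of index at most 16.

Every normal subgroup of order at most 16 is a term of the upper central series, `T / W` acts on `Z₃` as the full
stabiliser of the chain, and `W / Φ(W)` is its regular module. If `Z₄` were central in `W`, an explicit subgroup of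
index 8 of `W` would have all squares in `Z₂`.
-/

set_option autoImplicit false
set_option linter.style.haveILetI false
set_option linter.unusedSectionVars false

namespace CfsgLib.PGroups.WideFourteen

open Subgroup
open scoped commutatorElement

section general

variable {G : Type*} [Group G] [Finite G]

/-- In a finite abelian group of exponent dividing `n`, every nontrivial element avoids a subgroup of index at most `n`. -/
theorem avoid {A : Type*} [CommGroup A] [Finite A] {n : ℕ} (hn : 0 < n) (hpow : ∀ a : A, a ^ n = 1) {z : A}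
    (hz : z ≠ 1) : ∃ B : Subgroup A, z ∉ B ∧ B.index ≤ n := by
  haveI : NeZero n := ⟨hn.ne'⟩
  haveI : NeZero (Monoid.exponent A) := ⟨Monoid.exponent_ne_zero_of_finite⟩
  obtain ⟨χ, hχ⟩ := CommGroup.exists_apply_ne_one_of_hasEnoughRootsOfUnity A ℂ hz
  refine ⟨χ.ker, hχ, ?_⟩
  rw [Subgroup.index_ker]
  calc Nat.card χ.range ≤ Nat.card (rootsOfUnity n ℂ) := Subgroup.card_le_of_le (by
        rintro _ ⟨a, rfl⟩
        show χ a ^ n = 1
        rw [← map_pow, hpow, map_one])
    _ ≤ n := card_rootsOfUnity ℂ n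

/-- The relative version of `avoid`. -/
theorem exists_small_index {K D : Subgroup G} (hDK : D ≤ K) (hn : ∀ k ∈ K, ∀ d ∈ D, k * d * k⁻¹ ∈ D)
    (hcomm : ∀ a ∈ K, ∀ b ∈ K, ⁅a, b⁆ ∈ D) {n : ℕ} (hn0 : 0 < n) (hpow : ∀ a ∈ K, a ^ n ∈ D) {z : G} (hzK : z ∈ K)
    (hzD : z ∉ D) : ∃ U : Subgroup G, z ∉ U ∧ U.index ≤ n * K.index := by
  haveI : (D.subgroupOf K).Normal := ⟨fun d hd k => hn k k.2 d hd⟩
  letI : CommGroup (K ⧸ D.subgroupOf K) :=
    { (inferInstance : Group (K ⧸ D.subgroupOf K)) with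
      mul_comm := by
        intro a b
        obtain ⟨a, rfl⟩ := QuotientGroup.mk'_surjective _ a
        obtain ⟨b, rfl⟩ := QuotientGroup.mk'_surjective _ b
        rw [← commutatorElement_eq_one_iff_mul_comm, ← map_commutatorElement]
        exact (QuotientGroup.eq_one_iff _).2 (hcomm a a.2 b b.2) }
  have hz : QuotientGroup.mk' (D.subgroupOf K) ⟨z, hzK⟩ ≠ 1 :=
    fun e => hzD ((QuotientGroup.eq_one_iff (N := D.subgroupOf K) _).1 e)
  obtain ⟨B, hzB, hB⟩ := avoid hn0 (fun a => by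
    obtain ⟨a, rfl⟩ := QuotientGroup.mk'_surjective _ a
    rw [← map_pow]
    exact (QuotientGroup.eq_one_iff _).2 (hpow a a.2)) hz
  refine ⟨(B.comap (QuotientGroup.mk' (D.subgroupOf K))).map K.subtype, ?_, ?_⟩
  · rintro ⟨y, hy, e⟩
    obtain rfl : y = ⟨z, hzK⟩ := Subtype.ext e
    exact hzB hy
  · rw [Subgroup.index_map_subtype, Subgroup.index_comap_of_surjective _ (QuotientGroup.mk'_surjective _)]
    exact Nat.mul_le_mul_right _ hB

end general

variable {T : Type*} [Group T] [Finite T]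

local notation "Z" i:max => Subgroup.upperCentralSeries T i

/-- The hypotheses. -/
structure Hyp (W : Subgroup T) : Prop where
  hT : IsPGroup 2 T
  ha : 2 ^ 14 ≤ Nat.card T
  hb : Nat.card ↥(Subgroup.upperCentralSeries T 4) = 16
  hW : W = Subgroup.centralizer ((Subgroup.upperCentralSeries T 3 : Subgroup T) : Set T)
  hc : Nat.card ↥(frattini ↥W) ≤ 8
  hd : ∀ U : Subgroup ↥W, U.index ≤ 16 → frattini ↥W ≤ U

variable {W : Subgroup T}

theorem Z_mono {i j : ℕ} (h : i ≤ j) : Z i ≤ Z j := Subgroup.upperCentralSeries_mono T h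

theorem comm_mem_Z {i : ℕ} {x : T} (hx : x ∈ Z (i + 1)) (g : T) : ⁅g, x⁆ ∈ Z i := by
  rw [← commutatorElement_inv]
  exact inv_mem (Subgroup.mem_upperCentralSeries_succ_iff.1 hx g)

theorem step_meets (hT : IsPGroup 2 T) {i : ℕ} {N : Subgroup T} [N.Normal] (h : ¬ N ≤ Z i) :
    ∃ x ∈ N, x ∈ Z (i + 1) ∧ x ∉ Z i := by
  haveI : Fact (Nat.Prime 2) := ⟨Nat.prime_two⟩
  let q := QuotientGroup.mk' (Z i)
  haveI : (N.map q).Normal := Subgroup.Normal.map inferInstance q (QuotientGroup.mk'_surjective _)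
  have hne : N.map q ≠ ⊥ := fun e => h fun x hx => (QuotientGroup.eq_one_iff x).1
    ((Subgroup.mem_bot).1 (e ▸ Subgroup.mem_map_of_mem q hx))
  obtain ⟨y, hy, hy1⟩ := (Subgroup.bot_or_exists_ne_one _).resolve_left
    (inf_center_ne_bot (hT.to_quotient (Z i)) hne)
  obtain ⟨x, hx, rfl⟩ := Subgroup.mem_map.1 hy.1
  refine ⟨x, hx, Subgroup.mem_upperCentralSeries_succ_iff.2 fun g => (QuotientGroup.eq_one_iff _).1 ?_,
    fun hm => hy1 ((QuotientGroup.eq_one_iff x).2 hm)⟩
  show q ⁅x, g⁆ = 1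
  rw [map_commutatorElement, commutatorElement_eq_one_iff_mul_comm]
  exact (Subgroup.mem_center_iff.1 hy.2 (q g)).symm

namespace Hyp

variable (h : Hyp W)
include h

theorem card_Z : ∀ i, i ≤ 4 → Nat.card ↥(Z i) = 2 ^ i := by
  haveI : Fact (Nat.Prime 2) := ⟨Nat.prime_two⟩
  have hlt : ∀ i, i < 4 → Nat.card ↥(Z i) < Nat.card ↥(Z (i + 1)) := by
    intro i hi
    have hne : ¬ (⊤ : Subgroup T) ≤ Z i := fun e => by
      have h1 := Subgroup.card_le_of_le (e.trans (Z_mono hi.le))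
      rw [Subgroup.card_top, h.hb] at h1
      have := h.ha
      omega
    obtain ⟨x, -, hx, hx'⟩ := step_meets h.hT hne
    refine lt_of_le_of_ne (Subgroup.card_le_of_le (Z_mono (Nat.le_succ i))) fun e => hx' ?_
    rw [Subgroup.eq_of_le_of_card_ge (Z_mono (Nat.le_succ i)) e.ge]
    exact hx
  have hpow : ∀ i, ∃ a, Nat.card ↥(Z i) = 2 ^ a := fun i => IsPGroup.iff_card.1 (h.hT.to_subgroup _)
  choose a ha using hpow
  have h4 : a 4 = 4 := Nat.pow_right_injective le_rfl (show 2 ^ a 4 = 2 ^ 4 by rw [← ha, h.hb])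
  have hs : ∀ i, i < 4 → a i < a (i + 1) := fun i hi => by
    have := hlt i hi
    rw [ha, ha] at this
    exact (Nat.pow_lt_pow_iff_right (by norm_num)).1 this
  intro i hi
  have : a 0 < a 1 := hs 0 (by norm_num)
  have : a 1 < a 2 := hs 1 (by norm_num)
  have : a 2 < a 3 := hs 2 (by norm_num)
  have : a 3 < a 4 := hs 3 (by norm_num)
  have e : a i = i := by interval_cases i <;> omega
  rw [ha, e]

theorem le_or_ge (N : Subgroup T) [N.Normal] : ∀ j, j ≤ 3 → N ≤ Z j ∨ Z (j + 1) ≤ N := by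
  intro j hj
  induction j with
  | zero =>
    by_cases hN : N ≤ Z 0
    · exact .inl hN
    obtain ⟨x, hxN, hx, hx0⟩ := step_meets h.hT hN
    right
    have h1 := h.card_Z 1 (by norm_num)
    have h2 : zpowers x ≤ Z 1 := zpowers_le.2 hx
    have hx1 : x ≠ 1 := fun e => hx0 (e ▸ one_mem _)
    have h3 : Z 1 = zpowers x := (Subgroup.eq_of_le_of_card_ge h2 (by
      rw [h1, Nat.card_zpowers]
      have := orderOf_pos x
      have : orderOf x ≠ 1 := fun e => hx1 (orderOf_eq_one_iff.1 e)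
      omega)).symm
    rw [h3, zpowers_le]
    exact hxN
  | succ j ih =>
    by_cases hN : N ≤ Z (j + 1)
    · exact .inl hN
    right
    rcases ih (by omega) with hle | hle
    · exact absurd (hle.trans (Z_mono (Nat.le_succ j))) hN
    obtain ⟨x, hxN, hx, hx0⟩ := step_meets h.hT hN
    have hlt : Z (j + 1) < N ⊓ Z (j + 1 + 1) :=
      lt_of_le_of_ne (le_inf hle (Z_mono (Nat.le_succ _))) fun e => hx0 (e ▸ ⟨hxN, hx⟩)
    have hc := Subgroup.card_dvd_of_le (inf_le_right : N ⊓ Z (j + 1 + 1) ≤ Z (j + 1 + 1))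
    rw [h.card_Z _ (by omega)] at hc
    obtain ⟨k, hk, hk'⟩ := (Nat.dvd_prime_pow Nat.prime_two).1 hc
    have h1 : Nat.card ↥(Z (j + 1)) < Nat.card ↥(N ⊓ Z (j + 1 + 1) : Subgroup T) :=
      lt_of_le_of_ne (Subgroup.card_le_of_le hlt.le) fun e => hlt.ne (Subgroup.eq_of_le_of_card_ge hlt.le e.ge)
    rw [h.card_Z _ (by omega), hk', Nat.pow_lt_pow_iff_right (by norm_num : 1 < 2)] at h1
    have h2 : N ⊓ Z (j + 1 + 1) = Z (j + 1 + 1) := Subgroup.eq_of_le_of_card_ge inf_le_right (by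
      rw [h.card_Z _ (by omega), hk', show k = j + 1 + 1 by omega])
    exact h2 ▸ inf_le_left

theorem normalW : W.Normal := h.hW ▸ Subgroup.normal_centralizer

theorem coset_two {i : ℕ} (hi : i < 4) {a b : T} (ha : a ∈ Z (i + 1)) (ha' : a ∉ Z i) (hb : b ∈ Z (i + 1))
    (hb' : b ∉ Z i) : a * b ∈ Z i := by
  have e : (Z i).relIndex (Z (i + 1)) = 2 := by
    have h1 := ((Z i).subgroupOf (Z (i + 1))).card_mul_index
    rw [Nat.card_congr (Subgroup.subgroupOfEquivOfLe (Z_mono (Nat.le_succ i))).toEquiv, h.card_Z _ hi.le,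
      h.card_Z _ (by omega : i + 1 ≤ 4), pow_succ] at h1
    exact Nat.eq_of_mul_eq_mul_left (pow_pos two_pos i) h1
  exact (Subgroup.mul_mem_iff_of_index_two (H := (Z i).subgroupOf (Z (i + 1))) e (a := ⟨a, ha⟩) (b := ⟨b, hb⟩)).2
    ⟨fun x => absurd x ha', fun x => absurd x hb'⟩

theorem exists_gens : ∃ z₂ z₃ : T, z₂ ∈ Z 2 ∧ z₂ ∉ Z 1 ∧ z₃ ∈ Z 3 ∧ z₃ ∉ Z 2 := by
  have aux : ∀ i, i < 4 → ∃ x, x ∈ Z (i + 1) ∧ x ∉ Z i := fun i hi => by
    have h1 : Z i < Z (i + 1) := lt_of_le_of_ne (Z_mono (Nat.le_succ i)) fun e => by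
      have := h.card_Z i hi.le
      rw [e, h.card_Z (i + 1) (by omega)] at this
      exact absurd (Nat.pow_right_injective le_rfl this) (by omega)
    exact SetLike.exists_of_lt h1
  obtain ⟨a, ha, ha'⟩ := aux 1 (by norm_num)
  obtain ⟨b, hb, hb'⟩ := aux 2 (by norm_num)
  exact ⟨a, b, ha, ha', hb, hb'⟩

theorem central_Z1 {x : T} (hx : x ∈ Z 1) (g : T) : g * x = x * g := by
  rw [← commutatorElement_eq_one_iff_mul_comm]
  have := comm_mem_Z (i := 0) hx g
  rwa [Subgroup.upperCentralSeries_zero, Subgroup.mem_bot] at this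

/-- An element commuting with the two generators centralises `Z₃`. -/
theorem mem_W_iff {z₂ z₃ : T} (h2 : z₂ ∈ Z 2) (h2' : z₂ ∉ Z 1) (h3 : z₃ ∈ Z 3) (h3' : z₃ ∉ Z 2) {g : T} :
    g ∈ W ↔ g * z₂ = z₂ * g ∧ g * z₃ = z₃ * g := by
  rw [h.hW, Subgroup.mem_centralizer_iff]
  refine ⟨fun hg => ⟨(hg _ (Z_mono (by norm_num) h2)).symm, (hg _ h3).symm⟩, ?_⟩
  rintro ⟨g2, g3⟩
  set C := Subgroup.centralizer ({g} : Set T) with hC
  have memC : ∀ {x : T}, g * x = x * g → x ∈ C := fun e => Subgroup.mem_centralizer_singleton_iff.2 e.symm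
  have hC1 : ∀ x ∈ Z 1, x ∈ C := fun x hx => memC (h.central_Z1 hx g)
  have hC2 : ∀ x ∈ Z 2, x ∈ C := fun x hx => by
    by_cases hx1 : x ∈ Z 1
    · exact hC1 x hx1
    · have := hC1 _ (h.coset_two (i := 1) (by norm_num) hx hx1 h2 h2')
      exact (Subgroup.mul_mem_cancel_right C (memC g2)).1 this
  intro x hx
  have hx3 : x ∈ C := by
    by_cases hx2 : x ∈ Z 2
    · exact hC2 x hx2
    · have := hC2 _ (h.coset_two (i := 2) (by norm_num) hx hx2 h3 h3')
      exact (Subgroup.mul_mem_cancel_right C (memC g3)).1 this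
  exact Subgroup.mem_centralizer_singleton_iff.1 hx3

theorem index_le : W.index ≤ 8 := by
  classical
  obtain ⟨z₂, z₃, h2, h2', h3, h3'⟩ := h.exists_gens
  let f : T → ↥(Z 1) × ↥(Z 2) := fun g => (⟨⁅g, z₂⁆, comm_mem_Z h2 g⟩, ⟨⁅g, z₃⁆, comm_mem_Z h3 g⟩)
  have key : ∀ a b, f a = f b → a⁻¹ * b ∈ W := by
    intro a b e
    simp only [f, Prod.mk.injEq, Subtype.mk.injEq, commutatorElement_def, mul_left_inj] at e
    have conj : ∀ z : T, a * z * a⁻¹ = b * z * b⁻¹ → a⁻¹ * b * z = z * (a⁻¹ * b) := fun z ez => by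
      calc a⁻¹ * b * z = a⁻¹ * (b * z * b⁻¹) * b := by group
        _ = a⁻¹ * (a * z * a⁻¹) * b := by rw [ez]
        _ = z * (a⁻¹ * b) := by group
    exact (h.mem_W_iff h2 h2' h3 h3').2 ⟨conj _ e.1, conj _ e.2⟩
  have hinj : Function.Injective fun q : T ⧸ W => f q.out := fun q r e => by
    rw [← QuotientGroup.out_eq' q, ← QuotientGroup.out_eq' r]
    exact QuotientGroup.eq.2 (key _ _ e)
  have := Nat.card_le_card_of_injective _ hinj
  rw [Nat.card_prod, h.card_Z 1 (by norm_num), h.card_Z 2 (by norm_num)] at this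
  exact this

theorem Z3_le_W : Z 3 ≤ W := by
  haveI := h.normalW
  rcases h.le_or_ge W 2 (by norm_num) with h1 | h1
  · exfalso
    have := Subgroup.card_le_of_le h1
    rw [h.card_Z 2 (by norm_num)] at this
    have h4 := W.card_mul_index
    have := h.ha
    have := Nat.mul_le_mul ‹Nat.card W ≤ 2 ^ 2› h.index_le
    omega
  · exact h1

theorem comm_W {z : T} (hz : z ∈ Z 3) {w : T} (hw : w ∈ W) : z * w = w * z := by
  rw [h.hW] at hw
  exact Subgroup.mem_centralizer_iff.1 hw z hz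

/-- The Frattini subgroup of `W` as a subgroup of `T`. -/
theorem frattini_le : (frattini ↥W).map W.subtype ≤ Z 3 ∧
    ∃ j, j ≤ 3 ∧ (frattini ↥W).map W.subtype = Z j := by
  haveI := h.normalW
  set F := (frattini ↥W).map W.subtype with hF
  haveI : F.Normal := inferInstance
  have hc : Nat.card F ≤ 8 := by
    rw [hF, Subgroup.card_map_of_injective W.subtype_injective]; exact h.hc
  have top : F ≤ Z 3 := by
    rcases h.le_or_ge F 3 le_rfl with h1 | h1
    · exact h1
    · exfalso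
      have := Subgroup.card_le_of_le h1
      rw [h.card_Z 4 le_rfl] at this
      omega
  refine ⟨top, ?_⟩
  rcases h.le_or_ge F 0 (by norm_num) with h0 | h0
  · exact ⟨0, by norm_num, le_antisymm h0 (by rw [Subgroup.upperCentralSeries_zero]; exact bot_le)⟩
  rcases h.le_or_ge F 1 (by norm_num) with h1 | h1
  · exact ⟨1, by norm_num, le_antisymm h1 h0⟩
  rcases h.le_or_ge F 2 (by norm_num) with h2 | h2
  · exact ⟨2, by norm_num, le_antisymm h2 h1⟩
  · exact ⟨3, le_rfl, le_antisymm top h2⟩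

/-- A maximal subgroup of `W` avoiding an element, with the coordinate functions it gives. -/
theorem exists_M {e : T} (he : e ∈ W) (he' : e ∉ (frattini ↥W).map W.subtype) :
    ∃ M : Subgroup ↥W, M.index = 2 ∧ frattini ↥W ≤ M ∧ ∀ he'' : e ∈ W, (⟨e, he''⟩ : W) ∉ M := by
  haveI : Fact (Nat.Prime 2) := ⟨Nat.prime_two⟩
  have : (⟨e, he⟩ : W) ∉ frattini ↥W := fun hm => he' ⟨_, hm, rfl⟩
  rw [CfsgLib.PGroups.mem_frattini_iff] at this
  push Not at this
  obtain ⟨M, hM, hMe⟩ := this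
  refine ⟨M, ?_, fun x hx => CfsgLib.PGroups.mem_frattini_iff.1 hx M hM, fun _ => hMe⟩
  exact index_eq_of_isCoatom (h.hT.to_subgroup W) hM

theorem normal_M {M : Subgroup ↥W} (hM : M.index = 2) : M.Normal := Subgroup.normal_of_index_eq_two hM

theorem conj_congr {M : Subgroup ↥W} (hM : M.index = 2) [hn : W.Normal] {k k' : T} (hkk : k⁻¹ * k' ∈ W) (w : W) :
    MulAut.conjNormal k⁻¹ w ∈ M ↔ MulAut.conjNormal k'⁻¹ w ∈ M := by
  haveI := h.normal_M hM
  set u : W := ⟨k⁻¹ * k', hkk⟩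
  have e : MulAut.conjNormal k'⁻¹ w = u⁻¹ * MulAut.conjNormal k⁻¹ w * u := Subtype.ext (by
    simp only [MulAut.conjNormal_apply, Subgroup.coe_mul, InvMemClass.coe_inv, u]
    group)
  rw [e]
  constructor
  · intro hm
    simpa using ‹M.Normal›.conj_mem _ hm u⁻¹
  · intro hm
    have h2 := ‹M.Normal›.conj_mem _ hm u
    simpa [mul_assoc] using h2

theorem structure_W :
    W.index = 8 ∧ Nat.card ↥(frattini ↥W) = 8 ∧ (frattini ↥W).map W.subtype = Z 3 ∧ Nat.card T = 2 ^ 14 ∧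
      ∃ _ : W.Normal, ∃ M : Subgroup ↥W, M.index = 2 ∧ frattini ↥W ≤ M ∧
        (∀ e : W, (e : T) ∈ Z 4 → (e : T) ∉ Z 3 → e ∉ M) ∧
        (∀ w : W, (∀ k : T, MulAut.conjNormal k⁻¹ w ∈ M) → w ∈ frattini ↥W) ∧
        ∃ v : W, ∀ k : T, MulAut.conjNormal k⁻¹ v ∈ M ↔ k ∉ W := by
  classical
  haveI hWn := h.normalW
  obtain ⟨-, j, hj, hF⟩ := h.frattini_le
  -- an element of `W` just above the Frattini subgroup
  have hZW : Z (j + 1) ≤ W := by
    rcases h.le_or_ge W j hj with h1 | h1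
    · exfalso
      have := (Subgroup.card_le_of_le h1).trans_eq (h.card_Z j (by omega))
      have h4 := W.card_mul_index
      have := h.ha
      have := Nat.mul_le_mul ‹Nat.card W ≤ 2 ^ j› h.index_le
      have : 2 ^ j ≤ 2 ^ 3 := Nat.pow_le_pow_right two_pos hj
      omega
    · exact h1
  obtain ⟨e, he, he'⟩ : ∃ e, e ∈ Z (j + 1) ∧ e ∉ Z j := by
    refine SetLike.exists_of_lt (lt_of_le_of_ne (Z_mono (Nat.le_succ j)) fun e => ?_)
    have := h.card_Z j (by omega)
    rw [e, h.card_Z (j + 1) (by omega)] at this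
    exact absurd (Nat.pow_right_injective le_rfl this) (by omega)
  obtain ⟨M, hM2, hMF, hMe⟩ := h.exists_M (hZW he) (hF ▸ he')
  have memF : ∀ {w : W}, (w : T) ∈ Z j → w ∈ frattini ↥W := fun {w} hw => by
    rw [← hF] at hw
    obtain ⟨y, hy, e1⟩ := hw
    exact (Subtype.ext e1 : y = w) ▸ hy
  have hker : ∀ w : W, (∀ k : T, MulAut.conjNormal k⁻¹ w ∈ M) → w ∈ frattini ↥W := by
    intro w hw
    set N := (M.map W.subtype).normalCore with hN
    haveI : N.Normal := Subgroup.normalCore_normal _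
    rcases h.le_or_ge N j hj with h1 | h1
    · refine memF (h1 fun k => ?_)
      exact ⟨MulAut.conjNormal k w, by simpa using hw k⁻¹, by simp [MulAut.conjNormal_apply]⟩
    · exfalso
      obtain ⟨y, hy, e1⟩ := Subgroup.normalCore_le _ (h1 he)
      exact hMe (hZW he) ((Subtype.ext e1 : y = ⟨e, hZW he⟩) ▸ hy)
  let co : W → (T ⧸ W → Bool) := fun w q => decide (MulAut.conjNormal (q.out)⁻¹ w ∈ M)
  have hco : ∀ a b, co a = co b → a⁻¹ * b ∈ frattini ↥W := by
    intro a b e
    refine hker _ fun k => ?_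
    have hk := congrFun e (QuotientGroup.mk k)
    simp only [co, decide_eq_decide] at hk
    have hcl : (QuotientGroup.mk k : T ⧸ W).out⁻¹ * k ∈ W :=
      QuotientGroup.eq.1 (QuotientGroup.out_eq' (QuotientGroup.mk k : T ⧸ W))
    rw [h.conj_congr hM2 hcl, h.conj_congr hM2 hcl] at hk
    rw [map_mul, map_inv, Subgroup.mul_mem_iff_of_index_two hM2, inv_mem_iff]
    exact hk
  have hinj : Function.Injective fun q : W ⧸ frattini ↥W => co q.out := fun q r e => by
    rw [← QuotientGroup.out_eq' q, ← QuotientGroup.out_eq' r]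
    exact QuotientGroup.eq.2 (hco _ _ e)
  have hle := Nat.card_le_card_of_injective _ hinj
  have hfun : Nat.card (T ⧸ W → Bool) = 2 ^ W.index := by
    rw [Nat.card_fun, Subgroup.index, show Nat.card Bool = 2 by simp]
  have h4 := W.card_mul_index
  have h5 := (frattini ↥W).card_mul_index
  rw [hfun] at hle
  change (frattini ↥W).index ≤ _ at hle
  have hi := h.index_le
  have hc := h.hc
  have ha := h.ha
  have hpow : 2 ^ W.index ≤ 2 ^ 8 := Nat.pow_le_pow_right two_pos hi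
  have hA : (frattini ↥W).index ≤ 2 ^ 8 := hle.trans hpow
  have hWle : Nat.card W ≤ 2 ^ 11 := by
    rw [← h5]; exact (Nat.mul_le_mul hc hA).trans (by norm_num)
  have hidx : W.index = 8 := by
    by_contra hne
    have : W.index ≤ 7 := by omega
    have := Nat.mul_le_mul hWle this
    omega
  have hW11 : Nat.card W = 2 ^ 11 := by rw [hidx] at h4; omega
  have hT14 : Nat.card T = 2 ^ 14 := by rw [← h4, hW11, hidx]; norm_num
  have hF8 : Nat.card ↥(frattini ↥W) = 8 := by
    by_contra hne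
    have : Nat.card ↥(frattini ↥W) ≤ 7 := by omega
    have := Nat.mul_le_mul this hA
    omega
  have hFi : (frattini ↥W).index = 2 ^ W.index := by rw [hF8, hW11] at h5; rw [hidx]; omega
  have hsurj : Function.Surjective fun q : W ⧸ frattini ↥W => co q.out :=
    ((Nat.bijective_iff_injective_and_card _).2 ⟨hinj, by rw [hfun]; exact hFi⟩).2
  have hj3 : j = 3 := by
    have h6 := h.card_Z j (by omega)
    rw [← hF, Subgroup.card_map_of_injective W.subtype_injective, hF8] at h6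
    exact Nat.pow_right_injective le_rfl (show 2 ^ j = 2 ^ 3 by omega)
  subst hj3
  refine ⟨hidx, hF8, hF, hT14, hWn, M, hM2, hMF, ?_, hker, ?_⟩
  · intro e' h1 h2 hm
    have hd : (e' : T) * e ∈ Z 3 := h.coset_two (i := 3) (by norm_num) h1 h2 he he'
    have h3 : e' * ⟨e, hZW he⟩ ∈ M := hMF (memF hd)
    exact hMe (hZW he) (((Subgroup.mul_mem_iff_of_index_two hM2).1 h3).1 hm)
  · obtain ⟨q, hq⟩ := hsurj fun r => decide (r ≠ QuotientGroup.mk 1)
    refine ⟨q.out, fun k => ?_⟩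
    have hk := congrFun hq (QuotientGroup.mk k)
    simp only [co, decide_eq_decide] at hk
    have hcl : (QuotientGroup.mk k : T ⧸ W).out⁻¹ * k ∈ W :=
      QuotientGroup.eq.1 (QuotientGroup.out_eq' (QuotientGroup.mk k : T ⧸ W))
    rw [h.conj_congr hM2 hcl] at hk
    rw [hk, not_iff_not, QuotientGroup.eq, mul_one, inv_mem_iff]

theorem frattini_central {z : W} (hz : z ∈ frattini ↥W) (w : W) : z * w = w * z :=
  Subtype.ext (h.comm_W (h.structure_W.2.2.1 ▸ ⟨z, hz, rfl⟩) w.2)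

/-- Subgroups of small index of `W` cannot have all their squares in a proper part of the Frattini subgroup. -/
theorem full {K D : Subgroup ↥W} (hK : K.index ≤ 8) (hDK : D ≤ K) (hn : ∀ k ∈ K, ∀ d ∈ D, k * d * k⁻¹ ∈ D)
    (hsq : ∀ k ∈ K, k * k ∈ D) {z : W} (hz : z ∈ frattini ↥W) (hzK : z ∈ K) : z ∈ D := by
  by_contra hzD
  have hcomm : ∀ a ∈ K, ∀ b ∈ K, ⁅a, b⁆ ∈ D := by
    intro a ha b hb
    rw [show ⁅a, b⁆ = a * b * (a * b) * (b⁻¹ * (a⁻¹ * a⁻¹) * (b⁻¹)⁻¹) * (b⁻¹ * b⁻¹) by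
      rw [commutatorElement_def]; group]
    exact mul_mem (mul_mem (hsq _ (mul_mem ha hb)) (hn _ (inv_mem hb) _ (hsq _ (inv_mem ha)))) (hsq _ (inv_mem hb))
  obtain ⟨U, hzU, hU⟩ := exists_small_index hDK hn hcomm two_pos (fun a ha => by rw [pow_two]; exact hsq a ha) hzK hzD
  exact hzU (h.hd U (hU.trans (by omega)) hz)

theorem commutator_eq : commutator ↥W = frattini ↥W := by
  haveI : Fact (Nat.Prime 2) := ⟨Nat.prime_two⟩
  refine le_antisymm (commutator_le_frattini (h.hT.to_subgroup W)) fun z hz => ?_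
  by_contra hzD
  obtain ⟨U, hzU, hU⟩ := exists_small_index (K := (⊤ : Subgroup ↥W)) (D := commutator ↥W) le_top
    (fun k _ d hd => (inferInstance : (commutator ↥W).Normal).conj_mem d hd k)
    (fun a _ b _ => Subgroup.commutator_mem_commutator (Subgroup.mem_top a) (Subgroup.mem_top b))
    (n := 16) (by norm_num) (fun a _ => by
      have h1 : a ^ 2 ∈ frattini ↥W := pow_mem_frattini (h.hT.to_subgroup W) a
      have h2 : (⟨a ^ 2, h1⟩ : frattini ↥W) ^ 8 = 1 := by rw [← h.structure_W.2.1]; exact pow_card_eq_one'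
      have h3 : (a ^ 2) ^ 8 = 1 := congrArg Subtype.val h2
      rw [← pow_mul] at h3
      rw [h3]
      exact one_mem _) (Subgroup.mem_top z) hzD
  rw [Subgroup.index_top, mul_one] at hU
  exact hzU (h.hd U hU hz)

theorem frattini_sq {z : W} (hz : z ∈ frattini ↥W) : z * z = 1 := by
  haveI : Fact (Nat.Prime 2) := ⟨Nat.prime_two⟩
  rw [← h.commutator_eq, commutator_eq_closure] at hz
  have hle : Subgroup.closure (commutatorSet ↥W) ≤ frattini ↥W := by
    rw [← commutator_eq_closure]; exact commutator_le_frattini (h.hT.to_subgroup W)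
  refine Subgroup.closure_induction (p := fun x _ => x * x = 1) ?_ (one_mul 1)
    (fun a b ha _ h1 h2 => ?_) (fun a _ h1 => by rw [← mul_inv_rev, h1, inv_one]) hz
  · rintro _ ⟨a, b, rfl⟩
    have hc : ⁅a, b⁆ ∈ frattini ↥W := hle (Subgroup.subset_closure ⟨a, b, rfl⟩)
    have h2 : a * a ∈ frattini ↥W := by rw [← pow_two]; exact pow_mem_frattini (h.hT.to_subgroup W) a
    calc ⁅a, b⁆ * ⁅a, b⁆ = a * ⁅a, b⁆ * a⁻¹ * ⁅a, b⁆ := by rw [← h.frattini_central hc a, mul_inv_cancel_right]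
      _ = a * a * b * (a * a)⁻¹ * b⁻¹ := by rw [commutatorElement_def]; group
      _ = 1 := by rw [h.frattini_central h2 b, mul_inv_cancel_right, mul_inv_cancel]
  · calc a * b * (a * b) = a * (b * a) * b := by group
      _ = a * (a * b) * b := by rw [h.frattini_central (hle ha) b]
      _ = a * a * (b * b) := by group
      _ = 1 := by rw [h1, h2, one_mul]

theorem Z3_sq {z : T} (hz : z ∈ Z 3) : z * z = 1 := by
  rw [← h.structure_W.2.2.1] at hz
  obtain ⟨y, hy, rfl⟩ := hz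
  exact congrArg Subtype.val (h.frattini_sq hy)

end Hyp

end CfsgLib.PGroups.WideFourteen
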