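import Cfsg.Agent.Lib.PGroups.WideFourteen

/-!
Automorphisms of odd order and weak closure of `W`, for the groups of `WideFourteen`.
-/

set_option autoImplicit false
set_option linter.style.haveILetI false
set_option linter.unusedSectionVars false

namespace CfsgLib.PGroups.WideFourteen

open Subgroup
open scoped commutatorElement

variable {T : Type*} [Group T] [Finite T] {W : Subgroup T}

local notation "Z" i:max => Subgroup.upperCentralSeries T i

theorem eq_one_of_sq_of_odd {G : Type*} [Group G] {c : G} {n : ℕ} (hn : Odd n) (hc : c * c = 1) (hcn : c ^ n = 1) :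
    c = 1 := by
  obtain ⟨m, rfl⟩ := hn
  rwa [pow_succ, pow_mul, pow_two, hc, one_pow, one_mul] at hcn

namespace Hyp

variable (h : Hyp W)
include h

/-- An automorphism of odd period fixes `Z₃` pointwise. -/
theorem aut_fix_Z {α : MulAut T} {n : ℕ} (hn : Odd n) (hα : α ^ n = 1) :
    ∀ i, i ≤ 3 → ∀ x ∈ Z i, α x = x := by
  intro i
  induction i with
  | zero =>
    intro _ x hx
    rw [Subgroup.upperCentralSeries_zero, Subgroup.mem_bot] at hx
    rw [hx, map_one]
  | succ i ih =>
    intro hi x hx
    have key : ∀ y ∈ Z (i + 1), y ∉ Z i → α y ∉ Z i := fun y _ hy' hm =>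
      hy' (α.injective ((ih (by omega) _ hm)) ▸ hm)
    by_cases hxi : x ∈ Z i
    · exact ih (by omega) x hxi
    · have hax : α x ∈ Z (i + 1) := by
        have hch : (Z (i + 1)).Characteristic := inferInstance
        exact (Subgroup.characteristic_iff_map_le.1 hch α) ⟨x, hx, rfl⟩
      have hc : x * α x ∈ Z i := h.coset_two (by omega) hx hxi hax (key x hx hxi)
      set c := x * α x with hcdef
      have hc3 : c ∈ Z 3 := Z_mono (by omega) hc
      have hx3 : x ∈ Z 3 := Z_mono (by omega) hx
      have hαx : α x = x * c := by rw [hcdef, ← mul_assoc, h.Z3_sq hx3, one_mul]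
      have hit : ∀ m : ℕ, (α ^ m) x = x * c ^ m := by
        intro m
        induction m with
        | zero => simp
        | succ m ihm =>
          rw [pow_succ', MulAut.mul_apply, ihm, map_mul, map_pow, ih (by omega) c hc, hαx, mul_assoc, ← pow_succ']
      have h1 := hit n
      rw [hα, MulAut.one_apply, eq_comm, mul_eq_left] at h1
      rw [hαx, eq_one_of_sq_of_odd hn (h.Z3_sq hc3) h1, mul_one]

/-- An automorphism of odd period acts trivially on `T / W`. -/
theorem aut_mod_W {α : MulAut T} {n : ℕ} (hn : Odd n) (hα : α ^ n = 1) (g : T) : g⁻¹ * α g ∈ W := by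
  rw [h.hW, Subgroup.mem_centralizer_iff]
  intro z hz
  have hfix := h.aut_fix_Z hn hα 3 le_rfl
  have hgz : g * z * g⁻¹ ∈ Z 3 := (inferInstance : (Z 3).Normal).conj_mem _ hz _
  have h1 := hfix _ hgz
  rw [map_mul, map_mul, map_inv, hfix z hz] at h1
  calc z * (g⁻¹ * α g) = g⁻¹ * (g * z * g⁻¹) * α g := by group
    _ = g⁻¹ * (α g * z * (α g)⁻¹) * α g := by rw [h1]
    _ = g⁻¹ * α g * z := by group

theorem frattini_W_le : (frattini ↥W).map W.subtype ≤ frattini T := by
  rw [← h.commutator_eq, Subgroup.map_le_iff_le_comap, commutator_def, Subgroup.commutator_le]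
  intro a _ b _
  haveI : Fact (Nat.Prime 2) := ⟨Nat.prime_two⟩
  rw [Subgroup.mem_comap, map_commutatorElement]
  exact commutator_le_frattini h.hT (Subgroup.commutator_mem_commutator (Subgroup.mem_top _) (Subgroup.mem_top _))

/-- Modulo the Frattini subgroup of `T`, the subgroup `W` has order at most two. -/
theorem exists_gen_mod_frattini :
    ∃ v : T, ∀ w ∈ W, w ∈ frattini T ∨ v⁻¹ * w ∈ frattini T := by
  classical
  obtain ⟨-, -, -, -, hWn, M, hM2, hMF, -, hker, v, hv⟩ := h.structure_W
  haveI : Fact (Nat.Prime 2) := ⟨Nat.prime_two⟩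
  refine ⟨v, ?_⟩
  let π := QuotientGroup.mk' (frattini T)
  have hsq : π (v : T) * π (v : T) = 1 := by
    rw [← map_mul, ← pow_two]
    exact (QuotientGroup.eq_one_iff _).2 (pow_mem_frattini h.hT _)
  have hconj : ∀ g : T, π (g * (v : T) * g⁻¹) = π (v : T) := fun g => by
    have h1 : ⁅π g, π (v : T)⁆ = 1 := by
      rw [← map_commutatorElement]
      exact (QuotientGroup.eq_one_iff _).2 (commutator_le_frattini h.hT
        (Subgroup.commutator_mem_commutator (Subgroup.mem_top _) (Subgroup.mem_top _)))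
    rw [commutatorElement_eq_one_iff_mul_comm] at h1
    rw [map_mul, map_mul, map_inv, h1, mul_inv_cancel_right]
  suffices ∀ (s : Finset (T ⧸ W)) (w : W),
      (∀ q ∉ s, MulAut.conjNormal (q.out)⁻¹ w ∈ M) → π (w : T) = 1 ∨ π (w : T) = π (v : T) by
    intro w hw
    rcases this (Set.toFinite (Set.univ : Set (T ⧸ W))).toFinset ⟨w, hw⟩ (fun q hq => absurd (by simp) hq) with e | e
    · exact .inl ((QuotientGroup.eq_one_iff _).1 e)
    · exact .inr (QuotientGroup.eq.1 e.symm)
  intro s
  induction s using Finset.induction with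
  | empty =>
    intro w hw
    refine .inl ((QuotientGroup.eq_one_iff _).2 (h.frattini_W_le ⟨w, hker w fun k => ?_, rfl⟩))
    rw [← h.conj_congr hM2 (QuotientGroup.eq.1 (QuotientGroup.out_eq' (k : T ⧸ W))) w]
    exact hw _ (Finset.notMem_empty _)
  | insert q s hq ih =>
    intro w hw
    by_cases hqw : MulAut.conjNormal (q.out)⁻¹ w ∈ M
    · refine ih w fun q' hq' => ?_
      by_cases e : q' = q
      · exact e ▸ hqw
      · exact hw q' (by simp [e, hq'])
    · set u : W := MulAut.conjNormal q.out v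
      have h2 := ih (u⁻¹ * w) fun q' hq' => by
        have e : MulAut.conjNormal (q'.out)⁻¹ u = MulAut.conjNormal ((q.out)⁻¹ * q'.out)⁻¹ v := Subtype.ext (by
          simp only [u, MulAut.conjNormal_apply]; group)
        rw [map_mul, map_inv, Subgroup.mul_mem_iff_of_index_two hM2, inv_mem_iff, e, hv]
        have hiff : (q.out)⁻¹ * q'.out ∈ W ↔ q = q' := by
          rw [← QuotientGroup.eq, QuotientGroup.out_eq', QuotientGroup.out_eq']
        rw [hiff]
        by_cases e' : q = q'
        · subst e'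
          exact iff_of_false (fun hne => hne rfl) hqw
        · exact iff_of_true e' (hw q' (by simp [Ne.symm e', hq']))
      have hu : π ((u⁻¹ * w : W) : T) = (π (v : T))⁻¹ * π (w : T) := by
        rw [Subgroup.coe_mul, InvMemClass.coe_inv, map_mul, map_inv, MulAut.conjNormal_apply, hconj]
      rcases h2 with e | e
      · exact .inr (inv_mul_eq_one.1 (hu ▸ e)).symm
      · refine .inl ?_
        rw [hu, inv_mul_eq_iff_eq_mul, hsq] at e
        exact e

/-- An automorphism of odd period acts trivially on `T / Φ(T)`. -/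
theorem aut_mod_frattini {α : MulAut T} {n : ℕ} (hn : Odd n) (hα : α ^ n = 1) (g : T) :
    g⁻¹ * α g ∈ frattini T := by
  haveI : Fact (Nat.Prime 2) := ⟨Nat.prime_two⟩
  obtain ⟨v, hv⟩ := h.exists_gen_mod_frattini
  rcases hv _ (h.aut_mod_W hn hα g) with h1 | h1
  · exact h1
  have hch : (frattini T).Characteristic := inferInstance
  have hF : ∀ (β : MulAut T) (x : T), x ∈ frattini T → β x ∈ frattini T := fun β x hx =>
    (Subgroup.characteristic_iff_map_le.1 hch β) ⟨x, hx, rfl⟩
  have hW : ∀ w ∈ W, α w ∈ W := fun w hw => by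
    have := mul_mem hw (h.aut_mod_W hn hα w)
    rwa [mul_inv_cancel_left] at this
  set c := g⁻¹ * α g with hc
  let π := QuotientGroup.mk' (frattini T)
  by_contra hne
  have hcW : c ∈ W := h.aut_mod_W hn hα g
  have hcc : π (α c) = π c := by
    rcases hv _ (hW c hcW) with h2 | h2
    · exact absurd (by simpa using hF α⁻¹ _ h2) hne
    · exact (QuotientGroup.eq.2 h2).symm.trans (QuotientGroup.eq.2 h1)
  have hit : ∀ m : ℕ, π ((α ^ m) g) = π g * π c ^ m ∧ π ((α ^ m) c) = π c := by
    intro m
    induction m with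
    | zero => simp
    | succ m ihm =>
      have e2 : π ((α ^ (m + 1)) c) = π c := by
        rw [pow_succ', MulAut.mul_apply, ← hcc]
        exact QuotientGroup.eq.2 (by rw [← map_inv, ← map_mul]; exact hF α _ (QuotientGroup.eq.1 ihm.2))
      refine ⟨?_, e2⟩
      rw [pow_succ α, MulAut.mul_apply, show α g = g * c by rw [hc, mul_inv_cancel_left], map_mul, map_mul, ihm.1,
        ihm.2, pow_succ, mul_assoc]
  have h3 := (hit n).1
  rw [hα, MulAut.one_apply, left_eq_mul] at h3
  have hcsq : π c * π c = 1 := by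
    rw [← map_mul, ← pow_two]
    exact (QuotientGroup.eq_one_iff _).2 (pow_mem_frattini h.hT _)
  exact hne ((QuotientGroup.eq_one_iff _).1 (eq_one_of_sq_of_odd hn hcsq h3))

/-- `W` is the only image of itself inside `T` under a homomorphism. -/
theorem map_eq_of_le {G : Type*} [Group G] {ι f : T →* G} (hι : Function.Injective ι) (hf : Function.Injective f)
    (hle : W.map f ≤ ι.range) : W.map f = W.map ι := by
  classical
  obtain ⟨hi, -, hF, hT14, -⟩ := h.structure_W
  set U : Subgroup T := (W.map f).comap ι with hU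
  have hUmap : U.map ι = W.map f := by
    rw [hU, Subgroup.map_comap_eq, inf_eq_right.2 hle]
  have hUcard : Nat.card U = Nat.card W := by
    rw [← Subgroup.card_map_of_injective hι, hUmap, Subgroup.card_map_of_injective hf]
  have hUidx : U.index = 8 := by
    have h1 := U.card_mul_index
    rw [hUcard, ← W.card_mul_index, hi] at h1
    exact Nat.eq_of_mul_eq_mul_left Nat.card_pos h1
  have hWF : ∀ x : W, (x : T) ∈ Z 3 → x ∈ frattini ↥W := fun x hx => by
    rw [← hF] at hx
    obtain ⟨y, hy, e⟩ := hx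
    exact (Subtype.ext e : y = x) ▸ hy
  have hFW : ∀ x : W, x ∈ frattini ↥W → (x : T) ∈ Z 3 := fun x hx => hF ▸ ⟨x, hx, rfl⟩
  haveI : Fact (Nat.Prime 2) := ⟨Nat.prime_two⟩
  set K : Subgroup W := U.subgroupOf W
  have hK : K.index ≤ 8 := by
    rw [← hUidx]
    calc K.index = U.relIndex W := rfl
      _ ≤ U.relIndex ⊤ := Subgroup.relIndex_le_of_le_right le_top
          (by rw [Subgroup.relIndex_top_right]; exact Subgroup.index_ne_zero_of_finite)
      _ = U.index := Subgroup.relIndex_top_right _
  set D : Subgroup W := (Z 3 ⊓ ((Z 3).map f).comap ι).subgroupOf W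
  have hFK : frattini ↥W ≤ K := h.hd K (by omega)
  have hsub : Z 3 ≤ ((Z 3).map f).comap ι := by
    intro z hz
    have hz' := h.full (K := K) (D := D) (z := ⟨z, h.Z3_le_W hz⟩) hK
      (fun x hx => hFK (hWF x hx.1))
      (fun k _ d hd => by
        rw [← h.frattini_central (hWF d hd.1) k, mul_inv_cancel_right]
        exact hd)
      (fun k hk => ?_) (hWF _ hz) (hFK (hWF _ hz))
    · exact hz'.2
    · refine Subgroup.mem_subgroupOf.2 (Subgroup.mem_inf.2 ⟨?_, ?_⟩)
      · have := hFW _ (pow_mem_frattini (h.hT.to_subgroup W) k)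
        rwa [pow_two] at this
      · obtain ⟨w, hw, e⟩ := (Subgroup.mem_subgroupOf.1 hk : (k : T) ∈ U)
        refine ⟨w * w, ?_, by rw [map_mul, e, Subgroup.coe_mul, map_mul]⟩
        have := hFW _ (pow_mem_frattini (h.hT.to_subgroup W) ⟨w, hw⟩)
        rwa [pow_two] at this
  haveI : Finite ↥((Z 3).map f) := Finite.of_equiv _ (Subgroup.equivMapOfInjective (Z 3) f hf).toEquiv
  have heq : (Z 3).map ι = (Z 3).map f :=
    Subgroup.eq_of_le_of_card_ge (Subgroup.map_le_iff_le_comap.2 hsub) (by
      rw [Subgroup.card_map_of_injective hι, Subgroup.card_map_of_injective hf])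
  have hUW : U ≤ W := by
    intro u hu
    rw [h.hW, Subgroup.mem_centralizer_iff]
    intro z hz
    obtain ⟨w, hw, ew⟩ := (hu : ι u ∈ W.map f)
    obtain ⟨z', hz', ez⟩ := (heq ▸ ⟨z, hz, rfl⟩ : ι z ∈ (Z 3).map f)
    refine hι ?_
    rw [map_mul, map_mul, ← ew, ← ez, ← map_mul, ← map_mul, h.comm_W hz' hw]
  rw [← hUmap, Subgroup.eq_of_le_of_card_ge hUW hUcard.ge]

end Hyp

end CfsgLib.PGroups.WideFourteen
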