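import Cfsg.Agent.Lib.PGroups.WideFourteen

/-!
The quotient `T / W ≅ D₈` and the centre of `W`, for the groups of `WideFourteen`.
-/

set_option autoImplicit false
set_option linter.style.haveILetI false
set_option linter.unusedSectionVars false

namespace CfsgLib.PGroups.WideFourteen

open Subgroup
open scoped commutatorElement

variable {T : Type*} [Group T] [Finite T] {W : Subgroup T}

local notation "Z" i:max => Subgroup.upperCentralSeries T i

theorem comm_mul (g k z : T) : ⁅g * k, z⁆ = g * ⁅k, z⁆ * g⁻¹ * ⁅g, z⁆ := by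
  simp only [commutatorElement_def]; group

theorem conj_eq (g z : T) : g * z * g⁻¹ = ⁅g, z⁆ * z := by
  simp only [commutatorElement_def]; group

theorem dihedral_exists {Q : Type*} [Group Q] {X Y : Q} (hX : orderOf X = 2) (hY : orderOf Y = 2) :
    ∀ n, orderOf (X * Y) = n → ∃ D : DihedralGroup n →* Q,
      (∀ i : ZMod n, D (DihedralGroup.r i) = (X * Y) ^ (i.cast : ℤ)) ∧
        ∀ i : ZMod n, D (DihedralGroup.sr i) = X * (X * Y) ^ (i.cast : ℤ) := by
  rintro n rfl
  exact ⟨Involutions.dihedralHom hX hY, fun _ => rfl, fun _ => rfl⟩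

namespace Hyp

variable (h : Hyp W)
include h

theorem theta_surj {z₂ z₃ : T} (h2 : z₂ ∈ Z 2) (h2' : z₂ ∉ Z 1) (h3 : z₃ ∈ Z 3) (h3' : z₃ ∉ Z 2) {a b : T}
    (ha : a ∈ Z 1) (hb : b ∈ Z 2) : ∃ g : T, ⁅g, z₂⁆ = a ∧ ⁅g, z₃⁆ = b := by
  let f : T → ↥(Z 1) × ↥(Z 2) := fun g => (⟨⁅g, z₂⁆, comm_mem_Z h2 g⟩, ⟨⁅g, z₃⁆, comm_mem_Z h3 g⟩)
  have key : ∀ a b, f a = f b → a⁻¹ * b ∈ W := by
    intro a b e
    simp only [f, Prod.mk.injEq, Subtype.mk.injEq, commutatorElement_def, mul_left_inj] at e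
    have conj : ∀ z : T, a * z * a⁻¹ = b * z * b⁻¹ → a⁻¹ * b * z = z * (a⁻¹ * b) := fun z ez => by
      calc a⁻¹ * b * z = a⁻¹ * (b * z * b⁻¹) * b := by group
        _ = a⁻¹ * (a * z * a⁻¹) * b := by rw [ez]
        _ = z * (a⁻¹ * b) := by group
    exact (h.mem_W_iff h2 h2' h3 h3').2 ⟨conj _ e.1, conj _ e.2⟩
  have hinj : Function.Injective fun q : T ⧸ W => f q.out := fun q r e => by
    rw [← QuotientGroup.out_eq' q, ← QuotientGroup.out_eq' r]
    exact QuotientGroup.eq.2 (key _ _ e)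
  have hsurj := ((Nat.bijective_iff_injective_and_card _).2 ⟨hinj, by
    rw [Nat.card_prod, h.card_Z 1 (by norm_num), h.card_Z 2 (by norm_num)]
    exact h.structure_W.1⟩).2
  obtain ⟨q, hq⟩ := hsurj (⟨a, ha⟩, ⟨b, hb⟩)
  exact ⟨q.out, congrArg (fun p => (p.1 : T)) hq, congrArg (fun p => (p.2 : T)) hq⟩

theorem exists_dihedral [W.Normal] :
    ∃ D : DihedralGroup 4 ≃* T ⧸ W, ∀ d : DihedralGroup 4,
      (d = DihedralGroup.sr 1 ∨ d = DihedralGroup.sr 3 ∨ d = DihedralGroup.r 2) →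
        ∀ k : T, (k : T ⧸ W) = D d → ∀ c ∈ Z 3, k * c = c * k → c ∈ Z 2 := by
  obtain ⟨z₂, z₃, h2, h2', h3, h3'⟩ := h.exists_gens
  have inW : ∀ {g : T}, g ∈ W ↔ ⁅g, z₂⁆ = 1 ∧ ⁅g, z₃⁆ = 1 := fun {g} => by
    rw [commutatorElement_eq_one_iff_mul_comm, commutatorElement_eq_one_iff_mul_comm, h.mem_W_iff h2 h2' h3 h3']
  obtain ⟨a, ha, ha1⟩ : ∃ a, a ∈ Z 1 ∧ a ≠ 1 := by
    obtain ⟨a, ha, ha1⟩ := (Subgroup.bot_or_exists_ne_one (Z 1)).resolve_left (fun e => by
      have := h.card_Z 1 (by norm_num)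
      rw [e, Subgroup.card_bot] at this
      omega)
    exact ⟨a, ha, ha1⟩
  have sq : ∀ {z}, z ∈ Z 3 → z * z = 1 := fun hz => h.Z3_sq hz
  have z2' : z₂ ∈ Z 3 := Z_mono (by norm_num) h2
  have a' : a ∈ Z 3 := Z_mono (by norm_num) ha
  have ca : ∀ g, g * a * g⁻¹ = a := fun g => by rw [h.central_Z1 ha g, mul_inv_cancel_right]
  have mulα : ∀ g k, ⁅g * k, z₂⁆ = ⁅k, z₂⁆ * ⁅g, z₂⁆ := fun g k => by
    rw [comm_mul, h.central_Z1 (comm_mem_Z h2 k) g, mul_inv_cancel_right]
  obtain ⟨x, hx2, hx3⟩ := h.theta_surj h2 h2' h3 h3' ha (one_mem (Z 2))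
  obtain ⟨y, hy2, hy3⟩ := h.theta_surj h2 h2' h3 h3' (one_mem (Z 1)) h2
  have hxx : x * x ∈ W := inW.2 ⟨by rw [mulα, hx2, sq a'], by rw [comm_mul, hx3]; simp⟩
  have hyy : y * y ∈ W := inW.2 ⟨by rw [mulα, hy2, one_mul], by
    rw [comm_mul, hy3, conj_eq, hy2, one_mul, sq z2']⟩
  have hxy2 : ⁅x * y, z₂⁆ = a := by rw [mulα, hx2, hy2, one_mul]
  have hxy3 : ⁅x * y, z₃⁆ = a * z₂ := by rw [comm_mul, hy3, hx3, mul_one, conj_eq, hx2]
  set u := x * y * (x * y) with hu
  have hu2 : ⁅u, z₂⁆ = 1 := by rw [hu, mulα, hxy2, sq a']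
  have haz : a * z₂ ∈ Z 3 := mul_mem a' z2'
  have hu3 : ⁅u, z₃⁆ = a := by
    rw [hu, comm_mul, hxy3, conj_eq (x * y) (a * z₂)]
    have e : ⁅x * y, a * z₂⁆ = a := by
      rw [commutatorElement_def, show x * y * (a * z₂) * (x * y)⁻¹ = x * y * a * (x * y)⁻¹ * ((x * y) * z₂ * (x * y)⁻¹) by group,
        ca, conj_eq, hxy2, mul_assoc a (a * z₂), mul_inv_cancel, mul_one]
    rw [e, mul_assoc, sq haz, mul_one]
  set X : T ⧸ W := (x : T ⧸ W) with hX
  set Y : T ⧸ W := (y : T ⧸ W) with hY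
  have hone : ∀ g : T, (g : T ⧸ W) = 1 ↔ g ∈ W := fun g => QuotientGroup.eq_one_iff g
  haveI : Fact (Nat.Prime 2) := ⟨Nat.prime_two⟩
  have oX : orderOf X = 2 := orderOf_eq_prime (by rw [pow_two, hX, ← QuotientGroup.mk_mul, hone]; exact hxx)
    (fun e => ha1 (hx2 ▸ ((inW).1 ((hone x).1 e)).1))
  have oY : orderOf Y = 2 := orderOf_eq_prime (by rw [pow_two, hY, ← QuotientGroup.mk_mul, hone]; exact hyy)
    (fun e => h2' (by
      have := ((inW).1 ((hone y).1 e)).2
      rw [hy3] at this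
      rw [this]; exact one_mem _))
  have hu4 : u * u ∈ W := inW.2 ⟨by rw [mulα, hu2, one_mul], by rw [comm_mul, hu3, ca, sq a']⟩
  have hXY2 : (X * Y) ^ 2 = (u : T ⧸ W) := by rw [pow_two, hX, hY, ← QuotientGroup.mk_mul, ← QuotientGroup.mk_mul]
  have huW : u ∉ W := fun hu' => ha1 (hu3 ▸ (inW.1 hu').2)
  have oXY : orderOf (X * Y) = 4 :=
    orderOf_eq_prime_pow (p := 2) (n := 1)
      (by rw [pow_one, hXY2, hone]; exact huW)
      (by rw [show 2 ^ (1 + 1) = 2 * 2 from rfl, pow_mul, hXY2, pow_two, ← QuotientGroup.mk_mul, hone]; exact hu4)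
  obtain ⟨D, hDr, hDs⟩ := dihedral_exists oX oY 4 oXY
  have hsmall : ∀ m : ℕ, m < 4 → (X * Y) ^ m = 1 → m = 0 := by
    intro m hm e
    have := orderOf_dvd_of_pow_eq_one e
    rw [oXY] at this
    exact Nat.eq_zero_of_dvd_of_lt this hm
  have hXne : ∀ m : ℕ, m < 4 → X * (X * Y) ^ m ≠ 1 := by
    intro m hm e
    have e1 : (X * Y) ^ m = X := by
      have h5 : X * X = 1 := by rw [← pow_two, ← oX]; exact pow_orderOf_eq_one X
      calc (X * Y) ^ m = X * X * (X * Y) ^ m := by rw [h5, one_mul]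
        _ = X := by rw [mul_assoc, e, mul_one]
    have h6 : (X * Y) ^ (m + m) = 1 := by
      rw [pow_add, e1, ← pow_two, ← oX]; exact pow_orderOf_eq_one X
    have h7 : 4 ∣ m + m := oXY ▸ orderOf_dvd_of_pow_eq_one h6
    rcases (show m = 0 ∨ m = 2 by omega) with rfl | rfl
    · rw [pow_zero] at e1
      exact absurd oX (by rw [← e1, orderOf_one]; norm_num)
    · rw [hXY2] at e1
      have h8 := QuotientGroup.eq.1 e1
      have h9 := (inW.1 h8).1
      have hui : ⁅u⁻¹, z₂⁆ = 1 := by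
        rw [commutatorElement_eq_one_iff_mul_comm] at hu2 ⊢
        exact (Commute.inv_left hu2).eq
      rw [mulα, hui, mul_one, hx2] at h9
      exact ha1 h9
  have hinj : Function.Injective D := by
    rw [injective_iff_map_eq_one]
    rintro (i | i) e
    · rw [hDr, ← ZMod.natCast_val i, zpow_natCast] at e
      rw [(ZMod.val_eq_zero i).1 (hsmall _ (ZMod.val_lt i) e)]
      rfl
    · rw [hDs, ← ZMod.natCast_val i, zpow_natCast] at e
      exact absurd e (hXne _ (ZMod.val_lt i))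
  have hbij : Function.Bijective D := (Nat.bijective_iff_injective_and_card _).2 ⟨hinj, by
    rw [DihedralGroup.nat_card]; exact h.structure_W.1.symm⟩
  refine ⟨MulEquiv.ofBijective D hbij, ?_⟩
  -- the fixed points on `Z₃` of the three involutions lie in `Z₂`
  have main : ∀ k : T, (⁅k, z₃⁆ ∉ Z 1 ∨ (⁅k, z₂⁆ = 1 ∧ k ∉ W)) → ∀ c ∈ Z 3, k * c = c * k → c ∈ Z 2 := by
    intro k hk c hc hfix
    by_contra hc2
    have hy' : z₃ * c ∈ Z 2 := h.coset_two (i := 2) (by norm_num) h3 h3' hc hc2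
    set w := z₃ * c with hw
    have hz3 : z₃ = w * c := by rw [hw, mul_assoc, sq hc, mul_one]
    have e : ⁅k, z₃⁆ = ⁅k, w⁆ := by
      rw [hz3, commutatorElement_def, commutatorElement_def,
        show k * (w * c) * k⁻¹ * (w * c)⁻¹ = k * w * (c * k⁻¹) * (c⁻¹ * w⁻¹) by group,
        show c * k⁻¹ = k⁻¹ * c from (Commute.inv_right (Commute.symm (hfix : Commute k c))).eq]
      group
    rcases hk with hk | ⟨hk, hkW⟩
    · exact hk (e ▸ comm_mem_Z hy' k)
    · refine hkW (inW.2 ⟨hk, e.trans ?_⟩)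
      rw [commutatorElement_eq_one_iff_mul_comm]
      by_cases hw1 : w ∈ Z 1
      · exact h.central_Z1 hw1 k
      · have hc1 := h.central_Z1 (h.coset_two (i := 1) (by norm_num) hy' hw1 h2 h2') k
        have hc2 : k * z₂ = z₂ * k := commutatorElement_eq_one_iff_mul_comm.1 hk
        have h9 : Commute k (w * z₂ * z₂) := (Commute.mul_right hc1 hc2)
        rw [mul_assoc, sq z2', mul_one] at h9
        exact h9.eq
  have mod_eq : ∀ (k g : T), (k : T ⧸ W) = (g : T ⧸ W) → ⁅k, z₂⁆ = ⁅g, z₂⁆ ∧ ⁅k, z₃⁆ = ⁅g, z₃⁆ := by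
    intro k g e
    have h5 := (inW.1 (QuotientGroup.eq.1 e))
    have : ∀ z : T, ⁅k⁻¹ * g, z⁆ = 1 → ⁅k, z⁆ = ⁅g, z⁆ := fun z hz => by
      conv_rhs => rw [show g = k * (k⁻¹ * g) by group, comm_mul, hz, mul_one, mul_inv_cancel, one_mul]
    exact ⟨this _ h5.1, this _ h5.2⟩
  have hbeta : z₂ ∉ Z 1 := h2'
  rintro d hd k hk
  have hk' : (k : T ⧸ W) = D d := hk
  rcases hd with rfl | rfl | rfl
  · rw [hDs, show ((1 : ZMod 4).cast : ℤ) = 1 from rfl, zpow_one, ← mul_assoc, ← pow_two,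
      show X ^ 2 = 1 by rw [← oX]; exact pow_orderOf_eq_one X, one_mul] at hk'
    exact main k (.inl (by rw [(mod_eq k y hk').2, hy3]; exact hbeta))
  · rw [hDs, show ((3 : ZMod 4).cast : ℤ) = ((3 : ℕ) : ℤ) from rfl, zpow_natCast] at hk'
    have e : X * (X * Y) ^ 3 = ((x * (x * y * u) : T) : T ⧸ W) := by
      rw [pow_succ', hXY2]
      simp only [hX, hY, hu, QuotientGroup.mk_mul, mul_assoc]
    rw [e] at hk'
    refine main k (.inl fun hm => ?_)
    rw [(mod_eq k _ hk').2, comm_mul, hx3, mul_one, comm_mul, hu3, ca, hxy3, conj_eq] at hm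
    have e2 : a * (a * z₂) = z₂ := by rw [← mul_assoc, sq a', one_mul]
    rw [e2] at hm
    exact hbeta ((Subgroup.mul_mem_cancel_left _ (comm_mem_Z (Z_mono (by norm_num) h2 : z₂ ∈ Z 2) x)).1 hm)
  · rw [hDr, show ((2 : ZMod 4).cast : ℤ) = ((2 : ℕ) : ℤ) from rfl, zpow_natCast, hXY2] at hk'
    refine main k (.inr ⟨by rw [(mod_eq k u hk').1, hu2], fun hW' => ?_⟩)
    have h5 := (inW.1 hW').2
    rw [(mod_eq k u hk').2, hu3] at h5
    exact ha1 h5

theorem Z4_not_central : ¬ ∀ e : W, (e : T) ∈ Z 4 → ∀ w : W, e * w = w * e := by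
  classical
  intro hcentral
  obtain ⟨-, -, hF, -, hWn, M, hM2, hMF, hMe, hker, v, hv⟩ := h.structure_W
  obtain ⟨D, hfix⟩ := h.exists_dihedral
  have hDR := fun d : DihedralGroup 4 => QuotientGroup.out_eq' (D d)
  set R : DihedralGroup 4 → T := fun d => (D d).out with hR
  -- coordinates
  let cf : T → W → ZMod 2 := fun k w => if MulAut.conjNormal k⁻¹ w ∈ M then 0 else 1
  have cf_mul : ∀ k a b, cf k (a * b) = cf k a + cf k b := by
    intro k a b
    have e : MulAut.conjNormal k⁻¹ (a * b) ∈ M ↔ (MulAut.conjNormal k⁻¹ a ∈ M ↔ MulAut.conjNormal k⁻¹ b ∈ M) := by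
      rw [map_mul]; exact Subgroup.mul_mem_iff_of_index_two hM2
    simp only [cf]
    by_cases ha : MulAut.conjNormal k⁻¹ a ∈ M <;> by_cases hb : MulAut.conjNormal k⁻¹ b ∈ M
    · rw [if_pos (e.2 (iff_of_true ha hb)), if_pos ha, if_pos hb, add_zero]
    · rw [if_neg (fun hn => hb ((e.1 hn).1 ha)), if_pos ha, if_neg hb, zero_add]
    · rw [if_neg (fun hn => ha ((e.1 hn).2 hb)), if_neg ha, if_pos hb, add_zero]
    · rw [if_pos (e.2 (iff_of_false ha hb)), if_neg ha, if_neg hb]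
      decide
  have cf_pow : ∀ (k : T) (a : W) (n : ℕ), cf k (a ^ n) = n * cf k a := by
    intro k a n
    induction n with
    | zero => simp [cf]
    | succ n ih => rw [pow_succ, cf_mul, ih]; push_cast; ring
  have memF : ∀ {w : W}, (w : T) ∈ Z 3 → w ∈ frattini ↥W := fun {w} hw => by
    rw [← hF] at hw
    obtain ⟨y, hy, e1⟩ := hw
    exact (Subtype.ext e1 : y = w) ▸ hy
  have inZ3 : ∀ {w : W}, w ∈ frattini ↥W → (w : T) ∈ Z 3 := fun {w} hw => hF ▸ ⟨w, hw, rfl⟩
  have cf_zero : ∀ k w, w ∈ frattini ↥W → cf k w = 0 := fun k w hw => by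
    refine if_pos (hMF (memF ?_))
    rw [MulAut.conjNormal_apply]
    exact (inferInstance : (Z 3).Normal).conj_mem _ (inZ3 hw) _
  have cf_ker : ∀ w, (∀ d, cf (R d) w = 0) → w ∈ frattini ↥W := by
    intro w hw
    refine hker w fun k => ?_
    obtain ⟨d, hd⟩ := D.surjective (k : T ⧸ W)
    have hcl : (R d)⁻¹ * k ∈ W := QuotientGroup.eq.1 (by rw [hR]; exact (hDR d).trans hd)
    rw [← h.conj_congr hM2 hcl]
    by_contra hne
    have := hw d
    simp only [cf, if_neg hne] at this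
    exact one_ne_zero this
  set vv : DihedralGroup 4 → W := fun d => MulAut.conjNormal (R d) v with hvv
  have cf_v : ∀ d d', cf (R d') (vv d) = if d' = d then 1 else 0 := by
    intro d d'
    have e : MulAut.conjNormal (R d')⁻¹ (vv d) = MulAut.conjNormal ((R d)⁻¹ * R d')⁻¹ v := Subtype.ext (by
      simp only [hvv, MulAut.conjNormal_apply]; group)
    simp only [cf, e, hv]
    have hiff : (R d)⁻¹ * R d' ∈ W ↔ d' = d := by
      rw [← QuotientGroup.eq]
      show ((D d).out : T ⧸ W) = ((D d').out : T ⧸ W) ↔ _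
      rw [hDR, hDR, D.injective.eq_iff, eq_comm]
    by_cases hdd : d' = d
    · rw [if_pos hdd, if_neg (fun hn => hn (hiff.2 hdd))]
    · rw [if_neg hdd, if_pos (fun hn => hdd (hiff.1 hn))]
  -- modulo `Z₂`
  let π := QuotientGroup.mk' (Z 2)
  let P : DihedralGroup 4 → T ⧸ Z 2 := fun d => π (vv d : T)
  have ccent : ∀ c ∈ Z 3, ∀ g : T, π g * π c = π c * π g := by
    intro c hc g
    rw [← commutatorElement_eq_one_iff_mul_comm, ← map_commutatorElement]
    exact (QuotientGroup.eq_one_iff _).2 (comm_mem_Z hc g)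
  have csq : ∀ c ∈ Z 3, π c * π c = 1 := fun c hc => by rw [← map_mul, h.Z3_sq hc, map_one]
  have hcW : ∀ a b : W, (⁅a, b⁆ : W).1 ∈ Z 3 := fun a b =>
    inZ3 (h.commutator_eq ▸ Subgroup.commutator_mem_commutator (Subgroup.mem_top a) (Subgroup.mem_top b))
  let ψ : DihedralGroup 4 → T ⧸ Z 2 := fun d => π ((⁅v, MulAut.conjNormal (R d) v⁆ : W) : T)
  have central_mul : ∀ (a c : W), c ∈ frattini ↥W → ∀ b : W, ⁅b, a * c⁆ = ⁅b, a⁆ := by
    intro a c hc b
    have e := h.frattini_central hc b⁻¹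
    calc ⁅b, a * c⁆ = b * a * (c * b⁻¹) * c⁻¹ * a⁻¹ := by rw [commutatorElement_def]; group
      _ = b * a * (b⁻¹ * c) * c⁻¹ * a⁻¹ := by rw [e]
      _ = ⁅b, a⁆ := by rw [commutatorElement_def]; group
  have v_congr : ∀ g k : T, g⁻¹ * k ∈ W → ∀ b : W, ⁅b, MulAut.conjNormal k v⁆ = ⁅b, MulAut.conjNormal g v⁆ := by
    intro g k hgk b
    set u : W := ⟨g⁻¹ * k, hgk⟩
    have e : MulAut.conjNormal k v = MulAut.conjNormal g v * MulAut.conjNormal g ⁅v⁻¹, u⁆ := by
      rw [← map_mul]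
      refine Subtype.ext ?_
      simp only [MulAut.conjNormal_apply, Subgroup.coe_mul, u, commutatorElement_def, InvMemClass.coe_inv]
      group
    rw [e]
    refine central_mul _ _ (memF ?_) b
    rw [MulAut.conjNormal_apply]
    exact (inferInstance : (Z 3).Normal).conj_mem _ (hcW _ _) _
  have hE : ∀ a b, ⁅P a, P b⁆ = ψ (a⁻¹ * b) := by
    intro a b
    have hcl : ((R a)⁻¹ * R b)⁻¹ * R (a⁻¹ * b) ∈ W := by
      rw [← QuotientGroup.eq, QuotientGroup.mk_mul, QuotientGroup.mk_inv]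
      show ((D a).out : T ⧸ W)⁻¹ * ((D b).out : T ⧸ W) = ((D (a⁻¹ * b)).out : T ⧸ W)
      rw [hDR, hDR, hDR, map_mul, map_inv]
    have e0 : vv b = MulAut.conjNormal (R a) (MulAut.conjNormal ((R a)⁻¹ * R b) v) := by
      refine Subtype.ext ?_
      simp only [hvv, MulAut.conjNormal_apply]; group
    have e1 : ⁅vv a, vv b⁆ = MulAut.conjNormal (R a) ⁅v, MulAut.conjNormal (R (a⁻¹ * b)) v⁆ := by
      rw [v_congr _ _ hcl, map_commutatorElement, ← e0]
    show ⁅π (vv a : T), π (vv b : T)⁆ = _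
    rw [← map_commutatorElement,
      show ⁅((vv a : W) : T), ((vv b : W) : T)⁆ = ((⁅vv a, vv b⁆ : W) : T) by simp [commutatorElement_def],
      e1, MulAut.conjNormal_apply, map_mul, map_mul, map_inv, ccent _ (hcW _ _), mul_inv_cancel_right]
  have hψ1 : ψ 1 = 1 := by
    have h1 := hE 1 1
    rwa [inv_one, mul_one, commutatorElement_self, eq_comm] at h1
  have hψinv : ∀ d, ψ d⁻¹ = ψ d := by
    intro d
    have h1 := hE d 1
    have h2 := hE 1 d
    rw [mul_one] at h1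
    rw [inv_one, one_mul] at h2
    rw [← h1, ← commutatorElement_inv, h2]
    exact inv_eq_of_mul_eq_one_left (csq _ (hcW _ _))
  have hψ0 : ∀ d, (d = DihedralGroup.sr 1 ∨ d = DihedralGroup.sr 3 ∨ d = DihedralGroup.r 2) → ψ d = 1 := by
    intro d hd
    refine (QuotientGroup.eq_one_iff _).2 (hfix d hd (R d) (hDR d) _ (hcW _ _) ?_)
    have hdd : d * d = 1 := by rcases hd with rfl | rfl | rfl <;> decide
    have hkk : (1 : T)⁻¹ * (R d * R d) ∈ W := by
      rw [inv_one, one_mul, ← QuotientGroup.eq_one_iff, QuotientGroup.mk_mul]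
      show ((D d).out : T ⧸ W) * ((D d).out : T ⧸ W) = 1
      rw [hDR, ← map_mul, hdd, map_one]
    set c := ⁅v, MulAut.conjNormal (R d) v⁆ with hc
    have e : MulAut.conjNormal (R d) c = c := by
      rw [hc, map_commutatorElement, ← MulAut.mul_apply, ← map_mul, v_congr 1 (R d * R d) hkk, map_one,
        MulAut.one_apply, ← commutatorElement_inv]
      refine inv_eq_of_mul_eq_one_left (Subtype.ext ?_)
      rw [Subgroup.coe_mul]
      exact h.Z3_sq (hcW _ _)
    have e' := congrArg Subtype.val e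
    rw [MulAut.conjNormal_apply, mul_inv_eq_iff_eq_mul] at e'
    exact e'
  -- the element of `Z₄` is the product of the eight conjugates
  have hpar : ψ (DihedralGroup.sr 0) = ψ (DihedralGroup.sr 2) := by
    obtain ⟨e, he, he'⟩ : ∃ e, e ∈ Z 4 ∧ e ∉ Z 3 := by
      refine SetLike.exists_of_lt (lt_of_le_of_ne (Z_mono (by norm_num)) fun e => ?_)
      have := h.card_Z 3 (by norm_num)
      rw [e, h.card_Z 4 le_rfl] at this
      omega
    have heW : e ∈ W := by
      rcases h.le_or_ge W 3 le_rfl with h1 | h1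
      · exfalso
        have := Subgroup.card_le_of_le h1
        rw [h.card_Z 3 (by norm_num)] at this
        have h4 := W.card_mul_index
        rw [h.structure_W.1] at h4
        have := h.ha
        omega
      · exact h1 he
    set e' : W := ⟨e, heW⟩
    have ce : ∀ d, cf (R d) e' = 1 := by
      intro d
      refine if_neg (hMe _ ?_ ?_)
      · rw [MulAut.conjNormal_apply]
        exact (inferInstance : (Z 4).Normal).conj_mem _ he _
      · rw [MulAut.conjNormal_apply]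
        intro hm
        have := (inferInstance : (Z 3).Normal).conj_mem _ hm (R d)
        exact he' (by simpa [mul_assoc] using this)
    set Pi8 : W := vv (.r 0) * vv (.r 1) * vv (.r 2) * vv (.r 3) * vv (.sr 0) * vv (.sr 1) * vv (.sr 2) * vv (.sr 3)
    have hmem : e'⁻¹ * Pi8 ∈ frattini ↥W := cf_ker _ fun d => by
      have hi : cf (R d) e'⁻¹ = cf (R d) e' := by
        have h1 := cf_mul (R d) e' e'⁻¹
        rw [mul_inv_cancel, cf_zero _ _ (one_mem _)] at h1
        have key : ∀ a b : ZMod 2, 0 = a + b → b = a := by decide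
        exact key _ _ h1
      rw [cf_mul, hi, ce]
      clear hi
      simp only [Pi8, cf_mul, cf_v]
      revert d
      decide
    have hc8 : ⁅v, Pi8⁆ = 1 := by
      have h1 : Pi8 = e' * (e'⁻¹ * Pi8) := by group
      rw [h1, central_mul _ _ hmem v, commutatorElement_eq_one_iff_mul_comm, hcentral e' he v]
    -- expand in the quotient
    have hexp : ∀ a b : W, π ((⁅v, a * b⁆ : W) : T) = π ((⁅v, a⁆ : W) : T) * π ((⁅v, b⁆ : W) : T) := by
      intro a b
      have e2 : ⁅v, a * b⁆ = ⁅v, a⁆ * (a * ⁅v, b⁆ * a⁻¹) := by simp only [commutatorElement_def]; group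
      rw [e2, h.frattini_central (memF (hcW _ _)) a |>.symm, mul_inv_cancel_right, Subgroup.coe_mul, map_mul]
    have h0 : π ((⁅v, Pi8⁆ : W) : T) = 1 := by rw [hc8, OneMemClass.coe_one, map_one]
    simp only [Pi8, hexp] at h0
    change ψ (.r 0) * ψ (.r 1) * ψ (.r 2) * ψ (.r 3) * ψ (.sr 0) * ψ (.sr 1) * ψ (.sr 2) * ψ (.sr 3) = 1 at h0
    rw [show ψ (.r 0) = 1 from hψ1, hψ0 _ (.inr (.inr rfl)), hψ0 _ (.inl rfl), hψ0 _ (.inr (.inl rfl)),
      show ψ (.r 3) = ψ (.r 1) from hψinv (.r 1), one_mul, mul_one, mul_one, mul_one, csq _ (hcW _ _), one_mul] at h0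
    rw [eq_inv_of_mul_eq_one_left h0]
    exact inv_eq_of_mul_eq_one_left (csq _ (hcW _ _))
  set p := ψ (DihedralGroup.r 1) with hp
  set q := ψ (DihedralGroup.sr 0) with hq
  let ep : DihedralGroup 4 → ℕ := fun d => if d = .r 1 ∨ d = .r 3 then 1 else 0
  let eq' : DihedralGroup 4 → ℕ := fun d => if d = .sr 0 ∨ d = .sr 2 then 1 else 0
  have hform : ∀ d, ψ d = p ^ ep d * q ^ eq' d := by
    have e4 : ∀ i : ZMod 4, i = 0 ∨ i = 1 ∨ i = 2 ∨ i = 3 := by decide
    rintro (i | i) <;> rcases e4 i with rfl | rfl | rfl | rfl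
    · rw [show ψ (.r 0) = 1 from hψ1]; simp +decide [ep, eq']
    · simp [ep, eq', hp]
    · rw [hψ0 _ (.inr (.inr rfl))]; simp +decide [ep, eq']
    · rw [show ψ (.r 3) = ψ (.r 1) from hψinv (.r 1)]; simp +decide [ep, eq', hp]
    · simp [ep, eq', hq]
    · rw [hψ0 _ (.inl rfl)]; simp +decide [ep, eq']
    · rw [← hpar]; simp +decide [ep, eq', hq]
    · rw [hψ0 _ (.inr (.inl rfl))]; simp +decide [ep, eq']
  let y : Fin 5 → DihedralGroup 4 × DihedralGroup 4 :=
    ![(.r 0, .r 2), (.r 1, .r 3), (.r 1, .sr 0), (.r 1, .sr 2), (.r 0, .sr 1)]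
  let g : Fin 5 → W := fun i => vv (y i).1 * vv (y i).2
  have hcP : ∀ a b, Commute (ψ a) (π b) := fun a b => (ccent _ (hcW _ _) b).symm
  have swap : ∀ a b, P a * P b = ψ (a⁻¹ * b) * (P b * P a) := fun a b => by
    rw [← hE, commutatorElement_def]; group
  have hgsq : ∀ i, π (g i : T) * π (g i : T) = 1 := by
    intro i
    have h0 : ψ ((y i).1⁻¹ * (y i).2) = 1 := by
      refine hψ0 _ ?_
      fin_cases i <;> simp +decide [y]
    have hA : ∀ d, P d * P d = π ((v * v : W) : T) := fun d => by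
      show π _ * π _ = _
      rw [← map_mul, ← Subgroup.coe_mul, hvv, ← map_mul, MulAut.conjNormal_apply, map_mul, map_mul, map_inv,
        ccent _ (inZ3 (by haveI : Fact (Nat.Prime 2) := ⟨Nat.prime_two⟩
                          rw [← pow_two]; exact pow_mem_frattini (h.hT.to_subgroup W) v)), mul_inv_cancel_right]
    show π ((vv _ * vv _ : W) : T) * π ((vv _ * vv _ : W) : T) = 1
    rw [Subgroup.coe_mul, map_mul]
    show P (y i).1 * P (y i).2 * (P (y i).1 * P (y i).2) = 1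
    calc P (y i).1 * P (y i).2 * (P (y i).1 * P (y i).2)
        = P (y i).1 * (P (y i).2 * P (y i).1) * P (y i).2 := by group
      _ = P (y i).1 * (P (y i).1 * P (y i).2) * P (y i).2 := by rw [swap (y i).1 (y i).2, h0, one_mul]
      _ = (P (y i).1 * P (y i).1) * (P (y i).2 * P (y i).2) := by group
      _ = 1 := by
        rw [hA, hA]
        exact csq _ (inZ3 (by haveI : Fact (Nat.Prime 2) := ⟨Nat.prime_two⟩
                              rw [← pow_two]; exact pow_mem_frattini (h.hT.to_subgroup W) v))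
  have hgcomm : ∀ i j, Commute (π (g i : T)) (π (g j : T)) := by
    intro i j
    set a := (y i).1; set b := (y i).2; set c := (y j).1; set d := (y j).2
    have hprod : ψ (a⁻¹ * c) * ψ (a⁻¹ * d) * ψ (b⁻¹ * c) * ψ (b⁻¹ * d) = 1 := by
      have hp2 : p ^ 2 = 1 := by rw [pow_two]; exact csq _ (hcW _ _)
      have hq2 : q ^ 2 = 1 := by rw [pow_two]; exact csq _ (hcW _ _)
      have hpq : Commute p q := (hcP _ _)
      have hev : Even (ep (a⁻¹ * c) + ep (a⁻¹ * d) + ep (b⁻¹ * c) + ep (b⁻¹ * d)) ∧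
          Even (eq' (a⁻¹ * c) + eq' (a⁻¹ * d) + eq' (b⁻¹ * c) + eq' (b⁻¹ * d)) := by
        simp only [a, b, c, d, ep, eq']
        revert i j
        decide
      have step : ∀ m n m' n' : ℕ, p ^ m * q ^ n * (p ^ m' * q ^ n') = p ^ (m + m') * q ^ (n + n') := by
        intro m n m' n'
        rw [pow_add, pow_add, mul_assoc (p ^ m), ← mul_assoc (q ^ n), ← (hpq.pow_pow m' n).eq]
        group
      rw [hform, hform, hform, hform, step, step, step]
      obtain ⟨⟨m, hm⟩, ⟨n, hn⟩⟩ := hev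
      rw [hm, hn, ← two_mul, ← two_mul, pow_mul, pow_mul, hp2, hq2, one_pow, one_pow, one_mul]
    have key : ∀ a b c : DihedralGroup 4, P a * P b * P c = ψ (b⁻¹ * c) * ψ (a⁻¹ * c) * (P c * (P a * P b)) := by
      intro a b c
      rw [mul_assoc, swap b c, ← mul_assoc, ← (hcP (b⁻¹ * c) (vv a : T)).eq]
      show ψ _ * P a * (P c * P b) = _
      rw [mul_assoc (ψ _), ← mul_assoc (P a), swap a c]
      group
    show π ((vv a * vv b : W) : T) * π ((vv c * vv d : W) : T) = π ((vv c * vv d : W) : T) * π ((vv a * vv b : W) : T)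
    simp only [Subgroup.coe_mul, map_mul]
    show P a * P b * (P c * P d) = P c * P d * (P a * P b)
    calc P a * P b * (P c * P d) = ψ (b⁻¹ * c) * ψ (a⁻¹ * c) * (P c * (P a * P b * P d)) := by
          rw [← mul_assoc, key a b c]; group
      _ = ψ (b⁻¹ * c) * ψ (a⁻¹ * c) * (P c * (ψ (b⁻¹ * d) * ψ (a⁻¹ * d))) * (P d * (P a * P b)) := by
          rw [key a b d]; group
      _ = ψ (b⁻¹ * c) * ψ (a⁻¹ * c) * (ψ (b⁻¹ * d) * ψ (a⁻¹ * d)) * (P c * P d * (P a * P b)) := by
          rw [← ((hcP (b⁻¹ * d) (vv c : T)).mul_left (hcP (a⁻¹ * d) (vv c : T))).eq]; group; rfl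
      _ = P c * P d * (P a * P b) := by
          have hC : ∀ s t, Commute (ψ s) (ψ t) := fun s t => hcP s _
          have e : ψ (b⁻¹ * c) * ψ (a⁻¹ * c) * (ψ (b⁻¹ * d) * ψ (a⁻¹ * d)) =
              ψ (a⁻¹ * c) * ψ (a⁻¹ * d) * ψ (b⁻¹ * c) * ψ (b⁻¹ * d) := by
            rw [(hC (b⁻¹ * d) _).eq, (hC (b⁻¹ * c) _).eq, mul_assoc, ← mul_assoc (ψ (b⁻¹ * c)),
              (hC (b⁻¹ * c) _).eq]
            group
          rw [e, hprod, one_mul]
  -- the subgroup of index at most eight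
  let f : W →* Multiplicative (ZMod 2 × ZMod 2 × ZMod 2) :=
    { toFun := fun w => Multiplicative.ofAdd
        (cf (R (.sr 3)) w, cf (R (.r 0)) w + cf (R (.r 2)) w + cf (R (.sr 1)) w,
          cf (R (.r 1)) w + cf (R (.r 3)) w + cf (R (.sr 0)) w + cf (R (.sr 2)) w)
      map_one' := by simp [cf]
      map_mul' := fun a b => by
        rw [← ofAdd_add]
        simp only [cf_mul, Prod.mk_add_mk]
        refine congrArg Multiplicative.ofAdd ?_
        simp only [Prod.mk.injEq]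
        exact ⟨trivial, by ring, by ring⟩ }
  have hidx : f.ker.index ≤ 8 := by
    rw [Subgroup.index_ker]
    exact (Subgroup.card_le_card_group _).trans (by simp)
  obtain ⟨z₂, z₃, -, -, h3, h3'⟩ := h.exists_gens
  have hz3W : z₃ ∈ W := h.Z3_le_W h3
  have hFK : frattini ↥W ≤ f.ker := fun w hw => by
    rw [MonoidHom.mem_ker]
    simp [f, cf_zero _ _ hw]
  refine h3' (Subgroup.mem_subgroupOf.1 (h.full (K := f.ker) (D := (Z 2).subgroupOf W) (z := ⟨z₃, hz3W⟩) hidx
    (fun w hw => hFK (memF (Z_mono (i := 2) (j := 3) (by norm_num) (Subgroup.mem_subgroupOf.1 hw))))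
    (fun k _ d hd => (inferInstance : (Z 2).Normal).conj_mem _ hd _) ?_ (memF h3) (hFK (memF h3))))
  intro w hw
  -- `w` lies in the subgroup generated by the five pairs and the Frattini subgroup
  set S : Subgroup (T ⧸ Z 2) := Subgroup.closure ((Set.range fun i => π (g i : T)) ∪ {π c | c ∈ Z 3}) with hS
  have hSsq : ∀ s ∈ S, s * s = 1 := by
    have hcommS : ∀ s ∈ S, ∀ t ∈ S, s * t = t * s := by
      intro s hs t ht
      refine Subgroup.closure_induction₂ (p := fun a b _ _ => a * b = b * a) ?_ (fun _ _ => by simp) (fun _ _ => by simp)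
        (fun a b c _ _ _ h1 h2 => by rw [mul_assoc, h2, ← mul_assoc, h1, mul_assoc])
        (fun a b c _ _ _ h1 h2 => by rw [← mul_assoc, h1, mul_assoc, h2, mul_assoc])
        (fun a b _ _ h1 => (Commute.inv_left h1).eq) (fun a b _ _ h1 => (Commute.inv_right h1).eq) hs ht
      rintro a b (⟨i, rfl⟩ | ⟨c, hc, rfl⟩) (⟨j, rfl⟩ | ⟨c', hc', rfl⟩)
      · exact (hgcomm i j).eq
      · exact ccent c' hc' _
      · exact (ccent c hc _).symm
      · exact (ccent c hc _).symm
    intro s hs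
    refine Subgroup.closure_induction (p := fun x _ => x * x = 1) ?_ (one_mul 1)
      (fun a b ha hb h1 h2 => ?_) (fun a _ h1 => by rw [← mul_inv_rev, h1, inv_one]) hs
    · rintro _ (⟨i, rfl⟩ | ⟨c, hc, rfl⟩)
      · exact hgsq i
      · exact csq c hc
    · calc a * b * (a * b) = a * (b * a) * b := by group
        _ = a * (a * b) * b := by rw [hcommS a ha b hb]
        _ = (a * a) * (b * b) := by group
        _ = 1 := by rw [h1, h2, one_mul]
  set cd := fun d => cf (R d) w with hcd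
  set w' : W := g 0 ^ (cd (.r 2)).val * g 1 ^ (cd (.r 3)).val * g 2 ^ (cd (.sr 0)).val * g 3 ^ (cd (.sr 2)).val *
    g 4 ^ (cd (.sr 1)).val with hw'
  have hdiff : w'⁻¹ * w ∈ frattini ↥W := cf_ker _ fun d => by
    have hi : ∀ x : W, cf (R d) x⁻¹ = cf (R d) x := fun x => by
      have h1 := cf_mul (R d) x x⁻¹
      rw [mul_inv_cancel, cf_zero _ _ (one_mem _)] at h1
      have key : ∀ a b : ZMod 2, 0 = a + b → b = a := by decide
      exact key _ _ h1
    have hk := MonoidHom.mem_ker.1 hw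
    simp only [f, MonoidHom.coe_mk, OneHom.coe_mk, ofAdd_eq_one, Prod.mk_eq_zero] at hk
    rw [cf_mul, hi]
    clear hi
    show cf (R d) w' + cd d = 0
    simp only [hw', cf_mul, cf_pow, g, y, Matrix.cons_val, cf_v]
    have key : ∀ (d : DihedralGroup 4) (a0 a1 a2 a3 b0 b1 b2 b3 : ZMod 2), b3 = 0 → a0 + a2 + b1 = 0 →
        a1 + a3 + b0 + b2 = 0 →
        (a2.val : ZMod 2) * ((if d = .r 0 then (1 : ZMod 2) else 0) + if d = .r 2 then 1 else 0) +
              (a3.val : ZMod 2) * ((if d = .r 1 then (1 : ZMod 2) else 0) + if d = .r 3 then 1 else 0) +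
            (b0.val : ZMod 2) * ((if d = .r 1 then (1 : ZMod 2) else 0) + if d = .sr 0 then 1 else 0) +
          (b2.val : ZMod 2) * ((if d = .r 1 then (1 : ZMod 2) else 0) + if d = .sr 2 then 1 else 0) +
        (b1.val : ZMod 2) * ((if d = .r 0 then (1 : ZMod 2) else 0) + if d = .sr 1 then 1 else 0) +
        (match d with
          | .r i => if i = 0 then a0 else if i = 1 then a1 else if i = 2 then a2 else a3
          | .sr i => if i = 0 then b0 else if i = 1 then b1 else if i = 2 then b2 else b3) = 0 := by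
      decide
    have hd' : cd d = (match d with
          | .r i => if i = 0 then cd (.r 0) else if i = 1 then cd (.r 1) else if i = 2 then cd (.r 2) else cd (.r 3)
          | .sr i => if i = 0 then cd (.sr 0) else if i = 1 then cd (.sr 1) else if i = 2 then cd (.sr 2) else cd (.sr 3)) := by
      have e4 : ∀ i : ZMod 4, i = 0 ∨ i = 1 ∨ i = 2 ∨ i = 3 := by decide
      rcases d with i | i <;> rcases e4 i with rfl | rfl | rfl | rfl <;> rfl
    rw [hd']
    exact key d _ _ _ _ _ _ _ _ hk.1 hk.2.1 hk.2.2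
  have hwS : π (w : T) ∈ S := by
    have e : (w : T) = (w' : T) * ((w'⁻¹ * w : W) : T) := by push_cast; group
    rw [e, map_mul]
    refine mul_mem ?_ (Subgroup.subset_closure (Or.inr ⟨_, inZ3 hdiff, rfl⟩))
    have hg : ∀ (i : Fin 5) (n : ℕ), π ((g i ^ n : W) : T) ∈ S := fun i n => by
      rw [SubmonoidClass.coe_pow, map_pow]
      exact pow_mem (show π (g i : T) ∈ S from Subgroup.subset_closure (Or.inl ⟨i, rfl⟩)) n
    simp only [hw', Subgroup.coe_mul, map_mul]
    exact mul_mem (mul_mem (mul_mem (mul_mem (hg _ _) (hg _ _)) (hg _ _)) (hg _ _)) (hg _ _)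
  rw [Subgroup.mem_subgroupOf, Subgroup.coe_mul, ← QuotientGroup.eq_one_iff]
  show π ((w : T) * (w : T)) = 1
  rw [map_mul]
  exact hSsq _ hwS

theorem center_W : (Subgroup.center ↥W).map W.subtype = Z 3 := by
  haveI := h.normalW
  haveI : ((Subgroup.center ↥W).map W.subtype).Normal := inferInstance
  refine le_antisymm ?_ fun z hz => ?_
  · rcases h.le_or_ge ((Subgroup.center ↥W).map W.subtype) 3 le_rfl with h1 | h1
    · exact h1
    · exfalso
      refine h.Z4_not_central fun e he w => ?_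
      obtain ⟨c, hc, e1⟩ := h1 he
      obtain rfl : c = e := Subtype.ext e1
      exact (Subgroup.mem_center_iff.1 hc w).symm
  · exact ⟨⟨z, h.Z3_le_W hz⟩, Subgroup.mem_center_iff.2 fun w => Subtype.ext (h.comm_W hz w.2).symm, rfl⟩

end Hyp

end CfsgLib.PGroups.WideFourteen
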